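import Mathlib
import Cfsg.Prelude.Def_GeometricClasses
import Cfsg.Agent.Lib.Helper61.AschDefs
import Cfsg.Agent.Lib.Helper61.AschBasic
import Cfsg.Agent.Lib.Helper04.AschE3
import Cfsg.Agent.Lib.Helper46.AschODefs
import Cfsg.Agent.Lib.Helper46.AschOBasic

/-!
# K-S5673-E5a: the Gram matrix of the polar form in a tensor-power basis is a pure tensor of symmetric matrices
-/

set_option autoImplicit false

namespace Cfsg.Agent.Lib.Helper41.AschO

open Cfsg Cfsg.Geo Cfsg.Agent.Lib.Helper61.Asch Cfsg.Agent.Lib.Helper46.AschO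
open Cfsg.Agent.Lib.Helper04.Asch (pureAt PT ptGL permMat)
open scoped Matrix Kronecker MatrixGroups

section Aux

variable {F : Type*} [Field F] {m t : ℕ}

theorem e5a_pureAt_transpose (i : Fin t) (x : Matrix (Fin m) (Fin m) F) :
    (pureAt m t i x)ᵀ = pureAt m t i xᵀ := by
  ext u v
  rw [Matrix.transpose_apply, Cfsg.Agent.Lib.Helper04.Asch.pureAt_apply,
    Cfsg.Agent.Lib.Helper04.Asch.pureAt_apply, Matrix.transpose_apply]
  by_cases h : ∀ j, j ≠ i → u j = v j
  · rw [if_pos h, if_pos (fun j hj => (h j hj).symm)]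
  · rw [if_neg h, if_neg (fun h' => h (fun j hj => (h' j hj).symm))]

theorem e5a_PT_transpose (g : Fin t → Matrix (Fin m) (Fin m) F) :
    (PT g)ᵀ = PT (fun i => (g i)ᵀ) := by
  ext u v
  rw [Matrix.transpose_apply, Cfsg.Agent.Lib.Helper04.Asch.PT_apply,
    Cfsg.Agent.Lib.Helper04.Asch.PT_apply]
  rfl

theorem e5a_PT_update (g : Fin t → Matrix (Fin m) (Fin m) F) (u v : Fin t → Fin m) (i : Fin t)
    (a b : Fin m) :
    PT g (Function.update u i a) (Function.update v i b) =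
      g i a b * ∏ j ∈ Finset.univ.erase i, g j (u j) (v j) := by
  rw [Cfsg.Agent.Lib.Helper04.Asch.PT_apply,
    ← Finset.mul_prod_erase Finset.univ _ (Finset.mem_univ i), Function.update_self,
    Function.update_self]
  congr 1
  apply Finset.prod_congr rfl
  intro j hj
  rw [Function.update_of_ne (Finset.ne_of_mem_erase hj),
    Function.update_of_ne (Finset.ne_of_mem_erase hj)]

theorem e5a_PT_update_smul (g : Fin t → Matrix (Fin m) (Fin m) F) (i : Fin t) (c : F) :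
    PT (Function.update g i (c • g i)) = c • PT g := by
  ext u v
  rw [Matrix.smul_apply, Cfsg.Agent.Lib.Helper04.Asch.PT_apply,
    Cfsg.Agent.Lib.Helper04.Asch.PT_apply,
    ← Finset.mul_prod_erase Finset.univ _ (Finset.mem_univ i),
    ← Finset.mul_prod_erase Finset.univ (fun j => g j (u j) (v j)) (Finset.mem_univ i),
    Function.update_self, Matrix.smul_apply, smul_eq_mul, smul_eq_mul, mul_assoc]
  congr 2
  apply Finset.prod_congr rfl
  intro j hj
  rw [Function.update_of_ne (Finset.ne_of_mem_erase hj)]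

end Aux


section Main

variable {F : Type*} [Field F] [Fintype F] {n : ℕ}

local notation "V" => (Fin n → F)
local notation "Mat" => Matrix (Fin n) (Fin n) F

/-- K-S5673-E5a.  Gram matrix in a tensor-power basis. -/
theorem exists_tensorPower_form (hodd : Odd n) (h2 : (2 : F) ≠ 0) (Q : V → F) (hQ : IsNondegenerateQuadraticForm Q)
    (m t : ℕ) (hm : 0 < m) (ht : 0 < t) (e : Fin n ≃ (Fin t → Fin m)) (P : GL (Fin n) F)
    (hadj : ∀ i x, ∃ y, adjQ Q ((P : Mat) * Matrix.reindex e.symm e.symm (pureAt m t i x) * ((P⁻¹ : GL (Fin n) F) : Mat)) =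
      (P : Mat) * Matrix.reindex e.symm e.symm (pureAt m t i y) * ((P⁻¹ : GL (Fin n) F) : Mat)) :
    ∃ g : Fin t → Matrix (Fin m) (Fin m) F, (∀ i, (g i)ᵀ = g i) ∧ (∀ i, IsUnit (g i)) ∧
      ∀ x y : (Fin t → Fin m) → F,
        QuadraticMap.polar Q ((P : Mat) *ᵥ (x ∘ e)) ((P : Mat) *ᵥ (y ∘ e)) = ∑ a, ∑ b, x a * PT g a b * y b := by
  classical
  obtain ⟨G, hG⟩ : ∃ G : Mat, G = gramQ Q := ⟨_, rfl⟩
  obtain ⟨Pm, hPm⟩ : ∃ Pm : Mat, Pm = (P : Mat) := ⟨_, rfl⟩
  obtain ⟨Pi, hPi⟩ : ∃ Pi : Mat, Pi = ((P⁻¹ : GL (Fin n) F) : Mat) := ⟨_, rfl⟩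
  have hPP : Pm * Pi = 1 := by rw [hPm, hPi, ← Units.val_mul, mul_inv_cancel, Units.val_one]
  have hPP' : Pi * Pm = 1 := by rw [hPm, hPi, ← Units.val_mul, inv_mul_cancel, Units.val_one]
  have hGG : G * G⁻¹ = 1 := by rw [hG]; exact Matrix.mul_nonsing_inv _ (isUnit_det_gramQ hQ)
  have hGG' : G⁻¹ * G = 1 := by rw [hG]; exact Matrix.nonsing_inv_mul _ (isUnit_det_gramQ hQ)
  have hGt : Gᵀ = G := by rw [hG]; exact gramQ_transpose Q
  have hadjdef : ∀ X : Mat, adjQ Q X = G⁻¹ * Xᵀ * G := fun X => by rw [hG]; rfl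
  obtain ⟨G₁, hG₁⟩ : ∃ G₁ : Mat, G₁ = Pmᵀ * G * Pm := ⟨_, rfl⟩
  obtain ⟨G₁i, hG₁i⟩ : ∃ G₁i : Mat, G₁i = Pi * G⁻¹ * Piᵀ := ⟨_, rfl⟩
  have h11 : G₁ * G₁i = 1 := by
    rw [hG₁, hG₁i]
    calc Pmᵀ * G * Pm * (Pi * G⁻¹ * Piᵀ) = Pmᵀ * G * (Pm * Pi) * G⁻¹ * Piᵀ := by
          simp only [mul_assoc]
      _ = Pmᵀ * (G * G⁻¹) * Piᵀ := by rw [hPP, mul_one]; simp only [mul_assoc]
      _ = (Pi * Pm)ᵀ := by rw [hGG, mul_one, Matrix.transpose_mul]
      _ = 1 := by rw [hPP', Matrix.transpose_one]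
  have h11' : G₁i * G₁ = 1 := mul_eq_one_comm.mp h11
  have hG₁t : G₁ᵀ = G₁ := by
    rw [hG₁, Matrix.transpose_mul, Matrix.transpose_mul, Matrix.transpose_transpose, hGt, mul_assoc]
  have key : ∀ A B : Mat, adjQ Q (Pm * A * Pi) = Pm * B * Pi → G₁i * Aᵀ * G₁ = B := by
    intro A B h
    rw [hadjdef, Matrix.transpose_mul, Matrix.transpose_mul] at h
    calc G₁i * Aᵀ * G₁ = Pi * (G⁻¹ * (Piᵀ * (Aᵀ * Pmᵀ)) * G) * Pm := by
          rw [hG₁i, hG₁]; simp only [mul_assoc]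
      _ = Pi * (Pm * B * Pi) * Pm := by rw [h]
      _ = (Pi * Pm) * B * (Pi * Pm) := by simp only [mul_assoc]
      _ = B := by rw [hPP', one_mul, mul_one]
  -- transport to `Fin t → Fin m`
  obtain ⟨G', hG'⟩ : ∃ G' : Matrix (Fin t → Fin m) (Fin t → Fin m) F,
      G' = G₁.submatrix e.symm e.symm := ⟨_, rfl⟩
  obtain ⟨G'i, hG'i⟩ : ∃ G'i : Matrix (Fin t → Fin m) (Fin t → Fin m) F,
      G'i = G₁i.submatrix e.symm e.symm := ⟨_, rfl⟩
  have hi1 : G'i * G' = 1 := by
    rw [hG', hG'i, Matrix.submatrix_mul_equiv, h11', Matrix.submatrix_one_equiv]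
  have hi2 : G' * G'i = 1 := mul_eq_one_comm.mp hi1
  have hG't : G'ᵀ = G' := by
    rw [hG', Matrix.transpose_submatrix, hG₁t]
  have key' : ∀ (i : Fin t) (z : Matrix (Fin m) (Fin m) F), ∃ y : Matrix (Fin m) (Fin m) F,
      G'i * pureAt m t i z * G' = pureAt m t i y := by
    intro i z
    obtain ⟨y, hy⟩ := hadj i zᵀ
    refine ⟨y, ?_⟩
    rw [← hPm, ← hPi] at hy
    have h1 := key _ _ hy
    have h3 := congrArg (fun M : Mat => M.submatrix e.symm e.symm) h1
    simp only [Matrix.reindex_apply, Equiv.symm_symm, ← Matrix.submatrix_mul_equiv _ _ e.symm e.symm e.symm,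
      Matrix.transpose_submatrix, Matrix.submatrix_submatrix, Equiv.self_comp_symm, Matrix.submatrix_id_id,
      e5a_pureAt_transpose, Matrix.transpose_transpose] at h3
    rw [hG'i, hG']
    exact h3
  -- the invertible matrix `G'⁻¹` normalizes every tensor factor algebra
  let gg : GL (Fin t → Fin m) F := ⟨G'i, G', hi1, hi2⟩
  have hggv : ((gg : GL (Fin t → Fin m) F) : Matrix (Fin t → Fin m) (Fin t → Fin m) F) = G'i := rfl
  have hggi : ((gg⁻¹ : GL (Fin t → Fin m) F) : Matrix (Fin t → Fin m) (Fin t → Fin m) F) = G' := rfl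
  obtain ⟨u, c, hc, huc⟩ := Cfsg.Agent.Lib.Helper04.Asch.exists_pure_of_normalizes hm gg
    (fun i z => by rw [hggv, hggi]; exact key' i z)
  rw [Units.val_mul, hggv, Cfsg.Agent.Lib.Helper04.Asch.ptGL_inv_val] at huc
  obtain ⟨w, hw⟩ : ∃ w : Fin t → Matrix (Fin m) (Fin m) F,
      w = fun i => (((u i)⁻¹ : GL (Fin m) F) : Matrix (Fin m) (Fin m) F) := ⟨_, rfl⟩
  rw [← hw] at huc
  have hwu : ∀ i, IsUnit (w i) := by
    intro i
    rw [hw]
    exact ((u i)⁻¹ : GL (Fin m) F).isUnit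
  have hG'eq : G' = c⁻¹ • PT w := by
    have h1 : PT w = c • G' := by
      calc PT w = PT w * (G'i * G') := by rw [hi1, mul_one]
        _ = (PT w * G'i) * G' := by rw [mul_assoc]
        _ = c • G' := by rw [huc, Matrix.smul_mul, one_mul]
    rw [h1, smul_smul, inv_mul_cancel₀ hc, one_smul]
  -- absorb the scalar in the factor `0`
  obtain ⟨g, hg⟩ : ∃ g : Fin t → Matrix (Fin m) (Fin m) F,
      g = Function.update w ⟨0, ht⟩ (c⁻¹ • w ⟨0, ht⟩) := ⟨_, rfl⟩
  have hPTg : PT g = G' := by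
    rw [hg, e5a_PT_update_smul, hG'eq]
  have hgu : ∀ i, IsUnit (g i) := by
    intro i
    rw [hg]
    by_cases hi : i = ⟨0, ht⟩
    · subst hi
      rw [Function.update_self]
      have hcu : IsUnit (c⁻¹ : F) := isUnit_iff_ne_zero.mpr (inv_ne_zero hc)
      obtain ⟨cu, hcu'⟩ := hcu
      rw [← hcu']
      exact (hwu _).smul cu
    · rw [Function.update_of_ne hi]
      exact hwu i
  -- `m` is odd
  have hmodd : Odd m := by
    have hcard : n = m ^ t := by
      have := Fintype.card_congr e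
      simpa using this
    rw [hcard] at hodd
    exact (Nat.odd_pow_iff (by omega)).mp hodd
  -- every factor is symmetric
  have hsymm : ∀ i, (g i)ᵀ = g i := by
    intro i
    have hdet : ∀ j, IsUnit (g j).det := fun j => (Matrix.isUnit_iff_isUnit_det _).mp (hgu j)
    obtain ⟨h, hh⟩ : ∃ h : Fin t → Matrix (Fin m) (Fin m) F, h = fun j => (g j)⁻¹ * (g j)ᵀ := ⟨_, rfl⟩
    have hPTh : PT h = 1 := by
      have h1 : PT (fun j => (g j)⁻¹) * PT g = 1 := by
        rw [Cfsg.Agent.Lib.Helper04.Asch.PT_mul]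
        simp only [Matrix.nonsing_inv_mul _ (hdet _)]
        exact Cfsg.Agent.Lib.Helper04.Asch.PT_one
      have h2' : PT (fun j => (g j)ᵀ) = PT g := by
        rw [← e5a_PT_transpose, hPTg, hG't]
      rw [hh, ← Cfsg.Agent.Lib.Helper04.Asch.PT_mul, h2', h1]
    obtain ⟨u0, hu0⟩ : ∃ u0 : Fin t → Fin m, u0 = fun _ => ⟨0, hm⟩ := ⟨_, rfl⟩
    obtain ⟨κ, hκ⟩ : ∃ κ : F, κ = ∏ j ∈ Finset.univ.erase i, h j (u0 j) (u0 j) := ⟨_, rfl⟩
    have hent : ∀ a b : Fin m, h i a b * κ = if a = b then 1 else 0 := by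
      intro a b
      rw [hκ, ← e5a_PT_update, hPTh, Matrix.one_apply]
      by_cases hab : a = b
      · subst hab; simp
      · rw [if_neg hab, if_neg]
        intro hc'
        apply hab
        have := congrFun hc' i
        simpa using this
    have hκ0 : κ ≠ 0 := by
      intro h0
      have := hent ⟨0, hm⟩ ⟨0, hm⟩
      rw [h0, mul_zero, if_pos rfl] at this
      exact zero_ne_one this
    have hhi : h i = κ⁻¹ • (1 : Matrix (Fin m) (Fin m) F) := by
      ext a b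
      rw [Matrix.smul_apply, Matrix.one_apply, smul_eq_mul]
      have := hent a b
      by_cases hab : a = b
      · rw [if_pos hab] at this ⊢
        rw [mul_one]
        exact eq_inv_of_mul_eq_one_left this
      · rw [if_neg hab] at this ⊢
        rw [mul_zero]
        rcases mul_eq_zero.mp this with h' | h'
        · exact h'
        · exact absurd h' hκ0
    have hgt : (g i)ᵀ = κ⁻¹ • g i := by
      have h1 : g i * h i = (g i)ᵀ := by
        rw [hh]
        simp only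
        rw [← mul_assoc, Matrix.mul_nonsing_inv _ (hdet i), one_mul]
      rw [← h1, hhi, Matrix.mul_smul, mul_one]
    have hsq : κ⁻¹ * κ⁻¹ = 1 := by
      have h1 : g i = (κ⁻¹ * κ⁻¹) • g i := by
        conv_lhs => rw [← Matrix.transpose_transpose (g i), hgt, Matrix.transpose_smul, hgt, smul_smul]
      have h3 : (1 : Matrix (Fin m) (Fin m) F) = (κ⁻¹ * κ⁻¹) • (1 : Matrix (Fin m) (Fin m) F) := by
        calc (1 : Matrix (Fin m) (Fin m) F) = (g i)⁻¹ * g i := (Matrix.nonsing_inv_mul _ (hdet i)).symm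
          _ = (g i)⁻¹ * ((κ⁻¹ * κ⁻¹) • g i) := by rw [← h1]
          _ = (κ⁻¹ * κ⁻¹) • (1 : Matrix (Fin m) (Fin m) F) := by
              rw [Matrix.mul_smul, Matrix.nonsing_inv_mul _ (hdet i)]
      have := congrFun (congrFun h3 ⟨0, hm⟩) ⟨0, hm⟩
      rw [Matrix.smul_apply, Matrix.one_apply_eq, smul_eq_mul, mul_one] at this
      exact this.symm
    rcases mul_self_eq_one_iff.mp hsq with h1 | h1
    · rw [hgt, h1, one_smul]
    · exfalso
      have h3 : (g i)ᵀ = -g i := by rw [hgt, h1, neg_smul, one_smul]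
      have h4 := congrArg Matrix.det h3
      rw [Matrix.det_transpose, Matrix.det_neg, Fintype.card_fin, hmodd.neg_one_pow] at h4
      have h5 : (g i).det ≠ 0 := (hdet i).ne_zero
      have h6 : (2 : F) * (g i).det = 0 := by
        have : (g i).det + (g i).det = 0 := by
          nth_rewrite 2 [h4]
          ring
        rw [two_mul]; exact this
      rcases mul_eq_zero.mp h6 with h7 | h7
      · exact h2 h7
      · exact h5 h7
  refine ⟨g, hsymm, hgu, ?_⟩
  intro x y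
  rw [polar_eq_gram hQ, ← hG, ← hPm]
  have e1 : (Pm *ᵥ (x ∘ e)) ⬝ᵥ (G *ᵥ (Pm *ᵥ (y ∘ e))) = (x ∘ e) ⬝ᵥ (G₁ *ᵥ (y ∘ e)) := by
    rw [hG₁, ← Matrix.mulVec_mulVec, ← Matrix.mulVec_mulVec, dotProduct_comm,
      Matrix.dotProduct_mulVec, dotProduct_comm, ← Matrix.mulVec_transpose]
  rw [e1, hPTg, hG']
  simp only [dotProduct, Matrix.mulVec, Function.comp, Matrix.submatrix_apply]
  rw [← Equiv.sum_comp e]
  apply Finset.sum_congr rfl
  intro i _
  rw [Finset.mul_sum, ← Equiv.sum_comp e]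
  apply Finset.sum_congr rfl
  intro j _
  simp [mul_assoc]

end Main

end Cfsg.Agent.Lib.Helper41.AschO
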