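import Cfsg.Agent.Lib.Helper41.Conj
import Cfsg.Prelude.Def_ConjugacyFunctors

set_option autoImplicit false

namespace Cfsg.Agent.Lib.Helper41

open Cfsg

variable {G : Type*} [Group G]

/-- `N_S(U)` -/
abbrev NS (S U : Subgroup G) : Subgroup G := S ⊓ Subgroup.normalizer (U : Set G)

theorem le_NS {S U : Subgroup G} (h : U ≤ S) : U ≤ NS S U := le_inf h Subgroup.le_normalizer

theorem lc_NS (y : G) (S U : Subgroup G) : lc y (NS S U) = NS (lc y S) (lc y U) := by
  rw [NS, NS, lc_inf, normalizer_lc]

section functor

variable {p : ℕ} {W : Subgroup G → Subgroup G}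

theorem functor_le (hW : IsConjugacyFunctor p W) {P : Subgroup G} (hP : IsPGroup p P) : W P ≤ P :=
  (hW P hP).1

theorem functor_lc (hW : IsConjugacyFunctor p W) {P : Subgroup G} (hP : IsPGroup p P) (g : G) :
    W (lc g P) = lc g (W P) :=
  (hW P hP).2.2 g

theorem functor_ne_bot (hW : IsConjugacyFunctor p W) {P : Subgroup G} (hP : IsPGroup p P)
    (h : P ≠ ⊥) : W P ≠ ⊥ :=
  (hW P hP).2.1 h

theorem normalizer_le_normalizer_functor (hW : IsConjugacyFunctor p W) {P : Subgroup G}
    (hP : IsPGroup p P) :
    Subgroup.normalizer (P : Set G) ≤ Subgroup.normalizer ((W P : Subgroup G) : Set G) := by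
  intro n hn
  rw [mem_normalizer_iff_lc] at hn ⊢
  rw [← functor_lc hW hP, hn]

variable (W) in
theorem tower_succ (S T : Subgroup G) (i : ℕ) :
    functorTower W S T (i + 1) = W (NS S (functorTower W S T i)) := rfl

variable (W) in
theorem tower_zero (S T : Subgroup G) : functorTower W S T 0 = T := rfl

theorem tower_succ_le (hW : IsConjugacyFunctor p W) {S : Subgroup G} (hS : IsPGroup p S)
    (T : Subgroup G) (i : ℕ) : functorTower W S T (i + 1) ≤ NS S (functorTower W S T i) :=
  functor_le hW hS.to_inf_left

theorem tower_le (hW : IsConjugacyFunctor p W) {S : Subgroup G} (hS : IsPGroup p S)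
    {T : Subgroup G} (hTS : T ≤ S) (i : ℕ) : functorTower W S T i ≤ S := by
  cases i with
  | zero => exact hTS
  | succ i => exact (tower_succ_le hW hS T i).trans inf_le_left

theorem NS_tower_le_succ (hW : IsConjugacyFunctor p W) {S : Subgroup G} (hS : IsPGroup p S)
    (T : Subgroup G) (i : ℕ) :
    NS S (functorTower W S T i) ≤ NS S (functorTower W S T (i + 1)) :=
  le_inf inf_le_left
    (Subgroup.le_normalizer.trans (normalizer_le_normalizer_functor hW hS.to_inf_left))

theorem NS_tower_mono (hW : IsConjugacyFunctor p W) {S : Subgroup G} (hS : IsPGroup p S)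
    (T : Subgroup G) : Monotone (fun i => NS S (functorTower W S T i)) :=
  monotone_nat_of_le_succ (NS_tower_le_succ hW hS T)

variable (W) in
theorem tower_add (S T : Subgroup G) (i j : ℕ) :
    functorTower W S (functorTower W S T i) j = functorTower W S T (i + j) := by
  induction j with
  | zero => rfl
  | succ j ih =>
    rw [tower_succ, ih]
    rfl

/-- if the normalizers in `S` stop growing at step `i`, the tower is constant from `i+1` on -/
theorem tower_const (W : Subgroup G → Subgroup G) (S T : Subgroup G) (i : ℕ)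
    (h : NS S (functorTower W S T i) = NS S (functorTower W S T (i + 1))) :
    ∀ j, functorTower W S T (i + 1 + j) = functorTower W S T (i + 1) := by
  intro j
  induction j with
  | zero => rfl
  | succ j ih =>
    have : i + 1 + (j + 1) = (i + 1 + j) + 1 := by ring
    rw [this, tower_succ, ih, ← h]
    rfl

theorem exists_NS_tower_eq [Finite G] (hW : IsConjugacyFunctor p W) {S : Subgroup G}
    (hS : IsPGroup p S) (T : Subgroup G) :
    ∃ i ≤ Nat.card S, NS S (functorTower W S T i) = NS S (functorTower W S T (i + 1)) := by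
  by_contra hcon
  push Not at hcon
  have hlt : ∀ i ≤ Nat.card S, NS S (functorTower W S T i) < NS S (functorTower W S T (i + 1)) :=
    fun i hi => lt_of_le_of_ne (NS_tower_le_succ hW hS T i) (hcon i hi)
  have hcard : ∀ i ≤ Nat.card S + 1, i + 1 ≤ Nat.card (NS S (functorTower W S T i)) := by
    intro i
    induction i with
    | zero => intro _; exact Nat.card_pos
    | succ i ih =>
      intro hi
      have h1 := ih (by omega)
      have h2 := card_lt_card_of_lt' (hlt i (by omega))
      omega
  have h1 := hcard (Nat.card S + 1) le_rfl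
  have h2 : Nat.card (NS S (functorTower W S T (Nat.card S + 1))) ≤ Nat.card S :=
    Subgroup.card_le_of_le inf_le_left
  omega

/-- `T ≤ S` and the first `k` terms of the tower of `T` have Sylow normalizers in `S` -/
def GoodUpTo (p : ℕ) (W : Subgroup G → Subgroup G) (S T : Subgroup G) (k : ℕ) : Prop :=
  T ≤ S ∧ ∀ i < k, ¬ p ∣ (NS S (functorTower W S T i)).relIndex
    (Subgroup.normalizer ((functorTower W S T i : Subgroup G) : Set G))

theorem good_step [Finite G] [Fact p.Prime] (hW : IsConjugacyFunctor p W) (S : Sylow p G)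
    {T : Subgroup G} {k : ℕ} (hgood : GoodUpTo p W (S : Subgroup G) T k) :
    ∃ y : G, GoodUpTo p W (S : Subgroup G) (lc y T) (k + 1) := by
  obtain ⟨hTS, hg⟩ := hgood
  have hSp : IsPGroup p (S : Subgroup G) := S.2
  obtain ⟨R, hPR, hRN, hRp, hRidx⟩ := exists_sylowIn_ge (p := p)
    (H := Subgroup.normalizer ((functorTower W S T k : Subgroup G) : Set G))
    (Q := NS (S : Subgroup G) (functorTower W S T k)) hSp.to_inf_left inf_le_right
  obtain ⟨y, hy⟩ := exists_lc_le_sylow S hRp
  have hle : ∀ i ≤ k, lc y (NS (S : Subgroup G) (functorTower W S T i)) ≤ (S : Subgroup G) :=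
    fun i hi => (lc_mono ((NS_tower_mono hW hSp T hi).trans hPR)).trans hy
  have hb' : ∀ i < k, NS (S : Subgroup G) (lc y (functorTower W S T i)) =
      lc y (NS (S : Subgroup G) (functorTower W S T i)) := by
    intro i hi
    symm
    apply eq_of_le_of_relIndex (p := p)
      (H := Subgroup.normalizer ((lc y (functorTower W S T i) : Subgroup G) : Set G)) ?_ inf_le_right
      hSp.to_inf_left ?_
    · apply le_inf (hle i hi.le)
      rw [normalizer_lc]
      exact lc_mono inf_le_right
    · rw [normalizer_lc, relIndex_lc]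
      exact hg i hi
  have ha : ∀ i ≤ k, functorTower W S (lc y T) i = lc y (functorTower W S T i) := by
    intro i
    induction i with
    | zero => intro _; rfl
    | succ i ih =>
      intro hi
      rw [tower_succ, ih (by omega), hb' i (by omega), functor_lc hW hSp.to_inf_left]
      rfl
  refine ⟨y, ?_, ?_⟩
  · have h0 := hle 0 (Nat.zero_le k)
    exact (lc_mono (le_NS hTS)).trans h0
  · intro i hi
    rw [ha i (by omega)]
    rcases Nat.lt_succ_iff_lt_or_eq.mp hi with hik | rfl
    · rw [hb' i hik, normalizer_lc, relIndex_lc]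
      exact hg i hik
    · have h1 : lc y R ≤ NS (S : Subgroup G) (lc y (functorTower W S T i)) :=
        le_inf hy (by rw [normalizer_lc]; exact lc_mono hRN)
      have h2 := Subgroup.relIndex_dvd_of_le_left
        (Subgroup.normalizer ((lc y (functorTower W S T i) : Subgroup G) : Set G)) h1
      intro hdvd
      apply hRidx
      have := dvd_trans hdvd h2
      rwa [normalizer_lc, relIndex_lc] at this

theorem exists_good [Finite G] [Fact p.Prime] (hW : IsConjugacyFunctor p W) (S : Sylow p G)
    {T : Subgroup G} (hTS : T ≤ (S : Subgroup G)) (k : ℕ) :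
    ∃ y : G, GoodUpTo p W (S : Subgroup G) (lc y T) k := by
  induction k with
  | zero => exact ⟨1, by simpa using hTS, fun i hi => absurd hi (Nat.not_lt_zero i)⟩
  | succ k ih =>
    obtain ⟨y, hy⟩ := ih
    obtain ⟨z, hz⟩ := good_step hW S hy
    exact ⟨z * y, by rwa [lc_mul]⟩

theorem wellPlaced_of_good [Finite G] [Fact p.Prime] (hW : IsConjugacyFunctor p W) {S : Subgroup G}
    (hSp : IsPGroup p S) {T : Subgroup G} (h : GoodUpTo p W S T (Nat.card S + 2)) :
    IsWellPlaced p W S T := by
  obtain ⟨hTS, hg⟩ := h
  refine ⟨hTS, fun j => ?_⟩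
  by_cases hj : j < Nat.card S + 2
  · exact hg j hj
  · obtain ⟨i, hi, heq⟩ := exists_NS_tower_eq hW hSp T
    have h1 := tower_const W S T i heq (j - (i + 1))
    have h2 : i + 1 + (j - (i + 1)) = j := by omega
    rw [h2] at h1
    rw [h1]
    exact hg (i + 1) (by omega)

theorem exists_wellPlaced_lc [Finite G] [Fact p.Prime] (hW : IsConjugacyFunctor p W) (S : Sylow p G)
    {T : Subgroup G} (hTS : T ≤ (S : Subgroup G)) :
    ∃ g : G, IsWellPlaced p W (S : Subgroup G) (lc g T) := by
  obtain ⟨y, hy⟩ := exists_good hW S hTS (Nat.card (S : Subgroup G) + 2)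
  exact ⟨y, wellPlaced_of_good hW S.2 hy⟩

end functor

end Cfsg.Agent.Lib.Helper41
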