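import Cfsg.Agent.Lib.Helper41.Alperin
import Cfsg.Agent.Lib.Helper41.WellPlaced

set_option autoImplicit false

namespace Cfsg.Agent.Lib.Helper41

open Cfsg

variable {G : Type*} [Group G] {p : ℕ} {W : Subgroup G → Subgroup G}

/-- the control property of `ControlsStrongFusionIn`, for a given Sylow subgroup `M` of `H` -/
def CtrlAt (W : Subgroup G → Subgroup G) (H M : Subgroup G) : Prop :=
  ∀ (A : Set G) (h : G), h ∈ H → A ⊆ M → (fun a => h * a * h⁻¹) '' A ⊆ M →
    ∃ x ∈ H ⊓ Subgroup.normalizer ((W M : Subgroup G) : Set G), ∀ a ∈ A, x * a * x⁻¹ = h * a * h⁻¹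

theorem ctrlAt_lc (hW : IsConjugacyFunctor p W) {H M : Subgroup G} (hM : IsPGroup p M) {n : G}
    (hn : n ∈ H) (h : CtrlAt W H (lc n M)) : CtrlAt W H M := by
  intro A g hg hAM hgA
  have h1 : (fun a => n * a * n⁻¹) '' A ⊆ (lc n M : Subgroup G) := by
    rintro _ ⟨a, ha, rfl⟩
    exact conj_mem_lc (hAM ha)
  have h2 : (fun a => (n * g * n⁻¹) * a * (n * g * n⁻¹)⁻¹) '' ((fun a => n * a * n⁻¹) '' A) ⊆
      (lc n M : Subgroup G) := by
    rintro _ ⟨_, ⟨a, ha, rfl⟩, rfl⟩
    have : n * g * n⁻¹ * (n * a * n⁻¹) * (n * g * n⁻¹)⁻¹ = n * (g * a * g⁻¹) * n⁻¹ := by group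
    show n * g * n⁻¹ * (n * a * n⁻¹) * (n * g * n⁻¹)⁻¹ ∈ lc n M
    rw [this]
    exact conj_mem_lc (hgA ⟨a, ha, rfl⟩)
  obtain ⟨x, hx, hxa⟩ := h _ (n * g * n⁻¹) (H.mul_mem (H.mul_mem hn hg) (H.inv_mem hn)) h1 h2
  rw [Subgroup.mem_inf] at hx
  refine ⟨n⁻¹ * x * n, Subgroup.mem_inf.mpr ⟨H.mul_mem (H.mul_mem (H.inv_mem hn) hx.1) hn, ?_⟩, ?_⟩
  · have hx2 := hx.2
    rw [functor_lc hW hM, normalizer_lc, mem_lc] at hx2
    exact hx2
  · intro a ha
    have := hxa (n * a * n⁻¹) ⟨a, ha, rfl⟩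
    calc n⁻¹ * x * n * a * (n⁻¹ * x * n)⁻¹ = n⁻¹ * (x * (n * a * n⁻¹) * x⁻¹) * n := by group
    _ = n⁻¹ * (n * g * n⁻¹ * (n * a * n⁻¹) * (n * g * n⁻¹)⁻¹) * n := by rw [this]
    _ = g * a * g⁻¹ := by group

/-- control of strong fusion in `H` holds with respect to every Sylow `p`-subgroup of `H` -/
theorem ctrlAt_of_controls [Finite G] [Fact p.Prime] (hW : IsConjugacyFunctor p W) {H : Subgroup G}
    (h : ControlsStrongFusionIn p W H) {M : Subgroup G} (hMH : M ≤ H) (hM : IsPGroup p M)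
    (hidx : ¬ p ∣ M.relIndex H) : CtrlAt W H M := by
  obtain ⟨Q, hQH, hQ, hQidx, hctl⟩ := h
  obtain ⟨n, hnH, hn⟩ := exists_lc_le_of_relIndex hQH hQ hQidx hM hMH
  have hnH' : lc n H = H := by
    apply le_antisymm
    · intro x hx
      rw [mem_lc] at hx
      have : x = n * (n⁻¹ * x * n) * n⁻¹ := by group
      rw [this]
      exact H.mul_mem (H.mul_mem hnH hx) (H.inv_mem hnH)
    · intro x hx
      rw [mem_lc]
      exact H.mul_mem (H.mul_mem (H.inv_mem hnH) hx) hnH
  have heq : lc n M = Q := by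
    apply eq_of_le_of_relIndex (p := p) (H := H) hn hQH hQ
    rw [← hnH', relIndex_lc]
    exact hidx
  apply ctrlAt_lc hW hM hnH
  rw [heq]
  exact hctl

theorem wellPlaced_tower {S T : Subgroup G} (hW : IsConjugacyFunctor p W) (hS : IsPGroup p S)
    (h : IsWellPlaced p W S T) (i : ℕ) : IsWellPlaced p W S (functorTower W S T i) := by
  refine ⟨tower_le hW hS h.1 i, fun j => ?_⟩
  rw [tower_add]
  exact h.2 (i + j)

/-- the tower eventually reaches `W S` -/
theorem tower_eventually [Finite G] [Fact p.Prime] (hW : IsConjugacyFunctor p W) {S : Subgroup G}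
    (hS : IsPGroup p S) (T : Subgroup G) : ∃ i, functorTower W S T (i + 1) = W S := by
  obtain ⟨i, _, heq⟩ := exists_NS_tower_eq hW hS T
  refine ⟨i, ?_⟩
  rw [tower_succ]
  congr 1
  by_contra hne
  have hlt := lt_inf_normalizer_of_ne hS (inf_le_left : NS S (functorTower W S T i) ≤ S) hne
  have hle : S ⊓ Subgroup.normalizer ((NS S (functorTower W S T i) : Subgroup G) : Set G) ≤
      NS S (functorTower W S T (i + 1)) :=
    le_inf inf_le_left (inf_le_right.trans (normalizer_le_normalizer_functor hW hS.to_inf_left))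
  rw [← heq] at hle
  exact absurd (lt_of_lt_of_le hlt hle) (lt_irrefl _)

/-- climbing the tower of a well-placed subgroup -/
theorem climb [Finite G] [Fact p.Prime] (hW : IsConjugacyFunctor p W) {S : Subgroup G}
    (hS : IsPGroup p S)
    (hloc : ∀ T : Subgroup G, T ≠ ⊥ → IsWellPlaced p W S T →
      ControlsStrongFusionIn p W (Subgroup.normalizer ((T : Subgroup G) : Set G)))
    {T : Subgroup G} (hT : IsWellPlaced p W S T) (hTne : T ≠ ⊥) {x : G}
    (hx : x ∈ Subgroup.normalizer (T : Set G)) (i : ℕ) :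
    ∃ y ∈ Subgroup.normalizer ((functorTower W S T i : Subgroup G) : Set G),
      ∀ t ∈ T, y * t * y⁻¹ = x * t * x⁻¹ := by
  induction i with
  | zero => exact ⟨x, hx, fun _ _ => rfl⟩
  | succ i ih =>
    obtain ⟨y, hy, hyt⟩ := ih
    have hUwp := wellPlaced_tower hW hS hT i
    have hTU : T ≤ NS S (functorTower W S T i) :=
      (le_NS hT.1).trans (NS_tower_mono hW hS T (Nat.zero_le i))
    have hUne : functorTower W S T i ≠ ⊥ := by
      cases i with
      | zero => exact hTne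
      | succ i =>
        rw [tower_succ]
        apply functor_ne_bot hW hS.to_inf_left
        intro hbot
        apply hTne
        have : T ≤ NS S (functorTower W S T i) :=
          (le_NS hT.1).trans (NS_tower_mono hW hS T (Nat.zero_le i))
        have hbot' : NS S (functorTower W S T i) = ⊥ := hbot
        rw [hbot'] at this
        exact le_bot_iff.mp this
    have hctl := ctrlAt_of_controls hW (hloc _ hUne hUwp)
      (M := NS S (functorTower W S T i)) inf_le_right hS.to_inf_left (hUwp.2 0)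
    have hsub : (fun a => y * a * y⁻¹) '' (T : Set G) ⊆ (NS S (functorTower W S T i) : Subgroup G) := by
      rintro _ ⟨t, ht, rfl⟩
      show y * t * y⁻¹ ∈ NS S (functorTower W S T i)
      rw [hyt t ht]
      apply hTU
      have := mem_normalizer_iff_lc.mp hx
      rw [← this]
      exact conj_mem_lc ht
    obtain ⟨z, hz, hzt⟩ := hctl (T : Set G) y hy (by exact_mod_cast hTU) hsub
    refine ⟨z, hz.2, fun t ht => ?_⟩
    rw [hzt t ht, hyt t ht]

theorem climb_top [Finite G] [Fact p.Prime] (hW : IsConjugacyFunctor p W) {S : Subgroup G}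
    (hS : IsPGroup p S)
    (hloc : ∀ T : Subgroup G, T ≠ ⊥ → IsWellPlaced p W S T →
      ControlsStrongFusionIn p W (Subgroup.normalizer ((T : Subgroup G) : Set G)))
    {T : Subgroup G} (hT : IsWellPlaced p W S T) {x : G}
    (hx : x ∈ Subgroup.normalizer (T : Set G)) :
    ∃ y ∈ Subgroup.normalizer ((W S : Subgroup G) : Set G), ∀ t ∈ T, y⁻¹ * t * y = x⁻¹ * t * x := by
  by_cases hTne : T = ⊥
  · refine ⟨1, Subgroup.one_mem _, fun t ht => ?_⟩
    rw [hTne, Subgroup.mem_bot] at ht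
    subst ht
    simp
  · obtain ⟨i, hi⟩ := tower_eventually hW hS T
    obtain ⟨y, hy, hyt⟩ := climb hW hS hloc hT hTne (Subgroup.inv_mem _ hx) (i + 1)
    rw [hi] at hy
    refine ⟨y⁻¹, Subgroup.inv_mem _ hy, fun t ht => ?_⟩
    simpa using hyt t ht

theorem chain_control {𝓕 : Set (Subgroup G)} {K : Subgroup G}
    (hstep : ∀ T ∈ 𝓕, ∀ x ∈ Subgroup.normalizer (T : Set G),
      ∃ y ∈ K, ∀ t ∈ T, y⁻¹ * t * y = x⁻¹ * t * x)
    {A : Set G} {L : List (Subgroup G × G)} (hL : Chain 𝓕 A L) :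
    ∃ y ∈ K, ∀ a ∈ A, y⁻¹ * a * y = ((L.map Prod.snd).prod)⁻¹ * a * (L.map Prod.snd).prod := by
  induction L generalizing A with
  | nil => exact ⟨1, K.one_mem, fun a _ => by simp⟩
  | cons b L ih =>
    obtain ⟨T, x⟩ := b
    obtain ⟨h1, h2, h3, h4⟩ := hL
    obtain ⟨y, hy, hyt⟩ := hstep T h1 x h2
    obtain ⟨z, hz, hza⟩ := ih h4
    refine ⟨y * z, K.mul_mem hy hz, fun a ha => ?_⟩
    have e1 := hyt a (h3 ha)
    have e2 := hza (x⁻¹ * a * x) ⟨a, ha, rfl⟩
    simp only [List.map_cons, List.prod_cons]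
    calc (y * z)⁻¹ * a * (y * z) = z⁻¹ * (y⁻¹ * a * y) * z := by group
    _ = z⁻¹ * (x⁻¹ * a * x) * z := by rw [e1]
    _ = _ := by rw [e2]; group

theorem controls_of_local [Finite G] [Fact p.Prime] (S : Sylow p G) (hW : IsConjugacyFunctor p W)
    (hloc : ∀ T : Subgroup G, T ≠ ⊥ → IsWellPlaced p W (S : Subgroup G) T →
      ControlsStrongFusionIn p W (Subgroup.normalizer ((T : Subgroup G) : Set G))) :
    CtrlAt W ⊤ (S : Subgroup G) := by
  intro A h _ hAS hhA
  rcases A.eq_empty_or_nonempty with rfl | hne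
  · exact ⟨1, Subgroup.one_mem _, fun a ha => absurd ha (Set.notMem_empty a)⟩
  have hreach := alperin_reach S {T : Subgroup G | IsWellPlaced p W (S : Subgroup G) T}
    (fun U hU => hU.1) (by
      intro T hT
      obtain ⟨g, hg⟩ := exists_wellPlaced_lc hW S hT
      exact ⟨_, hg, ⟨g, rfl⟩, hg.2 0⟩)
  have hAg : rconj h⁻¹ A ⊆ (S : Subgroup G) := by
    rintro _ ⟨a, ha, rfl⟩
    have := hhA ⟨a, ha, rfl⟩
    simpa using this
  obtain ⟨L, hL, hprod⟩ := reach_set hreach hAS hAg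
  obtain ⟨y, hy, hya⟩ := chain_control (K := Subgroup.normalizer ((W (S : Subgroup G) : Subgroup G) : Set G))
    (fun T hT x hx => climb_top hW S.2 hloc hT hx) hL
  refine ⟨y⁻¹, Subgroup.mem_inf.mpr ⟨Subgroup.mem_top _, Subgroup.inv_mem _ hy⟩, fun a ha => ?_⟩
  have := hya a ha
  rw [hprod] at this
  simpa using this

end Cfsg.Agent.Lib.Helper41
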