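import Cfsg.Agent.Lib.Helper41.PChain
import Cfsg.Agent.Lib.Helper41.Control
import Cfsg.Agent.Lib.Helper03.FusionControl
import Cfsg.Agent.Lib.Helper03.NormalPComplement

set_option autoImplicit false

namespace Cfsg.Agent.Lib.Helper41

open Cfsg

variable {G : Type*} [Group G]

/-- the index of `C_G(T)` in `N_G(T)` is a power of `p` if the `p'`-elements of `N_G(T)` centralize `T` -/
theorem relIndex_centralizer_eq_pow [Finite G] {p : ℕ} [Fact p.Prime] {T : Subgroup G}
    (hcent : ∀ g ∈ Subgroup.normalizer (T : Set G), (orderOf g).Coprime p →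
      g ∈ Subgroup.centralizer (T : Set G)) :
    ∃ j : ℕ, (Subgroup.centralizer (T : Set G)).relIndex (Subgroup.normalizer (T : Set G)) = p ^ j := by
  have hp : p.Prime := Fact.out
  set N := Subgroup.normalizer (T : Set G) with hN
  set C := (Subgroup.centralizer (T : Set G)).subgroupOf N with hC
  have hCn : C.Normal := by
    constructor
    intro c hc n
    rw [hC, Subgroup.mem_subgroupOf] at hc ⊢
    rw [Subgroup.mem_centralizer_iff] at hc ⊢
    intro t ht
    have ht' : (n : G)⁻¹ * t * (n : G)⁻¹⁻¹ ∈ T :=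
      (Subgroup.mem_normalizer_iff.mp (N.inv_mem n.2) t).mp ht
    have := hc _ ht'
    simp only [inv_inv] at this
    simp only [Subgroup.coe_mul, Subgroup.coe_inv]
    calc t * ((n : G) * (c : G) * (n : G)⁻¹)
        = (n : G) * (((n : G)⁻¹ * t * (n : G)) * (c : G)) * (n : G)⁻¹ := by group
    _ = (n : G) * ((c : G) * ((n : G)⁻¹ * t * (n : G))) * (n : G)⁻¹ := by rw [this]
    _ = (n : G) * (c : G) * (n : G)⁻¹ * t := by group
  have hquot : IsPGroup p (N ⧸ C) := by
    intro x
    obtain ⟨m, rfl⟩ := QuotientGroup.mk_surjective x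
    obtain ⟨k, r, hr, hn⟩ := Nat.exists_eq_pow_mul_and_not_dvd (orderOf_pos (m : G)).ne' p hp.ne_one
    refine ⟨k, ?_⟩
    rw [← QuotientGroup.mk_pow, QuotientGroup.eq_one_iff, hC, Subgroup.mem_subgroupOf]
    have h1 : ((m : G) ^ p ^ k) ^ r = 1 := by rw [← pow_mul, ← hn, pow_orderOf_eq_one]
    have hdvd := orderOf_dvd_of_pow_eq_one h1
    have hcop : (orderOf ((m : G) ^ p ^ k)).Coprime p :=
      Nat.Coprime.coprime_dvd_left hdvd ((Nat.Prime.coprime_iff_not_dvd hp).mpr hr).symm
    have hmem : (m : G) ^ p ^ k ∈ N := N.pow_mem m.2 _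
    simpa using hcent _ hmem hcop
  obtain ⟨j, hj⟩ := IsPGroup.iff_card.mp hquot
  refine ⟨j, ?_⟩
  rw [Subgroup.relIndex, ← hC, Subgroup.index_eq_card]
  exact hj

/-- If `N_S(T)` has index prime to `p` in `N_G(T)` and the `p'`-elements of `N_G(T)` centralize `T`, then
every element of `N_G(T)` acts on `T` as an element of `N_S(T)`. -/
theorem exists_mem_conj_eq_of_centralize [Finite G] {p : ℕ} [Fact p.Prime] {S T : Subgroup G}
    (hidx : ¬ p ∣ (S ⊓ Subgroup.normalizer (T : Set G)).relIndex (Subgroup.normalizer (T : Set G)))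
    (hcent : ∀ g ∈ Subgroup.normalizer (T : Set G), (orderOf g).Coprime p →
      g ∈ Subgroup.centralizer (T : Set G))
    {x : G} (hx : x ∈ Subgroup.normalizer (T : Set G)) :
    ∃ y ∈ S ⊓ Subgroup.normalizer (T : Set G), ∀ t ∈ T, y⁻¹ * t * y = x⁻¹ * t * x := by
  have hp : p.Prime := Fact.out
  set N := Subgroup.normalizer (T : Set G) with hN
  set C := Subgroup.centralizer (T : Set G) with hC
  set R := S ⊓ N with hR
  have hCN : C ≤ N := Subgroup.centralizer_le_normalizer (T : Set G)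
  have hH : C ⊔ R ≤ N := sup_le hCN inf_le_right
  obtain ⟨j, hj⟩ := relIndex_centralizer_eq_pow (p := p) hcent
  have h1 : (C ⊔ R).relIndex N ∣ p ^ j := by
    rw [← hj]; exact Subgroup.relIndex_dvd_of_le_left N le_sup_left
  have h2 : (C ⊔ R).relIndex N ∣ R.relIndex N := Subgroup.relIndex_dvd_of_le_left N le_sup_right
  have h3 : Nat.Coprime ((C ⊔ R).relIndex N) (p ^ j) := by
    apply Nat.Coprime.pow_right
    apply Nat.Coprime.coprime_dvd_left h2
    exact ((Nat.Prime.coprime_iff_not_dvd hp).mpr hidx).symm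
  have h4 : (C ⊔ R).relIndex N = 1 := Nat.Coprime.eq_one_of_dvd h3 h1
  have h5 : N ≤ C ⊔ R := Subgroup.relIndex_eq_one.mp h4
  have hx' : x ∈ C ⊔ R := h5 hx
  rw [Subgroup.sup_eq_closure] at hx'
  have key : ∀ z ∈ Subgroup.closure ((C : Set G) ∪ (R : Set G)),
      z ∈ N ∧ ∃ y ∈ R, ∀ t ∈ T, y⁻¹ * t * y = z⁻¹ * t * z := by
    intro z hz
    induction hz using Subgroup.closure_induction with
    | mem u hu =>
      rcases hu with hu | hu
      · refine ⟨hCN hu, 1, R.one_mem, fun t ht => ?_⟩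
        have := (Subgroup.mem_centralizer_iff.mp hu) t ht
        calc (1 : G)⁻¹ * t * 1 = t := by group
        _ = u⁻¹ * (u * t) := by group
        _ = u⁻¹ * (t * u) := by rw [this]
        _ = u⁻¹ * t * u := by group
      · exact ⟨hH (Subgroup.mem_sup_right hu), u, hu, fun _ _ => rfl⟩
    | one => exact ⟨N.one_mem, 1, R.one_mem, fun _ _ => rfl⟩
    | mul a b _ _ iha ihb =>
      obtain ⟨haN, y₁, hy₁, h₁⟩ := iha
      obtain ⟨hbN, y₂, hy₂, h₂⟩ := ihb
      refine ⟨N.mul_mem haN hbN, y₁ * y₂, R.mul_mem hy₁ hy₂, fun t ht => ?_⟩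
      have ht' : y₁⁻¹ * t * y₁ ∈ T := by
        have hy₁N : y₁⁻¹ ∈ N := N.inv_mem hy₁.2
        have := (Subgroup.mem_normalizer_iff.mp hy₁N t).mp ht
        simpa using this
      calc (y₁ * y₂)⁻¹ * t * (y₁ * y₂) = y₂⁻¹ * (y₁⁻¹ * t * y₁) * y₂ := by group
      _ = b⁻¹ * (y₁⁻¹ * t * y₁) * b := h₂ _ ht'
      _ = b⁻¹ * (a⁻¹ * t * a) * b := by rw [h₁ t ht]
      _ = (a * b)⁻¹ * t * (a * b) := by group
    | inv a _ iha =>
      obtain ⟨haN, y, hy, h⟩ := iha
      refine ⟨N.inv_mem haN, y⁻¹, R.inv_mem hy, fun t ht => ?_⟩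
      have ht' : a * t * a⁻¹ ∈ T := (Subgroup.mem_normalizer_iff.mp haN t).mp ht
      have := h _ ht'
      have e : a⁻¹ * (a * t * a⁻¹) * a = t := by group
      rw [e] at this
      calc y⁻¹⁻¹ * t * y⁻¹ = y * t * y⁻¹ := by group
      _ = y * (y⁻¹ * (a * t * a⁻¹) * y) * y⁻¹ := by rw [this]
      _ = a⁻¹⁻¹ * t * a⁻¹ := by group
  exact (key x hx').2

/-- Frobenius' condition implies that `P` controls its own fusion (via Alperin's theorem). -/
theorem controlsOwnFusion_of_centralize [Finite G] {p : ℕ} [Fact p.Prime] (P : Sylow p G)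
    (h : ∀ Q : Subgroup G, Q ≤ (P : Subgroup G) → ∀ g ∈ Subgroup.normalizer (Q : Set G),
      Nat.Coprime (orderOf g) p → g ∈ Subgroup.centralizer (Q : Set G)) :
    Cfsg.Agent.Lib.Helper03.ControlsOwnFusion (P : Subgroup G) := by
  intro x hx y hy hgex
  obtain ⟨g, hg⟩ := hgex
  set 𝓕 : Set (Subgroup G) := {T | T ≤ (P : Subgroup G) ∧
    ¬ p ∣ ((P : Subgroup G) ⊓ Subgroup.normalizer ((T : Subgroup G) : Set G)).relIndex
        (Subgroup.normalizer ((T : Subgroup G) : Set G))} with h𝓕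
  have hreach := alperin_reach P 𝓕 (fun U hU => hU.1) (by
    intro T hT
    obtain ⟨c, hc1, hc2⟩ := exists_fullyNormalized_lc P hT
    exact ⟨_, ⟨hc1, hc2⟩, ⟨c, rfl⟩, hc2⟩)
  have hA : ({x} : Set G) ⊆ ((P : Subgroup G) : Set G) := by
    rintro _ rfl; exact hx
  have hAg : rconj g⁻¹ ({x} : Set G) ⊆ ((P : Subgroup G) : Set G) := by
    rintro _ ⟨a, ha, rfl⟩
    rw [Set.mem_singleton_iff] at ha
    rw [ha]
    show g⁻¹⁻¹ * x * g⁻¹ ∈ (P : Subgroup G)
    rw [inv_inv, hg]; exact hy
  obtain ⟨L, hL, hprod⟩ := reach_set hreach hA hAg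
  obtain ⟨z, hz, hza⟩ := chain_control (K := (P : Subgroup G)) (fun T hT u hu => by
    obtain ⟨w, hw, hwt⟩ := exists_mem_conj_eq_of_centralize (S := (P : Subgroup G)) hT.2
      (h T hT.1) hu
    exact ⟨w, hw.1, hwt⟩) hL
  refine ⟨z⁻¹, Subgroup.inv_mem _ hz, ?_⟩
  have := hza x rfl
  rw [hprod] at this
  rw [inv_inv, this, inv_inv, hg]

/-- elements of order prime to `p` lie in a normal complement of a Sylow `p`-subgroup -/
theorem mem_of_coprime_of_isComplement' [Finite G] {p : ℕ} [Fact p.Prime] (P : Sylow p G)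
    {N : Subgroup G} [N.Normal] (hN : N.IsComplement' (P : Subgroup G)) {g : G}
    (hg : Nat.Coprime (orderOf g) p) : g ∈ N := by
  have hp : p.Prime := Fact.out
  obtain ⟨k, hk⟩ := IsPGroup.iff_card.mp P.2
  have hidx : N.index = p ^ k := by
    rw [← hk]
    exact hN.symm.index_eq_card
  have h1 : (QuotientGroup.mk g : G ⧸ N) ^ (p ^ k) = 1 := by
    rw [← hidx, Subgroup.index_eq_card]
    exact pow_card_eq_one'
  have h2 : orderOf (QuotientGroup.mk g : G ⧸ N) ∣ p ^ k := orderOf_dvd_of_pow_eq_one h1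
  have h3 : orderOf (QuotientGroup.mk g : G ⧸ N) ∣ orderOf g :=
    orderOf_map_dvd (QuotientGroup.mk' N) g
  have h4 : Nat.Coprime (orderOf (QuotientGroup.mk g : G ⧸ N)) (p ^ k) :=
    Nat.Coprime.pow_right _ (Nat.Coprime.coprime_dvd_left h3 hg)
  have h5 := Nat.Coprime.eq_one_of_dvd h4 h2
  rw [orderOf_eq_one_iff, QuotientGroup.eq_one_iff] at h5
  exact h5

/-- the easy direction of Frobenius' theorem -/
theorem centralize_of_isComplement' [Finite G] {p : ℕ} [Fact p.Prime] (P : Sylow p G)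
    {N : Subgroup G} [N.Normal] (hN : N.IsComplement' (P : Subgroup G)) {Q : Subgroup G}
    (hQ : Q ≤ (P : Subgroup G)) {g : G} (hgN : g ∈ Subgroup.normalizer (Q : Set G))
    (hg : Nat.Coprime (orderOf g) p) : g ∈ Subgroup.centralizer (Q : Set G) := by
  have hgmem := mem_of_coprime_of_isComplement' P hN hg
  rw [Subgroup.mem_centralizer_iff]
  intro q hq
  have h1 : g * q * g⁻¹ * q⁻¹ ∈ N := by
    have : g * q * g⁻¹ * q⁻¹ = g * (q * g⁻¹ * q⁻¹) := by group
    rw [this]
    exact N.mul_mem hgmem (Subgroup.Normal.conj_mem inferInstance _ (N.inv_mem hgmem) q)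
  have h2 : g * q * g⁻¹ * q⁻¹ ∈ (P : Subgroup G) := by
    apply hQ
    exact Q.mul_mem ((Subgroup.mem_normalizer_iff.mp hgN q).mp hq) (Q.inv_mem hq)
  have h3 : g * q * g⁻¹ * q⁻¹ = 1 := by
    have := hN.disjoint
    rw [Subgroup.disjoint_def] at this
    exact this h1 h2
  calc q * g = (g * q * g⁻¹ * q⁻¹)⁻¹ * (g * q) := by group
  _ = g * q := by rw [h3]; group

/-- Frobenius' condition: the elements of order prime to `p` normalizing a `p`-subgroup centralize it -/
def FrobCond (p : ℕ) (G : Type*) [Group G] : Prop :=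
  ∀ Q : Subgroup G, IsPGroup p Q → ∀ g ∈ Subgroup.normalizer (Q : Set G),
    Nat.Coprime (orderOf g) p → g ∈ Subgroup.centralizer (Q : Set G)

theorem frobCond_subgroup {p : ℕ} (h : FrobCond p G) (H : Subgroup G) : FrobCond p H := by
  intro Q' hQ' g' hg' hcop
  have hQ'' : IsPGroup p (Q'.map H.subtype) := hQ'.map _
  have hgN : (g' : G) ∈ Subgroup.normalizer ((Q'.map H.subtype : Subgroup G) : Set G) := by
    rw [Subgroup.mem_normalizer_iff]
    intro x
    constructor
    · rintro ⟨q, hq, rfl⟩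
      exact ⟨g' * q * g'⁻¹, (Subgroup.mem_normalizer_iff.mp hg' q).mp hq, by simp⟩
    · rintro ⟨q, hq, hqx⟩
      have hxH : x ∈ H := by
        have h1 : (g' : G) * x * (g' : G)⁻¹ ∈ H := by rw [← hqx]; exact q.2
        have : x = (g' : G)⁻¹ * ((g' : G) * x * (g' : G)⁻¹) * (g' : G) := by group
        rw [this]
        exact H.mul_mem (H.mul_mem (H.inv_mem g'.2) h1) g'.2
      refine ⟨⟨x, hxH⟩, ?_, rfl⟩
      apply (Subgroup.mem_normalizer_iff.mp hg' ⟨x, hxH⟩).mpr
      have : g' * ⟨x, hxH⟩ * g'⁻¹ = q := by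
        apply Subtype.ext
        simpa using hqx.symm
      rw [this]
      exact hq
  have hcop' : Nat.Coprime (orderOf (g' : G)) p := by
    rwa [Subgroup.orderOf_coe]
  have := h _ hQ'' _ hgN hcop'
  rw [Subgroup.mem_centralizer_iff] at this ⊢
  intro q hq
  apply Subtype.ext
  simpa using this (q : G) ⟨q, hq, rfl⟩

theorem frobCond_of_hasNormalPComplement [Finite G] {p : ℕ} [Fact p.Prime]
    (h : Cfsg.HasNormalPComplement p G) : FrobCond p G := by
  intro Q hQ g hgN hcop
  obtain ⟨P, hP⟩ := hQ.exists_le_sylow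
  obtain ⟨N, hNn, hN⟩ := (Cfsg.Agent.Lib.Helper03.hasNormalPComplement_iff P).mp h
  haveI := hNn
  exact centralize_of_isComplement' P hN hP hgN hcop

theorem hasNormalPComplement_of_frobCond {G : Type*} [Group G] [Finite G] {p : ℕ} [Fact p.Prime]
    (h : FrobCond p G) : Cfsg.HasNormalPComplement p G := by
  obtain ⟨P⟩ : Nonempty (Sylow p G) := inferInstance
  refine ⟨P, ?_⟩
  exact Cfsg.Agent.Lib.Helper03.exists_normal_complement_of_controlsOwnFusion P
    (controlsOwnFusion_of_centralize P (fun Q hQ => h Q (P.2.to_le hQ)))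

theorem hasNormalPComplement_iff_frobCond {G : Type*} [Group G] [Finite G] {p : ℕ} [Fact p.Prime] :
    Cfsg.HasNormalPComplement p G ↔ FrobCond p G :=
  ⟨frobCond_of_hasNormalPComplement, hasNormalPComplement_of_frobCond⟩

/-- subgroups of groups with a normal `p`-complement have a normal `p`-complement -/
theorem hasNormalPComplement_subgroup {G : Type*} [Group G] [Finite G] {p : ℕ} [Fact p.Prime]
    (h : Cfsg.HasNormalPComplement p G) (H : Subgroup G) : Cfsg.HasNormalPComplement p H :=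
  hasNormalPComplement_of_frobCond (frobCond_subgroup (frobCond_of_hasNormalPComplement h) H)

/-- Frobenius' theorem, local form -/
theorem hasNormalPComplement_of_local {G : Type*} [Group G] [Finite G] {p : ℕ} [Fact p.Prime]
    (h : ∀ Q : Subgroup G, IsPGroup p Q → Q ≠ ⊥ →
      Cfsg.HasNormalPComplement p (Subgroup.normalizer (Q : Set G))) :
    Cfsg.HasNormalPComplement p G := by
  apply hasNormalPComplement_of_frobCond
  intro Q hQ g hgN hcop
  by_cases hQb : Q = ⊥
  · rw [hQb, Subgroup.mem_centralizer_iff]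
    intro q hq
    rw [SetLike.mem_coe, Subgroup.mem_bot] at hq
    subst hq
    simp
  · have hF := frobCond_of_hasNormalPComplement (h Q hQ hQb)
    set H := Subgroup.normalizer (Q : Set G) with hH
    have hQ' : IsPGroup p (Q.subgroupOf H) := hQ.comap_subtype
    have hg' : (⟨g, hgN⟩ : H) ∈ Subgroup.normalizer ((Q.subgroupOf H : Subgroup H) : Set H) := by
      have : (Q.subgroupOf H).Normal := Subgroup.normal_in_normalizer
      rw [Subgroup.normalizer_eq_top]
      exact Subgroup.mem_top _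
    have hcop' : Nat.Coprime (orderOf (⟨g, hgN⟩ : H)) p := by
      rw [← Subgroup.orderOf_coe]
      exact hcop
    have := hF _ hQ' _ hg' hcop'
    rw [Subgroup.mem_centralizer_iff] at this ⊢
    intro q hq
    have := this ⟨q, Subgroup.le_normalizer hq⟩ (by
      rw [SetLike.mem_coe, Subgroup.mem_subgroupOf]; exact hq)
    simpa using congrArg Subtype.val this

end Cfsg.Agent.Lib.Helper41
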