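import Cfsg.Agent.Lib.Helper41.FamilyCtl
import Mathlib.GroupTheory.Focal

set_option autoImplicit false

namespace Cfsg.Agent.Lib.Helper41

open Cfsg
open scoped commutatorElement

variable {G : Type*} [Group G] {p : ℕ}

/-- the focal subgroup theorem relative to a subgroup `L`: if `M` is a Sylow `p`-subgroup of `L`, then
`M ∩ L'` lies in any subgroup containing the commutators `[x, u] ∈ M`, `x ∈ M`, `u ∈ L`. -/
theorem relative_focal [Finite G] [Fact p.Prime] {L M : Subgroup G} (hML : M ≤ L)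
    (hM : IsPGroup p M) (hidx : ¬ p ∣ M.relIndex L) {D : Subgroup G}
    (hgen : ∀ x ∈ M, ∀ u ∈ L, ⁅x, u⁆ ∈ M → ⁅x, u⁆ ∈ D) : M ⊓ ⁅L, L⁆ ≤ D := by
  have hM' : IsPGroup p (M.subgroupOf L) := hM.comap_subtype
  let P' : Sylow p L := hM'.toSylow hidx
  have hP' : ∀ z : L, z ∈ P' ↔ (z : G) ∈ M := fun z => Iff.rfl
  intro z hz
  obtain ⟨hzM, hzL⟩ := Subgroup.mem_inf.mp hz
  have hcomm : ⁅L, L⁆ = (_root_.commutator L).map L.subtype := by
    rw [commutator_def, Subgroup.map_commutator, ← MonoidHom.range_eq_map, Subgroup.range_subtype]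
  rw [hcomm] at hzL
  obtain ⟨z', hz', rfl⟩ := hzL
  have hz'P : z' ∈ (P' : Subgroup L) := (hP' z').mpr hzM
  have hfoc : z' ∈ (P' : Subgroup L).focalSubgroup := by
    rw [← Subgroup.commutator_inf_eq_focalSubgroup P']
    exact Subgroup.mem_inf.mpr ⟨hz', hz'P⟩
  rw [Subgroup.focalSubgroup_def] at hfoc
  have key : ∀ w ∈ Subgroup.closure {g : L | g ∈ (P' : Subgroup L) ∧
      ∃ x ∈ (P' : Subgroup L), ∃ u : L, g = ⁅x, u⁆}, (w : G) ∈ D := by
    intro w hw
    induction hw using Subgroup.closure_induction with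
    | mem g hg =>
      obtain ⟨hgP, x, hxP, u, rfl⟩ := hg
      have e : ((⁅x, u⁆ : L) : G) = ⁅(x : G), (u : G)⁆ := by
        simp [commutatorElement_def]
      have h1 := hgen (x : G) ((hP' x).mp hxP) (u : G) u.2 (by rw [← e]; exact (hP' _).mp hgP)
      rw [e]; exact h1
    | one => simpa using D.one_mem
    | mul a b _ _ iha ihb => simpa using D.mul_mem iha ihb
    | inv a _ iha => simpa using D.inv_mem iha
  exact key z' hfoc

/-- the equation of `FamilyControlsTransferIn` at a given Sylow subgroup `M` of `H` -/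
def FTransAt (𝓦 : Set (Subgroup G → Subgroup G)) (H M : Subgroup G) : Prop :=
  M ⊓ ⁅H, H⁆ = ⨆ W ∈ 𝓦, M ⊓ ⁅H ⊓ Subgroup.normalizer ((W M : Subgroup G) : Set G),
    H ⊓ Subgroup.normalizer ((W M : Subgroup G) : Set G)⁆

theorem ftransAt_of_controls [Finite G] [Fact p.Prime] {𝓦 : Set (Subgroup G → Subgroup G)}
    (h𝓦 : ∀ W ∈ 𝓦, IsConjugacyFunctor p W) {H : Subgroup G}
    (h : FamilyControlsTransferIn p 𝓦 H) {M : Subgroup G} (hMH : M ≤ H) (hM : IsPGroup p M)
    (hidx : ¬ p ∣ M.relIndex H) : FTransAt 𝓦 H M := by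
  obtain ⟨Q, hQH, hQ, hQidx, heq⟩ := h
  obtain ⟨n, hnH, rfl⟩ := exists_lc_eq_of_sylowIn hQH hQ hQidx hMH hM hidx
  have hH : lc n H = H := lc_eq_self_of_mem hnH
  have h1 : lc n (M ⊓ ⁅H, H⁆) = lc n M ⊓ ⁅H, H⁆ := by
    rw [lc_inf, lc_commutator, hH]
  have h2 : lc n (⨆ W ∈ 𝓦, M ⊓ ⁅H ⊓ Subgroup.normalizer ((W M : Subgroup G) : Set G),
      H ⊓ Subgroup.normalizer ((W M : Subgroup G) : Set G)⁆) =
      ⨆ W ∈ 𝓦, lc n M ⊓ ⁅H ⊓ Subgroup.normalizer ((W (lc n M) : Subgroup G) : Set G),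
      H ⊓ Subgroup.normalizer ((W (lc n M) : Subgroup G) : Set G)⁆ := by
    unfold lc
    rw [Subgroup.map_iSup]
    refine iSup_congr fun W => ?_
    rw [Subgroup.map_iSup]
    refine iSup_congr fun hW => ?_
    show lc n _ = lc n M ⊓ _
    rw [lc_inf, lc_commutator, lc_inf, hH, ← normalizer_lc, ← functor_lc (h𝓦 W hW) hM]
  unfold FTransAt
  apply lc_injective n
  rw [h1, h2]
  exact heq

section family

variable [Finite G] [Fact p.Prime] (S : Sylow p G) {𝓦 : Set (Subgroup G → Subgroup G)}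

/-- the subgroup generated by the `S ∩ N_G(W S)'`, `W ∈ 𝓦` -/
def famD (𝓦 : Set (Subgroup G → Subgroup G)) (S : Subgroup G) : Subgroup G :=
  ⨆ W ∈ 𝓦, S ⊓ ⁅(⊤ : Subgroup G) ⊓ Subgroup.normalizer ((W S : Subgroup G) : Set G),
    (⊤ : Subgroup G) ⊓ Subgroup.normalizer ((W S : Subgroup G) : Set G)⁆

theorem ftransfer_step (h𝓦 : ∀ W ∈ 𝓦, IsConjugacyFunctor p W)
    (hloc : ∀ T : Subgroup G, T ≤ (S : Subgroup G) → T ≠ ⊥ →
      ¬ p ∣ ((S : Subgroup G) ⊓ Subgroup.normalizer ((T : Subgroup G) : Set G)).relIndex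
        (Subgroup.normalizer ((T : Subgroup G) : Set G)) →
      FamilyControlsTransferIn p 𝓦 (Subgroup.normalizer ((T : Subgroup G) : Set G)))
    (T : Subgroup G) (hTS : T ≤ (S : Subgroup G)) (hTne : T ≠ ⊥)
    (hTfn : ¬ p ∣ ((S : Subgroup G) ⊓ Subgroup.normalizer ((T : Subgroup G) : Set G)).relIndex
        (Subgroup.normalizer ((T : Subgroup G) : Set G)))
    (IH : ∀ T' : Subgroup G, T' ≤ (S : Subgroup G) → T' ≠ ⊥ →
      ¬ p ∣ ((S : Subgroup G) ⊓ Subgroup.normalizer ((T' : Subgroup G) : Set G)).relIndex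
        (Subgroup.normalizer ((T' : Subgroup G) : Set G)) →
      Nat.card ((S : Subgroup G) ⊓ Subgroup.normalizer (T : Set G) : Subgroup G) <
        Nat.card ((S : Subgroup G) ⊓ Subgroup.normalizer (T' : Set G) : Subgroup G) →
      ∀ x ∈ Subgroup.normalizer (T' : Set G),
        ∀ a ∈ ((S : Subgroup G) ⊓ Subgroup.normalizer (T' : Set G) : Subgroup G),
        x⁻¹ * a * x ∈ ((S : Subgroup G) ⊓ Subgroup.normalizer (T' : Set G) : Subgroup G) →
        a⁻¹ * (x⁻¹ * a * x) ∈ famD 𝓦 (S : Subgroup G)) :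
    ∀ x ∈ Subgroup.normalizer (T : Set G),
      ∀ a ∈ ((S : Subgroup G) ⊓ Subgroup.normalizer (T : Set G) : Subgroup G),
      x⁻¹ * a * x ∈ ((S : Subgroup G) ⊓ Subgroup.normalizer (T : Set G) : Subgroup G) →
      a⁻¹ * (x⁻¹ * a * x) ∈ famD 𝓦 (S : Subgroup G) := by
  have hSp : IsPGroup p (S : Subgroup G) := S.2
  set D := famD 𝓦 (S : Subgroup G) with hD
  set N := Subgroup.normalizer (T : Set G) with hN
  set M := (S : Subgroup G) ⊓ N with hM
  have hMp : IsPGroup p M := hSp.to_inf_left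
  have hTM : T ≤ M := le_NS hTS
  have hMne : M ≠ ⊥ := by
    intro h
    apply hTne
    rw [h] at hTM
    exact le_bot_iff.mp hTM
  have htr : FTransAt 𝓦 N M :=
    ftransAt_of_controls h𝓦 (hloc T hTS hTne hTfn) (M := M) inf_le_right hMp hTfn
  -- the key sub-claim
  have sub : ∀ W ∈ 𝓦, ∀ y ∈ Subgroup.normalizer ((W M : Subgroup G) : Set G), ∀ a ∈ M,
      y⁻¹ * a * y ∈ M → a⁻¹ * (y⁻¹ * a * y) ∈ D := by
    intro W hW y hy a ha hya
    have hWf := h𝓦 W hW
    by_cases hMS : M = S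
    · rw [hMS] at hy ha hya
      have hSN : (S : Subgroup G) ≤ Subgroup.normalizer ((W (S : Subgroup G) : Subgroup G) : Set G) :=
        Subgroup.le_normalizer.trans (normalizer_le_normalizer_functor hWf hSp)
      have hmem : a⁻¹ * (y⁻¹ * a * y) ∈ (S : Subgroup G) ⊓
          ⁅(⊤ : Subgroup G) ⊓ Subgroup.normalizer ((W (S : Subgroup G) : Subgroup G) : Set G),
            (⊤ : Subgroup G) ⊓ Subgroup.normalizer ((W (S : Subgroup G) : Subgroup G) : Set G)⁆ := by
        refine Subgroup.mem_inf.mpr ⟨Subgroup.mul_mem _ (Subgroup.inv_mem _ ha) hya, ?_⟩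
        have : a⁻¹ * (y⁻¹ * a * y) = ⁅a⁻¹, y⁻¹⁆ := by
          rw [commutatorElement_def]; group
        rw [this, top_inf_eq]
        exact Subgroup.commutator_mem_commutator (hSN (Subgroup.inv_mem _ ha))
          (Subgroup.inv_mem _ hy)
      rw [hD]
      unfold famD
      exact (le_iSup₂ (f := fun W (_ : W ∈ 𝓦) => (S : Subgroup G) ⊓
          ⁅(⊤ : Subgroup G) ⊓ Subgroup.normalizer ((W (S : Subgroup G) : Subgroup G) : Set G),
            (⊤ : Subgroup G) ⊓ Subgroup.normalizer ((W (S : Subgroup G) : Subgroup G) : Set G)⁆)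
        W hW) hmem
    · set U := W M with hU
      have hUM : U ≤ M := functor_le hWf hMp
      have hUne : U ≠ ⊥ := functor_ne_bot hWf hMp hMne
      have hUS : U ≤ (S : Subgroup G) := hUM.trans inf_le_left
      have hNN : Subgroup.normalizer ((M : Subgroup G) : Set G) ≤
          Subgroup.normalizer ((U : Subgroup G) : Set G) := normalizer_le_normalizer_functor hWf hMp
      have hMNU : M ≤ (S : Subgroup G) ⊓ Subgroup.normalizer ((U : Subgroup G) : Set G) :=
        le_inf inf_le_left (Subgroup.le_normalizer.trans hNN)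
      have hlt : M < (S : Subgroup G) ⊓ Subgroup.normalizer ((M : Subgroup G) : Set G) :=
        lt_inf_normalizer_of_ne hSp inf_le_left hMS
      have hcard : Nat.card M <
          Nat.card ((S : Subgroup G) ⊓ Subgroup.normalizer ((U : Subgroup G) : Set G) : Subgroup G) :=
        lt_of_lt_of_le (card_lt_card_of_lt hlt) (Subgroup.card_le_of_le (inf_le_inf le_rfl hNN))
      obtain ⟨c, hc1, hc2, hc3⟩ := exists_fullyNormalized_lc' S hUS
      set U' := lc c U with hU'
      have hU'ne : U' ≠ ⊥ := by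
        rw [hU', Ne, lc_eq_bot_iff]; exact hUne
      have hcard' : Nat.card M <
          Nat.card ((S : Subgroup G) ⊓ Subgroup.normalizer ((U' : Subgroup G) : Set G) : Subgroup G) := by
        refine lt_of_lt_of_le hcard ?_
        rw [← card_lc c]
        exact Subgroup.card_le_of_le hc3
      set NU := (S : Subgroup G) ⊓ Subgroup.normalizer ((U : Subgroup G) : Set G) with hNU
      have rc : ∀ b ∈ NU, b⁻¹ * (c⁻¹⁻¹ * b * c⁻¹) ∈ D := by
        obtain ⟨L, hL, hprod⟩ := fn_reach S NU inf_le_left c⁻¹ (by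
          rw [inv_inv]; exact hc3.trans inf_le_left)
        have hL' := chain_restrict L NU hL
        have := transfer_chain (K := D) ?_ hL'
        · intro b hb
          have h1 := this b hb
          rwa [hprod] at h1
        · intro T' hT' x' hx' t ht
          obtain ⟨⟨hT'S, hT'fn⟩, hT'card⟩ := hT'
          have hT'N : T' ≤ (S : Subgroup G) ⊓ Subgroup.normalizer ((T' : Subgroup G) : Set G) :=
            le_NS hT'S
          have hc' : Nat.card M < Nat.card T' := lt_of_lt_of_le hcard hT'card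
          have hT'ne : T' ≠ ⊥ := by
            intro h
            rw [h, Subgroup.card_bot] at hc'
            have : 0 < Nat.card M := Nat.card_pos
            omega
          have ht' : x'⁻¹ * t * x' ∈ T' := by
            have := rconj_subset_of_mem_normalizer hx' (le_refl (T' : Set G))
            exact this ⟨t, ht, rfl⟩
          exact IH T' hT'S hT'ne hT'fn (lt_of_lt_of_le hc' (Subgroup.card_le_of_le hT'N)) x' hx' t
            (hT'N ht) (hT'N ht')
      set y' := c * y * c⁻¹ with hy'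
      have hy'N : y' ∈ Subgroup.normalizer ((U' : Subgroup G) : Set G) := by
        rw [hU', normalizer_lc]
        exact conj_mem_lc hy
      have hsub : ∀ b ∈ M, c * b * c⁻¹ ∈
          ((S : Subgroup G) ⊓ Subgroup.normalizer ((U' : Subgroup G) : Set G) : Subgroup G) := by
        intro b hb
        apply hc3
        exact conj_mem_lc (hMNU hb)
      have e0 : y'⁻¹ * (c * a * c⁻¹) * y' = c * (y⁻¹ * a * y) * c⁻¹ := by rw [hy']; group
      have r2 := IH U' hc1 hU'ne hc2 hcard' y' hy'N (c * a * c⁻¹) (hsub a ha)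
        (by rw [e0]; exact hsub _ hya)
      have r1 := rc a (hMNU ha)
      have r3 := rc (y⁻¹ * a * y) (hMNU hya)
      rw [e0] at r2
      simp only [inv_inv] at r1 r3
      have e : a⁻¹ * (y⁻¹ * a * y) = (a⁻¹ * (c * a * c⁻¹)) *
          ((c * a * c⁻¹)⁻¹ * (c * (y⁻¹ * a * y) * c⁻¹)) *
          ((y⁻¹ * a * y)⁻¹ * (c * (y⁻¹ * a * y) * c⁻¹))⁻¹ := by group
      rw [e]
      exact D.mul_mem (D.mul_mem r1 r2) (D.inv_mem r3)
  -- main
  intro x hx a ha hxa
  have hmem : a⁻¹ * (x⁻¹ * a * x) ∈ M ⊓ ⁅N, N⁆ := by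
    refine Subgroup.mem_inf.mpr ⟨M.mul_mem (M.inv_mem ha) hxa, ?_⟩
    have : a⁻¹ * (x⁻¹ * a * x) = ⁅a⁻¹, x⁻¹⁆ := by
      rw [commutatorElement_def]; group
    rw [this]
    exact Subgroup.commutator_mem_commutator (N.inv_mem ha.2) (N.inv_mem hx)
  rw [htr] at hmem
  have hle : ∀ W ∈ 𝓦, M ⊓ ⁅N ⊓ Subgroup.normalizer ((W M : Subgroup G) : Set G),
      N ⊓ Subgroup.normalizer ((W M : Subgroup G) : Set G)⁆ ≤ D := by
    intro W hW
    set LW := N ⊓ Subgroup.normalizer ((W M : Subgroup G) : Set G) with hLW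
    have hMLW : M ≤ LW := le_inf inf_le_right
      (Subgroup.le_normalizer.trans (normalizer_le_normalizer_functor (h𝓦 W hW) hMp))
    have hidxLW : ¬ p ∣ M.relIndex LW := by
      intro h
      apply hTfn
      rw [← Subgroup.relIndex_mul_relIndex M LW N hMLW inf_le_left]
      exact dvd_mul_of_dvd_left h _
    apply relative_focal hMLW hMp hidxLW
    intro b hb y hy hby
    have hyb : y⁻¹⁻¹ * b⁻¹ * y⁻¹ ∈ M := by
      have : y⁻¹⁻¹ * b⁻¹ * y⁻¹ = b⁻¹ * ⁅b, y⁆ := by
        rw [commutatorElement_def]; group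
      rw [this]
      exact M.mul_mem (M.inv_mem hb) hby
    have := sub W hW y⁻¹ (Subgroup.inv_mem _ hy.2) b⁻¹ (M.inv_mem hb) hyb
    have e : b⁻¹⁻¹ * (y⁻¹⁻¹ * b⁻¹ * y⁻¹) = ⁅b, y⁆ := by
      rw [commutatorElement_def]; group
    rwa [e] at this
  exact (iSup₂_le hle) hmem

theorem ftransfer_claim (h𝓦 : ∀ W ∈ 𝓦, IsConjugacyFunctor p W)
    (hloc : ∀ T : Subgroup G, T ≤ (S : Subgroup G) → T ≠ ⊥ →
      ¬ p ∣ ((S : Subgroup G) ⊓ Subgroup.normalizer ((T : Subgroup G) : Set G)).relIndex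
        (Subgroup.normalizer ((T : Subgroup G) : Set G)) →
      FamilyControlsTransferIn p 𝓦 (Subgroup.normalizer ((T : Subgroup G) : Set G))) :
    ∀ (d : ℕ) (T : Subgroup G), T ≤ (S : Subgroup G) → T ≠ ⊥ →
      ¬ p ∣ ((S : Subgroup G) ⊓ Subgroup.normalizer ((T : Subgroup G) : Set G)).relIndex
        (Subgroup.normalizer ((T : Subgroup G) : Set G)) →
      Nat.card (S : Subgroup G) ≤
        Nat.card ((S : Subgroup G) ⊓ Subgroup.normalizer (T : Set G) : Subgroup G) + d →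
      ∀ x ∈ Subgroup.normalizer (T : Set G),
        ∀ a ∈ ((S : Subgroup G) ⊓ Subgroup.normalizer (T : Set G) : Subgroup G),
        x⁻¹ * a * x ∈ ((S : Subgroup G) ⊓ Subgroup.normalizer (T : Set G) : Subgroup G) →
        a⁻¹ * (x⁻¹ * a * x) ∈ famD 𝓦 (S : Subgroup G) := by
  intro d
  induction d with
  | zero =>
    intro T hTS hTne hTfn hcard
    apply ftransfer_step S h𝓦 hloc T hTS hTne hTfn
    intro T' hT'S _ _ hlt
    have := Subgroup.card_le_of_le (inf_le_left :
      (S : Subgroup G) ⊓ Subgroup.normalizer (T' : Set G) ≤ (S : Subgroup G))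
    omega
  | succ d ih =>
    intro T hTS hTne hTfn hcard
    apply ftransfer_step S h𝓦 hloc T hTS hTne hTfn
    intro T' hT'S hT'ne hT'fn hlt
    exact ih T' hT'S hT'ne hT'fn (by omega)

/-- local-to-global for control of transfer by a set of conjugacy functors -/
theorem family_transfer_of_local (h𝓦 : ∀ W ∈ 𝓦, IsConjugacyFunctor p W)
    (hloc : ∀ T : Subgroup G, T ≤ (S : Subgroup G) → T ≠ ⊥ →
      ¬ p ∣ ((S : Subgroup G) ⊓ Subgroup.normalizer ((T : Subgroup G) : Set G)).relIndex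
        (Subgroup.normalizer ((T : Subgroup G) : Set G)) →
      FamilyControlsTransferIn p 𝓦 (Subgroup.normalizer ((T : Subgroup G) : Set G))) :
    FTransAt 𝓦 ⊤ (S : Subgroup G) := by
  have hSp : IsPGroup p (S : Subgroup G) := S.2
  unfold FTransAt
  apply le_antisymm
  · show _ ≤ famD 𝓦 (S : Subgroup G)
    have hfoc := Subgroup.commutator_inf_eq_focalSubgroup S
    have h1 : (S : Subgroup G) ⊓ ⁅(⊤ : Subgroup G), ⊤⁆ = (S : Subgroup G).focalSubgroup := by
      rw [← hfoc, inf_comm]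
      rfl
    rw [h1, Subgroup.focalSubgroup_def, Subgroup.closure_le]
    rintro g ⟨hgS, x, hxS, u, rfl⟩
    have hux : u * x * u⁻¹ ∈ (S : Subgroup G) := by
      have h2 : u * x * u⁻¹ = (x⁻¹ * ⁅x, u⁆)⁻¹ := by
        rw [commutatorElement_def]; group
      rw [h2]
      exact Subgroup.inv_mem _ (Subgroup.mul_mem _ (Subgroup.inv_mem _ hxS) hgS)
    have hA : ({x⁻¹} : Set G) ⊆ ((S : Subgroup G) : Set G) := by
      rintro _ rfl
      exact Subgroup.inv_mem _ hxS
    have hAg : rconj u⁻¹ ({x⁻¹} : Set G) ⊆ ((S : Subgroup G) : Set G) := by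
      rintro _ ⟨a, ha, rfl⟩
      rw [Set.mem_singleton_iff] at ha
      rw [ha]
      have : u⁻¹⁻¹ * x⁻¹ * u⁻¹ = (u * x * u⁻¹)⁻¹ := by group
      show u⁻¹⁻¹ * x⁻¹ * u⁻¹ ∈ (S : Subgroup G)
      rw [this]
      exact Subgroup.inv_mem _ hux
    obtain ⟨L, hL, hprod⟩ := reach_set (fn_reach S) hA hAg
    have hstep : ∀ T ∈ fnFamily p S, ∀ y ∈ Subgroup.normalizer (T : Set G), ∀ t ∈ T,
        t⁻¹ * (y⁻¹ * t * y) ∈ famD 𝓦 (S : Subgroup G) := by
      intro T hT y hy t ht
      by_cases hTne : T = ⊥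
      · rw [hTne, Subgroup.mem_bot] at ht
        subst ht
        simp
      · have hTN : T ≤ (S : Subgroup G) ⊓ Subgroup.normalizer ((T : Subgroup G) : Set G) :=
          le_NS hT.1
        have ht' : y⁻¹ * t * y ∈ T := by
          have := rconj_subset_of_mem_normalizer hy (le_refl (T : Set G))
          exact this ⟨t, ht, rfl⟩
        exact ftransfer_claim S h𝓦 hloc (Nat.card (S : Subgroup G)) T hT.1 hTne hT.2
          (Nat.le_add_left _ _) y hy t (hTN ht) (hTN ht')
    have := transfer_chain hstep hL x⁻¹ rfl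
    rw [hprod] at this
    have e : (x⁻¹)⁻¹ * (u⁻¹⁻¹ * x⁻¹ * u⁻¹) = ⁅x, u⁆ := by
      rw [commutatorElement_def]; group
    rw [e] at this
    exact this
  · refine iSup₂_le (fun W _ => ?_)
    exact inf_le_inf le_rfl (Subgroup.commutator_mono le_top le_top)

end family

end Cfsg.Agent.Lib.Helper41
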