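import Cfsg.Agent.Lib.Helper41.Conj
import Cfsg.Prelude.Def_Transfer
import Mathlib.GroupTheory.Transfer

set_option autoImplicit false

namespace Cfsg.Agent.Lib.Helper41

/-- If `T ⊴ M` lies in a Sylow `p`-subgroup `S` with `C_S(T) ≤ T` and all `p'`-elements of `M`
centralize `T`, then `M` has a normal `p`-complement. -/
theorem hasNormalPComplement_of_centric_normal {M : Type*} [Group M] [Finite M] {p : ℕ}
    [Fact p.Prime] (S : Sylow p M) (T : Subgroup M) [T.Normal]
    (hC : (S : Subgroup M) ⊓ Subgroup.centralizer (T : Set M) ≤ T)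
    (hN : ∀ g : M, (orderOf g).Coprime p → g ∈ Subgroup.centralizer (T : Set M)) :
    Cfsg.HasNormalPComplement p M := by
  classical
  have hp : p.Prime := Fact.out
  set C := Subgroup.centralizer (T : Set M) with hCdef
  have hCn : C.Normal := Subgroup.normal_centralizer
  -- Step 1: M ⧸ C is a p-group
  have hquot : IsPGroup p (M ⧸ C) := by
    intro x
    obtain ⟨m, rfl⟩ := QuotientGroup.mk_surjective x
    obtain ⟨k, r, hr, hn⟩ := Nat.exists_eq_pow_mul_and_not_dvd (orderOf_pos m).ne' p hp.ne_one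
    refine ⟨k, ?_⟩
    rw [← QuotientGroup.mk_pow, QuotientGroup.eq_one_iff]
    apply hN
    have h1 : (m ^ p ^ k) ^ r = 1 := by rw [← pow_mul, ← hn, pow_orderOf_eq_one]
    have hdvd := orderOf_dvd_of_pow_eq_one h1
    exact Nat.Coprime.coprime_dvd_left hdvd ((Nat.Prime.coprime_iff_not_dvd hp).mpr hr).symm
  -- Step 2: a Sylow subgroup of C, central in C
  obtain ⟨D₁⟩ : Nonempty (Sylow p C) := inferInstance
  have hcentral : ∀ d ∈ D₁, ∀ c : C, d * c = c * d := by
    intro d hd c
    obtain ⟨m, hm⟩ := exists_lc_le_sylow S (D₁.2.map C.subtype)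
    have hd' : m * (d : M) * m⁻¹ ∈ (S : Subgroup M) :=
      hm (conj_mem_lc (Subgroup.mem_map_of_mem C.subtype hd))
    have hd'' : m * (d : M) * m⁻¹ ∈ C := hCn.conj_mem _ d.2 m
    have hdT : m * (d : M) * m⁻¹ ∈ T := hC (Subgroup.mem_inf.mpr ⟨hd', hd''⟩)
    have hc' : m * (c : M) * m⁻¹ ∈ C := hCn.conj_mem _ c.2 m
    have hcomm := (Subgroup.mem_centralizer_iff.mp hc') _ hdT
    apply Subtype.ext
    have : m * ((d : M) * c) * m⁻¹ = m * ((c : M) * d) * m⁻¹ := by
      calc m * ((d : M) * c) * m⁻¹ = (m * d * m⁻¹) * (m * c * m⁻¹) := by group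
      _ = (m * c * m⁻¹) * (m * d * m⁻¹) := hcomm
      _ = m * ((c : M) * d) * m⁻¹ := by group
    simpa using this
  have hP : Subgroup.normalizer ((D₁ : Subgroup C) : Set C) ≤
      Subgroup.centralizer ((D₁ : Subgroup C) : Set C) := by
    intro x _
    rw [Subgroup.mem_centralizer_iff]
    intro d hd
    exact hcentral d hd x
  set φ := MonoidHom.transferSylow D₁ hP with hφ
  set K₁ := φ.ker with hK₁
  have hcompl : Subgroup.IsComplement' K₁ (D₁ : Subgroup C) :=
    MonoidHom.ker_transferSylow_isComplement' D₁ hP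
  have hcardC : Nat.card K₁ * Nat.card (D₁ : Subgroup C) = Nat.card C := hcompl.card_mul_card
  -- |K₁| is prime to p
  have hK₁cop : ¬ p ∣ Nat.card K₁ := by
    have h1 := (D₁ : Subgroup C).card_mul_index
    have h2 : Nat.card K₁ = (D₁ : Subgroup C).index := by
      have hpos : 0 < Nat.card (D₁ : Subgroup C) := Nat.card_pos
      apply Nat.eq_of_mul_eq_mul_left hpos
      rw [h1, mul_comm, hcardC]
    rw [h2]
    exact D₁.not_dvd_index
  set K : Subgroup M := K₁.map C.subtype with hK
  have hcardK : Nat.card K = Nat.card K₁ :=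
    Nat.card_congr (K₁.equivMapOfInjective C.subtype C.subtype_injective).symm.toEquiv
  have hKmem : ∀ g : M, g ∈ K ↔ (orderOf g).Coprime p := by
    intro g
    constructor
    · intro hg
      have h1 : orderOf g ∣ Nat.card K := by
        have := orderOf_dvd_natCard (⟨g, hg⟩ : K)
        have e : orderOf (⟨g, hg⟩ : K) = orderOf g := Subgroup.orderOf_mk g hg
        rwa [e] at this
      rw [hcardK] at h1
      exact Nat.Coprime.coprime_dvd_left h1 ((Nat.Prime.coprime_iff_not_dvd hp).mpr hK₁cop).symm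
    · intro hg
      have hgC : g ∈ C := hN g hg
      refine ⟨⟨g, hgC⟩, ?_, rfl⟩
      rw [SetLike.mem_coe, hK₁, MonoidHom.mem_ker]
      obtain ⟨k, hk⟩ := D₁.2 (φ ⟨g, hgC⟩)
      have h1 : orderOf (φ ⟨g, hgC⟩) ∣ p ^ k := orderOf_dvd_of_pow_eq_one hk
      have h2 : orderOf (φ ⟨g, hgC⟩) ∣ orderOf g := by
        have := orderOf_map_dvd φ (⟨g, hgC⟩ : C)
        have e : orderOf (⟨g, hgC⟩ : C) = orderOf g := Subgroup.orderOf_mk g hgC
        rwa [e] at this
      have h3 : (orderOf g).Coprime (p ^ k) := Nat.Coprime.pow_right k hg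
      have := Nat.eq_one_of_dvd_coprimes h3 h2 h1
      exact orderOf_eq_one_iff.mp this
  have hKn : K.Normal := by
    refine ⟨fun k hk g => ?_⟩
    rw [hKmem] at hk ⊢
    have : orderOf (g * k * g⁻¹) = orderOf k := by
      have := (MulAut.conj g).orderOf_eq k
      simpa using this
    rwa [this]
  -- cardinalities
  obtain ⟨a, ha⟩ := IsPGroup.iff_card.mp hquot
  obtain ⟨b, hb⟩ := IsPGroup.iff_card.mp D₁.2
  obtain ⟨c, hc⟩ := IsPGroup.iff_card.mp S.2
  have hM : Nat.card M = p ^ (a + b) * Nat.card K := by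
    rw [Subgroup.card_eq_card_quotient_mul_card_subgroup C, ha, ← hcardC, hb, hcardK, pow_add]
    ring
  have hKcop : (Nat.card K).Coprime p := by
    rw [hcardK]
    exact ((Nat.Prime.coprime_iff_not_dvd hp).mpr hK₁cop).symm
  have hSidx := (S : Subgroup M).card_mul_index
  have hS : Nat.card (S : Subgroup M) = p ^ (a + b) := by
    apply Nat.dvd_antisymm
    · have h1 : Nat.card (S : Subgroup M) ∣ p ^ (a + b) * Nat.card K := by
        rw [← hM]; exact Subgroup.card_subgroup_dvd_card _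
      rw [hc] at h1 ⊢
      exact Nat.Coprime.dvd_of_dvd_mul_right (Nat.Coprime.pow_left c hKcop.symm) h1
    · have h1 : p ^ (a + b) ∣ Nat.card (S : Subgroup M) * (S : Subgroup M).index := by
        rw [hSidx, hM]; exact dvd_mul_right _ _
      have h2 : (p ^ (a + b)).Coprime (S : Subgroup M).index :=
        Nat.Coprime.pow_left _ ((Nat.Prime.coprime_iff_not_dvd hp).mpr S.not_dvd_index)
      exact Nat.Coprime.dvd_of_dvd_mul_right h2 h1
  refine ⟨S, K, hKn, ?_⟩
  apply Subgroup.isComplement'_of_coprime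
  · rw [hS, hM, mul_comm]
  · rw [hS]
    exact Nat.Coprime.pow_right _ hKcop

end Cfsg.Agent.Lib.Helper41
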