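import Cfsg.Agent.Lib.Helper41.SecFusionLemmas

set_option autoImplicit false

namespace Cfsg.Agent.Lib.Helper41

open Cfsg

universe u

section quot

variable {X : Type u} [Group X] [Finite X] {p : ℕ} [Fact p.Prime]
  {𝓦 : Set (∀ (Q : Type u) [Group Q], Subgroup Q)}

/-- control of strong fusion lifts from the quotient by a normal `p'`-subgroup -/
theorem fctrlAt_of_quotient_coprime (h𝓦 : ∀ W ∈ 𝓦, IsCharPFunctor.{u} p W) (S : Sylow p X)
    (K : Subgroup X) [K.Normal] (hK : (Nat.card K).Coprime p) (hgood : GoodF p 𝓦 (X ⧸ K)) :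
    FCtrlAt (indFam 𝓦 X) ⊤ (S : Subgroup X) := by
  have hp : p.Prime := Fact.out
  have hSp : IsPGroup p (S : Subgroup X) := S.2
  set f := QuotientGroup.mk' K with hf
  have hfs : Function.Surjective f := QuotientGroup.mk'_surjective K
  have hSK : (S : Subgroup X) ⊓ K = ⊥ :=
    Cfsg.Agent.Lib.Helper40.isPGroup_inf_coprime_eq_bot _ _ S.2 hK
  have hinj : ∀ t ∈ (S : Subgroup X), f t = 1 → t = 1 := by
    intro t ht h1
    have h2 : t ∈ K := (QuotientGroup.eq_one_iff t).mp h1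
    have : t ∈ (S : Subgroup X) ⊓ K := ⟨ht, h2⟩
    rw [hSK] at this
    exact Subgroup.mem_bot.mp this
  have hFC := fctrlAt_of_controls (isConjugacyFunctor_indFam h𝓦 (X ⧸ K)) hgood
    (M := (S : Subgroup X).map f) le_top (S.2.map f) (not_dvd_relIndex_map_top S f hfs)
  have hSnK : (S : Subgroup X) ≤ Subgroup.normalizer (K : Set X) := by
    rw [Subgroup.normalizer_eq_top]; exact le_top
  have hstep : ∀ ybar ∈ stepSet (indFam 𝓦 (X ⧸ K)) ⊤ ((S : Subgroup X).map f), ∀ A : Set X,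
      A ⊆ (S : Subgroup X) → rconj ybar (f '' A) ⊆ ((S : Subgroup X).map f : Subgroup (X ⧸ K)) →
      ∃ y ∈ stepSet (indFam 𝓦 X) ⊤ (S : Subgroup X), f y = ybar ∧ rconj y A ⊆ (S : Subgroup X) := by
    rintro ybar ⟨_, ⟨W, hW, rfl⟩, -, hyN⟩ A hA hyA
    set E := inducedFunctor (G := X) W (S : Subgroup X) with hE
    have hEmap : inducedFunctor (G := X ⧸ K) W ((S : Subgroup X).map f) = E.map f :=
      inducedFunctor_map_injOn W (h𝓦 W hW) f _ S.2 hinj
    simp only at hyN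
    rw [hEmap] at hyN
    have hEp : IsPGroup p E := S.2.to_le (inducedFunctor_le W _)
    obtain ⟨y₁, hy₁N, rfl⟩ := exists_lift_normalizer_of_coprime K hK hEp ybar hyN
    set N := Subgroup.normalizer (E : Set X) with hN
    have hSN : (S : Subgroup X) ≤ N :=
      Subgroup.le_normalizer.trans (le_normalizer_inducedFunctor W (h𝓦 W hW) _ S.2)
    set B := Subgroup.closure A with hB
    have hBS : B ≤ (S : Subgroup X) := (Subgroup.closure_le _).mpr hA
    set Q := lc y₁⁻¹ B with hQ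
    have hQp : IsPGroup p Q := isPGroup_lc (hSp.to_le hBS)
    have hQN : Q ≤ N := by
      calc Q ≤ lc y₁⁻¹ N := lc_mono (hBS.trans hSN)
        _ = N := lc_eq_self_of_mem (N.inv_mem hy₁N)
    have hBcomap : B ≤ ((S : Subgroup X).map f).comap (f.comp (MulAut.conj y₁⁻¹).toMonoidHom) := by
      rw [hB, Subgroup.closure_le]
      intro a ha
      rw [SetLike.mem_coe, Subgroup.mem_comap]
      have h1 := hyA ⟨f a, ⟨a, ha, rfl⟩, rfl⟩
      simp only [MonoidHom.coe_comp, MulEquiv.coe_toMonoidHom, Function.comp_apply,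
        MulAut.conj_apply, inv_inv, map_mul, map_inv]
      exact h1
    have hQSK : Q ≤ K ⊔ (S : Subgroup X) := by
      rintro q ⟨b, hb, rfl⟩
      have h1 := hBcomap hb
      rw [Subgroup.mem_comap] at h1
      have h2 : (MulAut.conj y₁⁻¹).toMonoidHom b ∈ ((S : Subgroup X).map f).comap f := h1
      rw [Subgroup.comap_map_eq, QuotientGroup.ker_mk', sup_comm] at h2
      exact h2
    set D := N ⊓ K with hD
    have hQDS : Q ≤ D ⊔ (S : Subgroup X) := by
      intro q hq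
      obtain ⟨k, hk, s, hs, hqks⟩ := (mem_sup_of_le_normalizer hSnK).mp (hQSK hq)
      have hkN : k ∈ N := by
        have : k = q * s⁻¹ := by rw [hqks]; group
        rw [this]
        exact N.mul_mem (hQN hq) (N.inv_mem (hSN hs))
      rw [hqks]
      exact Subgroup.mul_mem _ (Subgroup.mem_sup_left ⟨hkN, hk⟩) (Subgroup.mem_sup_right hs)
    have hSD : (S : Subgroup X) ≤ Subgroup.normalizer (D : Set X) := by
      intro s hs
      rw [mem_normalizer_iff_lc, hD, lc_inf, lc_eq_self_of_mem (hSN hs), lc_eq_of_normal]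
    have hidx : ¬ p ∣ (S : Subgroup X).relIndex (D ⊔ (S : Subgroup X)) := by
      intro h
      exact S.not_dvd_index (h.trans (Subgroup.relIndex_dvd_index_of_le le_sup_right))
    obtain ⟨d, hd, hdQ⟩ := sylow_conj_normal_factor hSp hSD hidx hQp hQDS
    refine ⟨y₁ * d⁻¹, ⟨inducedFunctor (G := X) W, ⟨W, hW, rfl⟩,
      ⟨trivial, N.mul_mem hy₁N (N.inv_mem hd.1)⟩⟩, ?_, ?_⟩
    · rw [map_mul, map_inv]
      have : f d = 1 := (QuotientGroup.eq_one_iff d).mpr hd.2
      rw [this, inv_one, mul_one]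
    · rintro _ ⟨a, ha, rfl⟩
      apply hdQ
      rw [mem_lc]
      have e : d⁻¹ * ((y₁ * d⁻¹)⁻¹ * a * (y₁ * d⁻¹)) * d = y₁⁻¹ * a * y₁⁻¹⁻¹ := by group
      rw [e]
      exact conj_mem_lc (Subgroup.subset_closure ha)
  intro A x _ hA hxA
  have hAbar : f '' A ⊆ ((S : Subgroup X).map f : Subgroup (X ⧸ K)) := by
    rintro _ ⟨a, ha, rfl⟩; exact ⟨a, hA ha, rfl⟩
  have hxAbar : rconj (f x) (f '' A) ⊆ ((S : Subgroup X).map f : Subgroup (X ⧸ K)) := by
    rw [← image_rconj]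
    rintro _ ⟨a, ha, rfl⟩; exact ⟨a, hxA ha, rfl⟩
  obtain ⟨Lbar, hLbar, hag⟩ := hFC (f '' A) (f x) trivial hAbar hxAbar
  obtain ⟨L, hLmap, hL⟩ := fchain_lift f hstep Lbar A hA hLbar
  refine ⟨L, hL, fun a ha => ?_⟩
  have h1 : L.prod⁻¹ * a * L.prod ∈ (S : Subgroup X) := hL.subset_final ⟨a, ha, rfl⟩
  have h2 : x⁻¹ * a * x ∈ (S : Subgroup X) := hxA ⟨a, ha, rfl⟩
  have h3 : f (L.prod⁻¹ * a * L.prod) = f (x⁻¹ * a * x) := by
    have := hag (f a) ⟨a, ha, rfl⟩
    rw [map_mul, map_mul, map_inv, map_list_prod, hLmap, this]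
    simp
  have h4 : (L.prod⁻¹ * a * L.prod)⁻¹ * (x⁻¹ * a * x) ∈ (S : Subgroup X) ⊓ K := by
    refine ⟨Subgroup.mul_mem _ (Subgroup.inv_mem _ h1) h2, ?_⟩
    apply (QuotientGroup.eq_one_iff _).mp
    show f _ = 1
    rw [map_mul, map_inv, h3, inv_mul_cancel]
  rw [hSK, Subgroup.mem_bot] at h4
  exact inv_mul_eq_one.mp h4

/-- the case `X = C_X(P) S`: control of strong fusion in `X / P` and in the proper subgroups containing
`S` gives control of strong fusion in `X` -/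
theorem fctrlAt_of_quotient_pgroup (h𝓦 : ∀ W ∈ 𝓦, IsCharPFunctor.{u} p W) (S : Sylow p X)
    (P : Subgroup X) [P.Normal] (hPS : P ≤ (S : Subgroup X))
    (hX : Subgroup.centralizer (P : Set X) ⊔ (S : Subgroup X) = ⊤)
    (hgood : GoodF p 𝓦 (X ⧸ P)) (hStop : (S : Subgroup X) ≠ ⊤)
    (hMne : ∀ W ∈ 𝓦, Subgroup.normalizer (((inducedFunctor (G := X ⧸ P) W
      ((S : Subgroup X).map (QuotientGroup.mk' P))).comap (QuotientGroup.mk' P) : Subgroup X) : Set X) ≠ ⊤)
    (hsub : ∀ H : Subgroup X, (S : Subgroup X) ≤ H → H ≠ ⊤ → FCtrlAt (indFam 𝓦 X) H (S : Subgroup X)) :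
    FCtrlAt (indFam 𝓦 X) ⊤ (S : Subgroup X) := by
  set f := QuotientGroup.mk' P with hf
  have hfs : Function.Surjective f := QuotientGroup.mk'_surjective P
  have hFC := fctrlAt_of_controls (isConjugacyFunctor_indFam h𝓦 (X ⧸ P)) hgood
    (M := (S : Subgroup X).map f) le_top (S.2.map f) (not_dvd_relIndex_map_top S f hfs)
  set Kst := stepSet (indFam 𝓦 X) ⊤ (S : Subgroup X) with hKst
  set KP : Set X := {y | ∃ W ∈ 𝓦, y ∈ Subgroup.normalizer (((inducedFunctor (G := X ⧸ P) W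
      ((S : Subgroup X).map f)).comap f : Subgroup X) : Set X)} with hKP
  have hcomapS : ((S : Subgroup X).map f).comap f = (S : Subgroup X) := by
    rw [Subgroup.comap_map_eq, QuotientGroup.ker_mk', sup_of_le_left hPS]
  have hbind : ∀ y ∈ KP, ∀ B : Set X, B ⊆ (S : Subgroup X) → rconj y B ⊆ (S : Subgroup X) →
      FReach Kst (S : Subgroup X) B y := by
    rintro y ⟨W, hW, hy⟩ B hB hyB
    have h1 := hsub _ (le_normalizer_comap_induced W (h𝓦 W hW) S P) (hMne W hW)
    exact (h1 B y hy hB hyB).weaken (stepSet_mono le_top) le_rfl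
  have hS : ∀ s ∈ (S : Subgroup X), ∀ B : Set X, B ⊆ (S : Subgroup X) →
      FReach Kst (S : Subgroup X) B s := by
    intro s hs B hB
    have h1 := hsub _ le_rfl hStop
    refine (h1 B s hs hB ?_).weaken (stepSet_mono le_top) le_rfl
    rintro _ ⟨b, hb, rfl⟩
    exact Subgroup.mul_mem _ (Subgroup.mul_mem _ (Subgroup.inv_mem _ hs) (hB hb)) hs
  have hstep : ∀ ybar ∈ stepSet (indFam 𝓦 (X ⧸ P)) ⊤ ((S : Subgroup X).map f), ∀ A : Set X,
      A ⊆ (S : Subgroup X) → rconj ybar (f '' A) ⊆ ((S : Subgroup X).map f : Subgroup (X ⧸ P)) →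
      ∃ y ∈ KP, f y = ybar ∧ rconj y A ⊆ (S : Subgroup X) := by
    rintro ybar ⟨_, ⟨W, hW, rfl⟩, -, hyN⟩ A hA hyA
    obtain ⟨y, rfl⟩ := hfs ybar
    refine ⟨y, ⟨W, hW, ?_⟩, rfl, ?_⟩
    · rw [← Subgroup.comap_normalizer_eq_of_surjective _ hfs, Subgroup.mem_comap]
      exact hyN
    · rintro _ ⟨a, ha, rfl⟩
      have h1 : f (y⁻¹ * a * y) ∈ (S : Subgroup X).map f := by
        apply hyA
        exact ⟨f a, ⟨a, ha, rfl⟩, by simp⟩
      have h2 : y⁻¹ * a * y ∈ ((S : Subgroup X).map f).comap f := h1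
      rw [hcomapS] at h2
      exact h2
  have hmod : ∀ B : Subgroup X, P ≤ B → B ≤ (S : Subgroup X) → ∀ x : X,
      lc x⁻¹ B ≤ (S : Subgroup X) →
      ∃ y, FReach Kst (S : Subgroup X) (B : Set X) y ∧
        ∀ b ∈ B, (y⁻¹ * b * y)⁻¹ * (x⁻¹ * b * x) ∈ P := by
    intro B _ hBS x hxB
    have hBbar : f '' (B : Set X) ⊆ ((S : Subgroup X).map f : Subgroup (X ⧸ P)) := by
      rintro _ ⟨b, hb, rfl⟩; exact ⟨b, hBS hb, rfl⟩
    have hxBbar : rconj (f x) (f '' (B : Set X)) ⊆ ((S : Subgroup X).map f : Subgroup (X ⧸ P)) := by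
      rw [← image_rconj, rconj_coe]
      rintro _ ⟨b, hb, rfl⟩; exact ⟨b, hxB hb, rfl⟩
    obtain ⟨Lbar, hLbar, hag⟩ := hFC (f '' (B : Set X)) (f x) trivial hBbar hxBbar
    obtain ⟨L, hLmap, hL⟩ := fchain_lift f hstep Lbar (B : Set X) hBS hLbar
    have r : FReach KP (S : Subgroup X) (B : Set X) L.prod := ⟨L, hL, fun _ _ => rfl⟩
    refine ⟨L.prod, freach_bind r hbind le_rfl, fun b hb => ?_⟩
    apply (QuotientGroup.eq_one_iff _).mp
    show f _ = 1
    have := hag (f b) ⟨b, hb, rfl⟩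
    have e : f ((L.prod⁻¹ * b * L.prod)⁻¹ * (x⁻¹ * b * x)) =
        (Lbar.prod⁻¹ * f b * Lbar.prod)⁻¹ * ((f x)⁻¹ * f b * f x) := by
      simp only [map_mul, map_inv, map_list_prod, hLmap]
    rw [e, this]
    group
  intro A x _ hA hxA
  exact freach_of_mod S hPS hX stepSet_inv hS hmod A x hA hxA

end quot

section main

variable {p : ℕ} [Fact p.Prime] {𝓦 : Set (∀ (Q : Type u) [Group Q], Subgroup Q)}

/-- the hypothesis on constrained sections in the fusion theorems -/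
def ConstrainedF (p : ℕ) (𝓦 : Set (∀ (Q : Type u) [Group Q], Subgroup Q)) (Y : Type u) [Group Y] :
    Prop :=
  Subgroup.centralizer ((pCore p Y : Subgroup Y) : Set Y) ≤ pCore p Y → GoodF p 𝓦 Y

theorem secF_step (h𝓦 : ∀ W ∈ 𝓦, IsCharPFunctor.{u} p W) (X : Type u) [Group X] [Finite X]
    (hΦ : ConstrainedF p 𝓦 X) (hsub : ∀ H : Subgroup X, H ≠ ⊤ → GoodF p 𝓦 ↥H)
    (hquot : ∀ (M : Subgroup X) [M.Normal], M ≠ ⊥ → GoodF p 𝓦 (X ⧸ M)) : GoodF p 𝓦 X := by
  have hp : p.Prime := Fact.out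
  obtain ⟨S⟩ : Nonempty (Sylow p X) := inferInstance
  have h𝓦X := isConjugacyFunctor_indFam h𝓦 X
  suffices hmain : FCtrlAt (indFam 𝓦 X) ⊤ (S : Subgroup X) from controls_of_fctrlAt S hmain
  have hsubF : ∀ H : Subgroup X, (S : Subgroup X) ≤ H → H ≠ ⊤ →
      FCtrlAt (indFam 𝓦 X) H (S : Subgroup X) := by
    intro H hSH hH
    have h1 := GoodF.subgroup h𝓦 H (hsub H hH)
    have hidx : ¬ p ∣ (S : Subgroup X).relIndex H := fun h =>
      S.not_dvd_index (h.trans (Subgroup.relIndex_dvd_index_of_le hSH))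
    exact fctrlAt_of_controls h𝓦X h1 hSH S.2 hidx
  by_cases hK : pPrimeCore p X = ⊥
  swap
  · haveI : (pPrimeCore p X).Characteristic := Cfsg.Agent.Lib.Helper40.pPrimeCore_characteristic p X
    haveI : (pPrimeCore p X).Normal := inferInstance
    exact fctrlAt_of_quotient_coprime h𝓦 S (pPrimeCore p X)
      (Cfsg.Agent.Lib.Helper40.pPrimeCore_card_coprime' p X) (hquot _ hK)
  haveI hPn := pCore_normal' (X := X) p
  set P := pCore p X with hP
  have hPS : P ≤ (S : Subgroup X) := Cfsg.Agent.Lib.Helper40.pCore_le_sylow' S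
  have hmax : ∀ Q : Subgroup X, Q.Normal → IsPGroup p Q → Q ≤ P :=
    fun Q hQn hQp => Cfsg.Agent.Lib.Helper40.le_pCore' hQn hQp
  by_cases hPb : P = ⊥
  · have hloc : ∀ T : Subgroup X, T ≤ (S : Subgroup X) → T ≠ ⊥ →
        ¬ p ∣ ((S : Subgroup X) ⊓ Subgroup.normalizer ((T : Subgroup X) : Set X)).relIndex
          (Subgroup.normalizer ((T : Subgroup X) : Set X)) →
        FamilyControlsStrongFusionIn p (indFam 𝓦 X)
          (Subgroup.normalizer ((T : Subgroup X) : Set X)) := by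
      intro T hTS hTne _
      apply GoodF.subgroup h𝓦
      apply hsub
      intro htop
      have hTn : T.Normal := Subgroup.normalizer_eq_top_iff.mp htop
      have := hmax T hTn (S.2.to_le hTS)
      rw [hPb] at this
      exact hTne (eq_bot_iff.mpr this)
    intro A x _ hA hxA
    exact family_controls_of_local S h𝓦X hloc A hA x hxA
  by_cases hcon : Subgroup.centralizer (P : Set X) ≤ P
  · exact fctrlAt_of_controls h𝓦X (hΦ hcon) le_top S.2 (sylow_relIndex_top S)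
  · have hSP : (S : Subgroup X) ≠ P := by
      intro hSP
      haveI : (S : Subgroup X).Normal := hSP ▸ hPn
      have := Cfsg.Agent.Lib.Helper40.centralizer_le_of_normal_sylow S hK
      rw [hSP] at this
      exact hcon this
    set C := Subgroup.centralizer (P : Set X) with hC
    have hG₁ : Subgroup.normalizer (((S : Subgroup X) ⊓ (P ⊔ C) : Subgroup X) : Set X) ≠ ⊤ := by
      intro htop
      exact hcon (centralizer_le_of_normalizer_eq_top S hK hmax htop)
    have hSG₁ : (S : Subgroup X) ≤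
        Subgroup.normalizer (((S : Subgroup X) ⊓ (P ⊔ C) : Subgroup X) : Set X) := by
      haveI : C.Normal := Subgroup.normal_centralizer
      exact le_normalizer_inf_of_normal _ (P ⊔ C)
    by_cases hG₂ : C ⊔ (S : Subgroup X) = ⊤
    · have hStop : (S : Subgroup X) ≠ ⊤ := by
        intro hS
        apply hSP
        apply le_antisymm _ hPS
        apply hmax _ (hS ▸ inferInstance) S.2
      exact fctrlAt_of_quotient_pgroup h𝓦 S P hPS hG₂ (hquot P hPb) hStop
        (fun W hW => normalizer_comap_induced_ne_top W (h𝓦 W hW) S hSP) hsubF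
    · exact fctrlAt_of_split S hPS (hsubF _ hSG₁ hG₁) (hsubF _ le_sup_right hG₂)

/-- **Main theorem on control of strong fusion in sections.** -/
theorem secF_main (h𝓦 : ∀ W ∈ 𝓦, IsCharPFunctor.{u} p W) (G : Type u) [Group G] [Finite G]
    (h : SecAll (ConstrainedF p 𝓦) G) : SecAll (GoodF p 𝓦) G :=
  sec_induction' (fun _ _ _ _ _ e hY => GoodF.of_equiv h𝓦 e hY) (secF_step h𝓦) G h

end main

end Cfsg.Agent.Lib.Helper41
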