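import Mathlib
import Cfsg.Agent.S1407
import Cfsg.Agent.Lib.Helper13.BG12A
import Cfsg.Agent.Lib.Helper31.BG134Defs
import Cfsg.Agent.Lib.Helper55.SylowIn

/-!
# K-S1428-Z (INPUT Z, from S1407): `S ⊓ C(U)` is cyclic for a `p`-subgroup `S` of `H_α` and a
subgroup `U` of `H` of prime order `u ∈ τ₁(H)`
-/

set_option autoImplicit false

namespace Cfsg.Agent.Lib.Helper41.BG134

open Cfsg Cfsg.Agent.Lib.Helper55

/-- in a finite cyclic group, two subgroups of the same order are equal -/
theorem z_eq_of_card_eq_of_isCyclic {T : Type*} [Group T] [Finite T] [IsCyclic T]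
    (A B : Subgroup T) (h : Nat.card A = Nat.card B) : A = B := by
  classical
  haveI : Fintype T := Fintype.ofFinite T
  set n := Nat.card A with hn
  have hn0 : 0 < n := Nat.card_pos
  have hF : (Finset.univ.filter (fun a : T => a ^ n = 1)).card ≤ n := IsCyclic.card_pow_eq_one_le hn0
  have key : ∀ C : Subgroup T, Nat.card C = n →
      (Finset.univ.filter (fun a : T => a ∈ C)) = Finset.univ.filter (fun a : T => a ^ n = 1) := by
    intro C hC
    apply Finset.eq_of_subset_of_card_le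
    · intro a ha
      rw [Finset.mem_filter] at ha ⊢
      refine ⟨ha.1, ?_⟩
      have : (⟨a, ha.2⟩ : C) ^ Nat.card C = 1 := pow_card_eq_one'
      rw [hC] at this
      exact congrArg Subtype.val this
    · refine hF.trans (le_of_eq ?_)
      rw [← hC, Nat.card_eq_fintype_card, Fintype.card_subtype]
  have hA := key A rfl
  have hB := key B h.symm
  ext a
  have h1 : a ∈ Finset.univ.filter (fun a : T => a ∈ A) ↔ a ∈ Finset.univ.filter (fun a : T => a ∈ B) := by
    rw [hA, hB]
  simpa using h1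

/-- in a cyclic subgroup `T` of a finite group, two subgroups of `T` of the same order are equal -/
theorem z_eq_of_le_cyclic {G : Type*} [Group G] [Finite G] {T A B : Subgroup G}
    (hT : IsCyclic ↥T) (hA : A ≤ T) (hB : B ≤ T) (h : Nat.card A = Nat.card B) : A = B := by
  have h1 : Nat.card (A.subgroupOf T) = Nat.card (B.subgroupOf T) := by
    rw [Nat.card_congr (Subgroup.subgroupOfEquivOfLe hA).toEquiv,
      Nat.card_congr (Subgroup.subgroupOfEquivOfLe hB).toEquiv, h]
  have h2 := z_eq_of_card_eq_of_isCyclic _ _ h1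
  rw [Subgroup.subgroupOf_inj, inf_of_le_left hA, inf_of_le_left hB] at h2
  exact h2

variable {G : Type*} [Group G] [Finite G]

/-- KEYSTONE 142811  K-S1428-Z  (INPUT Z, from S1407). -/
theorem isCyclic_inf_centralizer_of_tau1 (hG : IsMinSimpleOddOrder G) {H : Subgroup G}
    (hH : IsCoatom H) {u : ℕ} (hu : u ∈ tau1 H) {U : Subgroup G} (hUH : U ≤ H)
    (hUc : Nat.card U = u) {p : ℕ} [Fact p.Prime] {S : Subgroup G} (hS : S ≤ alphaCore H)
    (hSp : IsPGroup p S) : IsCyclic ↥(S ⊓ Subgroup.centralizer (U : Set G)) := by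
  by_cases hα : alphaCore H = ⊥
  · have hS' : S = ⊥ := by rw [hα] at hS; exact le_bot_iff.mp hS
    have : S ⊓ Subgroup.centralizer (U : Set G) = ⊥ := by rw [hS', bot_inf_eq]
    rw [this]
    infer_instance
  obtain ⟨hup, huσ, hudvd, -, hrank⟩ := hu
  haveI : Fact u.Prime := ⟨hup⟩
  have hUp : IsPGroup u U := IsPGroup.of_card (n := 1) (by rw [hUc, pow_one])
  have hU1 : U ≠ ⊥ := by
    intro h
    rw [h, Subgroup.card_bot] at hUc
    exact hup.one_lt.ne' hUc.symm
  have hu2 : u ≠ 2 := ms_prime_ne_two hG hUp hU1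
  -- a Sylow `u`-subgroup of `H` containing `U`
  obtain ⟨P, hP⟩ := (hUp.comap_subtype : IsPGroup u (U.subgroupOf H)).exists_le_sylow
  set T : Subgroup G := (P : Subgroup H).map H.subtype with hT
  have hTs : IsSylowIn u H T := isSylowIn_of_sylow P
  have hUT : U ≤ T := by
    intro y hy
    have hyH : y ∈ H := hUH hy
    have : (⟨y, hyH⟩ : H) ∈ U.subgroupOf H := by rw [Subgroup.mem_subgroupOf]; exact hy
    exact ⟨⟨y, hyH⟩, hP this, rfl⟩
  have hTc : IsCyclic ↥T := Cfsg.Agent.Lib.Helper13.BG12.isCyclic_of_pRankLE_one hu2 hrank hTs.1 hTs.2.1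
  obtain ⟨x, hxmem, hxord, hZ, -⟩ := Cfsg.Agent.S1407.result hG H hH hα u hudvd huσ P
  have hxT : x ∈ T := by
    obtain ⟨z, hz, rfl⟩ := hxmem
    obtain ⟨w, -, rfl⟩ := hz
    exact ⟨(w : H), w.2, rfl⟩
  have hzx : Subgroup.zpowers x ≤ T := by
    rw [Subgroup.zpowers_le]; exact hxT
  have hcard : Nat.card (Subgroup.zpowers x) = Nat.card U := by
    rw [Nat.card_zpowers, hxord, hUc]
  have hUx : Subgroup.zpowers x = U := z_eq_of_le_cyclic hTc hzx hUT hcard
  have hcent : Subgroup.centralizer (U : Set G) = Subgroup.centralizer ({x} : Set G) := by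
    rw [← hUx, Subgroup.zpowers_eq_closure, Subgroup.centralizer_closure]
  rw [hcent]
  set Zg : Subgroup G := alphaCore H ⊓ Subgroup.centralizer ({x} : Set G) with hZg
  have hle : S ⊓ Subgroup.centralizer ({x} : Set G) ≤ Zg := inf_le_inf_right _ hS
  have hp' : IsPGroup p ↥((S ⊓ Subgroup.centralizer ({x} : Set G)).subgroupOf Zg) :=
    (hSp.to_le inf_le_left).comap_subtype
  haveI : IsZGroup ↥Zg := hZ
  have hcyc : IsCyclic ↥((S ⊓ Subgroup.centralizer ({x} : Set G)).subgroupOf Zg) :=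
    hp'.isCyclic_of_isZGroup
  exact (Subgroup.subgroupOfEquivOfLe hle).isCyclic.mp hcyc

end Cfsg.Agent.Lib.Helper41.BG134
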