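import Mathlib

/-!
# S3928 (bounded order from few inverted odd-order elements): shared definitions

`Γ` plays the role of the semidirect product `G ⋊ ⟨α⟩`, `a` the involution `α`.
-/

set_option autoImplicit false

namespace Cfsg.Agent.Lib.Helper41.InvB

/-- odd-order elements inverted by `a` (under conjugation). -/
def TG {Γ : Type*} [Group Γ] (a : Γ) : Set Γ := {g | Odd (orderOf g) ∧ a * g * a⁻¹ = g⁻¹}

/-- `a * a = 1` and `Γ` is generated by `TG a` together with `a`. -/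
def Gen {Γ : Type*} [Group Γ] (a : Γ) : Prop :=
  a * a = 1 ∧ Subgroup.closure (TG a ∪ {a}) = ⊤

/-- minimal normal subgroup. -/
def IsMinNormal {Γ : Type*} [Group Γ] (N : Subgroup Γ) : Prop :=
  N.Normal ∧ N ≠ ⊥ ∧ ∀ M : Subgroup Γ, M.Normal → M ≤ N → M = ⊥ ∨ M = N

/-- two different members of `TG a` in one coset of `N`: passing to `Γ ⧸ N` loses members of `TG`. -/
def Drop {Γ : Type*} [Group Γ] (a : Γ) (N : Subgroup Γ) : Prop :=
  ∃ t ∈ TG a, ∃ t' ∈ TG a, t ≠ t' ∧ t⁻¹ * t' ∈ N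

/-- conjugate subgroup `γ S γ⁻¹`. -/
def conjS {Γ : Type*} [Group Γ] (γ : Γ) (S : Subgroup Γ) : Subgroup Γ :=
  S.map (MulAut.conj γ).toMonoidHom

/-- the bound for a non-central minimal normal subgroup. -/
def beta (m : ℕ) : ℕ :=
  m ^ m + m ^ (2 * m) + (m.factorial) ^ (1 + m * (2 * m)) + (2 * m.factorial ^ 2).factorial

theorem one_mem_TG {Γ : Type*} [Group Γ] (a : Γ) : (1 : Γ) ∈ TG a := by
  refine ⟨by simp, by simp⟩

theorem inv_mem_TG {Γ : Type*} [Group Γ] {a g : Γ} (hg : g ∈ TG a) : g⁻¹ ∈ TG a := by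
  obtain ⟨h1, h2⟩ := hg
  refine ⟨by simpa using h1, ?_⟩
  have : a * g⁻¹ * a⁻¹ = (a * g * a⁻¹)⁻¹ := by group
  rw [this, h2]

theorem pow_mem_TG {Γ : Type*} [Group Γ] {a g : Γ} (hg : g ∈ TG a) (k : ℕ) : g ^ k ∈ TG a := by
  obtain ⟨h1, h2⟩ := hg
  refine ⟨?_, ?_⟩
  · exact Odd.of_dvd_nat h1 (orderOf_pow_dvd k)
  · have : a * g ^ k * a⁻¹ = (a * g * a⁻¹) ^ k := by
      rw [conj_pow]
    rw [this, h2, inv_pow]

theorem mem_TG_iff {Γ : Type*} [Group Γ] {a g : Γ} :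
    g ∈ TG a ↔ Odd (orderOf g) ∧ a * g * a⁻¹ = g⁻¹ := Iff.rfl

theorem mem_conjS_iff {Γ : Type*} [Group Γ] {γ x : Γ} {S : Subgroup Γ} :
    x ∈ conjS γ S ↔ γ⁻¹ * x * γ ∈ S := by
  unfold conjS
  constructor
  · rintro ⟨y, hy, rfl⟩
    have : γ⁻¹ * (MulAut.conj γ).toMonoidHom y * γ = y := by
      simp only [MulEquiv.toMonoidHom_eq_coe, MonoidHom.coe_coe, MulAut.conj_apply]
      group
    rw [this]; exact hy
  · intro h
    refine ⟨γ⁻¹ * x * γ, h, ?_⟩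
    simp [MulAut.conj_apply, mul_assoc]

theorem conjS_mul {Γ : Type*} [Group Γ] (γ δ : Γ) (S : Subgroup Γ) :
    conjS (γ * δ) S = conjS γ (conjS δ S) := by
  ext x
  simp only [mem_conjS_iff]
  have : (γ * δ)⁻¹ * x * (γ * δ) = δ⁻¹ * (γ⁻¹ * x * γ) * δ := by group
  rw [this]

theorem conjS_one {Γ : Type*} [Group Γ] (S : Subgroup Γ) : conjS 1 S = S := by
  ext x
  simp [mem_conjS_iff]

end Cfsg.Agent.Lib.Helper41.InvB
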