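import Mathlib
import Cfsg.Prelude.Def_Solvable
import Cfsg.Prelude.Def_Local
import Cfsg.Prelude.Def_SolvableStructure

/-!
# Definitions for S4394 (`p`-length one for Sylow subgroups of Schmidt type), architect helper41

* `zIn Q`      : the centre of the subgroup `Q`, as a subgroup of the ambient group.
* `SchmidtIn`  : the intrinsic properties of the nonabelian normal Sylow subgroup of a minimal
                 non-nilpotent group that the main argument uses.
* `OpData`     : a `p`-subgroup `P` with an `r`-subgroup `K` acting on it as the complement of a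
                 minimal non-nilpotent group does.
* `WCtx`       : the context of the main argument (a minimal counterexample situation).
-/

set_option autoImplicit false

namespace Cfsg.Agent.Lib.Helper41.SchmidtPL

open scoped commutatorElement

/-- the centre of the subgroup `Q`, as a subgroup of the ambient group -/
def zIn {W : Type*} [Group W] (Q : Subgroup W) : Subgroup W :=
  Q ⊓ Subgroup.centralizer (Q : Set W)

theorem mem_zIn {W : Type*} [Group W] {Q : Subgroup W} {z : W} :
    z ∈ zIn Q ↔ z ∈ Q ∧ ∀ x ∈ Q, x * z = z * x := by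
  unfold zIn
  rw [Subgroup.mem_inf, Subgroup.mem_centralizer_iff]
  rfl

/-- the properties of a nonabelian normal Sylow `p`-subgroup of a minimal non-nilpotent group
which are used in the proof of `p`-length one; all of them are intrinsic to `Q`
(`⁅x, y⁆ = x * y * x⁻¹ * y⁻¹`). -/
structure SchmidtIn (p : ℕ) {W : Type*} [Group W] (Q : Subgroup W) : Prop where
  nonab : ∃ x ∈ Q, ∃ y ∈ Q, x * y ≠ y * x
  class2 : ∀ x ∈ Q, ∀ y ∈ Q, ⁅x, y⁆ ∈ zIn Q
  camina : ∀ x ∈ Q, x ∉ zIn Q → ∀ z ∈ zIn Q, ∃ g ∈ Q, ⁅x, g⁆ = z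
  expZ : ∀ z ∈ zIn Q, z ^ p = 1
  small : Nat.card Q = p ^ 3 → p ≠ 3 ∧ (p = 2 → ∀ x ∈ Q, x ∉ zIn Q → x ^ 2 ≠ 1)

/-- `K` (an `r`-group) acts on `P` (a `p`-group) by conjugation inside `X` in the way the
complement of a minimal non-nilpotent group acts on the normal Sylow subgroup: not trivially, but
every proper "sub-pair" `(P0, K0)` (with `K0` normalizing `P0`) commutes elementwise. -/
structure OpData (p r : ℕ) {X : Type*} [Group X] (P K : Subgroup X) : Prop where
  hP : IsPGroup p P
  hK : IsPGroup r K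
  hr : r.Prime
  hrp : r ≠ p
  norm : ∀ k ∈ K, ∀ x ∈ P, k * x * k⁻¹ ∈ P
  nontriv : ∃ k ∈ K, ∃ x ∈ P, k * x ≠ x * k
  sub : ∀ P0 K0 : Subgroup X, P0 ≤ P → K0 ≤ K → (∀ k ∈ K0, ∀ x ∈ P0, k * x * k⁻¹ ∈ P0) →
    (P0 ≠ P ∨ K0 ≠ K) → ∀ k ∈ K0, ∀ x ∈ P0, k * x = x * k

/-- the situation of the main argument: `Q` a `p`-subgroup of Schmidt type containing
`H = O_p(W)`, `C_W(H) ≤ H`, and `Q ≠ H`. -/
structure WCtx (p : ℕ) {W : Type*} [Group W] (Q : Subgroup W) : Prop where
  hQ : IsPGroup p Q
  le : Cfsg.pCore p W ≤ Q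
  cent : Subgroup.centralizer (Cfsg.pCore p W : Set W) ≤ Cfsg.pCore p W
  schm : SchmidtIn p Q
  lt : ¬ Q ≤ Cfsg.pCore p W

/-- `Y`: the normal closure in `W` of the centre of `Q`. -/
def yOf {W : Type*} [Group W] (Q : Subgroup W) : Subgroup W :=
  Subgroup.normalClosure (zIn Q : Set W)

end Cfsg.Agent.Lib.Helper41.SchmidtPL
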