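import Mathlib.GroupTheory.Sylow
import Mathlib.GroupTheory.QuotientGroup.Basic
import Mathlib.GroupTheory.Commutator.Basic

set_option autoImplicit false

namespace Cfsg.Agent.Lib.Helper41

universe u

/-- the property `Φ` holds in every section `K / R` of `X` -/
def SecAll (Φ : ∀ (Y : Type u) [Group Y], Prop) (X : Type u) [Group X] : Prop :=
  ∀ (K R : Subgroup X) [(R.subgroupOf K).Normal], Φ (↥K ⧸ R.subgroupOf K)

/-- `Φ` is invariant under isomorphisms (of finite groups) -/
def IsoInv (Φ : ∀ (Y : Type u) [Group Y], Prop) : Prop :=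
  ∀ (Y Z : Type u) [Group Y] [Group Z] [Finite Y], (Y ≃* Z) → Φ Y → Φ Z

section

variable {Φ : ∀ (Y : Type u) [Group Y], Prop}

theorem SecAll.top (hΦ : IsoInv Φ) {X : Type u} [Group X] [Finite X] (h : SecAll Φ X) : Φ X := by
  have h1 := h ⊤ ⊥
  have hb : (⊥ : Subgroup X).subgroupOf ⊤ = ⊥ := Subgroup.bot_subgroupOf _
  let e : (↥(⊤ : Subgroup X) ⧸ (⊥ : Subgroup X).subgroupOf ⊤) ≃* X :=
    ((QuotientGroup.quotientMulEquivOfEq hb).trans QuotientGroup.quotientBot).trans Subgroup.topEquiv
  exact hΦ _ _ e h1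

theorem SecAll.subgroup (hΦ : IsoInv Φ) {X : Type u} [Group X] [Finite X] (h : SecAll Φ X)
    (N : Subgroup X) : SecAll Φ ↥N := by
  intro K' R' hn
  set K := K'.map N.subtype with hK
  set R := R'.map N.subtype with hR
  let e₀ : ↥K' ≃* ↥K := Subgroup.equivMapOfInjective K' N.subtype (Subgroup.subtype_injective N)
  have hmap : (R'.subgroupOf K').map e₀.toMonoidHom = R.subgroupOf K := by
    ext y
    constructor
    · rintro ⟨k, hk, rfl⟩
      have hk' : (k : ↥N) ∈ R' := hk
      rw [Subgroup.mem_subgroupOf]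
      exact ⟨_, hk', rfl⟩
    · intro hy
      rw [Subgroup.mem_subgroupOf] at hy
      obtain ⟨r, hr, hry⟩ := hy
      obtain ⟨k, hk, hky⟩ := y.2
      have hkr : k = r := Subgroup.subtype_injective N (hky.trans hry.symm)
      refine ⟨⟨k, hk⟩, ?_, ?_⟩
      · show k ∈ R'
        rw [hkr]; exact hr
      · apply Subtype.ext
        exact hky
  haveI hn' : (R.subgroupOf K).Normal := by
    rw [← hmap]
    exact Subgroup.Normal.map hn _ e₀.surjective
  have h1 := h K R
  let e : (↥K ⧸ R.subgroupOf K) ≃* (↥K' ⧸ R'.subgroupOf K') :=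
    (QuotientGroup.congr (R'.subgroupOf K') (R.subgroupOf K) e₀ hmap).symm
  exact hΦ _ _ e h1

theorem SecAll.quotient (hΦ : IsoInv Φ) {X : Type u} [Group X] [Finite X] (h : SecAll Φ X)
    (M : Subgroup X) [M.Normal] : SecAll Φ (X ⧸ M) := by
  intro K' R' hn
  set K := K'.comap (QuotientGroup.mk' M) with hK
  set R := R'.comap (QuotientGroup.mk' M) with hR
  let f : ↥K →* (↥K' ⧸ R'.subgroupOf K') :=
    (QuotientGroup.mk' (R'.subgroupOf K')).comp ((QuotientGroup.mk' M).subgroupComap K')
  have hf : Function.Surjective f :=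
    (QuotientGroup.mk'_surjective _).comp
      (MonoidHom.subgroupComap_surjective_of_surjective _ _ (QuotientGroup.mk'_surjective M))
  have hker : R.subgroupOf K = f.ker := by
    ext x
    rw [MonoidHom.mem_ker, Subgroup.mem_subgroupOf]
    show (x : X) ∈ R ↔ QuotientGroup.mk' (R'.subgroupOf K') (((QuotientGroup.mk' M).subgroupComap K') x) = 1
    rw [QuotientGroup.mk'_apply, QuotientGroup.eq_one_iff, Subgroup.mem_subgroupOf]
    rfl
  haveI hn' : (R.subgroupOf K).Normal := by
    rw [hker]; exact MonoidHom.normal_ker f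
  have h1 := h K R
  let e : (↥K ⧸ R.subgroupOf K) ≃* (↥K' ⧸ R'.subgroupOf K') :=
    (QuotientGroup.quotientMulEquivOfEq hker).trans (QuotientGroup.quotientKerEquivOfSurjective f hf)
  exact hΦ _ _ e h1

theorem SecAll.sec (hΦ : IsoInv Φ) {X : Type u} [Group X] [Finite X] (h : SecAll Φ X)
    (K R : Subgroup X) [(R.subgroupOf K).Normal] : SecAll Φ (↥K ⧸ R.subgroupOf K) :=
  (h.subgroup hΦ K).quotient hΦ (R.subgroupOf K)

/-- induction over the sections of a finite group -/
theorem sec_induction {Ψ : ∀ (Y : Type u) [Group Y], Prop}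
    (step : ∀ (X : Type u) [Group X] [Finite X], SecAll Φ X →
      (∀ (Y : Type u) [Group Y] [Finite Y], Nat.card Y < Nat.card X → SecAll Φ Y → Ψ Y) → Ψ X) :
    ∀ (X : Type u) [Group X] [Finite X], SecAll Φ X → Ψ X := by
  have key : ∀ (n : ℕ) (X : Type u) [Group X] [Finite X], Nat.card X ≤ n → SecAll Φ X → Ψ X := by
    intro n
    induction n with
    | zero =>
      intro X _ _ hcard
      have := Nat.card_pos (α := X)
      omega
    | succ n ih =>
      intro X _ _ hcard hsec
      exact step X hsec (fun Y _ _ hlt hY => ih Y (by omega) hY)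
  intro X _ _ h
  exact key (Nat.card X) X le_rfl h

theorem card_subgroup_lt {X : Type u} [Group X] [Finite X] {H : Subgroup X} (h : H ≠ ⊤) :
    Nat.card H < Nat.card X := by
  refine lt_of_le_of_ne (Subgroup.card_le_card_group H) ?_
  intro h'
  exact h ((Subgroup.card_eq_iff_eq_top H).mp h')

theorem card_quotient_lt {X : Type u} [Group X] [Finite X] {M : Subgroup X} [M.Normal] (h : M ≠ ⊥) :
    Nat.card (X ⧸ M) < Nat.card X := by
  have h1 := Subgroup.card_eq_card_quotient_mul_card_subgroup M
  have h2 : 1 < Nat.card M := (Subgroup.one_lt_card_iff_ne_bot M).mpr h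
  have h3 : 0 < Nat.card (X ⧸ M) := Nat.card_pos
  nlinarith

end

end Cfsg.Agent.Lib.Helper41

namespace Cfsg.Agent.Lib.Helper41

universe u

/-- induction over the sections of a finite group: the hypothesis `Φ` is only used at the section under
consideration, the (isomorphism invariant) conclusion `Ψ` is available for proper subgroups and proper
quotients of it. -/
theorem sec_induction' {Φ Ψ : ∀ (Y : Type u) [Group Y], Prop} (hΨ : IsoInv Ψ)
    (step : ∀ (X : Type u) [Group X] [Finite X], Φ X → (∀ H : Subgroup X, H ≠ ⊤ → Ψ ↥H) →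
      (∀ (M : Subgroup X) [M.Normal], M ≠ ⊥ → Ψ (X ⧸ M)) → Ψ X)
    (G : Type u) [Group G] [Finite G] (h : SecAll Φ G) : SecAll Ψ G := by
  have key : ∀ n : ℕ, SecAll (fun (Y : Type u) [Group Y] => Nat.card Y ≤ n → Ψ Y) G := by
    intro n
    induction n with
    | zero =>
      intro K R _ hc
      have := Nat.card_pos (α := ↥K ⧸ R.subgroupOf K)
      omega
    | succ n ih =>
      intro K R _ hc
      have hΘ : IsoInv (fun (Y : Type u) [Group Y] => Nat.card Y ≤ n → Ψ Y) := by
        intro Y Z _ _ _ e hY hcZ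
        exact hΨ Y Z e (hY (by rw [Nat.card_congr e.toEquiv]; exact hcZ))
      have hX := ih.sec hΘ K R
      apply step _ (h K R)
      · intro H hH
        refine (hX.subgroup hΘ H).top hΘ ?_
        have := card_subgroup_lt hH
        omega
      · intro M _ hM
        refine (hX.quotient hΘ M).top hΘ ?_
        have := card_quotient_lt hM
        omega
  intro K R _
  exact key _ K R le_rfl

end Cfsg.Agent.Lib.Helper41
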