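import Cfsg.Agent.Lib.Helper41.RelCores
import Cfsg.Agent.Lib.Helper41.Frobenius
import Cfsg.Prelude.Def_TwoFusion

set_option autoImplicit false

namespace Cfsg.Agent.Lib.Helper41

open Cfsg

variable {G : Type*} [Group G] {p : ℕ}

/-- if `N_S(D)` is a Sylow `p`-subgroup of `N_G(D)` then `C_S(D)` is a Sylow `p`-subgroup of `C_G(D)` -/
theorem not_dvd_relIndex_centralizer [Finite G] [Fact p.Prime] {S D : Subgroup G}
    (hS : IsPGroup p S)
    (hidx : ¬ p ∣ (S ⊓ Subgroup.normalizer (D : Set G)).relIndex (Subgroup.normalizer (D : Set G))) :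
    ¬ p ∣ (S ⊓ Subgroup.centralizer (D : Set G)).relIndex (Subgroup.centralizer (D : Set G)) := by
  set N := Subgroup.normalizer (D : Set G) with hN
  set C := Subgroup.centralizer (D : Set G) with hC
  have hCN : C ≤ N := Subgroup.centralizer_le_normalizer (D : Set G)
  have hSyl : ¬ p ∣ ((S ⊓ N) ⊓ C).relIndex C :=
    not_dvd_relIndex_inf_of_normal inf_le_right hS.to_inf_left hidx hCN
      (fun c n hc hn => conj_mem_centralizer hn hc)
  have e : (S ⊓ N) ⊓ C = S ⊓ C := by
    rw [inf_assoc, inf_eq_right.mpr hCN]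
  rwa [e] at hSyl

section ag

variable [Finite G] [Fact p.Prime]

theorem relPPrimeCore_commute {D : Subgroup G} (hD : IsPGroup p D) :
    ∀ a ∈ relPPrimeCore p (Subgroup.normalizer (D : Set G)), ∀ b ∈ D, a * b = b * a := by
  set N := Subgroup.normalizer (D : Set G) with hN
  set K := relPPrimeCore p N with hK
  intro a ha b hb
  have hbN : b ∈ N := Subgroup.le_normalizer hb
  have haN : a ∈ N := relPPrimeCore_le N ha
  have h1 : a * b * a⁻¹ * b⁻¹ ∈ D :=
    D.mul_mem ((Subgroup.mem_normalizer_iff.mp haN b).mp hb) (D.inv_mem hb)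
  have h2 : a * b * a⁻¹ * b⁻¹ ∈ K := by
    have hlc : lc b K = K := lc_relPPrimeCore hbN
    have : b * a⁻¹ * b⁻¹ ∈ K := by
      rw [← hlc]; exact conj_mem_lc (K.inv_mem ha)
    have e : a * b * a⁻¹ * b⁻¹ = a * (b * a⁻¹ * b⁻¹) := by group
    rw [e]; exact K.mul_mem ha this
  have h3 : D ⊓ K = ⊥ :=
    Cfsg.Agent.Lib.Helper40.isPGroup_inf_coprime_eq_bot D K hD (card_relPPrimeCore_coprime N)
  have h4 : a * b * a⁻¹ * b⁻¹ = 1 := by
    have : a * b * a⁻¹ * b⁻¹ ∈ D ⊓ K := Subgroup.mem_inf.mpr ⟨h1, h2⟩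
    rw [h3] at this
    exact Subgroup.mem_bot.mp this
  calc a * b = (a * b * a⁻¹ * b⁻¹) * (b * a) := by group
  _ = b * a := by rw [h4, one_mul]

/-- the Alperin–Goldschmidt conjugation family -/
def agFamily (p : ℕ) [Fact p.Prime] (P : Sylow p G) : Set (Subgroup G) :=
  {D | D ≤ (P : Subgroup G) ∧
    ¬ p ∣ ((P : Subgroup G) ⊓ Subgroup.normalizer ((D : Subgroup G) : Set G)).relIndex
        (Subgroup.normalizer ((D : Subgroup G) : Set G)) ∧
    (P : Subgroup G) ⊓ Subgroup.centralizer (D : Set G) ≤ D ∧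
    relPPrimePCore p (Subgroup.normalizer (D : Set G)) ⊓ (P : Subgroup G) ≤ D}

theorem ag_isInternalDirectProduct (P : Sylow p G) {D : Subgroup G} (hD : D ∈ agFamily p P) :
    Cfsg.IsInternalDirectProduct (relPPrimeCore p (Subgroup.normalizer (D : Set G))) D
      (relPPrimePCore p (Subgroup.normalizer (D : Set G))) := by
  obtain ⟨hDP, hfn, _, hrad⟩ := hD
  have hDp : IsPGroup p D := P.2.to_le hDP
  set N := Subgroup.normalizer (D : Set G) with hN
  set K := relPPrimeCore p N with hK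
  set L := relPPrimePCore p N with hL
  have hKL : K ≤ L := relPPrimeCore_le_relPPrimePCore N
  have hDL : D ≤ L := le_relPPrimePCore Subgroup.le_normalizer
    (fun x n hx hn => (Subgroup.mem_normalizer_iff.mp hn x).mp hx) hDp
  refine ⟨hKL, hDL, relPPrimeCore_commute hDp, ?_, ?_⟩
  · rw [inf_comm]
    exact Cfsg.Agent.Lib.Helper40.isPGroup_inf_coprime_eq_bot D K hDp (card_relPPrimeCore_coprime N)
  · apply le_antisymm (sup_le hKL hDL)
    intro x hx
    set R := (P : Subgroup G) ⊓ N with hR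
    have h1 : L ≤ R ⊔ K := relPPrimePCore_le_sup inf_le_right P.2.to_inf_left hfn
    have hRK : R ≤ Subgroup.normalizer (K : Set G) := by
      intro r hr
      rw [mem_normalizer_iff_lc]
      exact lc_relPPrimeCore hr.2
    have hx' : x ∈ K ⊔ R := by rw [sup_comm]; exact h1 hx
    obtain ⟨a, ha, b, hb, rfl⟩ := (mem_sup_of_le_normalizer hRK).mp hx'
    have hbL : b ∈ L := by
      have : b = a⁻¹ * (a * b) := by group
      rw [this]
      exact L.mul_mem (L.inv_mem (hKL ha)) hx
    have hbD : b ∈ D := hrad (Subgroup.mem_inf.mpr ⟨hbL, hb.1⟩)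
    exact Subgroup.mul_mem _ (Subgroup.mem_sup_left ha) (Subgroup.mem_sup_right hbD)

theorem ag_centralizer_le (P : Sylow p G) {D : Subgroup G} (hDP : D ≤ (P : Subgroup G))
    (hfn : ¬ p ∣ ((P : Subgroup G) ⊓ Subgroup.normalizer ((D : Subgroup G) : Set G)).relIndex
        (Subgroup.normalizer ((D : Subgroup G) : Set G)))
    (hcen : (P : Subgroup G) ⊓ Subgroup.centralizer (D : Set G) ≤ D) :
    Subgroup.centralizer (D : Set G) ≤ relPPrimePCore p (Subgroup.normalizer (D : Set G)) := by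
  have hp : p.Prime := Fact.out
  have hDp : IsPGroup p D := P.2.to_le hDP
  set N := Subgroup.normalizer (D : Set G) with hN
  set C := Subgroup.centralizer (D : Set G) with hC
  set K := relPPrimeCore p N with hK
  set L := relPPrimePCore p N with hL
  set CP := (P : Subgroup G) ⊓ C with hCP
  have hCN : C ≤ N := Subgroup.centralizer_le_normalizer (D : Set G)
  have hKL : K ≤ L := relPPrimeCore_le_relPPrimePCore N
  have hDL : D ≤ L := le_relPPrimePCore Subgroup.le_normalizer
    (fun x n hx hn => (Subgroup.mem_normalizer_iff.mp hn x).mp hx) hDp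
  have hSyl : ¬ p ∣ CP.relIndex C := not_dvd_relIndex_centralizer P.2 hfn
  have hCPp : IsPGroup p (CP.subgroupOf C) := (P.2.to_inf_left (K := C)).comap_subtype
  let T : Sylow p C := hCPp.toSylow hSyl
  have hT : ∀ z : C, z ∈ T ↔ (z : G) ∈ CP := fun z => Iff.rfl
  have hTcen : (T : Subgroup C) ≤ Subgroup.center C := by
    intro t ht
    rw [Subgroup.mem_center_iff]
    intro c
    have htD : (t : G) ∈ D := hcen ((hT t).mp ht)
    have := (Subgroup.mem_centralizer_iff.mp c.2) (t : G) htD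
    apply Subtype.ext
    simp only [Subgroup.coe_mul]
    exact this.symm
  have hP : Subgroup.normalizer ((T : Subgroup C) : Set C) ≤
      Subgroup.centralizer ((T : Subgroup C) : Set C) := by
    intro x _
    rw [Subgroup.mem_centralizer_iff]
    intro t ht
    have := hTcen ht
    rw [Subgroup.mem_center_iff] at this
    exact (this x).symm
  set K₀ := (MonoidHom.transferSylow T hP).ker with hK₀
  have hc : K₀.IsComplement' (T : Subgroup C) := MonoidHom.ker_transferSylow_isComplement' T hP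
  have hnd : ¬ p ∣ Nat.card K₀ := MonoidHom.not_dvd_card_ker_transferSylow T hP
  have hcop : (Nat.card K₀).Coprime p := ((Nat.Prime.coprime_iff_not_dvd hp).mpr hnd).symm
  -- `K₀` mapped to `G` lies in `O_{p'}(N)`
  have hK₀K : K₀.map C.subtype ≤ K := by
    apply le_relPPrimeCore ((Subgroup.map_subtype_le _).trans hCN)
    · rintro x n ⟨x', hx', rfl⟩ hn
      have hmem : n * (x' : G) * n⁻¹ ∈ C := conj_mem_centralizer hn x'.2
      refine ⟨⟨_, hmem⟩, ?_, rfl⟩
      apply mem_of_coprime_of_isComplement' T hc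
      have h1 : orderOf (⟨n * (x' : G) * n⁻¹, hmem⟩ : C) = orderOf x' := by
        rw [← Subgroup.orderOf_coe, ← Subgroup.orderOf_coe (a := x')]
        show orderOf (n * (x' : G) * n⁻¹) = orderOf (x' : G)
        exact orderOf_injective (MulAut.conj n).toMonoidHom (MulAut.conj n).injective (x' : G)
      rw [h1]
      have h2 : orderOf x' ∣ Nat.card K₀ := by
        have := orderOf_dvd_natCard (⟨x', hx'⟩ : K₀)
        rwa [Subgroup.orderOf_mk] at this
      exact Nat.Coprime.coprime_dvd_left h2 hcop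
    · rw [Subgroup.card_map_of_injective C.subtype_injective]
      exact hcop
  intro c hcC
  have htop : (⟨c, hcC⟩ : C) ∈ K₀ ⊔ (T : Subgroup C) := by
    rw [hc.sup_eq_top]; exact Subgroup.mem_top _
  obtain ⟨k, hk, t, ht, hkt⟩ := Subgroup.mem_sup_of_normal_left.mp htop
  have e : c = (k : G) * (t : G) := by
    have := congrArg Subtype.val hkt
    simpa using this.symm
  rw [e]
  refine L.mul_mem (hKL (hK₀K ⟨k, hk, rfl⟩)) (hDL (hcen ((hT t).mp ht)))

end ag

/-- conjugation by `g` on `A` agrees with a chain through normalizers of members of `𝓕` -/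
def AReach (𝓕 : Set (Subgroup G)) (A : Set G) (g : G) : Prop :=
  ∃ g' : G, Reach 𝓕 A g' ∧ ∀ a ∈ A, g'⁻¹ * a * g' = g⁻¹ * a * g

theorem AReach.mono {𝓕 : Set (Subgroup G)} {A B : Set G} {g : G} (hBA : B ⊆ A)
    (h : AReach 𝓕 A g) : AReach 𝓕 B g := by
  obtain ⟨g', h1, h2⟩ := h
  exact ⟨g', h1.mono hBA, fun a ha => h2 a (hBA ha)⟩

theorem AReach.congr {𝓕 : Set (Subgroup G)} {A : Set G} {g h : G}
    (hgh : ∀ a ∈ A, g⁻¹ * a * g = h⁻¹ * a * h) (hr : AReach 𝓕 A g) : AReach 𝓕 A h := by
  obtain ⟨g', h1, h2⟩ := hr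
  exact ⟨g', h1, fun a ha => (h2 a ha).trans (hgh a ha)⟩

theorem AReach.trans {𝓕 : Set (Subgroup G)} {A : Set G} {g h : G} (h₁ : AReach 𝓕 A g)
    (h₂ : AReach 𝓕 (rconj g A) h) : AReach 𝓕 A (g * h) := by
  obtain ⟨g', r1, a1⟩ := h₁
  obtain ⟨h', r2, a2⟩ := h₂
  rw [← rconj_congr a1] at r2
  refine ⟨g' * h', r1.trans r2, fun a ha => ?_⟩
  have e1 := a1 a ha
  have e2 := a2 (g⁻¹ * a * g) ⟨a, ha, rfl⟩
  calc (g' * h')⁻¹ * a * (g' * h') = h'⁻¹ * (g'⁻¹ * a * g') * h' := by group
  _ = h'⁻¹ * (g⁻¹ * a * g) * h' := by rw [e1]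
  _ = h⁻¹ * (g⁻¹ * a * g) * h := e2
  _ = (g * h)⁻¹ * a * (g * h) := by group

theorem AReach.symm {𝓕 : Set (Subgroup G)} {A : Set G} {g : G} (h : AReach 𝓕 A g) :
    AReach 𝓕 (rconj g A) g⁻¹ := by
  obtain ⟨g', r1, a1⟩ := h
  have r2 := r1.symm
  rw [rconj_congr a1] at r2
  refine ⟨g'⁻¹, r2, ?_⟩
  rintro _ ⟨a, ha, rfl⟩
  have e := a1 a ha
  calc g'⁻¹⁻¹ * (g⁻¹ * a * g) * g'⁻¹ = g' * (g⁻¹ * a * g) * g'⁻¹ := by group
  _ = g' * (g'⁻¹ * a * g') * g'⁻¹ := by rw [e]
  _ = g⁻¹⁻¹ * (g⁻¹ * a * g) * g⁻¹ := by group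

section main

variable [Finite G] [Fact p.Prime]

theorem ag_mid (P : Sylow p G) (U : Subgroup G) (hUP : U ≤ (P : Subgroup G))
    (hidx : ¬ p ∣ ((P : Subgroup G) ⊓ Subgroup.normalizer ((U : Subgroup G) : Set G)).relIndex
        (Subgroup.normalizer ((U : Subgroup G) : Set G)))
    (IH : ∀ T : Subgroup G, T ≤ (P : Subgroup G) → Nat.card U < Nat.card T →
        ∀ g : G, lc g⁻¹ T ≤ (P : Subgroup G) → AReach (agFamily p P) (T : Set G) g)
    (m : G) (hm : m ∈ Subgroup.normalizer ((U : Subgroup G) : Set G)) :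
    AReach (agFamily p P) (U : Set G) m := by
  have hPp : IsPGroup p (P : Subgroup G) := P.2
  have hUp : IsPGroup p U := hPp.to_le hUP
  by_cases hcen : (P : Subgroup G) ⊓ Subgroup.centralizer (U : Set G) ≤ U
  · set N := Subgroup.normalizer (U : Set G) with hN
    set K := relPPrimeCore p N with hK
    set L := relPPrimePCore p N with hL
    by_cases hrad : L ⊓ (P : Subgroup G) ≤ U
    · exact ⟨m, Reach.single ⟨hUP, hidx, hcen, hrad⟩ hm le_rfl, fun _ _ => rfl⟩
    · set R := (P : Subgroup G) ⊓ N with hR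
      set D := L ⊓ (P : Subgroup G) with hD
      have hLN : L ≤ N := relPPrimePCore_le N
      have hKL : K ≤ L := relPPrimeCore_le_relPPrimePCore N
      have hUL : U ≤ L := le_relPPrimePCore Subgroup.le_normalizer
        (fun x n hx hn => (Subgroup.mem_normalizer_iff.mp hn x).mp hx) hUp
      have hUD : U ≤ D := le_inf hUL hUP
      have hlt : U < D := lt_of_le_of_ne hUD (fun h => hrad (by rw [← h]))
      have hDP : D ≤ (P : Subgroup G) := inf_le_right
      have hDp : IsPGroup p D := hPp.to_le hDP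
      have hDN : D ≤ N := inf_le_left.trans hLN
      have hRL : R ⊓ L = D := by
        rw [hR, hD, inf_assoc, inf_eq_right.mpr hLN, inf_comm]
      have hnorm : ∀ c n, c ∈ L → n ∈ N → n * c * n⁻¹ ∈ L := by
        intro c n hc hn
        have := conj_mem_lc (g := n) hc
        rwa [lc_relPPrimePCore hn] at this
      have hSyl : ¬ p ∣ D.relIndex L := by
        have := not_dvd_relIndex_inf_of_normal (inf_le_right : R ≤ N) hPp.to_inf_left hidx hLN hnorm
        rwa [hRL] at this
      have hmD : lc m D ≤ L := by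
        have : lc m D ≤ lc m L := lc_mono inf_le_left
        rwa [lc_relPPrimePCore hm] at this
      obtain ⟨z, hzL, hz⟩ := exists_lc_le_of_relIndex (inf_le_left : D ≤ L) hDp hSyl
        (isPGroup_lc hDp) hmD
      have hn : z * m ∈ Subgroup.normalizer ((D : Subgroup G) : Set G) :=
        mem_normalizer_of_lc_le (by rw [lc_mul]; exact hz)
      -- decompose `z`
      have h1 : L ≤ R ⊔ K := relPPrimePCore_le_sup inf_le_right hPp.to_inf_left hidx
      have hRK : R ≤ Subgroup.normalizer (K : Set G) := by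
        intro r hr
        rw [mem_normalizer_iff_lc]
        exact lc_relPPrimeCore hr.2
      have hz' : z ∈ K ⊔ R := by rw [sup_comm]; exact h1 hzL
      obtain ⟨k, hk, r, hr, rfl⟩ := (mem_sup_of_le_normalizer hRK).mp hz'
      have hrL : r ∈ L := by
        have : r = k⁻¹ * (k * r) := by group
        rw [this]
        exact L.mul_mem (L.inv_mem (hKL hk)) hzL
      have hrD : r ∈ D := Subgroup.mem_inf.mpr ⟨hrL, hr.1⟩
      have hkN : k ∈ N := relPPrimeCore_le N hk
      set n' := r⁻¹ * (k * r * m) with hn'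
      have hn'D : n' ∈ Subgroup.normalizer ((D : Subgroup G) : Set G) :=
        Subgroup.mul_mem _ (Subgroup.inv_mem _ (Subgroup.le_normalizer hrD)) hn
      have hn'U : lc n'⁻¹ D = D := mem_normalizer_iff_lc.mp (Subgroup.inv_mem _ hn'D)
      have r1 := IH D hDP (card_lt_card_of_lt hlt) n' (by rw [hn'U]; exact hDP)
      have r2 : AReach (agFamily p P) (U : Set G) n' := r1.mono (by exact_mod_cast hlt.le)
      refine r2.congr ?_
      intro a ha
      -- `k` commutes with `r a r⁻¹ ∈ U`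
      have hra : r * a * r⁻¹ ∈ U := (Subgroup.mem_normalizer_iff.mp (hDN hrD) a).mp ha
      have hcomm := relPPrimeCore_commute hUp k hk (r * a * r⁻¹) hra
      have e1 : k⁻¹ * (r * a * r⁻¹) * k = r * a * r⁻¹ := by
        calc k⁻¹ * (r * a * r⁻¹) * k = k⁻¹ * ((r * a * r⁻¹) * k) := by group
        _ = k⁻¹ * (k * (r * a * r⁻¹)) := by rw [hcomm]
        _ = r * a * r⁻¹ := by group
      calc n'⁻¹ * a * n' = m⁻¹ * (r⁻¹ * (k⁻¹ * (r * a * r⁻¹) * k) * r) * m := by
            rw [hn']; group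
      _ = m⁻¹ * (r⁻¹ * (r * a * r⁻¹) * r) * m := by rw [e1]
      _ = m⁻¹ * a * m := by group
  · obtain ⟨z, hz, n, hnN, hnC, rfl⟩ := exists_centralizer_mul_normalizer hPp hidx hm
    set CP := (P : Subgroup G) ⊓ Subgroup.centralizer (U : Set G) with hCP
    set U' := U ⊔ CP with hU'
    have hU'P : U' ≤ (P : Subgroup G) := sup_le hUP inf_le_left
    have hlt : U < U' := by
      refine lt_of_le_of_ne le_sup_left ?_
      intro h
      apply hcen
      rw [h]
      exact le_sup_right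
    have hnU' : lc n⁻¹ U' = U' := by
      rw [hU', lc_sup, mem_normalizer_iff_lc.mp (Subgroup.inv_mem _ hnN),
        mem_normalizer_iff_lc.mp (Subgroup.inv_mem _ hnC)]
    have r := IH U' hU'P (card_lt_card_of_lt hlt) n (by rw [hnU']; exact hU'P)
    have r' : AReach (agFamily p P) (U : Set G) n := r.mono (by exact_mod_cast hlt.le)
    refine r'.congr ?_
    intro x hx
    have hzx := (Subgroup.mem_centralizer_iff.mp hz) x hx
    calc n⁻¹ * x * n = n⁻¹ * (z⁻¹ * (z * x)) * n := by group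
    _ = n⁻¹ * (z⁻¹ * (x * z)) * n := by rw [hzx]
    _ = (z * n)⁻¹ * x * (z * n) := by group

/-- the **Alperin–Goldschmidt conjugation theorem** -/
theorem ag_reach (P : Sylow p G) {A : Set G} {g : G} (hA : A ⊆ (P : Subgroup G))
    (hgA : rconj g A ⊆ (P : Subgroup G)) : AReach (agFamily p P) A g := by
  refine engine_set (R := fun A g => AReach (agFamily p P) A g) (fun hBA h => h.mono hBA) ?_ hA hgA
  refine alperin_engine P _ (fun _ => True) ?_ (fun hBA h => h.mono hBA)
    (fun h₁ h₂ => h₁.trans h₂) (fun h => h.symm) ?_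
  · intro T hT
    obtain ⟨c, hc1, hc2⟩ := exists_fullyNormalized_lc P hT
    exact ⟨c, hc1, trivial, hc2⟩
  · intro U hUP _ hidx IH m hm
    exact ag_mid P U hUP hidx IH m hm

theorem sylow_mem_agFamily (P : Sylow p G) : (P : Subgroup G) ∈ agFamily p P :=
  ⟨le_rfl, sylow_fullyNormalized P, inf_le_left, inf_le_right⟩

end main

end Cfsg.Agent.Lib.Helper41
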