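import Cfsg.Agent.Lib.Helper41.WV
import Cfsg.Agent.Lib.Helper41.FamilyTransfer

set_option autoImplicit false

namespace Cfsg.Agent.Lib.Helper41

open Cfsg
open scoped commutatorElement

variable {G : Type*} [Group G] {p : ℕ}

/-- if `B` normalizes `A` then `A ⊔ B` is the set of products `a * b` -/
theorem mem_sup_of_le_normalizer {A B : Subgroup G} (hB : B ≤ Subgroup.normalizer (A : Set G))
    {x : G} : x ∈ A ⊔ B ↔ ∃ a ∈ A, ∃ b ∈ B, x = a * b := by
  constructor
  · intro hx
    rw [Subgroup.sup_eq_closure] at hx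
    induction hx using Subgroup.closure_induction with
    | mem u hu =>
      rcases hu with hu | hu
      · exact ⟨u, hu, 1, B.one_mem, by simp⟩
      · exact ⟨1, A.one_mem, u, hu, by simp⟩
    | one => exact ⟨1, A.one_mem, 1, B.one_mem, by simp⟩
    | mul x y _ _ ihx ihy =>
      obtain ⟨a₁, ha₁, b₁, hb₁, rfl⟩ := ihx
      obtain ⟨a₂, ha₂, b₂, hb₂, rfl⟩ := ihy
      refine ⟨a₁ * (b₁ * a₂ * b₁⁻¹), A.mul_mem ha₁ ?_, b₁ * b₂, B.mul_mem hb₁ hb₂, by group⟩
      exact (Subgroup.mem_normalizer_iff.mp (hB hb₁) a₂).mp ha₂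
    | inv x _ ihx =>
      obtain ⟨a, ha, b, hb, rfl⟩ := ihx
      refine ⟨b⁻¹ * a⁻¹ * b⁻¹⁻¹, ?_, b⁻¹, B.inv_mem hb, by group⟩
      exact (Subgroup.mem_normalizer_iff.mp (hB (B.inv_mem hb)) a⁻¹).mp (A.inv_mem ha)
  · rintro ⟨a, ha, b, hb, rfl⟩
    exact Subgroup.mul_mem _ (Subgroup.mem_sup_left ha) (Subgroup.mem_sup_right hb)

/-- the inclusion used from the local hypothesis on transfer for `W` with `V`, at the Sylow subgroup `M`
of `H` -/
def LTrans (W V : Subgroup G → Subgroup G) (H M : Subgroup G) : Prop :=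
  M ⊓ ⁅H, H⁆ ≤
    (M ⊓ ⁅H ⊓ Subgroup.normalizer ((W M : Subgroup G) : Set G),
      H ⊓ Subgroup.normalizer ((W M : Subgroup G) : Set G)⁆) ⊔
    (M ⊓ ⁅H ⊓ Subgroup.centralizer ((V M : Subgroup G) : Set G),
      H ⊓ Subgroup.centralizer ((V M : Subgroup G) : Set G)⁆)

theorem ltrans_lc [Finite G] {W V : Subgroup G → Subgroup G} (hW : IsConjugacyFunctor p W)
    (hV : IsConjugacyFunctor p V) {H M : Subgroup G} (hM : IsPGroup p M) {n : G} (hn : n ∈ H)
    (h : LTrans W V H M) : LTrans W V H (lc n M) := by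
  have hH : lc n H = H := lc_eq_self_of_mem hn
  have h1 := lc_mono (g := n) h
  rw [lc_sup, lc_inf, lc_inf, lc_inf, lc_commutator, lc_commutator, lc_commutator, lc_inf, lc_inf,
    hH, ← normalizer_lc, ← centralizer_lc, ← functor_lc hW hM, ← functor_lc hV hM] at h1
  exact h1

section wv

variable [Finite G] [Fact p.Prime] (P : Sylow p G) {W V : Subgroup G → Subgroup G}

/-- the local hypothesis -/
def LocalWVT (p : ℕ) (W V : Subgroup G → Subgroup G) (P : Subgroup G) : Prop :=
  ∀ H : Subgroup G, P ⊓ Subgroup.centralizer (P : Set G) ≤ H → H ≤ P →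
    ∃ Q : Subgroup G, Q ≤ Subgroup.normalizer (H : Set G) ∧ IsPGroup p Q ∧
      ¬ p ∣ Q.relIndex (Subgroup.normalizer (H : Set G)) ∧
      LTrans W V (Subgroup.normalizer (H : Set G)) Q

theorem ltrans_at (hW : IsConjugacyFunctor p W) (hV : IsConjugacyFunctor p V)
    (hloc : LocalWVT p W V (P : Subgroup G)) {H : Subgroup G}
    (hZ : (P : Subgroup G) ⊓ Subgroup.centralizer ((P : Subgroup G) : Set G) ≤ H)
    (hHP : H ≤ (P : Subgroup G)) {M : Subgroup G} (hMN : M ≤ Subgroup.normalizer (H : Set G))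
    (hM : IsPGroup p M) (hidx : ¬ p ∣ M.relIndex (Subgroup.normalizer (H : Set G))) :
    LTrans W V (Subgroup.normalizer (H : Set G)) M := by
  obtain ⟨Q, hQN, hQ, hQidx, hctl⟩ := hloc H hZ hHP
  obtain ⟨n, hn, rfl⟩ := exists_lc_eq_of_sylowIn hMN hM hidx hQN hQ hQidx
  exact ltrans_lc hW hV hQ hn hctl

/-- the target subgroup -/
def wvD (W V : Subgroup G → Subgroup G) (P : Subgroup G) : Subgroup G :=
  (P ⊓ ⁅Subgroup.normalizer ((W P : Subgroup G) : Set G),
    Subgroup.normalizer ((W P : Subgroup G) : Set G)⁆) ⊔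
  (P ⊓ ⁅Subgroup.centralizer ((V P : Subgroup G) : Set G),
    Subgroup.centralizer ((V P : Subgroup G) : Set G)⁆)

theorem wvt_climb (hW : IsConjugacyFunctor p W) (hV : IsConjugacyFunctor p V)
    (hWZ : ∀ H : Subgroup G, IsPGroup p H → H ⊓ Subgroup.centralizer (H : Set G) ≤ W H)
    (hVmono : ∀ H K : Subgroup G, IsPGroup p H → IsPGroup p K → H ≠ ⊥ → K ≠ ⊥ →
      H ⊓ Subgroup.centralizer (H : Set G) ≤ K ⊓ Subgroup.centralizer (K : Set G) → V H ≤ V K)
    (hloc : LocalWVT p W V (P : Subgroup G)) {U : Subgroup G}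
    (hwp : IsWellPlaced p W (P : Subgroup G) U) (hUne : U ≠ ⊥)
    (hZU : (P : Subgroup G) ⊓ Subgroup.centralizer ((P : Subgroup G) : Set G) ≤ U) :
    NS (P : Subgroup G) U ⊓ ⁅Subgroup.normalizer (U : Set G), Subgroup.normalizer (U : Set G)⁆ ≤
      wvD W V (P : Subgroup G) := by
  have hPp : IsPGroup p (P : Subgroup G) := P.2
  have hPne : (P : Subgroup G) ≠ ⊥ := by
    intro h
    apply hUne
    have := hwp.1
    rw [h] at this
    exact le_bot_iff.mp this
  have hTne : ∀ i, functorTower W (P : Subgroup G) U i ≠ ⊥ := by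
    intro i
    induction i with
    | zero => exact hUne
    | succ i ih =>
      rw [tower_succ]
      apply functor_ne_bot hW hPp.to_inf_left
      intro hbot
      apply ih
      have h1 : functorTower W (P : Subgroup G) U i ≤ NS (P : Subgroup G) (functorTower W (P : Subgroup G) U i) :=
        le_NS (tower_le hW hPp hwp.1 i)
      have hbot' : NS (P : Subgroup G) (functorTower W (P : Subgroup G) U i) = ⊥ := hbot
      rw [hbot'] at h1
      exact le_bot_iff.mp h1
  have hZT : ∀ i, (P : Subgroup G) ⊓ Subgroup.centralizer ((P : Subgroup G) : Set G) ≤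
      functorTower W (P : Subgroup G) U i := by
    intro i
    cases i with
    | zero => exact hZU
    | succ i =>
      rw [tower_succ]
      exact (center_le_center_NS (tower_le hW hPp hwp.1 i)).trans (hWZ _ hPp.to_inf_left)
  obtain ⟨i₀, hi₀⟩ := tower_eventually hW hPp U
  have claim : ∀ k i, i + k = i₀ + 1 →
      NS (P : Subgroup G) (functorTower W (P : Subgroup G) U i) ⊓
        ⁅Subgroup.normalizer ((functorTower W (P : Subgroup G) U i : Subgroup G) : Set G),
          Subgroup.normalizer ((functorTower W (P : Subgroup G) U i : Subgroup G) : Set G)⁆ ≤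
        wvD W V (P : Subgroup G) := by
    intro k
    induction k with
    | zero =>
      intro i hi
      have hi' : i = i₀ + 1 := by omega
      subst hi'
      rw [hi₀]
      exact (inf_le_inf inf_le_left le_rfl).trans le_sup_left
    | succ k ih =>
      intro i hi
      have ihnext := ih (i + 1) (by omega)
      set Ui := functorTower W (P : Subgroup G) U i with hUi
      set Qi := NS (P : Subgroup G) Ui with hQi
      have hQip : IsPGroup p Qi := hPp.to_inf_left
      have hUiP : Ui ≤ (P : Subgroup G) := tower_le hW hPp hwp.1 i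
      have hlt := ltrans_at P hW hV hloc (hZT i) hUiP (M := Qi) inf_le_right hQip (hwp.2 i)
      refine hlt.trans (sup_le ?_ ?_)
      · refine le_trans ?_ ihnext
        have hle : Qi ≤ NS (P : Subgroup G) (functorTower W (P : Subgroup G) U (i + 1)) :=
          NS_tower_le_succ hW hPp U i
        refine inf_le_inf hle ?_
        rw [tower_succ]
        exact Subgroup.commutator_mono inf_le_right inf_le_right
      · have hQine : Qi ≠ ⊥ := by
          intro hbot
          apply hTne i
          have h1 : Ui ≤ Qi := le_NS hUiP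
          rw [hbot] at h1
          exact le_bot_iff.mp h1
        have hVle : V (P : Subgroup G) ≤ V Qi :=
          hVmono _ _ hPp hQip hPne hQine (center_le_center_NS hUiP)
        have hcen : Subgroup.centralizer ((V Qi : Subgroup G) : Set G) ≤
            Subgroup.centralizer ((V (P : Subgroup G) : Subgroup G) : Set G) :=
          Subgroup.centralizer_le (by exact_mod_cast hVle)
        refine le_trans ?_ (le_sup_right : _ ≤ wvD W V (P : Subgroup G))
        refine inf_le_inf inf_le_left ?_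
        exact Subgroup.commutator_mono (inf_le_right.trans hcen) (inf_le_right.trans hcen)
  exact claim (i₀ + 1) 0 (by omega)

/-- a functor `W` with a central functor `V`: local control of transfer gives global control -/
theorem wvt_controls (hW : IsConjugacyFunctor p W) (hV : IsConjugacyFunctor p V)
    (hWZ : ∀ H : Subgroup G, IsPGroup p H → H ⊓ Subgroup.centralizer (H : Set G) ≤ W H)
    (hVmono : ∀ H K : Subgroup G, IsPGroup p H → IsPGroup p K → H ≠ ⊥ → K ≠ ⊥ →
      H ⊓ Subgroup.centralizer (H : Set G) ≤ K ⊓ Subgroup.centralizer (K : Set G) → V H ≤ V K)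
    (hloc : LocalWVT p W V (P : Subgroup G)) :
    (P : Subgroup G) ⊓ ⁅(⊤ : Subgroup G), ⊤⁆ ≤ wvD W V (P : Subgroup G) := by
  have hPp : IsPGroup p (P : Subgroup G) := P.2
  set D := wvD W V (P : Subgroup G) with hD
  -- the relation for the engine
  let R : Set G → G → Prop := fun A g => ∀ a ∈ A, a⁻¹ * (g⁻¹ * a * g) ∈ D
  have hmono : ∀ {A B : Set G} {g : G}, B ⊆ A → R A g → R B g := fun hBA h a ha => h a (hBA ha)
  have htrans : ∀ {A : Set G} {g h : G}, R A g → R (rconj g A) h → R A (g * h) := by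
    intro A g h h₁ h₂ a ha
    have e1 := h₁ a ha
    have e2 := h₂ (g⁻¹ * a * g) ⟨a, ha, rfl⟩
    have : a⁻¹ * ((g * h)⁻¹ * a * (g * h)) =
        (a⁻¹ * (g⁻¹ * a * g)) * ((g⁻¹ * a * g)⁻¹ * (h⁻¹ * (g⁻¹ * a * g) * h)) := by group
    rw [this]
    exact D.mul_mem e1 e2
  have hsymm : ∀ {A : Set G} {g : G}, R A g → R (rconj g A) g⁻¹ := by
    rintro A g h _ ⟨a, ha, rfl⟩
    have e1 := h a ha
    have : (g⁻¹ * a * g)⁻¹ * (g⁻¹⁻¹ * (g⁻¹ * a * g) * g⁻¹) = (a⁻¹ * (g⁻¹ * a * g))⁻¹ := by group
    rw [this]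
    exact D.inv_mem e1
  have hreach : ∀ T : Subgroup G, T ≤ (P : Subgroup G) → ∀ g : G, lc g⁻¹ T ≤ (P : Subgroup G) →
      R (T : Set G) g := by
    refine alperin_engine P R (fun U => IsWellPlaced p W (P : Subgroup G) U) ?_ hmono htrans hsymm ?_
    · intro T hT
      obtain ⟨g, hg⟩ := exists_wellPlaced_lc hW P hT
      exact ⟨g, hg.1, hg, hg.2 0⟩
    · intro U hUP hwp hidx IH m hm
      by_cases hcen : (P : Subgroup G) ⊓ Subgroup.centralizer (U : Set G) ≤ U
      · by_cases hUne : U = ⊥
        · intro a ha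
          have : a = 1 := by
            rw [hUne] at ha
            exact Subgroup.mem_bot.mp ha
          rw [this]
          simp
        · have hZU : (P : Subgroup G) ⊓ Subgroup.centralizer ((P : Subgroup G) : Set G) ≤ U :=
            (inf_le_inf le_rfl (Subgroup.centralizer_le (by exact_mod_cast hUP))).trans hcen
          have hcl := wvt_climb P hW hV hWZ hVmono hloc hwp hUne hZU
          intro a ha
          apply hcl
          have ha' : m⁻¹ * a * m ∈ U := by
            have := rconj_subset_of_mem_normalizer hm (le_refl (U : Set G))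
            exact this ⟨a, ha, rfl⟩
          refine Subgroup.mem_inf.mpr ⟨le_NS hUP (U.mul_mem (U.inv_mem ha) ha'), ?_⟩
          have : a⁻¹ * (m⁻¹ * a * m) = ⁅a⁻¹, m⁻¹⁆ := by
            rw [commutatorElement_def]; group
          rw [this]
          exact Subgroup.commutator_mem_commutator
            (Subgroup.le_normalizer (Subgroup.inv_mem _ ha)) (Subgroup.inv_mem _ hm)
      · obtain ⟨z, hz, n, hnN, hnC, rfl⟩ := exists_centralizer_mul_normalizer hPp hidx hm
        set CP := (P : Subgroup G) ⊓ Subgroup.centralizer (U : Set G) with hCP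
        set U' := U ⊔ CP with hU'
        have hU'P : U' ≤ (P : Subgroup G) := sup_le hUP inf_le_left
        have hlt : U < U' := by
          refine lt_of_le_of_ne le_sup_left ?_
          intro h
          apply hcen
          rw [h]
          exact le_sup_right
        have hnU' : lc n⁻¹ U' = U' := by
          rw [hU', lc_sup, mem_normalizer_iff_lc.mp (Subgroup.inv_mem _ hnN),
            mem_normalizer_iff_lc.mp (Subgroup.inv_mem _ hnC)]
        have r := IH U' hU'P (card_lt_card_of_lt hlt) n (by rw [hnU']; exact hU'P)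
        intro a ha
        have r' := r a (hlt.le ha)
        have hza := (Subgroup.mem_centralizer_iff.mp hz) a ha
        have e : (z * n)⁻¹ * a * (z * n) = n⁻¹ * a * n := by
          calc (z * n)⁻¹ * a * (z * n) = n⁻¹ * (z⁻¹ * (a * z)) * n := by group
          _ = n⁻¹ * (z⁻¹ * (z * a)) * n := by rw [hza]
          _ = n⁻¹ * a * n := by group
        rw [e]
        exact r'
  -- focal subgroup theorem
  have hfoc := Subgroup.commutator_inf_eq_focalSubgroup P
  have h1 : (P : Subgroup G) ⊓ ⁅(⊤ : Subgroup G), ⊤⁆ = (P : Subgroup G).focalSubgroup := by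
    rw [← hfoc, inf_comm]
    rfl
  rw [h1, Subgroup.focalSubgroup_def, Subgroup.closure_le]
  rintro g ⟨hgS, x, hxS, u, rfl⟩
  have hux : u * x * u⁻¹ ∈ (P : Subgroup G) := by
    have h2 : u * x * u⁻¹ = (x⁻¹ * ⁅x, u⁆)⁻¹ := by
      rw [commutatorElement_def]; group
    rw [h2]
    exact Subgroup.inv_mem _ (Subgroup.mul_mem _ (Subgroup.inv_mem _ hxS) hgS)
  have hA : ({x⁻¹} : Set G) ⊆ ((P : Subgroup G) : Set G) := by
    rintro _ rfl
    exact Subgroup.inv_mem _ hxS
  have hAg : rconj u⁻¹ ({x⁻¹} : Set G) ⊆ ((P : Subgroup G) : Set G) := by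
    rintro _ ⟨a, ha, rfl⟩
    rw [Set.mem_singleton_iff] at ha
    rw [ha]
    have : u⁻¹⁻¹ * x⁻¹ * u⁻¹ = (u * x * u⁻¹)⁻¹ := by group
    show u⁻¹⁻¹ * x⁻¹ * u⁻¹ ∈ (P : Subgroup G)
    rw [this]
    exact Subgroup.inv_mem _ hux
  have := engine_set (R := R) hmono hreach hA hAg x⁻¹ rfl
  have e : (x⁻¹)⁻¹ * (u⁻¹⁻¹ * x⁻¹ * u⁻¹) = ⁅x, u⁆ := by
    rw [commutatorElement_def]; group
  rw [e] at this
  exact this

end wv

end Cfsg.Agent.Lib.Helper41
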