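import Cfsg.Agent.Lib.Helper41.Engine
import Cfsg.Agent.Lib.Helper41.WVTransfer
import Cfsg.Agent.Lib.Helper41.Frobenius

set_option autoImplicit false

namespace Cfsg.Agent.Lib.Helper41

open Cfsg

variable {X : Type*} [Group X] {p : ℕ}

/-- Sylow conjugation inside `D S` by an element of the normalized factor `D` -/
theorem sylow_conj_normal_factor [Finite X] [Fact p.Prime] {S D Q : Subgroup X} (hS : IsPGroup p S)
    (hSD : S ≤ Subgroup.normalizer (D : Set X)) (hidx : ¬ p ∣ S.relIndex (D ⊔ S))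
    (hQ : IsPGroup p Q) (hQle : Q ≤ D ⊔ S) : ∃ d ∈ D, lc d Q ≤ S := by
  obtain ⟨z, hz, hzQ⟩ := exists_lc_le_of_relIndex (p := p) (H := D ⊔ S) (P := S) le_sup_right hS hidx
    hQ hQle
  have hz' : z⁻¹ ∈ D ⊔ S := Subgroup.inv_mem _ hz
  obtain ⟨d, hd, s, hs, hzds⟩ := (mem_sup_of_le_normalizer hSD).mp hz'
  -- `z = s⁻¹ d⁻¹`
  have hz2 : z = s⁻¹ * d⁻¹ := by
    have : z = (z⁻¹)⁻¹ := by simp
    rw [this, hzds]; group
  refine ⟨d⁻¹, D.inv_mem hd, ?_⟩
  rw [hz2, lc_mul] at hzQ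
  have h1 := lc_mono (g := s) hzQ
  rw [← lc_mul, mul_inv_cancel] at h1
  have h2 : lc s S = S := lc_eq_self_of_mem hs
  rw [h2] at h1
  simpa using h1

theorem relIndex_sup_coprime [Finite X] [Fact p.Prime] (E K : Subgroup X) [K.Normal]
    (hK : (Nat.card K).Coprime p) : ¬ p ∣ E.relIndex (K ⊔ E) := by
  rw [sup_comm, ← Cfsg.Agent.Lib.Helper40.relIndex_eq_relIndex_sup_of_normal]
  intro h
  have h1 : E.relIndex K ∣ Nat.card K := Subgroup.relIndex_dvd_card E K
  have hp : p.Prime := Fact.out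
  exact (Nat.Prime.coprime_iff_not_dvd hp).mp hK.symm (h.trans h1)

/-- Frattini: elements of the quotient by a normal `p'`-subgroup that normalize the image of a `p`-subgroup
`E` lift to elements normalizing `E` -/
theorem exists_lift_normalizer_of_coprime [Finite X] [Fact p.Prime] (K : Subgroup X) [K.Normal]
    (hK : (Nat.card K).Coprime p) {E : Subgroup X} (hE : IsPGroup p E) (ybar : X ⧸ K)
    (hy : ybar ∈ Subgroup.normalizer ((E.map (QuotientGroup.mk' K) : Subgroup (X ⧸ K)) : Set (X ⧸ K))) :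
    ∃ y ∈ Subgroup.normalizer (E : Set X), QuotientGroup.mk' K y = ybar := by
  obtain ⟨y₀, rfl⟩ := QuotientGroup.mk'_surjective K ybar
  have h1 : y₀ ∈ Subgroup.normalizer ((K ⊔ E : Subgroup X) : Set X) := by
    have h2 : y₀ ∈ (Subgroup.normalizer ((E.map (QuotientGroup.mk' K) : Subgroup (X ⧸ K)) :
        Set (X ⧸ K))).comap (QuotientGroup.mk' K) := hy
    rw [Subgroup.comap_normalizer_eq_of_surjective _ (QuotientGroup.mk'_surjective K),
      Subgroup.comap_map_eq, QuotientGroup.ker_mk', sup_comm] at h2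
    exact h2
  have h3 : lc y₀ E ≤ K ⊔ E := by
    have h4 : lc y₀ (K ⊔ E) = K ⊔ E := mem_normalizer_iff_lc.mp h1
    rw [← h4]
    exact lc_mono le_sup_right
  have hEK : E ≤ Subgroup.normalizer (K : Set X) := by
    rw [Subgroup.normalizer_eq_top]; exact le_top
  obtain ⟨d, hd, hdE⟩ := sylow_conj_normal_factor hE hEK (relIndex_sup_coprime E K hK)
    (isPGroup_lc (g := y₀) hE) h3
  refine ⟨d * y₀, ?_, ?_⟩
  · apply mem_normalizer_of_lc_le
    rw [lc_mul]; exact hdE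
  · rw [map_mul]
    have : QuotientGroup.mk' K d = 1 := (QuotientGroup.eq_one_iff d).mpr hd
    rw [this, one_mul]

/-- a `p`-element of `N` congruent modulo `N'` to an element of order prime to `p` lies in `N'` -/
theorem mem_commutator_of_mul_coprime {N : Subgroup X} {s n' k : X} (hn' : n' ∈ ⁅N, N⁆) (hk : k ∈ N)
    (hs : s = n' * k) {m : ℕ} (hkm : k ^ m = 1) (hcop : m.Coprime (orderOf s)) : s ∈ ⁅N, N⁆ := by
  have hnorm : (⁅N, N⁆.subgroupOf N).Normal := by
    have : ⁅N, N⁆.subgroupOf N = commutator ↥N := by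
      rw [← Subgroup.map_subtype_commutator]
      show ((commutator ↥N).map N.subtype).comap N.subtype = _
      rw [Subgroup.comap_map_eq_self_of_injective N.subtype_injective]
    rw [this]; infer_instance
  have hNN : ⁅N, N⁆ ≤ N := Subgroup.commutator_le.mpr (fun a ha b hb => by
    rw [commutatorElement_def]
    exact N.mul_mem (N.mul_mem (N.mul_mem ha hb) (N.inv_mem ha)) (N.inv_mem hb))
  have key : ∀ j : ℕ, ∃ n'' ∈ ⁅N, N⁆, s ^ j = n'' * k ^ j := by
    intro j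
    induction j with
    | zero => exact ⟨1, Subgroup.one_mem _, by simp⟩
    | succ j ih =>
      obtain ⟨n'', hn'', hj⟩ := ih
      refine ⟨n'' * (k ^ j * n' * (k ^ j)⁻¹), Subgroup.mul_mem _ hn'' ?_, ?_⟩
      · have hkj : k ^ j ∈ N := N.pow_mem hk j
        have := hnorm.conj_mem ⟨n', hNN hn'⟩ (Subgroup.mem_subgroupOf.mpr hn') ⟨k ^ j, hkj⟩
        exact Subgroup.mem_subgroupOf.mp this
      · rw [pow_succ, hj, hs, pow_succ]; group
  obtain ⟨n'', hn'', hm⟩ := key m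
  rw [hkm, mul_one] at hm
  obtain ⟨c, hc⟩ := exists_pow_eq_self_of_coprime hcop
  rw [← hc, hm]
  exact Subgroup.pow_mem _ hn'' c


theorem le_normalizer_inf_of_normal (S L : Subgroup X) [L.Normal] :
    S ≤ Subgroup.normalizer ((S ⊓ L : Subgroup X) : Set X) := by
  intro s hs
  rw [mem_normalizer_iff_lc, lc_inf, lc_eq_self_of_mem hs]
  congr 1
  exact Subgroup.normal_iff_map_conj_eq.mp inferInstance s

theorem lc_eq_of_normal (g : X) (L : Subgroup X) [L.Normal] : lc g L = L :=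
  Subgroup.normal_iff_map_conj_eq.mp inferInstance g

/-- splitting a conjugation along the Frattini factorization `X = N_X(S ∩ P C_X(P)) C_X(P)` -/
theorem exists_split [Finite X] [Fact p.Prime] (S : Sylow p X) {P : Subgroup X} [P.Normal]
    (hPS : P ≤ (S : Subgroup X)) {B : Subgroup X} (hB : B ≤ (S : Subgroup X)) {u : X}
    (hu : lc u⁻¹ B ≤ (S : Subgroup X)) :
    ∃ n ∈ Subgroup.normalizer
        (((S : Subgroup X) ⊓ (P ⊔ Subgroup.centralizer (P : Set X)) : Subgroup X) : Set X),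
      ∃ c ∈ Subgroup.centralizer (P : Set X), u = n * c ∧ lc n⁻¹ B ≤ (S : Subgroup X) := by
  have hSp : IsPGroup p (S : Subgroup X) := S.2
  set C := Subgroup.centralizer (P : Set X) with hC
  haveI hCn : C.Normal := Subgroup.normal_centralizer
  set L := P ⊔ C with hL
  set R := (S : Subgroup X) ⊓ L with hR
  set G₁ := Subgroup.normalizer (R : Set X) with hG₁
  have hRp : IsPGroup p R := hSp.to_inf_left
  have hRidx : ¬ p ∣ R.relIndex L := by
    rw [hR, Subgroup.inf_relIndex_right]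
    exact Cfsg.Agent.Lib.Helper40.not_dvd_relIndex_sylow_normal S L
  have hSG₁ : (S : Subgroup X) ≤ G₁ := le_normalizer_inf_of_normal _ L
  have hPR : P ≤ R := le_inf hPS le_sup_left
  have hRG₁ : R ≤ G₁ := Subgroup.le_normalizer
  -- Frattini
  have hQ₀ : lc u⁻¹ R ≤ L := by
    calc lc u⁻¹ R ≤ lc u⁻¹ L := lc_mono inf_le_right
      _ = L := lc_eq_of_normal _ L
  obtain ⟨z, hzL, hz⟩ := exists_lc_le_of_relIndex (p := p) (H := L) (P := R) inf_le_right hRp hRidx
    (isPGroup_lc (g := u⁻¹) hRp) hQ₀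
  have hg₁ : z * u⁻¹ ∈ G₁ := by
    apply mem_normalizer_of_lc_le
    rw [lc_mul]; exact hz
  have hCP : C ≤ Subgroup.normalizer (P : Set X) := by
    rw [Subgroup.normalizer_eq_top]; exact le_top
  obtain ⟨p₀, hp₀, c₀, hc₀, hzpc⟩ := (mem_sup_of_le_normalizer hCP).mp hzL
  set n₀ := (z * u⁻¹)⁻¹ * p₀ with hn₀
  have hn₀G : n₀ ∈ G₁ := G₁.mul_mem (G₁.inv_mem hg₁) (hRG₁ (hPR hp₀))
  have hun : u = n₀ * c₀ := by
    rw [hn₀, mul_assoc, ← hzpc]; group
  have hn₀inv : n₀⁻¹ = c₀ * u⁻¹ := by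
    rw [hun]; group
  set Q := lc n₀⁻¹ B with hQ
  have hQp : IsPGroup p Q := isPGroup_lc (hSp.to_le hB)
  have hQG₁ : Q ≤ G₁ := by
    calc Q ≤ lc n₀⁻¹ G₁ := lc_mono (hB.trans hSG₁)
      _ = G₁ := lc_eq_self_of_mem (G₁.inv_mem hn₀G)
  have hQCS : Q ≤ C ⊔ (S : Subgroup X) := by
    rw [hQ, hn₀inv, lc_mul]
    calc lc c₀ (lc u⁻¹ B) ≤ lc c₀ (C ⊔ (S : Subgroup X)) := lc_mono (hu.trans le_sup_right)
      _ = C ⊔ (S : Subgroup X) := lc_eq_self_of_mem (Subgroup.mem_sup_left hc₀)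
  set D := G₁ ⊓ C with hD
  have hSC : (S : Subgroup X) ≤ Subgroup.normalizer (C : Set X) := by
    rw [Subgroup.normalizer_eq_top]; exact le_top
  have hQDS : Q ≤ D ⊔ (S : Subgroup X) := by
    intro q hq
    obtain ⟨c, hc, s, hs, hqcs⟩ := (mem_sup_of_le_normalizer hSC).mp (hQCS hq)
    have hcG : c ∈ G₁ := by
      have : c = q * s⁻¹ := by rw [hqcs]; group
      rw [this]
      exact G₁.mul_mem (hQG₁ hq) (G₁.inv_mem (hSG₁ hs))
    rw [hqcs]
    exact Subgroup.mul_mem _ (Subgroup.mem_sup_left ⟨hcG, hc⟩) (Subgroup.mem_sup_right hs)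
  have hSD : (S : Subgroup X) ≤ Subgroup.normalizer (D : Set X) := by
    intro s hs
    rw [mem_normalizer_iff_lc, hD, lc_inf, lc_eq_self_of_mem (hSG₁ hs), lc_eq_of_normal]
  have hidx : ¬ p ∣ (S : Subgroup X).relIndex (D ⊔ (S : Subgroup X)) := by
    intro h
    exact S.not_dvd_index (h.trans (Subgroup.relIndex_dvd_index_of_le le_sup_right))
  obtain ⟨d, hd, hdQ⟩ := sylow_conj_normal_factor hSp hSD hidx hQp hQDS
  refine ⟨n₀ * d⁻¹, G₁.mul_mem hn₀G (G₁.inv_mem hd.1), d * c₀, C.mul_mem hd.2 hc₀, ?_, ?_⟩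
  · rw [hun]; group
  · have : (n₀ * d⁻¹)⁻¹ = d * n₀⁻¹ := by group
    rw [this, lc_mul]
    exact hdQ

/-- if `S ∩ P C_X(P)` is normal and `O_{p'}(X) = 1` then `C_X(P) ≤ P`, for `P = O_p(X)` -/
theorem centralizer_le_of_normalizer_eq_top [Finite X] [Fact p.Prime] (S : Sylow p X)
    (hK : pPrimeCore p X = ⊥) {P : Subgroup X} [P.Normal]
    (hmax : ∀ Q : Subgroup X, Q.Normal → IsPGroup p Q → Q ≤ P)
    (hR : Subgroup.normalizer
      (((S : Subgroup X) ⊓ (P ⊔ Subgroup.centralizer (P : Set X)) : Subgroup X) : Set X) = ⊤) :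
    Subgroup.centralizer (P : Set X) ≤ P := by
  have hSp : IsPGroup p (S : Subgroup X) := S.2
  set C := Subgroup.centralizer (P : Set X) with hC
  haveI hCn : C.Normal := Subgroup.normal_centralizer
  have hRn : ((S : Subgroup X) ⊓ (P ⊔ C)).Normal := Subgroup.normalizer_eq_top_iff.mp hR
  have hRP : (S : Subgroup X) ⊓ (P ⊔ C) ≤ P := hmax _ hRn hSp.to_inf_left
  have hSC : (S : Subgroup X) ⊓ C ≤ P := (inf_le_inf_left _ le_sup_right).trans hRP
  have hpsub : ∀ Q : Subgroup X, IsPGroup p Q → Q ≤ C → Q ≤ P := by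
    intro Q hQ hQC
    obtain ⟨x, hx⟩ := exists_lc_le_sylow S hQ
    have h1 : lc x Q ≤ C := by
      calc lc x Q ≤ lc x C := lc_mono hQC
        _ = C := lc_eq_of_normal _ C
    have h2 : lc x Q ≤ P := (le_inf hx h1).trans hSC
    rw [lc_le_iff, lc_eq_of_normal] at h2
    exact h2
  obtain ⟨T⟩ : Nonempty (Sylow p ↥C) := inferInstance
  have hTS : (T : Subgroup ↥C).map C.subtype ≤ P :=
    hpsub _ (T.isPGroup'.map _) (Subgroup.map_subtype_le _)
  have hTcen : (T : Subgroup ↥C) ≤ Subgroup.center ↥C := by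
    intro t ht
    rw [Subgroup.mem_center_iff]
    intro c
    have h1 : (t : X) ∈ P := hTS ⟨t, ht, rfl⟩
    have h2 := (Subgroup.mem_centralizer_iff.mp c.2) (t : X) h1
    apply Subtype.ext
    simp only [Subgroup.coe_mul]
    exact h2.symm
  have hB := Cfsg.Agent.Lib.Helper40.pPrimeCore_sup_central_sylow' p T hTcen
  haveI : (pPrimeCore p ↥C).Characteristic := Cfsg.Agent.Lib.Helper40.pPrimeCore_characteristic p ↥C
  have hYn : ((pPrimeCore p ↥C).map C.subtype).Normal := inferInstance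
  have hYc : (Nat.card ((pPrimeCore p ↥C).map C.subtype)).Coprime p := by
    rw [Subgroup.card_map_of_injective C.subtype_injective]
    exact Cfsg.Agent.Lib.Helper40.pPrimeCore_card_coprime' p ↥C
  have hY : (pPrimeCore p ↥C).map C.subtype ≤ ⊥ :=
    hK ▸ Cfsg.Agent.Lib.Helper40.le_pPrimeCore' _ hYn hYc
  have hY' : pPrimeCore p ↥C = ⊥ := by
    rw [eq_bot_iff]
    intro y hy
    have : (y : X) ∈ (⊥ : Subgroup X) := hY ⟨y, hy, rfl⟩
    rw [Subgroup.mem_bot] at this ⊢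
    exact Subtype.ext this
  rw [hY', sup_bot_eq] at hB
  intro c hc
  have : (⟨c, hc⟩ : ↥C) ∈ (T : Subgroup ↥C) := by rw [hB]; exact Subgroup.mem_top _
  exact hTS ⟨⟨c, hc⟩, this, rfl⟩

end Cfsg.Agent.Lib.Helper41
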