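import Cfsg.Agent.Lib.Helper41.Control
import Mathlib.GroupTheory.Focal

set_option autoImplicit false

namespace Cfsg.Agent.Lib.Helper41

open Cfsg
open scoped commutatorElement

variable {G : Type*} [Group G] {p : ℕ} {W : Subgroup G → Subgroup G}

theorem lc_commutator (g : G) (A B : Subgroup G) : lc g ⁅A, B⁆ = ⁅lc g A, lc g B⁆ :=
  Subgroup.map_commutator _ _ _

theorem lc_eq_self_of_mem {H : Subgroup G} {n : G} (hn : n ∈ H) : lc n H = H := by
  apply le_antisymm
  · intro x hx
    rw [mem_lc] at hx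
    have : x = n * (n⁻¹ * x * n) * n⁻¹ := by group
    rw [this]
    exact H.mul_mem (H.mul_mem hn hx) (H.inv_mem hn)
  · intro x hx
    rw [mem_lc]
    exact H.mul_mem (H.mul_mem (H.inv_mem hn) hx) hn

/-- two Sylow `p`-subgroups of `H` (relIndex form) are conjugate by an element of `H` -/
theorem exists_lc_eq_of_sylowIn [Finite G] [Fact p.Prime] {H Q M : Subgroup G} (hQH : Q ≤ H)
    (hQ : IsPGroup p Q) (hQidx : ¬ p ∣ Q.relIndex H) (hMH : M ≤ H) (hM : IsPGroup p M)
    (hidx : ¬ p ∣ M.relIndex H) : ∃ n ∈ H, lc n M = Q := by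
  obtain ⟨n, hnH, hn⟩ := exists_lc_le_of_relIndex hQH hQ hQidx hM hMH
  refine ⟨n, hnH, ?_⟩
  apply eq_of_le_of_relIndex (p := p) (H := H) hn hQH hQ
  have := relIndex_lc n M H
  rw [lc_eq_self_of_mem hnH] at this
  rw [this]
  exact hidx

/-- the transfer-control equation of `ControlsTransferIn`, at a given Sylow subgroup `M` of `H` -/
def TransAt (W : Subgroup G → Subgroup G) (H M : Subgroup G) : Prop :=
  M ⊓ ⁅H, H⁆ = M ⊓ ⁅H ⊓ Subgroup.normalizer ((W M : Subgroup G) : Set G),
    H ⊓ Subgroup.normalizer ((W M : Subgroup G) : Set G)⁆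

theorem transAt_of_controls [Finite G] [Fact p.Prime] (hW : IsConjugacyFunctor p W) {H : Subgroup G}
    (h : ControlsTransferIn p W H) {M : Subgroup G} (hMH : M ≤ H) (hM : IsPGroup p M)
    (hidx : ¬ p ∣ M.relIndex H) : TransAt W H M := by
  obtain ⟨Q, hQH, hQ, hQidx, heq⟩ := h
  obtain ⟨n, hnH, rfl⟩ := exists_lc_eq_of_sylowIn hQH hQ hQidx hMH hM hidx
  have hH : lc n H = H := lc_eq_self_of_mem hnH
  have h1 : lc n (M ⊓ ⁅H, H⁆) = lc n M ⊓ ⁅H, H⁆ := by
    rw [lc_inf, lc_commutator, hH]
  have h2 : lc n (M ⊓ ⁅H ⊓ Subgroup.normalizer ((W M : Subgroup G) : Set G),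
      H ⊓ Subgroup.normalizer ((W M : Subgroup G) : Set G)⁆) =
      lc n M ⊓ ⁅H ⊓ Subgroup.normalizer ((W (lc n M) : Subgroup G) : Set G),
      H ⊓ Subgroup.normalizer ((W (lc n M) : Subgroup G) : Set G)⁆ := by
    rw [lc_inf, lc_commutator, lc_inf, hH, ← normalizer_lc, ← functor_lc hW hM]
  apply lc_injective n
  rw [h1, h2]
  exact heq

theorem transfer_climb [Finite G] [Fact p.Prime] (hW : IsConjugacyFunctor p W) {S : Subgroup G}
    (hS : IsPGroup p S)
    (hloc : ∀ T : Subgroup G, T ≠ ⊥ → IsWellPlaced p W S T →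
      ControlsTransferIn p W (Subgroup.normalizer ((T : Subgroup G) : Set G)))
    {T : Subgroup G} (hT : IsWellPlaced p W S T) (hTne : T ≠ ⊥) (i : ℕ) :
    NS S T ⊓ ⁅Subgroup.normalizer (T : Set G), Subgroup.normalizer (T : Set G)⁆ ≤
      NS S (functorTower W S T i) ⊓
        ⁅Subgroup.normalizer ((functorTower W S T i : Subgroup G) : Set G),
          Subgroup.normalizer ((functorTower W S T i : Subgroup G) : Set G)⁆ := by
  induction i with
  | zero => exact le_rfl
  | succ i ih =>
    refine ih.trans ?_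
    have hUwp := wellPlaced_tower hW hS hT i
    have hUne : functorTower W S T i ≠ ⊥ := by
      cases i with
      | zero => exact hTne
      | succ i =>
        rw [tower_succ]
        apply functor_ne_bot hW hS.to_inf_left
        intro hbot
        apply hTne
        have : T ≤ NS S (functorTower W S T i) :=
          (le_NS hT.1).trans (NS_tower_mono hW hS T (Nat.zero_le i))
        have hbot' : NS S (functorTower W S T i) = ⊥ := hbot
        rw [hbot'] at this
        exact le_bot_iff.mp this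
    have htr : TransAt W (Subgroup.normalizer ((functorTower W S T i : Subgroup G) : Set G))
        (NS S (functorTower W S T i)) :=
      transAt_of_controls hW (hloc _ hUne hUwp) inf_le_right hS.to_inf_left (hUwp.2 0)
    rw [htr]
    refine inf_le_inf (NS_tower_le_succ hW hS T i) ?_
    exact Subgroup.commutator_mono inf_le_right inf_le_right

theorem transfer_chain {𝓕 : Set (Subgroup G)} {K : Subgroup G}
    (hstep : ∀ T ∈ 𝓕, ∀ x ∈ Subgroup.normalizer (T : Set G), ∀ t ∈ T, t⁻¹ * (x⁻¹ * t * x) ∈ K)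
    {A : Set G} {L : List (Subgroup G × G)} (hL : Chain 𝓕 A L) :
    ∀ a ∈ A, a⁻¹ * (((L.map Prod.snd).prod)⁻¹ * a * (L.map Prod.snd).prod) ∈ K := by
  induction L generalizing A with
  | nil => intro a _; simp
  | cons b L ih =>
    obtain ⟨T, x⟩ := b
    obtain ⟨h1, h2, h3, h4⟩ := hL
    intro a ha
    have e1 := hstep T h1 x h2 a (h3 ha)
    have e2 := ih h4 (x⁻¹ * a * x) ⟨a, ha, rfl⟩
    simp only [List.map_cons, List.prod_cons]
    have : a⁻¹ * ((x * (L.map Prod.snd).prod)⁻¹ * a * (x * (L.map Prod.snd).prod)) =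
        (a⁻¹ * (x⁻¹ * a * x)) * ((x⁻¹ * a * x)⁻¹ *
          (((L.map Prod.snd).prod)⁻¹ * (x⁻¹ * a * x) * (L.map Prod.snd).prod)) := by group
    rw [this]
    exact K.mul_mem e1 e2

theorem transfer_of_local [Finite G] [Fact p.Prime] (S : Sylow p G) (hW : IsConjugacyFunctor p W)
    (hloc : ∀ T : Subgroup G, T ≠ ⊥ → IsWellPlaced p W (S : Subgroup G) T →
      ControlsTransferIn p W (Subgroup.normalizer ((T : Subgroup G) : Set G))) :
    TransAt W ⊤ (S : Subgroup G) := by
  have hSp : IsPGroup p (S : Subgroup G) := S.2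
  set K : Subgroup G := (S : Subgroup G) ⊓
    ⁅Subgroup.normalizer ((W (S : Subgroup G) : Subgroup G) : Set G),
      Subgroup.normalizer ((W (S : Subgroup G) : Subgroup G) : Set G)⁆ with hK
  unfold TransAt
  rw [top_inf_eq]
  apply le_antisymm
  · -- focal subgroup theorem
    have hfoc := Subgroup.commutator_inf_eq_focalSubgroup S
    have h1 : (S : Subgroup G) ⊓ ⁅(⊤ : Subgroup G), ⊤⁆ = (S : Subgroup G).focalSubgroup := by
      rw [← hfoc, inf_comm]
      rfl
    rw [h1, Subgroup.focalSubgroup_def, Subgroup.closure_le]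
    rintro g ⟨hgS, x, hxS, u, rfl⟩
    -- u x u⁻¹ ∈ S
    have hux : u * x * u⁻¹ ∈ (S : Subgroup G) := by
      have h2 : u * x * u⁻¹ = (x⁻¹ * ⁅x, u⁆)⁻¹ := by
        rw [commutatorElement_def]; group
      rw [h2]
      exact Subgroup.inv_mem _ (Subgroup.mul_mem _ (Subgroup.inv_mem _ hxS) hgS)
    have hreach := alperin_reach S {T : Subgroup G | IsWellPlaced p W (S : Subgroup G) T}
      (fun U hU => hU.1) (by
        intro T hT
        obtain ⟨g, hg⟩ := exists_wellPlaced_lc hW S hT
        exact ⟨_, hg, ⟨g, rfl⟩, hg.2 0⟩)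
    have hA : ({x⁻¹} : Set G) ⊆ ((S : Subgroup G) : Set G) := by
      rintro _ rfl
      exact Subgroup.inv_mem _ hxS
    have hAg : rconj u⁻¹ ({x⁻¹} : Set G) ⊆ ((S : Subgroup G) : Set G) := by
      rintro _ ⟨_, rfl, rfl⟩
      have : u⁻¹⁻¹ * x⁻¹ * u⁻¹ = (u * x * u⁻¹)⁻¹ := by group
      show u⁻¹⁻¹ * x⁻¹ * u⁻¹ ∈ (S : Subgroup G)
      rw [this]
      exact Subgroup.inv_mem _ hux
    obtain ⟨L, hL, hprod⟩ := reach_set hreach hA hAg
    have hstep : ∀ T ∈ {T : Subgroup G | IsWellPlaced p W (S : Subgroup G) T},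
        ∀ y ∈ Subgroup.normalizer (T : Set G), ∀ t ∈ T, t⁻¹ * (y⁻¹ * t * y) ∈ K := by
      intro T hT y hy t ht
      by_cases hTne : T = ⊥
      · rw [hTne, Subgroup.mem_bot] at ht
        subst ht
        simp
      · obtain ⟨i, hi⟩ := tower_eventually hW hSp T
        have hcl := transfer_climb hW hSp hloc hT hTne (i + 1)
        rw [hi] at hcl
        have hNS : NS (S : Subgroup G) (W (S : Subgroup G)) = (S : Subgroup G) := by
          apply le_antisymm inf_le_left
          apply le_inf le_rfl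
          exact Subgroup.le_normalizer.trans (normalizer_le_normalizer_functor hW hSp)
        rw [hNS] at hcl
        apply hcl
        refine Subgroup.mem_inf.mpr ⟨le_NS hT.1 ?_, ?_⟩
        · have hy' : y⁻¹ * t * y ∈ T := by
            have := mem_normalizer_iff_lc.mp (Subgroup.inv_mem _ hy)
            rw [← this]
            have := conj_mem_lc (g := y⁻¹) ht
            simpa using this
          exact T.mul_mem (T.inv_mem ht) hy'
        · have : t⁻¹ * (y⁻¹ * t * y) = ⁅t⁻¹, y⁻¹⁆ := by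
            rw [commutatorElement_def]; group
          rw [this]
          exact Subgroup.commutator_mem_commutator
            (Subgroup.le_normalizer (Subgroup.inv_mem _ ht)) (Subgroup.inv_mem _ hy)
    have := transfer_chain hstep hL x⁻¹ rfl
    rw [hprod] at this
    have e : (x⁻¹)⁻¹ * (u⁻¹⁻¹ * x⁻¹ * u⁻¹) = ⁅x, u⁆ := by
      rw [commutatorElement_def]; group
    rw [e] at this
    exact this
  · exact inf_le_inf le_rfl (Subgroup.commutator_mono le_top le_top)

end Cfsg.Agent.Lib.Helper41
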