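import Cfsg.Agent.Lib.Helper41.FChain
import Cfsg.Agent.Lib.Helper41.TransferCtl

set_option autoImplicit false

namespace Cfsg.Agent.Lib.Helper41

open Cfsg

variable {G : Type*} [Group G] {p : ℕ}

/-- the steps allowed in the definition of `FamilyControlsStrongFusionIn` -/
def stepSet (𝓦 : Set (Subgroup G → Subgroup G)) (H M : Subgroup G) : Set G :=
  {y | ∃ W ∈ 𝓦, y ∈ H ⊓ Subgroup.normalizer ((W M : Subgroup G) : Set G)}

theorem stepSet_inv {𝓦 : Set (Subgroup G → Subgroup G)} {H M : Subgroup G} :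
    ∀ y ∈ stepSet 𝓦 H M, y⁻¹ ∈ stepSet 𝓦 H M :=
  fun _ ⟨W, hW, hy⟩ => ⟨W, hW, Subgroup.inv_mem _ hy⟩

theorem image_conj_eq_rconj (g : G) (A : Set G) : (fun a => g * a * g⁻¹) '' A = rconj g⁻¹ A := by
  unfold rconj
  simp only [inv_inv]

theorem freach_of_fin {K : Set G} (hK : ∀ y ∈ K, y⁻¹ ∈ K) {M : Subgroup G} {A : Set G} :
    ∀ (n : ℕ) (c : Fin (n + 1) → G),
      (∀ i : Fin n, c i.succ * (c i.castSucc)⁻¹ ∈ K) →
      (∀ i : Fin (n + 1), rconj (c i)⁻¹ A ⊆ M) →
      FReach K M (rconj (c 0)⁻¹ A) (c 0 * (c (Fin.last n))⁻¹) := by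
  intro n
  induction n with
  | zero =>
    intro c _ hM
    have : c 0 * (c (Fin.last 0))⁻¹ = 1 := by
      have : (Fin.last 0 : Fin 1) = 0 := rfl
      rw [this]; group
    rw [this]
    exact FReach.refl (hM 0)
  | succ n ih =>
    intro c hstep hM
    have r1 := ih (fun i => c i.castSucc)
      (fun i => by
        have := hstep i.castSucc
        rw [Fin.succ_castSucc] at this
        exact this)
      (fun i => hM i.castSucc)
    simp only [Fin.castSucc_zero] at r1
    set cn := c (Fin.last n).castSucc with hcn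
    set cl := c (Fin.last (n + 1)) with hcl
    have hy : cn * cl⁻¹ ∈ K := by
      have := hK _ (hstep (Fin.last n))
      rw [Fin.succ_last] at this
      have e : (c (Fin.last (n + 1)) * (c (Fin.last n).castSucc)⁻¹)⁻¹ = cn * cl⁻¹ := by
        rw [hcn, hcl]; group
      rwa [e] at this
    have e1 : rconj (c 0 * cn⁻¹) (rconj (c 0)⁻¹ A) = rconj cn⁻¹ A := by
      rw [← rconj_mul]; congr 1; group
    have r2 : FReach K M (rconj (c 0 * cn⁻¹) (rconj (c 0)⁻¹ A)) (cn * cl⁻¹) := by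
      rw [e1]
      refine FReach.single hy (hM _) ?_
      have : rconj (cn * cl⁻¹) (rconj cn⁻¹ A) = rconj cl⁻¹ A := by
        rw [← rconj_mul]; congr 1; group
      rw [this]
      exact hM _
    have := FReach.trans r1 r2
    have e : c 0 * cn⁻¹ * (cn * cl⁻¹) = c 0 * cl⁻¹ := by group
    rwa [e] at this

theorem fin_of_fchain {K : Set G} (hK : ∀ y ∈ K, y⁻¹ ∈ K) {M : Subgroup G} :
    ∀ (L : List G) (A : Set G), FChain K M A L →
      ∃ (n : ℕ) (c : Fin (n + 1) → G), c 0 = 1 ∧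
        (∀ i : Fin n, c i.succ * (c i.castSucc)⁻¹ ∈ K) ∧
        (∀ i : Fin (n + 1), rconj (c i)⁻¹ A ⊆ M) ∧ c (Fin.last n) = L.prod⁻¹ := by
  intro L
  induction L with
  | nil =>
    intro A hA
    refine ⟨0, fun _ => 1, rfl, fun i => i.elim0, fun _ => ?_, by simp⟩
    have hA' : A ⊆ M := hA
    simpa using hA'
  | cons y L ih =>
    intro A hA
    obtain ⟨h1, h2, h3⟩ := hA
    obtain ⟨n, c, hc0, hcs, hcM, hcl⟩ := ih _ h3
    refine ⟨n + 1, Fin.cons 1 (fun i => c i * y⁻¹), by simp, ?_, ?_, ?_⟩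
    · intro i
      refine Fin.cases ?_ (fun j => ?_) i
      · have : ((0 : Fin (n + 1)).castSucc : Fin (n + 2)) = 0 := rfl
        rw [this, Fin.cons_succ, Fin.cons_zero, hc0]
        simpa using hK y h2
      · have : (j.succ.castSucc : Fin (n + 2)) = j.castSucc.succ := (Fin.succ_castSucc j).symm
        rw [this, Fin.cons_succ, Fin.cons_succ]
        have e : c j.succ * y⁻¹ * (c j.castSucc * y⁻¹)⁻¹ = c j.succ * (c j.castSucc)⁻¹ := by group
        rw [e]
        exact hcs j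
    · intro i
      refine Fin.cases ?_ (fun j => ?_) i
      · rw [Fin.cons_zero]; simpa using h1
      · rw [Fin.cons_succ]
        have e : (c j * y⁻¹)⁻¹ = y * (c j)⁻¹ := by group
        rw [e, rconj_mul]
        exact hcM j
    · have : (Fin.last (n + 1) : Fin (n + 2)) = (Fin.last n).succ := (Fin.succ_last n).symm
      rw [this, Fin.cons_succ, hcl, List.prod_cons]
      group

theorem fchain_conj {K : Set G} {M : Subgroup G} (n : G) :
    ∀ (L : List G) (A : Set G), FChain K M A L →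
      FChain ((fun y => n * y * n⁻¹) '' K) (lc n M) (rconj n⁻¹ A)
        (L.map (fun y => n * y * n⁻¹)) := by
  have hsub : ∀ A : Set G, A ⊆ M → rconj n⁻¹ A ⊆ (lc n M : Subgroup G) := by
    rintro A hA _ ⟨a, ha, rfl⟩
    have := conj_mem_lc (g := n) (hA ha)
    simpa using this
  intro L
  induction L with
  | nil =>
    intro A hA
    exact hsub A hA
  | cons y L ih =>
    intro A hA
    obtain ⟨h1, h2, h3⟩ := hA
    refine ⟨hsub A h1, ⟨y, h2, rfl⟩, ?_⟩
    have := ih _ h3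
    have e : rconj (n * y * n⁻¹) (rconj n⁻¹ A) = rconj n⁻¹ (rconj y A) := by
      rw [← rconj_mul, ← rconj_mul]; congr 1; group
    rw [e]
    exact this

theorem prod_map_conj (n : G) (L : List G) :
    (L.map (fun y => n * y * n⁻¹)).prod = n * L.prod * n⁻¹ := by
  induction L with
  | nil => simp
  | cons y L ih =>
    simp only [List.map_cons, List.prod_cons, ih]
    group

theorem stepSet_conj [Finite G] {𝓦 : Set (Subgroup G → Subgroup G)}
    (h𝓦 : ∀ W ∈ 𝓦, IsConjugacyFunctor p W) {H M : Subgroup G} (hM : IsPGroup p M) {n : G}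
    (hn : n ∈ H) :
    (fun y => n * y * n⁻¹) '' stepSet 𝓦 H M ⊆ stepSet 𝓦 H (lc n M) := by
  rintro _ ⟨y, ⟨W, hW, hy⟩, rfl⟩
  refine ⟨W, hW, Subgroup.mem_inf.mpr ⟨H.mul_mem (H.mul_mem hn hy.1) (H.inv_mem hn), ?_⟩⟩
  rw [functor_lc (h𝓦 W hW) hM, normalizer_lc]
  exact conj_mem_lc hy.2

theorem freach_lc [Finite G] {𝓦 : Set (Subgroup G → Subgroup G)}
    (h𝓦 : ∀ W ∈ 𝓦, IsConjugacyFunctor p W) {H M : Subgroup G} (hM : IsPGroup p M) {n : G}
    (hn : n ∈ H) {A : Set G} {g : G} (h : FReach (stepSet 𝓦 H M) M A g) :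
    FReach (stepSet 𝓦 H (lc n M)) (lc n M) (rconj n⁻¹ A) (n * g * n⁻¹) := by
  obtain ⟨L, hL, hag⟩ := h
  refine ⟨L.map (fun y => n * y * n⁻¹),
    fchain_weaken (stepSet_conj h𝓦 hM hn) le_rfl (fchain_conj n L A hL), ?_⟩
  rintro _ ⟨a, ha, rfl⟩
  rw [prod_map_conj]
  have e := hag a ha
  calc (n * L.prod * n⁻¹)⁻¹ * (n⁻¹⁻¹ * a * n⁻¹) * (n * L.prod * n⁻¹)
      = n * (L.prod⁻¹ * a * L.prod) * n⁻¹ := by group
  _ = n * (g⁻¹ * a * g) * n⁻¹ := by rw [e]
  _ = (n * g * n⁻¹)⁻¹ * (n⁻¹⁻¹ * a * n⁻¹) * (n * g * n⁻¹) := by group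

/-- `FamilyControlsStrongFusionIn`, at a given Sylow subgroup `M` of `H`, in terms of `FReach` -/
def FCtrlAt (𝓦 : Set (Subgroup G → Subgroup G)) (H M : Subgroup G) : Prop :=
  ∀ (A : Set G) (x : G), x ∈ H → A ⊆ M → rconj x A ⊆ M → FReach (stepSet 𝓦 H M) M A x

theorem fctrlAt_of_controls [Finite G] [Fact p.Prime] {𝓦 : Set (Subgroup G → Subgroup G)}
    (h𝓦 : ∀ W ∈ 𝓦, IsConjugacyFunctor p W) {H : Subgroup G}
    (h : FamilyControlsStrongFusionIn p 𝓦 H) {M : Subgroup G} (hMH : M ≤ H) (hM : IsPGroup p M)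
    (hidx : ¬ p ∣ M.relIndex H) : FCtrlAt 𝓦 H M := by
  obtain ⟨Q, hQH, hQ, hQidx, hctl⟩ := h
  obtain ⟨n, hnH, rfl⟩ := exists_lc_eq_of_sylowIn hQH hQ hQidx hMH hM hidx
  -- now `Q = lc n M`
  intro A x hx hA hxA
  -- move to `Q`
  set A' := rconj n⁻¹ A with hA'
  have hA'Q : A' ⊆ (lc n M : Subgroup G) := by
    rintro _ ⟨a, ha, rfl⟩
    have := conj_mem_lc (g := n) (hA ha)
    simpa using this
  set x' := n * x * n⁻¹ with hx'
  have hx'H : x' ∈ H := H.mul_mem (H.mul_mem hnH hx) (H.inv_mem hnH)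
  have hx'A' : rconj x' A' ⊆ (lc n M : Subgroup G) := by
    have e : rconj x' A' = rconj n⁻¹ (rconj x A) := by
      rw [hA', hx', ← rconj_mul, ← rconj_mul]; congr 1; group
    rw [e]
    rintro _ ⟨a, ha, rfl⟩
    have := conj_mem_lc (g := n) (hxA ha)
    simpa using this
  have himg : (fun a => x'⁻¹ * a * x'⁻¹⁻¹) '' A' ⊆ (lc n M : Subgroup G) := by
    rw [image_conj_eq_rconj, inv_inv]; exact hx'A'
  obtain ⟨k, c, hc0, hcs, hcM, hcl⟩ := hctl A' x'⁻¹ (H.inv_mem hx'H) hA'Q himg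
  have hcs' : ∀ i : Fin k, c i.succ * (c i.castSucc)⁻¹ ∈ stepSet 𝓦 H (lc n M) := by
    intro i
    obtain ⟨W, hW, hi⟩ := hcs i
    exact ⟨W, hW, hi⟩
  have hcM' : ∀ i : Fin (k + 1), rconj (c i)⁻¹ A' ⊆ (lc n M : Subgroup G) := by
    intro i
    rw [← image_conj_eq_rconj]; exact hcM i
  have r := freach_of_fin (stepSet_inv) k c hcs' hcM'
  rw [hc0] at r
  simp only [inv_one, rconj_one, one_mul] at r
  have r' : FReach (stepSet 𝓦 H (lc n M)) (lc n M) A' x' := by
    refine r.congr ?_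
    intro a ha
    have := hcl a ha
    simp only [inv_inv] at this ⊢
    rw [this]
  have hMn : IsPGroup p (lc n M) := isPGroup_lc hM
  have r'' := freach_lc h𝓦 hMn (H.inv_mem hnH) r'
  have e1 : rconj n⁻¹⁻¹ A' = A := by
    rw [hA', inv_inv, ← rconj_mul]; simp
  have e2 : n⁻¹ * x' * n⁻¹⁻¹ = x := by rw [hx']; group
  have e3 : lc n⁻¹ (lc n M) = M := lc_inv_lc n M
  rw [e1, e2, e3] at r''
  exact r''

/-- every subgroup `T` of a Sylow `p`-subgroup `S` has a conjugate `T' ≤ S` with `N_S(T')` Sylow in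
`N_G(T')`, the conjugation carrying `N_S(T)` into `N_S(T')` -/
theorem exists_fullyNormalized_lc' [Finite G] [Fact p.Prime] (S : Sylow p G) {T : Subgroup G}
    (hTS : T ≤ (S : Subgroup G)) :
    ∃ c : G, lc c T ≤ (S : Subgroup G) ∧
      ¬ p ∣ ((S : Subgroup G) ⊓ Subgroup.normalizer ((lc c T : Subgroup G) : Set G)).relIndex
        (Subgroup.normalizer ((lc c T : Subgroup G) : Set G)) ∧
      lc c ((S : Subgroup G) ⊓ Subgroup.normalizer (T : Set G)) ≤
        (S : Subgroup G) ⊓ Subgroup.normalizer ((lc c T : Subgroup G) : Set G) := by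
  have hSp : IsPGroup p (S : Subgroup G) := S.2
  obtain ⟨R, hPR, hRN, hRp, hRidx⟩ := exists_sylowIn_ge (p := p)
    (H := Subgroup.normalizer (T : Set G))
    (Q := (S : Subgroup G) ⊓ Subgroup.normalizer (T : Set G)) hSp.to_inf_left inf_le_right
  obtain ⟨c, hc⟩ := exists_lc_le_sylow S hRp
  have h1 : lc c R ≤ (S : Subgroup G) ⊓ Subgroup.normalizer ((lc c T : Subgroup G) : Set G) := by
    refine le_inf hc ?_
    rw [normalizer_lc]
    exact lc_mono hRN
  refine ⟨c, ?_, ?_, (lc_mono hPR).trans h1⟩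
  · exact (lc_mono ((le_NS hTS).trans hPR)).trans hc
  · have h2 := Subgroup.relIndex_dvd_of_le_left
      (Subgroup.normalizer ((lc c T : Subgroup G) : Set G)) h1
    intro hdvd
    apply hRidx
    have := dvd_trans hdvd h2
    rwa [normalizer_lc, relIndex_lc] at this

theorem chain_restrict [Finite G] {𝓕 : Set (Subgroup G)} :
    ∀ (L : List (Subgroup G × G)) (X : Subgroup G), Chain 𝓕 (X : Set G) L →
      Chain {T | T ∈ 𝓕 ∧ Nat.card X ≤ Nat.card T} (X : Set G) L := by
  intro L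
  induction L with
  | nil => intro X _; trivial
  | cons b L ih =>
    intro X hL
    obtain ⟨T, x⟩ := b
    obtain ⟨h1, h2, h3, h4⟩ := hL
    have hXT : X ≤ T := by exact_mod_cast h3
    refine ⟨⟨h1, Subgroup.card_le_of_le hXT⟩, h2, h3, ?_⟩
    rw [rconj_coe] at h4 ⊢
    have := ih _ h4
    rw [card_lc] at this
    exact this

section family

variable [Finite G] [Fact p.Prime] (S : Sylow p G) {𝓦 : Set (Subgroup G → Subgroup G)}

/-- the fully normalized subgroups of `S` -/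
def fnFamily (p : ℕ) [Fact p.Prime] (S : Sylow p G) : Set (Subgroup G) :=
  {T | T ≤ (S : Subgroup G) ∧
    ¬ p ∣ ((S : Subgroup G) ⊓ Subgroup.normalizer ((T : Subgroup G) : Set G)).relIndex
        (Subgroup.normalizer ((T : Subgroup G) : Set G))}

theorem fn_reach : ∀ T : Subgroup G, T ≤ (S : Subgroup G) → ∀ g : G, lc g⁻¹ T ≤ (S : Subgroup G) →
    Reach (fnFamily p S) (T : Set G) g :=
  alperin_reach S (fnFamily p S) (fun U hU => hU.1) (by
    intro T hT
    obtain ⟨c, hc1, hc2⟩ := exists_fullyNormalized_lc S hT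
    exact ⟨_, ⟨hc1, hc2⟩, ⟨c, rfl⟩, hc2⟩)

theorem family_step (h𝓦 : ∀ W ∈ 𝓦, IsConjugacyFunctor p W)
    (hloc : ∀ T : Subgroup G, T ≤ (S : Subgroup G) → T ≠ ⊥ →
      ¬ p ∣ ((S : Subgroup G) ⊓ Subgroup.normalizer ((T : Subgroup G) : Set G)).relIndex
        (Subgroup.normalizer ((T : Subgroup G) : Set G)) →
      FamilyControlsStrongFusionIn p 𝓦 (Subgroup.normalizer ((T : Subgroup G) : Set G)))
    (T : Subgroup G) (hTS : T ≤ (S : Subgroup G)) (hTne : T ≠ ⊥)
    (hTfn : ¬ p ∣ ((S : Subgroup G) ⊓ Subgroup.normalizer ((T : Subgroup G) : Set G)).relIndex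
        (Subgroup.normalizer ((T : Subgroup G) : Set G)))
    (IH : ∀ T' : Subgroup G, T' ≤ (S : Subgroup G) → T' ≠ ⊥ →
      ¬ p ∣ ((S : Subgroup G) ⊓ Subgroup.normalizer ((T' : Subgroup G) : Set G)).relIndex
        (Subgroup.normalizer ((T' : Subgroup G) : Set G)) →
      Nat.card ((S : Subgroup G) ⊓ Subgroup.normalizer (T : Set G) : Subgroup G) <
        Nat.card ((S : Subgroup G) ⊓ Subgroup.normalizer (T' : Set G) : Subgroup G) →
      ∀ x ∈ Subgroup.normalizer (T' : Set G), ∀ A : Set G,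
        A ⊆ ((S : Subgroup G) ⊓ Subgroup.normalizer (T' : Set G) : Subgroup G) →
        rconj x A ⊆ ((S : Subgroup G) ⊓ Subgroup.normalizer (T' : Set G) : Subgroup G) →
        FReach (stepSet 𝓦 ⊤ (S : Subgroup G)) (S : Subgroup G) A x) :
    ∀ x ∈ Subgroup.normalizer (T : Set G), ∀ A : Set G,
      A ⊆ ((S : Subgroup G) ⊓ Subgroup.normalizer (T : Set G) : Subgroup G) →
      rconj x A ⊆ ((S : Subgroup G) ⊓ Subgroup.normalizer (T : Set G) : Subgroup G) →
      FReach (stepSet 𝓦 ⊤ (S : Subgroup G)) (S : Subgroup G) A x := by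
  have hSp : IsPGroup p (S : Subgroup G) := S.2
  set M := (S : Subgroup G) ⊓ Subgroup.normalizer (T : Set G) with hM
  have hMp : IsPGroup p M := hSp.to_inf_left
  have hTM : T ≤ M := le_NS hTS
  have hMne : M ≠ ⊥ := by
    intro h
    apply hTne
    rw [h] at hTM
    exact le_bot_iff.mp hTM
  have hctl := fctrlAt_of_controls h𝓦 (hloc T hTS hTne hTfn) (M := M) inf_le_right hMp hTfn
  intro x hx A hA hxA
  have r := hctl A x hx hA hxA
  apply freach_bind r ?_ inf_le_left
  intro y hy B hB hyB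
  obtain ⟨W, hW, hyW⟩ := hy
  have hWf := h𝓦 W hW
  by_cases hMS : M = S
  · refine FReach.single ⟨W, hW, Subgroup.mem_inf.mpr ⟨Subgroup.mem_top _, ?_⟩⟩
      (hB.trans (by exact_mod_cast (inf_le_left : M ≤ (S : Subgroup G))))
      (hyB.trans (by exact_mod_cast (inf_le_left : M ≤ (S : Subgroup G))))
    rw [← hMS]
    exact hyW.2
  · set U := W M with hU
    have hUM : U ≤ M := functor_le hWf hMp
    have hUne : U ≠ ⊥ := functor_ne_bot hWf hMp hMne
    have hUS : U ≤ (S : Subgroup G) := hUM.trans inf_le_left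
    have hNN : Subgroup.normalizer ((M : Subgroup G) : Set G) ≤
        Subgroup.normalizer ((U : Subgroup G) : Set G) := normalizer_le_normalizer_functor hWf hMp
    have hMNU : M ≤ (S : Subgroup G) ⊓ Subgroup.normalizer ((U : Subgroup G) : Set G) :=
      le_inf inf_le_left (Subgroup.le_normalizer.trans hNN)
    have hlt : M < (S : Subgroup G) ⊓ Subgroup.normalizer ((M : Subgroup G) : Set G) :=
      lt_inf_normalizer_of_ne hSp inf_le_left hMS
    have hcard : Nat.card M <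
        Nat.card ((S : Subgroup G) ⊓ Subgroup.normalizer ((U : Subgroup G) : Set G) : Subgroup G) :=
      lt_of_lt_of_le (card_lt_card_of_lt hlt) (Subgroup.card_le_of_le (inf_le_inf le_rfl hNN))
    obtain ⟨c, hc1, hc2, hc3⟩ := exists_fullyNormalized_lc' S hUS
    set U' := lc c U with hU'
    have hU'ne : U' ≠ ⊥ := by
      rw [hU', Ne, lc_eq_bot_iff]; exact hUne
    have hcard' : Nat.card M <
        Nat.card ((S : Subgroup G) ⊓ Subgroup.normalizer ((U' : Subgroup G) : Set G) : Subgroup G) := by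
      refine lt_of_lt_of_le hcard ?_
      rw [← card_lc c]
      exact Subgroup.card_le_of_le hc3
    set NU := (S : Subgroup G) ⊓ Subgroup.normalizer ((U : Subgroup G) : Set G) with hNU
    -- conjugation by `c⁻¹` on `N_S(U)` is good
    have rc : FReach (stepSet 𝓦 ⊤ (S : Subgroup G)) (S : Subgroup G) (NU : Set G) c⁻¹ := by
      obtain ⟨L, hL, hprod⟩ := fn_reach S NU inf_le_left c⁻¹ (by
        rw [inv_inv]; exact hc3.trans inf_le_left)
      rw [← hprod]
      have hL' := chain_restrict L NU hL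
      refine freach_of_chain (fun T' hT' => hT'.1.1) ?_ L _ hL'
        (by exact_mod_cast (inf_le_left : NU ≤ (S : Subgroup G)))
      intro T' hT' x' hx' B' hB'
      obtain ⟨⟨hT'S, hT'fn⟩, hT'card⟩ := hT'
      have hT'N : T' ≤ (S : Subgroup G) ⊓ Subgroup.normalizer ((T' : Subgroup G) : Set G) :=
        le_NS hT'S
      have hc' : Nat.card M < Nat.card T' := lt_of_lt_of_le hcard hT'card
      have hT'ne : T' ≠ ⊥ := by
        intro h
        rw [h, Subgroup.card_bot] at hc'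
        have : 0 < Nat.card M := Nat.card_pos
        omega
      refine IH T' hT'S hT'ne hT'fn (lt_of_lt_of_le hc' (Subgroup.card_le_of_le hT'N)) x' hx' B'
        (hB'.trans (by exact_mod_cast hT'N)) ?_
      exact (rconj_subset_of_mem_normalizer hx' hB').trans (by exact_mod_cast hT'N)
    set y' := c * y * c⁻¹ with hy'
    have hy'N : y' ∈ Subgroup.normalizer ((U' : Subgroup G) : Set G) := by
      rw [hU', normalizer_lc]
      exact conj_mem_lc hyW.2
    have hsub : ∀ X : Set G, X ⊆ M → rconj c⁻¹ X ⊆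
        ((S : Subgroup G) ⊓ Subgroup.normalizer ((U' : Subgroup G) : Set G) : Subgroup G) := by
      rintro X hX _ ⟨a, ha, rfl⟩
      apply hc3
      have := conj_mem_lc (g := c) (hMNU (hX ha))
      simpa using this
    have e0 : rconj y' (rconj c⁻¹ B) = rconj c⁻¹ (rconj y B) := by
      rw [← rconj_mul, ← rconj_mul]; congr 1; rw [hy']; group
    have r2 : FReach (stepSet 𝓦 ⊤ (S : Subgroup G)) (S : Subgroup G) (rconj c⁻¹ B) y' :=
      IH U' hc1 hU'ne hc2 hcard' y' hy'N _ (hsub B hB) (by rw [e0]; exact hsub _ hyB)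
    have r1 : FReach (stepSet 𝓦 ⊤ (S : Subgroup G)) (S : Subgroup G) B c⁻¹ :=
      rc.mono (hB.trans (by exact_mod_cast hMNU))
    have r3 : FReach (stepSet 𝓦 ⊤ (S : Subgroup G)) (S : Subgroup G) (rconj y B) c⁻¹ :=
      rc.mono (hyB.trans (by exact_mod_cast hMNU))
    have r3' : FReach (stepSet 𝓦 ⊤ (S : Subgroup G)) (S : Subgroup G)
        (rconj c⁻¹ (rconj y B)) c := by
      have := r3.symm stepSet_inv
      simpa using this
    have r12 := r1.trans r2
    have r123 : FReach (stepSet 𝓦 ⊤ (S : Subgroup G)) (S : Subgroup G) B (c⁻¹ * y' * c) := by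
      refine r12.trans ?_
      rw [rconj_mul, e0]
      exact r3'
    have e : c⁻¹ * y' * c = y := by rw [hy']; group
    rwa [e] at r123

theorem family_claim (h𝓦 : ∀ W ∈ 𝓦, IsConjugacyFunctor p W)
    (hloc : ∀ T : Subgroup G, T ≤ (S : Subgroup G) → T ≠ ⊥ →
      ¬ p ∣ ((S : Subgroup G) ⊓ Subgroup.normalizer ((T : Subgroup G) : Set G)).relIndex
        (Subgroup.normalizer ((T : Subgroup G) : Set G)) →
      FamilyControlsStrongFusionIn p 𝓦 (Subgroup.normalizer ((T : Subgroup G) : Set G))) :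
    ∀ (d : ℕ) (T : Subgroup G), T ≤ (S : Subgroup G) → T ≠ ⊥ →
      ¬ p ∣ ((S : Subgroup G) ⊓ Subgroup.normalizer ((T : Subgroup G) : Set G)).relIndex
        (Subgroup.normalizer ((T : Subgroup G) : Set G)) →
      Nat.card (S : Subgroup G) ≤
        Nat.card ((S : Subgroup G) ⊓ Subgroup.normalizer (T : Set G) : Subgroup G) + d →
      ∀ x ∈ Subgroup.normalizer (T : Set G), ∀ A : Set G,
        A ⊆ ((S : Subgroup G) ⊓ Subgroup.normalizer (T : Set G) : Subgroup G) →
        rconj x A ⊆ ((S : Subgroup G) ⊓ Subgroup.normalizer (T : Set G) : Subgroup G) →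
        FReach (stepSet 𝓦 ⊤ (S : Subgroup G)) (S : Subgroup G) A x := by
  intro d
  induction d with
  | zero =>
    intro T hTS hTne hTfn hcard
    apply family_step S h𝓦 hloc T hTS hTne hTfn
    intro T' hT'S _ _ hlt
    have := Subgroup.card_le_of_le (inf_le_left :
      (S : Subgroup G) ⊓ Subgroup.normalizer (T' : Set G) ≤ (S : Subgroup G))
    omega
  | succ d ih =>
    intro T hTS hTne hTfn hcard
    apply family_step S h𝓦 hloc T hTS hTne hTfn
    intro T' hT'S hT'ne hT'fn hlt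
    exact ih T' hT'S hT'ne hT'fn (by omega)

/-- local-to-global for control of strong fusion by a set of conjugacy functors -/
theorem family_controls_of_local (h𝓦 : ∀ W ∈ 𝓦, IsConjugacyFunctor p W)
    (hloc : ∀ T : Subgroup G, T ≤ (S : Subgroup G) → T ≠ ⊥ →
      ¬ p ∣ ((S : Subgroup G) ⊓ Subgroup.normalizer ((T : Subgroup G) : Set G)).relIndex
        (Subgroup.normalizer ((T : Subgroup G) : Set G)) →
      FamilyControlsStrongFusionIn p 𝓦 (Subgroup.normalizer ((T : Subgroup G) : Set G)))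
    (A : Set G) (hA : A ⊆ (S : Subgroup G)) (g : G) (hgA : rconj g A ⊆ (S : Subgroup G)) :
    FReach (stepSet 𝓦 ⊤ (S : Subgroup G)) (S : Subgroup G) A g := by
  obtain ⟨L, hL, hprod⟩ := reach_set (fn_reach S) hA hgA
  rw [← hprod]
  refine freach_of_chain (fun T' hT' => hT'.1) ?_ L _ hL hA
  intro T' hT' x' hx' B' hB'
  have hT'N : T' ≤ (S : Subgroup G) ⊓ Subgroup.normalizer ((T' : Subgroup G) : Set G) :=
    le_NS hT'.1
  by_cases hT'ne : T' = ⊥
  · have hB1 : ∀ a ∈ B', a = 1 := by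
      intro a ha
      have := hB' ha
      rw [hT'ne] at this
      exact Subgroup.mem_bot.mp this
    refine (FReach.refl (hB'.trans (by exact_mod_cast hT'.1))).congr ?_
    intro a ha
    rw [hB1 a ha]
    group
  · exact family_claim S h𝓦 hloc (Nat.card (S : Subgroup G)) T' hT'.1 hT'ne hT'.2
      (Nat.le_add_left _ _) x' hx' B' (hB'.trans (by exact_mod_cast hT'N))
      ((rconj_subset_of_mem_normalizer hx' hB').trans (by exact_mod_cast hT'N))

end family

end Cfsg.Agent.Lib.Helper41
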