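import Cfsg.Agent.Lib.Helper41.Sections
import Cfsg.Agent.Lib.Helper41.FamilyCtl
import Cfsg.Agent.Lib.Helper41.FamilyTransfer
import Cfsg.Agent.Lib.Helper41.SecInd

set_option autoImplicit false

namespace Cfsg.Agent.Lib.Helper41

open Cfsg

universe u

/-- the conjugacy functors on `X` induced by a set of functors on groups -/
def indFam (𝓦 : Set (∀ (Q : Type u) [Group Q], Subgroup Q)) (X : Type u) [Group X] :
    Set (Subgroup X → Subgroup X) :=
  (fun W => inducedFunctor (G := X) W) '' 𝓦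

section basic

variable {p : ℕ} (W : ∀ (Q : Type u) [Group Q], Subgroup Q)

theorem isConjugacyFunctor_inducedFunctor (hW : IsCharPFunctor.{u} p W) (X : Type u) [Group X]
    [Finite X] : IsConjugacyFunctor p (inducedFunctor (G := X) W) := by
  intro P hP
  exact ⟨inducedFunctor_le W P, inducedFunctor_ne_bot W hW P hP, inducedFunctor_conj W hW P hP⟩

theorem isConjugacyFunctor_indFam {𝓦 : Set (∀ (Q : Type u) [Group Q], Subgroup Q)}
    (h𝓦 : ∀ W ∈ 𝓦, IsCharPFunctor.{u} p W) (X : Type u) [Group X] [Finite X] :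
    ∀ F ∈ indFam 𝓦 X, IsConjugacyFunctor p F := by
  rintro _ ⟨W, hW, rfl⟩
  exact isConjugacyFunctor_inducedFunctor W (h𝓦 W hW) X

/-- the induced functor commutes with homomorphisms that are injective on the subgroup -/
theorem inducedFunctor_map_injOn (hW : IsCharPFunctor.{u} p W) {X Y : Type u} [Group X] [Group Y]
    (f : X →* Y) (T : Subgroup X) [Finite T] (hT : IsPGroup p T)
    (hinj : ∀ t ∈ T, f t = 1 → t = 1) :
    inducedFunctor W (T.map f) = (inducedFunctor W T).map f := by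
  have hbij : Function.Bijective (f.subgroupMap T) := by
    refine ⟨?_, f.subgroupMap_surjective T⟩
    rw [injective_iff_map_eq_one]
    intro t ht
    have h1 : f (t : X) = 1 := by
      have := congrArg Subtype.val ht
      simpa using this
    exact Subtype.ext (hinj t t.2 h1)
  let e : ↥T ≃* ↥(T.map f) := MulEquiv.ofBijective (f.subgroupMap T) hbij
  unfold inducedFunctor
  have h := hW.2 ↥T ↥(T.map f) hT e
  rw [← h, Subgroup.map_map, Subgroup.map_map]
  rfl

theorem inducedFunctor_map_injective (hW : IsCharPFunctor.{u} p W) {X Y : Type u} [Group X]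
    [Group Y] (f : X →* Y) (hf : Function.Injective f) (T : Subgroup X) [Finite T]
    (hT : IsPGroup p T) : inducedFunctor W (T.map f) = (inducedFunctor W T).map f :=
  inducedFunctor_map_injOn W hW f T hT (fun t _ ht => hf (ht.trans (map_one f).symm))

end basic

section inj

variable {X Y : Type u} [Group X] [Group Y]

theorem mem_normalizer_map_iff_of_injective (f : X →* Y) (hf : Function.Injective f)
    (D : Subgroup X) (h : X) :
    f h ∈ Subgroup.normalizer ((D.map f : Subgroup Y) : Set Y) ↔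
      h ∈ Subgroup.normalizer (D : Set X) := by
  rw [Subgroup.mem_normalizer_iff, Subgroup.mem_normalizer_iff]
  constructor
  · intro hh d
    constructor
    · intro hd
      obtain ⟨d', hd', hdd⟩ := (hh (f d)).mp ⟨d, hd, rfl⟩
      have : d' = h * d * h⁻¹ := hf (by rw [hdd]; simp)
      rwa [← this]
    · intro hd
      have h1 : f h * f d * (f h)⁻¹ ∈ D.map f := ⟨_, hd, by simp⟩
      obtain ⟨d', hd', hdd⟩ := (hh (f d)).mpr h1
      have : d' = d := hf hdd
      rwa [← this]
  · intro hh y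
    constructor
    · rintro ⟨d, hd, rfl⟩
      exact ⟨_, (hh d).mp hd, by simp⟩
    · rintro ⟨d', hd', hdd⟩
      -- `y = f (h⁻¹ d' h)`
      refine ⟨h⁻¹ * d' * h, ?_, ?_⟩
      · have := (hh (h⁻¹ * d' * h)).mpr (by
          have e : h * (h⁻¹ * d' * h) * h⁻¹ = d' := by group
          rw [e]; exact hd')
        exact this
      · rw [map_mul, map_mul, hdd, map_inv]; group

theorem map_inf_normalizer_of_injective (f : X →* Y) (hf : Function.Injective f)
    (H D : Subgroup X) :
    (H ⊓ Subgroup.normalizer (D : Set X)).map f =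
      H.map f ⊓ Subgroup.normalizer ((D.map f : Subgroup Y) : Set Y) := by
  ext y
  constructor
  · rintro ⟨h, ⟨hH, hN⟩, rfl⟩
    exact ⟨⟨h, hH, rfl⟩, (mem_normalizer_map_iff_of_injective f hf D h).mpr hN⟩
  · rintro ⟨⟨h, hH, rfl⟩, hN⟩
    exact ⟨h, ⟨hH, (mem_normalizer_map_iff_of_injective f hf D h).mp hN⟩, rfl⟩

variable {p : ℕ} {𝓦 : Set (∀ (Q : Type u) [Group Q], Subgroup Q)}

theorem familyControlsTransferIn_map [Finite X] (h𝓦 : ∀ W ∈ 𝓦, IsCharPFunctor.{u} p W)
    (f : X →* Y) (hf : Function.Injective f) (H : Subgroup X)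
    (h : FamilyControlsTransferIn p (indFam 𝓦 X) H) :
    FamilyControlsTransferIn p (indFam 𝓦 Y) (H.map f) := by
  obtain ⟨T, hTH, hTp, hidx, heq⟩ := h
  refine ⟨T.map f, Subgroup.map_mono hTH, hTp.map f, ?_, ?_⟩
  · rwa [Subgroup.relIndex_map_map_of_injective _ _ hf]
  · unfold indFam at heq ⊢
    rw [iSup_image] at heq ⊢
    rw [← Subgroup.map_commutator, ← Subgroup.map_inf _ _ _ hf, heq]
    simp only [Subgroup.map_iSup]
    refine biSup_congr (fun W hW => ?_)
    rw [Subgroup.map_inf _ _ _ hf, Subgroup.map_commutator,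
      map_inf_normalizer_of_injective f hf, inducedFunctor_map_injective W (h𝓦 W hW) f hf T hTp]

theorem familyControlsStrongFusionIn_map [Finite X] (h𝓦 : ∀ W ∈ 𝓦, IsCharPFunctor.{u} p W)
    (f : X →* Y) (hf : Function.Injective f) (H : Subgroup X)
    (h : FamilyControlsStrongFusionIn p (indFam 𝓦 X) H) :
    FamilyControlsStrongFusionIn p (indFam 𝓦 Y) (H.map f) := by
  obtain ⟨T, hTH, hTp, hidx, hctl⟩ := h
  refine ⟨T.map f, Subgroup.map_mono hTH, hTp.map f, ?_, ?_⟩
  · rwa [Subgroup.relIndex_map_map_of_injective _ _ hf]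
  · rintro A' h' ⟨h, hH, rfl⟩ hA' hc'
    set A : Set X := {a | a ∈ T ∧ f a ∈ A'} with hA
    have hAT : A ⊆ T := fun a ha => ha.1
    have hcA : (fun a => h * a * h⁻¹) '' A ⊆ T := by
      rintro _ ⟨a, ha, rfl⟩
      have h1 : f h * f a * (f h)⁻¹ ∈ T.map f := hc' ⟨f a, ha.2, rfl⟩
      obtain ⟨t, ht, htt⟩ := h1
      have : t = h * a * h⁻¹ := hf (by rw [htt]; simp)
      show h * a * h⁻¹ ∈ T
      rwa [← this]
    obtain ⟨n, c, hc0, hcs, hcT, hcl⟩ := hctl A h hH hAT hcA
    have hlift : ∀ a' ∈ A', ∃ a ∈ A, f a = a' := by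
      intro a' ha'
      obtain ⟨a, ha, rfl⟩ := hA' ha'
      exact ⟨a, ⟨ha, ha'⟩, rfl⟩
    refine ⟨n, fun i => f (c i), by show f (c 0) = 1; rw [hc0, map_one], ?_, ?_, ?_⟩
    · intro i
      obtain ⟨F, ⟨W, hW, rfl⟩, hmem⟩ := hcs i
      refine ⟨inducedFunctor (G := Y) W, ⟨W, hW, rfl⟩, ?_⟩
      rw [inducedFunctor_map_injective W (h𝓦 W hW) f hf T hTp,
        ← map_inf_normalizer_of_injective f hf]
      exact ⟨_, hmem, by simp⟩
    · intro i
      rintro _ ⟨a', ha', rfl⟩
      obtain ⟨a, ha, rfl⟩ := hlift a' ha'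
      have h1 : c i * a * (c i)⁻¹ ∈ T := hcT i ⟨a, ha, rfl⟩
      exact ⟨_, h1, by simp⟩
    · intro a' ha'
      obtain ⟨a, ha, rfl⟩ := hlift a' ha'
      have := hcl a ha
      rw [← map_inv, ← map_inv, ← map_mul, ← map_mul, ← map_mul, ← map_mul, this]

end inj

section good

variable (p : ℕ) (𝓦 : Set (∀ (Q : Type u) [Group Q], Subgroup Q))

/-- the set of functors controls transfer in the group `X` -/
def GoodT (X : Type u) [Group X] : Prop :=
  FamilyControlsTransferIn p (indFam 𝓦 X) ⊤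

/-- the set of functors controls strong fusion in the group `X` -/
def GoodF (X : Type u) [Group X] : Prop :=
  FamilyControlsStrongFusionIn p (indFam 𝓦 X) ⊤

variable {p 𝓦}

theorem map_top_of_equiv {X Y : Type u} [Group X] [Group Y] (e : X ≃* Y) :
    (⊤ : Subgroup X).map e.toMonoidHom = ⊤ := by
  rw [← MonoidHom.range_eq_map]
  exact MonoidHom.range_eq_top.mpr e.surjective

theorem GoodT.of_equiv (h𝓦 : ∀ W ∈ 𝓦, IsCharPFunctor.{u} p W) {X Y : Type u} [Group X] [Group Y]
    [Finite X] (e : X ≃* Y) (h : GoodT p 𝓦 X) : GoodT p 𝓦 Y := by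
  have := familyControlsTransferIn_map h𝓦 e.toMonoidHom e.injective ⊤ h
  rwa [map_top_of_equiv] at this

theorem GoodF.of_equiv (h𝓦 : ∀ W ∈ 𝓦, IsCharPFunctor.{u} p W) {X Y : Type u} [Group X] [Group Y]
    [Finite X] (e : X ≃* Y) (h : GoodF p 𝓦 X) : GoodF p 𝓦 Y := by
  have := familyControlsStrongFusionIn_map h𝓦 e.toMonoidHom e.injective ⊤ h
  rwa [map_top_of_equiv] at this

theorem GoodT.subgroup (h𝓦 : ∀ W ∈ 𝓦, IsCharPFunctor.{u} p W) {X : Type u} [Group X] [Finite X]
    (H : Subgroup X) (h : GoodT p 𝓦 ↥H) : FamilyControlsTransferIn p (indFam 𝓦 X) H := by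
  have := familyControlsTransferIn_map h𝓦 H.subtype H.subtype_injective ⊤ h
  rwa [← MonoidHom.range_eq_map, Subgroup.range_subtype] at this

theorem GoodF.subgroup (h𝓦 : ∀ W ∈ 𝓦, IsCharPFunctor.{u} p W) {X : Type u} [Group X] [Finite X]
    (H : Subgroup X) (h : GoodF p 𝓦 ↥H) : FamilyControlsStrongFusionIn p (indFam 𝓦 X) H := by
  have := familyControlsStrongFusionIn_map h𝓦 H.subtype H.subtype_injective ⊤ h
  rwa [← MonoidHom.range_eq_map, Subgroup.range_subtype] at this

end good

end Cfsg.Agent.Lib.Helper41
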