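import Mathlib.GroupTheory.Sylow
import Mathlib.GroupTheory.Nilpotent
import Mathlib.GroupTheory.Index

set_option autoImplicit false

open scoped Pointwise

namespace Cfsg.Agent.Lib.Helper41

variable {G : Type*} [Group G]

/-- the left conjugate `g H g⁻¹`, in the form used by the statements -/
abbrev lc (g : G) (H : Subgroup G) : Subgroup G := H.map (MulAut.conj g).toMonoidHom

theorem lc_eq_smul (g : G) (H : Subgroup G) : lc g H = MulAut.conj g • H := rfl

theorem mem_lc {g : G} {H : Subgroup G} {x : G} : x ∈ lc g H ↔ g⁻¹ * x * g ∈ H := by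
  rw [lc_eq_smul, Subgroup.mem_pointwise_smul_iff_inv_smul_mem]
  simp [MulAut.smul_def]

theorem conj_mem_lc {g : G} {H : Subgroup G} {x : G} (hx : x ∈ H) : g * x * g⁻¹ ∈ lc g H := by
  rw [mem_lc]
  have : g⁻¹ * (g * x * g⁻¹) * g = x := by group
  rwa [this]

theorem coe_lc (g : G) (H : Subgroup G) : (lc g H : Set G) = (fun a => g * a * g⁻¹) '' (H : Set G) := by
  ext x
  simp only [SetLike.mem_coe, Set.mem_image]
  rw [mem_lc]
  constructor
  · intro h
    exact ⟨_, h, by group⟩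
  · rintro ⟨a, ha, rfl⟩
    have : g⁻¹ * (g * a * g⁻¹) * g = a := by group
    rwa [this]

@[simp] theorem lc_one (H : Subgroup G) : lc 1 H = H := by
  ext x; simp [mem_lc]

theorem lc_mul (g h : G) (H : Subgroup G) : lc (g * h) H = lc g (lc h H) := by
  ext x
  simp only [mem_lc]
  have : (g * h)⁻¹ * x * (g * h) = h⁻¹ * (g⁻¹ * x * g) * h := by group
  rw [this]

@[simp] theorem lc_inv_lc (g : G) (H : Subgroup G) : lc g⁻¹ (lc g H) = H := by
  rw [← lc_mul]; simp

@[simp] theorem lc_lc_inv (g : G) (H : Subgroup G) : lc g (lc g⁻¹ H) = H := by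
  rw [← lc_mul]; simp

theorem lc_mono {g : G} {H K : Subgroup G} (h : H ≤ K) : lc g H ≤ lc g K :=
  Subgroup.map_mono h

theorem lc_le_lc_iff {g : G} {H K : Subgroup G} : lc g H ≤ lc g K ↔ H ≤ K := by
  show MulAut.conj g • H ≤ MulAut.conj g • K ↔ H ≤ K
  exact Subgroup.pointwise_smul_le_pointwise_smul_iff

theorem lc_le_iff {g : G} {H K : Subgroup G} : lc g H ≤ K ↔ H ≤ lc g⁻¹ K := by
  rw [← lc_le_lc_iff (g := g⁻¹), lc_inv_lc]

theorem lc_inf (g : G) (H K : Subgroup G) : lc g (H ⊓ K) = lc g H ⊓ lc g K := by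
  show MulAut.conj g • (H ⊓ K) = MulAut.conj g • H ⊓ MulAut.conj g • K
  exact Subgroup.smul_inf _ _ _

theorem lc_injective (g : G) : Function.Injective (lc g : Subgroup G → Subgroup G) := by
  intro H K h
  have := congrArg (lc g⁻¹) h
  simpa using this

@[simp] theorem lc_bot (g : G) : lc g (⊥ : Subgroup G) = ⊥ := Subgroup.map_bot _

theorem lc_eq_bot_iff {g : G} {H : Subgroup G} : lc g H = ⊥ ↔ H = ⊥ := by
  constructor
  · intro h
    apply lc_injective g
    rw [h, lc_bot]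
  · rintro rfl
    exact lc_bot g

theorem relIndex_lc (g : G) (H K : Subgroup G) : (lc g H).relIndex (lc g K) = H.relIndex K := by
  show (MulAut.conj g • H).relIndex (MulAut.conj g • K) = H.relIndex K
  exact Subgroup.relIndex_pointwise_smul _ _ _

theorem card_lc (g : G) (H : Subgroup G) : Nat.card (lc g H) = Nat.card H :=
  Nat.card_congr ((MulAut.conj g).subgroupMap H).symm.toEquiv

theorem isPGroup_lc {p : ℕ} {g : G} {H : Subgroup G} (hH : IsPGroup p H) : IsPGroup p (lc g H) :=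
  hH.map _

theorem normalizer_lc (g : G) (H : Subgroup G) :
    Subgroup.normalizer ((lc g H : Subgroup G) : Set G) = lc g (Subgroup.normalizer (H : Set G)) := by
  ext x
  rw [mem_lc, Subgroup.mem_normalizer_iff, Subgroup.mem_normalizer_iff]
  constructor
  · intro h y
    have := h (g * y * g⁻¹)
    rw [mem_lc, mem_lc] at this
    have e1 : g⁻¹ * (g * y * g⁻¹) * g = y := by group
    have e2 : g⁻¹ * (x * (g * y * g⁻¹) * x⁻¹) * g = g⁻¹ * x * g * y * (g⁻¹ * x * g)⁻¹ := by group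
    rw [e1, e2] at this
    exact this
  · intro h y
    rw [mem_lc, mem_lc]
    have := h (g⁻¹ * y * g)
    have e2 : g⁻¹ * x * g * (g⁻¹ * y * g) * (g⁻¹ * x * g)⁻¹ = g⁻¹ * (x * y * x⁻¹) * g := by group
    rw [e2] at this
    exact this

theorem mem_normalizer_iff_lc {g : G} {H : Subgroup G} :
    g ∈ Subgroup.normalizer (H : Set G) ↔ lc g H = H := by
  rw [Subgroup.mem_normalizer_iff_map_conj_eq]
  rfl

theorem lc_eq_of_le_of_finite [Finite G] {g : G} {H : Subgroup G} (h : lc g H ≤ H) : lc g H = H := by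
  apply Subgroup.eq_of_le_of_card_ge h
  rw [card_lc]

theorem mem_normalizer_of_lc_le [Finite G] {g : G} {H : Subgroup G} (h : lc g H ≤ H) :
    g ∈ Subgroup.normalizer (H : Set G) :=
  mem_normalizer_iff_lc.mpr (lc_eq_of_le_of_finite h)

/-- Sylow's theorem relative to a subgroup `H`, in the `relIndex` form used by the statements. -/
theorem exists_lc_le_of_relIndex [Finite G] {p : ℕ} [Fact p.Prime] {H P Q : Subgroup G}
    (hPH : P ≤ H) (hP : IsPGroup p P) (hidx : ¬ p ∣ P.relIndex H) (hQ : IsPGroup p Q) (hQH : Q ≤ H) :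
    ∃ y ∈ H, lc y Q ≤ P := by
  have hP' : IsPGroup p (P.subgroupOf H) := hP.comap_subtype
  let PS : Sylow p H := hP'.toSylow hidx
  have hQ' : IsPGroup p (Q.subgroupOf H) := hQ.comap_subtype
  obtain ⟨R, hR⟩ := hQ'.exists_le_sylow
  obtain ⟨y, hy⟩ := MulAction.exists_smul_eq H R PS
  refine ⟨y, y.2, ?_⟩
  intro x hx
  rw [mem_lc] at hx
  have hxH : x ∈ H := by
    have h1 : (y : G)⁻¹ * x * y ∈ H := hQH hx
    have : x = y * ((y : G)⁻¹ * x * y) * (y : G)⁻¹ := by group
    rw [this]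
    exact H.mul_mem (H.mul_mem y.2 h1) (H.inv_mem y.2)
  have h2 : (y⁻¹ * ⟨x, hxH⟩ * y : H) ∈ R := by
    apply hR
    rw [Subgroup.mem_subgroupOf]
    simpa using hx
  have h3 : (⟨x, hxH⟩ : H) ∈ y • R := by
    show (⟨x, hxH⟩ : H) ∈ MulAut.conj y • (R : Subgroup H)
    rw [Subgroup.mem_pointwise_smul_iff_inv_smul_mem]
    have e : (MulAut.conj y)⁻¹ • (⟨x, hxH⟩ : H) = y⁻¹ * ⟨x, hxH⟩ * y := by
      simp [MulAut.smul_def]
    rw [e]
    exact h2
  rw [hy] at h3
  exact h3

theorem card_lt_card_of_lt' [Finite G] {H K : Subgroup G} (h : H < K) : Nat.card H < Nat.card K := by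
  rcases lt_or_ge (Nat.card H) (Nat.card K) with h1 | h1
  · exact h1
  · exact absurd (Subgroup.eq_of_le_of_card_ge h.le h1) h.ne

/-- a `p`-subgroup of `H` lies in a Sylow `p`-subgroup of `H` (`relIndex` form). -/
theorem exists_sylowIn_ge [Finite G] {p : ℕ} [Fact p.Prime] {H Q : Subgroup G} (hQ : IsPGroup p Q)
    (hQH : Q ≤ H) : ∃ R : Subgroup G, Q ≤ R ∧ R ≤ H ∧ IsPGroup p R ∧ ¬ p ∣ R.relIndex H := by
  have hQ' : IsPGroup p (Q.subgroupOf H) := hQ.comap_subtype
  obtain ⟨R, hR⟩ := hQ'.exists_le_sylow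
  refine ⟨(R : Subgroup H).map H.subtype, ?_, ?_, ?_, ?_⟩
  · intro q hq
    exact ⟨⟨q, hQH hq⟩, hR (by simpa [Subgroup.mem_subgroupOf] using hq), rfl⟩
  · exact Subgroup.map_subtype_le _
  · exact R.2.map _
  · have : ((R : Subgroup H).map H.subtype).subgroupOf H = R :=
      Subgroup.comap_map_eq_self_of_injective H.subtype_injective _
    rw [Subgroup.relIndex, this]
    exact R.not_dvd_index

/-- a `p`-subgroup of `H` containing a Sylow `p`-subgroup of `H` equals it. -/
theorem eq_of_le_of_relIndex [Finite G] {p : ℕ} [Fact p.Prime] {H P Q : Subgroup G} (hPQ : P ≤ Q)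
    (hQH : Q ≤ H) (hQ : IsPGroup p Q) (hidx : ¬ p ∣ P.relIndex H) : P = Q := by
  by_contra hne
  apply hidx
  have h1 : P.relIndex Q ∣ P.relIndex H := by
    rw [← Subgroup.relIndex_mul_relIndex _ _ _ hPQ hQH]
    exact dvd_mul_right _ _
  refine dvd_trans ?_ h1
  obtain ⟨n, hn⟩ := hQ.index (P.subgroupOf Q)
  cases n with
  | zero =>
    exfalso
    apply hne
    exact le_antisymm hPQ (Subgroup.relIndex_eq_one.mp (by simpa using hn))
  | succ n =>
    rw [Subgroup.relIndex, hn]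
    exact dvd_pow_self p (Nat.succ_ne_zero n)

theorem sylow_relIndex_top [Finite G] {p : ℕ} [Fact p.Prime] (S : Sylow p G) :
    ¬ p ∣ (S : Subgroup G).relIndex ⊤ := by
  rw [Subgroup.relIndex_top_right]
  exact S.not_dvd_index

/-- every `p`-subgroup is conjugate into a given Sylow `p`-subgroup. -/
theorem exists_lc_le_sylow [Finite G] {p : ℕ} [Fact p.Prime] (S : Sylow p G) {Q : Subgroup G}
    (hQ : IsPGroup p Q) : ∃ y : G, lc y Q ≤ (S : Subgroup G) := by
  obtain ⟨y, _, hy⟩ := exists_lc_le_of_relIndex (p := p) (H := ⊤) (P := (S : Subgroup G)) le_top S.2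
    (sylow_relIndex_top S) hQ le_top
  exact ⟨y, hy⟩

end Cfsg.Agent.Lib.Helper41
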