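import Mathlib
import Cfsg.Prelude.Def_HallClasses
import Cfsg.Agent.Lib.Helper06.HallSym.Defs

/-!
# K-S2536-G5 `intrans_step`: the intransitive step for Hall subgroups of symmetric groups
-/

set_option autoImplicit false
open Cfsg
open scoped Pointwise

namespace Cfsg.Agent.Lib.Helper41.HallSym

/-- if `m ∣ k`, `k ∣ N`, `N = m * i` with `p ∤ i`, then `p ∤ N / k` -/
theorem g5_not_dvd_div {p m k N i : ℕ} (hp : p.Prime) (hmk : m ∣ k) (hkN : k ∣ N) (hN : N = m * i)
    (hN0 : N ≠ 0) (hi : ¬ p ∣ i) : ¬ p ∣ N / k := by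
  obtain ⟨c, rfl⟩ := hmk
  obtain ⟨d, rfl⟩ := hkN
  have hm0 : m ≠ 0 := by
    rintro rfl
    simp at hN0
  have hc0 : c ≠ 0 := by
    rintro rfl
    simp at hN0
  have hmc0 : m * c ≠ 0 := Nat.mul_ne_zero hm0 hc0
  rw [Nat.mul_div_cancel_left d (Nat.pos_of_ne_zero hmc0)]
  have : i = c * d := by
    have h2 : m * i = m * (c * d) := by rw [← hN]; ring
    exact Nat.eq_of_mul_eq_mul_left (Nat.pos_of_ne_zero hm0) h2
  intro hpd
  exact hi (this ▸ Dvd.dvd.mul_left hpd c)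

/-- **K-G5.** Intransitive step (uses K-G1, K-G2 as hypotheses): for an orbit `Δ` of a Hall `π`-subgroup. -/
theorem intrans_step
    (hG1 : ∀ {α : Type} [Finite α] (Δ : Set α), Nat.card (MulAction.stabilizer (Equiv.Perm α) Δ) =
      (Δ.ncard).factorial * (Nat.card α - Δ.ncard).factorial)
    (hG2 : ∀ (π : Set ℕ) {α : Type} [Finite α] (K : Subgroup (Equiv.Perm α)) (Δ : Set α),
      K ≤ MulAction.stabilizer (Equiv.Perm α) Δ → (∀ p : ℕ, p.Prime → p ∣ Nat.card K → p ∈ π) →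
      (∀ p : ℕ, p.Prime → p ∈ π →
        padicValNat p ((Δ.ncard).factorial * (Nat.card α - Δ.ncard).factorial) ≤ padicValNat p (Nat.card K)) →
      IsEPiGroup π (Equiv.Perm ↥Δ) ∧ IsEPiGroup π (Equiv.Perm ↥(Δᶜ : Set α)))
    (π : Set ℕ) {α : Type} [Finite α] (H : Subgroup (Equiv.Perm α)) (hH : IsPiHall π H) (x : α) :
    IsEPiGroup π (Equiv.Perm ↥(MulAction.orbit ↥H x)) ∧
    IsEPiGroup π (Equiv.Perm ↥((MulAction.orbit ↥H x)ᶜ : Set α)) ∧
    (∀ p : ℕ, p.Prime → p ∈ π → ¬ p ∣ Nat.choose (Nat.card α) (MulAction.orbit ↥H x).ncard) ∧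
    (∀ p : ℕ, p.Prime → p ∣ (MulAction.orbit ↥H x).ncard → p ∈ π) := by
  classical
  haveI : Fintype α := Fintype.ofFinite α
  set Δ : Set α := MulAction.orbit ↥H x with hΔ
  set n := Nat.card α with hn
  set a := Δ.ncard with ha
  have han : a ≤ n := by
    rw [ha, hn, ← Set.ncard_univ]
    exact Set.ncard_le_ncard (Set.subset_univ _) Set.finite_univ
  -- `H` stabilizes `Δ`
  have hHS : H ≤ MulAction.stabilizer (Equiv.Perm α) Δ := by
    intro h hh
    rw [MulAction.mem_stabilizer_iff]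
    have := MulAction.smul_orbit (⟨h, hh⟩ : ↥H) x
    -- `(⟨h,hh⟩ : H) • orbit = orbit`
    ext y
    constructor
    · rintro ⟨z, hz, rfl⟩
      obtain ⟨k, rfl⟩ := hz
      exact ⟨⟨h, hh⟩ * k, by simp [mul_smul]⟩
    · rintro ⟨k, rfl⟩
      refine ⟨(⟨h, hh⟩ : ↥H)⁻¹ • (k • x), ⟨(⟨h, hh⟩ : ↥H)⁻¹ * k, by simp [mul_smul]⟩, ?_⟩
      change h • ((⟨h, hh⟩ : ↥H)⁻¹ • (k • x)) = k • x
      have : h • ((⟨h, hh⟩ : ↥H)⁻¹ • (k • x)) = (⟨h, hh⟩ : ↥H) • ((⟨h, hh⟩ : ↥H)⁻¹ • (k • x)) := rfl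
      rw [this, smul_inv_smul]
  have hcardS := hG1 (α := α) Δ
  have hHdvd : Nat.card H ∣ a.factorial * (n - a).factorial := by
    rw [← hcardS]
    exact Subgroup.card_dvd_of_le hHS
  have hfac : a.factorial * (n - a).factorial ∣ n.factorial := Nat.factorial_mul_factorial_dvd_factorial han
  have hperm : Nat.card (Equiv.Perm α) = n.factorial := by
    rw [Nat.card_eq_fintype_card, Fintype.card_perm, hn, Nat.card_eq_fintype_card]
  have hidx : n.factorial = Nat.card H * H.index := by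
    rw [← hperm, Subgroup.card_mul_index]
  have hn0 : n.factorial ≠ 0 := Nat.factorial_ne_zero n
  have hH0 : Nat.card H ≠ 0 := Nat.card_pos.ne'
  have hprod0 : a.factorial * (n - a).factorial ≠ 0 :=
    Nat.mul_ne_zero (Nat.factorial_ne_zero _) (Nat.factorial_ne_zero _)
  -- valuations
  have hval : ∀ p : ℕ, p.Prime → p ∈ π →
      padicValNat p (a.factorial * (n - a).factorial) ≤ padicValNat p (Nat.card H) := by
    intro p hp hpπ
    haveI := Fact.mk hp
    have h1 : padicValNat p (a.factorial * (n - a).factorial) ≤ padicValNat p n.factorial :=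
      (padicValNat_dvd_iff_le hn0).mp (dvd_trans pow_padicValNat_dvd hfac)
    have h2 : padicValNat p n.factorial = padicValNat p (Nat.card H) := by
      rw [hidx, padicValNat.mul hH0 (Subgroup.index_ne_zero_of_finite),
        padicValNat.eq_zero_of_not_dvd (hH.2 p hp hpπ), add_zero]
    omega
  obtain ⟨hE1, hE2⟩ := hG2 π H Δ hHS hH.1 hval
  refine ⟨hE1, hE2, ?_, ?_⟩
  · intro p hp hpπ
    rw [Nat.choose_eq_factorial_div_factorial han]
    exact g5_not_dvd_div hp hHdvd hfac hidx hn0 (hH.2 p hp hpπ)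
  · intro p hp hpd
    apply hH.1 p hp
    refine dvd_trans hpd ?_
    have := MulAction.card_orbit_mul_card_stabilizer_eq_card_group (↥H) x
    rw [ha, hΔ, ← Nat.card_coe_set_eq]
    have h3 : Nat.card (MulAction.orbit ↥H x) * Nat.card (MulAction.stabilizer ↥H x) = Nat.card ↥H := by
      rw [Nat.card_eq_fintype_card, Nat.card_eq_fintype_card, Nat.card_eq_fintype_card]
      convert this
    exact Dvd.intro _ h3

end Cfsg.Agent.Lib.Helper41.HallSym
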