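import Cfsg.Agent.Lib.Helper41.Conj
import Cfsg.Prelude.Def_ConjugacyFunctors

set_option autoImplicit false

namespace Cfsg.Agent.Lib.Helper41

variable {G : Type*} [Group G]

/-- right conjugation of a set: `g⁻¹ A g` -/
def rconj (g : G) (A : Set G) : Set G := (fun a => g⁻¹ * a * g) '' A

theorem mem_rconj {g : G} {A : Set G} {x : G} : x ∈ rconj g A ↔ g * x * g⁻¹ ∈ A := by
  constructor
  · rintro ⟨a, ha, rfl⟩
    have : g * (g⁻¹ * a * g) * g⁻¹ = a := by group
    rwa [this]
  · intro h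
    exact ⟨_, h, by group⟩

@[simp] theorem rconj_one (A : Set G) : rconj 1 A = A := by
  ext x; simp [mem_rconj]

theorem rconj_mul (g h : G) (A : Set G) : rconj (g * h) A = rconj h (rconj g A) := by
  ext x
  simp only [mem_rconj]
  have : g * h * x * (g * h)⁻¹ = g * (h * x * h⁻¹) * g⁻¹ := by group
  rw [this]

theorem rconj_mono {g : G} {A B : Set G} (h : A ⊆ B) : rconj g A ⊆ rconj g B :=
  Set.image_mono h

@[simp] theorem rconj_inv_rconj (g : G) (A : Set G) : rconj g⁻¹ (rconj g A) = A := by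
  rw [← rconj_mul]; simp

theorem rconj_coe (g : G) (H : Subgroup G) : rconj g (H : Set G) = (lc g⁻¹ H : Set G) := by
  ext x
  rw [mem_rconj, SetLike.mem_coe, SetLike.mem_coe, mem_lc, inv_inv]

theorem rconj_eq_of_mem_normalizer {g : G} {T : Subgroup G}
    (hg : g ∈ Subgroup.normalizer (T : Set G)) : rconj g (T : Set G) = T := by
  rw [rconj_coe]
  congr 1
  exact mem_normalizer_iff_lc.mp (Subgroup.inv_mem _ hg)

theorem rconj_subset_of_mem_normalizer {g : G} {T : Subgroup G} {A : Set G}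
    (hg : g ∈ Subgroup.normalizer (T : Set G)) (hA : A ⊆ T) : rconj g A ⊆ T := by
  rw [← rconj_eq_of_mem_normalizer hg]
  exact rconj_mono hA

/-- a chain of conjugations inside normalizers of members of `𝓕`, starting at `A` -/
def Chain (𝓕 : Set (Subgroup G)) : Set G → List (Subgroup G × G) → Prop
  | _, [] => True
  | A, (T, x) :: L => T ∈ 𝓕 ∧ x ∈ Subgroup.normalizer (T : Set G) ∧ A ⊆ T ∧ Chain 𝓕 (rconj x A) L

theorem chain_mono {𝓕 : Set (Subgroup G)} {A B : Set G} (hBA : B ⊆ A) :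
    ∀ {L : List (Subgroup G × G)}, Chain 𝓕 A L → Chain 𝓕 B L := by
  intro L
  induction L generalizing A B with
  | nil => intro _; trivial
  | cons a L ih =>
    obtain ⟨T, x⟩ := a
    rintro ⟨h1, h2, h3, h4⟩
    exact ⟨h1, h2, hBA.trans h3, ih (rconj_mono hBA) h4⟩

theorem chain_append {𝓕 : Set (Subgroup G)} {A : Set G} {L₁ L₂ : List (Subgroup G × G)} :
    Chain 𝓕 A (L₁ ++ L₂) ↔ Chain 𝓕 A L₁ ∧ Chain 𝓕 (rconj (L₁.map Prod.snd).prod A) L₂ := by
  induction L₁ generalizing A with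
  | nil => simp [Chain]
  | cons a L ih =>
    obtain ⟨T, x⟩ := a
    simp only [List.cons_append, Chain, List.map_cons, List.prod_cons, ih, rconj_mul]
    tauto

/-- `g` is reached from `A` by a chain in `𝓕` -/
def Reach (𝓕 : Set (Subgroup G)) (A : Set G) (g : G) : Prop :=
  ∃ L : List (Subgroup G × G), Chain 𝓕 A L ∧ (L.map Prod.snd).prod = g

theorem Reach.refl (𝓕 : Set (Subgroup G)) (A : Set G) : Reach 𝓕 A 1 :=
  ⟨[], trivial, by simp⟩

theorem Reach.single {𝓕 : Set (Subgroup G)} {A : Set G} {T : Subgroup G} {x : G} (hT : T ∈ 𝓕)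
    (hx : x ∈ Subgroup.normalizer (T : Set G)) (hA : A ⊆ T) : Reach 𝓕 A x :=
  ⟨[(T, x)], ⟨hT, hx, hA, trivial⟩, by simp⟩

theorem Reach.mono {𝓕 : Set (Subgroup G)} {A B : Set G} {g : G} (hBA : B ⊆ A)
    (h : Reach 𝓕 A g) : Reach 𝓕 B g := by
  obtain ⟨L, hL, hg⟩ := h
  exact ⟨L, chain_mono hBA hL, hg⟩

theorem Reach.trans {𝓕 : Set (Subgroup G)} {A : Set G} {g h : G} (h₁ : Reach 𝓕 A g)
    (h₂ : Reach 𝓕 (rconj g A) h) : Reach 𝓕 A (g * h) := by
  obtain ⟨L₁, hL₁, rfl⟩ := h₁
  obtain ⟨L₂, hL₂, rfl⟩ := h₂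
  exact ⟨L₁ ++ L₂, chain_append.mpr ⟨hL₁, hL₂⟩, by simp⟩

theorem Reach.symm {𝓕 : Set (Subgroup G)} {A : Set G} {g : G} (h : Reach 𝓕 A g) :
    Reach 𝓕 (rconj g A) g⁻¹ := by
  obtain ⟨L, hL, rfl⟩ := h
  induction L generalizing A with
  | nil => simpa using Reach.refl 𝓕 A
  | cons a L ih =>
    obtain ⟨T, x⟩ := a
    obtain ⟨h1, h2, h3, h4⟩ := hL
    have r1 := ih h4
    have r2 : Reach 𝓕 (rconj x A) x⁻¹ :=
      Reach.single h1 (Subgroup.inv_mem _ h2) (rconj_subset_of_mem_normalizer h2 h3)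
    simp only [List.map_cons, List.prod_cons, mul_inv_rev, rconj_mul]
    refine Reach.trans r1 ?_
    rw [rconj_inv_rconj]
    exact r2

theorem chain_getElem {𝓕 : Set (Subgroup G)} {A : Set G} {L : List (Subgroup G × G)}
    (hL : Chain 𝓕 A L) (i : ℕ) (hi : i < L.length) :
    L[i].1 ∈ 𝓕 ∧ L[i].2 ∈ Subgroup.normalizer ((L[i].1 : Subgroup G) : Set G) ∧
      rconj ((L.map Prod.snd).take i).prod A ⊆ L[i].1 := by
  induction L generalizing A i with
  | nil => simp at hi
  | cons a L ih =>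
    obtain ⟨T, x⟩ := a
    obtain ⟨h1, h2, h3, h4⟩ := hL
    cases i with
    | zero => simpa using ⟨h1, h2, h3⟩
    | succ i =>
      have hi' : i < L.length := by simpa using hi
      have := ih h4 i hi'
      simpa [rconj_mul] using this

theorem Reach.toFin {𝓕 : Set (Subgroup G)} {A : Set G} {g : G} (h : Reach 𝓕 A g) :
    ∃ (n : ℕ) (T : Fin n → Subgroup G) (x : Fin n → G), (List.ofFn x).prod = g ∧
      (∀ i, T i ∈ 𝓕) ∧ (∀ i, x i ∈ Subgroup.normalizer ((T i : Subgroup G) : Set G)) ∧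
      (∀ h : 0 < n, A ⊆ T ⟨0, h⟩) ∧
      ∀ (i : Fin n) (h : i.val + 1 < n),
        (fun a => (((List.ofFn x).take (i.val + 1)).prod)⁻¹ * a * ((List.ofFn x).take (i.val + 1)).prod) '' A ⊆
          T ⟨i.val + 1, h⟩ := by
  obtain ⟨L, hL, hg⟩ := h
  have hofn : List.ofFn (fun i : Fin L.length => L[i.val].2) = L.map Prod.snd := by
    have : (fun i : Fin L.length => L[i.val].2) = Prod.snd ∘ (fun i : Fin L.length => L[i.val]) := rfl
    rw [this, ← List.map_ofFn, List.ofFn_getElem]
  refine ⟨L.length, fun i => L[i.val].1, fun i => L[i.val].2, ?_, ?_, ?_, ?_, ?_⟩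
  · rw [hofn, hg]
  · intro i; exact (chain_getElem hL i.val i.2).1
  · intro i; exact (chain_getElem hL i.val i.2).2.1
  · intro h0
    have := (chain_getElem hL 0 h0).2.2
    simpa using this
  · intro i hi
    rw [hofn]
    exact (chain_getElem hL (i.val + 1) hi).2.2

theorem card_lt_card_of_lt [Finite G] {H K : Subgroup G} (h : H < K) : Nat.card H < Nat.card K := by
  rcases lt_or_ge (Nat.card H) (Nat.card K) with h1 | h1
  · exact h1
  · exact absurd (Subgroup.eq_of_le_of_card_ge h.le h1) h.ne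

theorem lt_inf_normalizer_of_ne [Finite G] {p : ℕ} [Fact p.Prime] {S T : Subgroup G}
    (hS : IsPGroup p S) (hTS : T ≤ S) (hne : T ≠ S) :
    T < S ⊓ Subgroup.normalizer (T : Set G) := by
  have : Group.IsNilpotent S := hS.isNilpotent
  have hnc : NormalizerCondition S := Group.normalizerCondition_of_isNilpotent
  have hlt : T.subgroupOf S < ⊤ := by
    rw [lt_top_iff_ne_top, Ne, Subgroup.subgroupOf_eq_top]
    intro h; exact hne (le_antisymm hTS h)
  have h2 := hnc _ hlt
  rw [← Subgroup.subgroupOf_normalizer_eq hTS] at h2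
  obtain ⟨x, hx1, hx2⟩ := SetLike.exists_of_lt h2
  refine lt_of_le_of_ne (le_inf hTS Subgroup.le_normalizer) ?_
  intro heq
  apply hx2
  rw [Subgroup.mem_subgroupOf] at hx1 ⊢
  rw [heq]
  exact ⟨x.2, hx1⟩

theorem alperin_reach [Finite G] {p : ℕ} [Fact p.Prime] (S : Sylow p G) (𝓕 : Set (Subgroup G))
    (h𝓕 : ∀ U ∈ 𝓕, U ≤ (S : Subgroup G))
    (h : ∀ T : Subgroup G, T ≤ (S : Subgroup G) → ∃ U ∈ 𝓕, (∃ g : G, lc g T = U) ∧
      ¬ p ∣ ((S : Subgroup G) ⊓ Subgroup.normalizer ((U : Subgroup G) : Set G)).relIndex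
        (Subgroup.normalizer ((U : Subgroup G) : Set G))) :
    ∀ T : Subgroup G, T ≤ (S : Subgroup G) → ∀ g : G, lc g⁻¹ T ≤ (S : Subgroup G) →
      Reach 𝓕 (T : Set G) g := by
  have top : ∀ g : G, lc g⁻¹ (S : Subgroup G) ≤ (S : Subgroup G) → Reach 𝓕 ((S : Subgroup G) : Set G) g := by
    intro g hg
    obtain ⟨U, hU, ⟨c, hc⟩, _⟩ := h S le_rfl
    have hUS : U = S := by
      apply Subgroup.eq_of_le_of_card_ge (h𝓕 U hU)
      rw [← hc, card_lc]
    rw [hUS] at hU
    have hgN : g ∈ Subgroup.normalizer (((S : Subgroup G) : Subgroup G) : Set G) := by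
      have := mem_normalizer_of_lc_le hg
      simpa using Subgroup.inv_mem _ this
    exact Reach.single hU hgN le_rfl
  have key : ∀ n : ℕ, ∀ T : Subgroup G, T ≤ (S : Subgroup G) →
      Nat.card (S : Subgroup G) ≤ Nat.card T + n → ∀ g : G, lc g⁻¹ T ≤ (S : Subgroup G) →
      Reach 𝓕 (T : Set G) g := by
    intro n
    induction n with
    | zero =>
      intro T hTS hcard g hg
      have : T = S := Subgroup.eq_of_le_of_card_ge hTS (by simpa using hcard)
      subst this
      exact top g hg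
    | succ n ih =>
      intro T hTS hcard g hg
      by_cases hTeq : T = S
      · subst hTeq
        exact top g hg
      · obtain ⟨U, hU, ⟨c, hc⟩, hidx⟩ := h T hTS
        have stepA : ∀ T' : Subgroup G, T' ≤ (S : Subgroup G) → Nat.card T' = Nat.card T →
            ∀ c : G, lc c T' = U → ∃ k : G, lc k⁻¹ T' = U ∧ Reach 𝓕 (T' : Set G) k := by
          intro T' hT'S hcardT' c hc
          have hT'ne : T' ≠ S := by
            intro h'
            apply hTeq
            apply Subgroup.eq_of_le_of_card_ge hTS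
            rw [← hcardT', h']
          set T₁ := (S : Subgroup G) ⊓ Subgroup.normalizer (T' : Set G) with hT₁
          have hlt : T' < T₁ := lt_inf_normalizer_of_ne S.2 hT'S hT'ne
          have hT₁p : IsPGroup p T₁ := S.2.to_inf_left
          have hQN : lc c T₁ ≤ Subgroup.normalizer ((U : Subgroup G) : Set G) := by
            rw [← hc, normalizer_lc]
            exact lc_mono inf_le_right
          obtain ⟨y, hyN, hy⟩ := exists_lc_le_of_relIndex (p := p)
            (H := Subgroup.normalizer ((U : Subgroup G) : Set G))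
            (P := (S : Subgroup G) ⊓ Subgroup.normalizer ((U : Subgroup G) : Set G))
            inf_le_right S.2.to_inf_left hidx (isPGroup_lc hT₁p) hQN
          refine ⟨(y * c)⁻¹, ?_, ?_⟩
          · rw [inv_inv, lc_mul, hc]
            exact mem_normalizer_iff_lc.mp hyN
          · have hcard₁ : Nat.card (S : Subgroup G) ≤ Nat.card T₁ + n := by
              have := card_lt_card_of_lt hlt
              omega
            have hr : Reach 𝓕 (T₁ : Set G) (y * c)⁻¹ := by
              apply ih T₁ inf_le_left hcard₁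
              rw [inv_inv, lc_mul]
              exact hy.trans inf_le_left
            exact hr.mono (by exact_mod_cast hlt.le)
        obtain ⟨k, hk1, hk2⟩ := stepA T hTS rfl c hc
        obtain ⟨k', hk'1, hk'2⟩ := stepA (lc g⁻¹ T) hg (card_lc _ _) (c * g)
          (by rw [lc_mul, lc_lc_inv, hc])
        have hkU : lc k U = T := by rw [← hk1]; simp
        have hm : k⁻¹ * g * k' ∈ Subgroup.normalizer ((U : Subgroup G) : Set G) := by
          have : (k⁻¹ * g * k')⁻¹ ∈ Subgroup.normalizer ((U : Subgroup G) : Set G) := by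
            rw [mem_normalizer_iff_lc]
            have e : (k⁻¹ * g * k')⁻¹ = k'⁻¹ * (g⁻¹ * k) := by group
            rw [e, lc_mul, lc_mul, hkU, hk'1]
          simpa using Subgroup.inv_mem _ this
        have r1 : Reach 𝓕 (T : Set G) k := hk2
        have e1 : rconj k (T : Set G) = U := by rw [rconj_coe, hk1]
        have r2 : Reach 𝓕 (rconj k (T : Set G)) (k⁻¹ * g * k') := by
          rw [e1]
          exact Reach.single hU hm le_rfl
        have r3 : Reach 𝓕 (rconj (k⁻¹ * g * k') (rconj k (T : Set G))) k'⁻¹ := by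
          rw [e1, rconj_eq_of_mem_normalizer hm]
          have := hk'2.symm
          rwa [rconj_coe, hk'1] at this
        have r3' : Reach 𝓕 (rconj (k * (k⁻¹ * g * k')) (T : Set G)) k'⁻¹ := by
          rw [rconj_mul]; exact r3
        have := (r1.trans r2).trans r3'
        have e : k * (k⁻¹ * g * k') * k'⁻¹ = g := by group
        rwa [e] at this
  intro T hTS g hg
  exact key (Nat.card (S : Subgroup G)) T hTS (Nat.le_add_left _ _) g hg

theorem reach_set {S : Subgroup G} {𝓕 : Set (Subgroup G)}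
    (h : ∀ T : Subgroup G, T ≤ S → ∀ g : G, lc g⁻¹ T ≤ S → Reach 𝓕 (T : Set G) g)
    {A : Set G} {g : G} (hAS : A ⊆ S) (hAg : rconj g A ⊆ S) : Reach 𝓕 A g := by
  have hcl : Subgroup.closure A ≤ S := (Subgroup.closure_le S).mpr hAS
  have hcl' : lc g⁻¹ (Subgroup.closure A) ≤ S := by
    rw [lc_le_iff, inv_inv, Subgroup.closure_le]
    intro a ha
    rw [SetLike.mem_coe, mem_lc]
    exact hAg ⟨a, ha, rfl⟩
  exact (h _ hcl g hcl').mono (Subgroup.subset_closure (k := A))

theorem isConjugationFamily_of_reach {S : Subgroup G} {𝓕 : Set (Subgroup G)}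
    (h𝓕 : ∀ U ∈ 𝓕, U ≤ S)
    (h : ∀ T : Subgroup G, T ≤ S → ∀ g : G, lc g⁻¹ T ≤ S → Reach 𝓕 (T : Set G) g) :
    Cfsg.IsConjugationFamily 𝓕 S := by
  refine ⟨h𝓕, ?_⟩
  intro A g _ hAS hAg
  have hcl : Subgroup.closure A ≤ S := (Subgroup.closure_le S).mpr hAS
  have hcl' : lc g⁻¹ (Subgroup.closure A) ≤ S := by
    rw [lc_le_iff, inv_inv, Subgroup.closure_le]
    intro a ha
    rw [SetLike.mem_coe, mem_lc]
    exact hAg ⟨a, ha, rfl⟩
  have := (h _ hcl g hcl').mono (Subgroup.subset_closure (k := A))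
  exact this.toFin

end Cfsg.Agent.Lib.Helper41
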