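import Cfsg.Agent.Lib.Helper41.Engine

set_option autoImplicit false

namespace Cfsg.Agent.Lib.Helper41

open Cfsg

variable {G : Type*} [Group G] {p : ℕ}

theorem fchain_iff {K : Set G} {M : Subgroup G} :
    ∀ (L : List G) (A : Set G), FChain K M A L ↔
      (∀ y ∈ L, y ∈ K) ∧ ∀ k ≤ L.length, rconj (L.take k).prod A ⊆ M := by
  intro L
  induction L with
  | nil =>
    intro A
    constructor
    · intro h
      have h' : A ⊆ M := h
      refine ⟨by simp, fun k _ => by simpa using h'⟩
    · rintro ⟨_, h⟩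
      have := h 0 le_rfl
      have h' : A ⊆ M := by simpa using this
      exact h'
  | cons y L ih =>
    intro A
    constructor
    · rintro ⟨h1, h2, h3⟩
      obtain ⟨h4, h5⟩ := (ih _).mp h3
      refine ⟨fun y' hy' => ?_, fun k hk => ?_⟩
      · rcases List.mem_cons.mp hy' with rfl | h
        · exact h2
        · exact h4 _ h
      · cases k with
        | zero => simpa using h1
        | succ k =>
          have := h5 k (by simpa using hk)
          simpa [rconj_mul] using this
    · rintro ⟨h1, h2⟩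
      refine ⟨by simpa using h2 0 (Nat.zero_le _), h1 y (List.mem_cons_self ..), (ih _).mpr ⟨?_, ?_⟩⟩
      · exact fun y' hy' => h1 y' (List.mem_cons_of_mem _ hy')
      · intro k hk
        have := h2 (k + 1) (by simpa using hk)
        simpa [rconj_mul] using this

theorem freach_conj {K : Set G} {M : Subgroup G} (n : G) {A : Set G} {g : G}
    (h : FReach K M A g) :
    FReach ((fun y => n * y * n⁻¹) '' K) (lc n M) (rconj n⁻¹ A) (n * g * n⁻¹) := by
  obtain ⟨L, hL, hag⟩ := h
  refine ⟨L.map (fun y => n * y * n⁻¹), fchain_conj n L A hL, ?_⟩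
  rintro _ ⟨a, ha, rfl⟩
  rw [prod_map_conj]
  have e := hag a ha
  calc (n * L.prod * n⁻¹)⁻¹ * (n⁻¹⁻¹ * a * n⁻¹) * (n * L.prod * n⁻¹)
      = n * (L.prod⁻¹ * a * L.prod) * n⁻¹ := by group
  _ = n * (g⁻¹ * a * g) * n⁻¹ := by rw [e]
  _ = (n * g * n⁻¹)⁻¹ * (n⁻¹⁻¹ * a * n⁻¹) * (n * g * n⁻¹) := by group

/-- control at the Sylow subgroup `M` of `H`, with the steps `K M` -/
def CtrlAtK (K : Subgroup G → Set G) (H M : Subgroup G) : Prop :=
  ∀ (X : Set G) (a : G), a ∈ H → X ⊆ M → rconj a X ⊆ M → FReach (K M) M X a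

theorem ctrlAtK_transport {K : Subgroup G → Set G} {H : Subgroup G} {M : Subgroup G} {n : G}
    (hK : (fun y => n⁻¹ * y * n⁻¹⁻¹) '' K (lc n M) ⊆ K M) (hn : n ∈ H)
    (h : CtrlAtK K H (lc n M)) : CtrlAtK K H M := by
  intro X a ha hX haX
  set X' := rconj n⁻¹ X with hX'
  have hX'Q : X' ⊆ (lc n M : Subgroup G) := by
    rintro _ ⟨x, hx, rfl⟩
    have := conj_mem_lc (g := n) (hX hx)
    simpa using this
  set a' := n * a * n⁻¹ with ha'
  have ha'H : a' ∈ H := H.mul_mem (H.mul_mem hn ha) (H.inv_mem hn)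
  have ha'X' : rconj a' X' ⊆ (lc n M : Subgroup G) := by
    have e : rconj a' X' = rconj n⁻¹ (rconj a X) := by
      rw [hX', ha', ← rconj_mul, ← rconj_mul]; congr 1; group
    rw [e]
    rintro _ ⟨x, hx, rfl⟩
    have := conj_mem_lc (g := n) (haX hx)
    simpa using this
  have r := h X' a' ha'H hX'Q ha'X'
  have r' := (freach_conj n⁻¹ r).weaken hK le_rfl
  have e1 : rconj n⁻¹⁻¹ X' = X := by
    rw [hX', inv_inv, ← rconj_mul]; simp
  have e2 : n⁻¹ * a' * n⁻¹⁻¹ = a := by rw [ha']; group
  have e3 : lc n⁻¹ (lc n M) = M := lc_inv_lc n M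
  rw [e1, e2, e3] at r'
  exact r'

/-- the steps allowed for a functor `W` with a central functor `V` -/
def stepSet2 (W V : Subgroup G → Subgroup G) (H M : Subgroup G) : Set G :=
  {y | y ∈ H ⊓ Subgroup.normalizer ((W M : Subgroup G) : Set G) ∨
    y ∈ H ⊓ Subgroup.centralizer ((V M : Subgroup G) : Set G)}

theorem stepSet2_inv {W V : Subgroup G → Subgroup G} {H M : Subgroup G} :
    ∀ y ∈ stepSet2 W V H M, y⁻¹ ∈ stepSet2 W V H M := by
  rintro y (h | h)
  · exact Or.inl (Subgroup.inv_mem _ h)
  · exact Or.inr (Subgroup.inv_mem _ h)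

theorem centralizer_lc (n : G) (X : Subgroup G) :
    Subgroup.centralizer ((lc n X : Subgroup G) : Set G) = lc n (Subgroup.centralizer (X : Set G)) := by
  ext y
  rw [mem_lc, Subgroup.mem_centralizer_iff, Subgroup.mem_centralizer_iff]
  constructor
  · intro h x hx
    have := h (n * x * n⁻¹) (conj_mem_lc hx)
    calc x * (n⁻¹ * y * n) = n⁻¹ * ((n * x * n⁻¹) * y) * n := by group
    _ = n⁻¹ * (y * (n * x * n⁻¹)) * n := by rw [this]
    _ = n⁻¹ * y * n * x := by group
  · intro h x hx
    rw [SetLike.mem_coe, mem_lc] at hx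
    have := h _ hx
    calc x * y = n * ((n⁻¹ * x * n) * (n⁻¹ * y * n)) * n⁻¹ := by group
    _ = n * ((n⁻¹ * y * n) * (n⁻¹ * x * n)) * n⁻¹ := by rw [this]
    _ = y * x := by group

theorem stepSet2_conj [Finite G] {W V : Subgroup G → Subgroup G}
    (hW : IsConjugacyFunctor p W) (hV : IsConjugacyFunctor p V) {H M : Subgroup G}
    (hM : IsPGroup p M) {n : G} (hn : n ∈ H) :
    (fun y => n * y * n⁻¹) '' stepSet2 W V H M ⊆ stepSet2 W V H (lc n M) := by
  rintro _ ⟨y, hy | hy, rfl⟩
  · refine Or.inl (Subgroup.mem_inf.mpr ⟨H.mul_mem (H.mul_mem hn hy.1) (H.inv_mem hn), ?_⟩)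
    rw [functor_lc hW hM, normalizer_lc]
    exact conj_mem_lc hy.2
  · refine Or.inr (Subgroup.mem_inf.mpr ⟨H.mul_mem (H.mul_mem hn hy.1) (H.inv_mem hn), ?_⟩)
    rw [functor_lc hV hM, centralizer_lc]
    exact conj_mem_lc hy.2

theorem rconj_eq_self_of_mem_centralizer {c : G} {X : Set G} (hc : c ∈ Subgroup.centralizer X) :
    rconj c X = X := by
  have h : ∀ x ∈ X, c⁻¹ * x * c = x := by
    intro x hx
    have := (Subgroup.mem_centralizer_iff.mp hc) x hx
    calc c⁻¹ * x * c = c⁻¹ * (x * c) := by group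
    _ = c⁻¹ * (c * x) := by rw [this]
    _ = x := by group
  ext y
  constructor
  · rintro ⟨x, hx, rfl⟩
    show c⁻¹ * x * c ∈ X
    rw [h x hx]; exact hx
  · intro hy
    exact ⟨y, hy, h y hy⟩

/-- from the `Fin`-indexed form of the hypotheses to `FReach` -/
theorem freach_of_ofFn {K : Set G} {M : Subgroup G} {X : Set G} {a c : G} {n : ℕ} {b : Fin n → G}
    (hc : c ∈ Subgroup.centralizer X) (hb : ∀ i, b i ∈ K) (ha : a = c * (List.ofFn b).prod)
    (hsub : ∀ k : ℕ, k ≤ n → (fun x => (((List.ofFn b).take k).prod)⁻¹ * x *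
      ((List.ofFn b).take k).prod) '' ((fun x => c⁻¹ * x * c) '' X) ⊆ M) :
    FReach K M X a := by
  have hcX : (fun x => c⁻¹ * x * c) '' X = X := rconj_eq_self_of_mem_centralizer hc
  refine ⟨List.ofFn b, (fchain_iff _ _).mpr ⟨?_, ?_⟩, ?_⟩
  · intro y hy
    rw [List.mem_ofFn] at hy
    obtain ⟨i, rfl⟩ := hy
    exact hb i
  · intro k hk
    rw [List.length_ofFn] at hk
    have := hsub k hk
    rw [hcX] at this
    exact this
  · intro x hx
    have hcx := (Subgroup.mem_centralizer_iff.mp hc) x hx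
    rw [ha]
    calc (List.ofFn b).prod⁻¹ * x * (List.ofFn b).prod
        = (List.ofFn b).prod⁻¹ * (c⁻¹ * (c * x)) * (List.ofFn b).prod := by group
    _ = (List.ofFn b).prod⁻¹ * (c⁻¹ * (x * c)) * (List.ofFn b).prod := by rw [hcx]
    _ = (c * (List.ofFn b).prod)⁻¹ * x * (c * (List.ofFn b).prod) := by group

/-- from `FReach` to the `Fin`-indexed form of the conclusions -/
theorem ofFn_of_freach {K : Set G} {M : Subgroup G} {X : Set G} {a : G} (h : FReach K M X a) :
    ∃ c ∈ Subgroup.centralizer X, ∃ (n : ℕ) (b : Fin n → G), (∀ i, b i ∈ K) ∧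
      a = c * (List.ofFn b).prod ∧
      ∀ k : ℕ, k ≤ n → (fun x => (((List.ofFn b).take k).prod)⁻¹ * x *
        ((List.ofFn b).take k).prod) '' ((fun x => c⁻¹ * x * c) '' X) ⊆ M := by
  obtain ⟨L, hL, hag⟩ := h
  obtain ⟨h1, h2⟩ := (fchain_iff _ _).mp hL
  have hc : a * L.prod⁻¹ ∈ Subgroup.centralizer X := by
    rw [Subgroup.mem_centralizer_iff]
    intro x hx
    have e := hag x hx
    calc x * (a * L.prod⁻¹) = a * (a⁻¹ * x * a) * L.prod⁻¹ := by group
    _ = a * (L.prod⁻¹ * x * L.prod) * L.prod⁻¹ := by rw [e]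
    _ = a * L.prod⁻¹ * x := by group
  have hofn : List.ofFn (fun i : Fin L.length => L[i.val]) = L := List.ofFn_getElem
  refine ⟨a * L.prod⁻¹, hc, L.length, fun i => L[i.val], fun i => h1 _ (List.getElem_mem _), ?_, ?_⟩
  · rw [hofn]; group
  · intro k hk
    rw [hofn]
    have hcX : (fun x => (a * L.prod⁻¹)⁻¹ * x * (a * L.prod⁻¹)) '' X = X :=
      rconj_eq_self_of_mem_centralizer hc
    rw [hcX]
    exact h2 k hk

section wv

variable [Finite G] [Fact p.Prime] (P : Sylow p G) {W V : Subgroup G → Subgroup G}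

/-- the local hypothesis of the theorems on a functor `W` with a central functor `V`: control in `N_G(H)`
for `Z(P) ≤ H ≤ P` -/
def LocalWV (p : ℕ) (W V : Subgroup G → Subgroup G) (P : Subgroup G) : Prop :=
  ∀ H : Subgroup G, P ⊓ Subgroup.centralizer (P : Set G) ≤ H → H ≤ P →
    ∃ Q : Subgroup G, Q ≤ Subgroup.normalizer (H : Set G) ∧ IsPGroup p Q ∧
      ¬ p ∣ Q.relIndex (Subgroup.normalizer (H : Set G)) ∧
      CtrlAtK (stepSet2 W V (Subgroup.normalizer (H : Set G))) (Subgroup.normalizer (H : Set G)) Q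

theorem ctrl2_at (hW : IsConjugacyFunctor p W) (hV : IsConjugacyFunctor p V)
    (hloc : LocalWV p W V (P : Subgroup G)) {H : Subgroup G}
    (hZ : (P : Subgroup G) ⊓ Subgroup.centralizer ((P : Subgroup G) : Set G) ≤ H)
    (hHP : H ≤ (P : Subgroup G)) {M : Subgroup G} (hMN : M ≤ Subgroup.normalizer (H : Set G))
    (hM : IsPGroup p M) (hidx : ¬ p ∣ M.relIndex (Subgroup.normalizer (H : Set G))) :
    CtrlAtK (stepSet2 W V (Subgroup.normalizer (H : Set G))) (Subgroup.normalizer (H : Set G)) M := by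
  obtain ⟨Q, hQN, hQ, hQidx, hctl⟩ := hloc H hZ hHP
  obtain ⟨n, hn, rfl⟩ := exists_lc_eq_of_sylowIn hQN hQ hQidx hMN hM hidx
  refine ctrlAtK_transport ?_ hn hctl
  have := stepSet2_conj (W := W) (V := V) hW hV (isPGroup_lc (g := n) hM)
    (H := Subgroup.normalizer (H : Set G)) (Subgroup.inv_mem _ hn)
  rwa [lc_inv_lc] at this

theorem center_le_center_NS {S U : Subgroup G} (hUS : U ≤ S) :
    S ⊓ Subgroup.centralizer (S : Set G) ≤ NS S U ⊓ Subgroup.centralizer ((NS S U : Subgroup G) : Set G) := by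
  intro z hz
  obtain ⟨hzS, hzC⟩ := Subgroup.mem_inf.mp hz
  refine Subgroup.mem_inf.mpr ⟨Subgroup.mem_inf.mpr ⟨hzS, ?_⟩, ?_⟩
  · apply Subgroup.centralizer_le_normalizer
    exact Subgroup.centralizer_le (by exact_mod_cast hUS) hzC
  · exact Subgroup.centralizer_le (by exact_mod_cast (inf_le_left : NS S U ≤ S)) hzC

theorem wv_climb (hW : IsConjugacyFunctor p W) (hV : IsConjugacyFunctor p V)
    (hWZ : ∀ H : Subgroup G, IsPGroup p H → H ⊓ Subgroup.centralizer (H : Set G) ≤ W H)
    (hVmono : ∀ H K : Subgroup G, IsPGroup p H → IsPGroup p K → H ≠ ⊥ → K ≠ ⊥ →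
      H ⊓ Subgroup.centralizer (H : Set G) ≤ K ⊓ Subgroup.centralizer (K : Set G) → V H ≤ V K)
    (hloc : LocalWV p W V (P : Subgroup G)) {U : Subgroup G}
    (hwp : IsWellPlaced p W (P : Subgroup G) U) (hUne : U ≠ ⊥)
    (hZU : (P : Subgroup G) ⊓ Subgroup.centralizer ((P : Subgroup G) : Set G) ≤ U) :
    ∀ y ∈ Subgroup.normalizer (U : Set G), ∀ B : Set G, B ⊆ NS (P : Subgroup G) U →
      rconj y B ⊆ NS (P : Subgroup G) U →
      FReach (stepSet2 W V ⊤ (P : Subgroup G)) (P : Subgroup G) B y := by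
  have hPp : IsPGroup p (P : Subgroup G) := P.2
  have hPne : (P : Subgroup G) ≠ ⊥ := by
    intro h
    apply hUne
    have := hwp.1
    rw [h] at this
    exact le_bot_iff.mp this
  -- tower facts
  have hTne : ∀ i, functorTower W (P : Subgroup G) U i ≠ ⊥ := by
    intro i
    induction i with
    | zero => exact hUne
    | succ i ih =>
      rw [tower_succ]
      apply functor_ne_bot hW hPp.to_inf_left
      intro hbot
      apply ih
      have h1 : functorTower W (P : Subgroup G) U i ≤ NS (P : Subgroup G) (functorTower W (P : Subgroup G) U i) :=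
        le_NS (tower_le hW hPp hwp.1 i)
      have hbot' : NS (P : Subgroup G) (functorTower W (P : Subgroup G) U i) = ⊥ := hbot
      rw [hbot'] at h1
      exact le_bot_iff.mp h1
  have hZT : ∀ i, (P : Subgroup G) ⊓ Subgroup.centralizer ((P : Subgroup G) : Set G) ≤
      functorTower W (P : Subgroup G) U i := by
    intro i
    cases i with
    | zero => exact hZU
    | succ i =>
      rw [tower_succ]
      exact (center_le_center_NS (tower_le hW hPp hwp.1 i)).trans (hWZ _ hPp.to_inf_left)
  obtain ⟨i₀, hi₀⟩ := tower_eventually hW hPp U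
  have claim : ∀ k i, i + k = i₀ + 1 →
      ∀ y ∈ Subgroup.normalizer ((functorTower W (P : Subgroup G) U i : Subgroup G) : Set G),
      ∀ B : Set G, B ⊆ NS (P : Subgroup G) (functorTower W (P : Subgroup G) U i) →
      rconj y B ⊆ NS (P : Subgroup G) (functorTower W (P : Subgroup G) U i) →
      FReach (stepSet2 W V ⊤ (P : Subgroup G)) (P : Subgroup G) B y := by
    intro k
    induction k with
    | zero =>
      intro i hi y hy B hB hyB
      have hi' : i = i₀ + 1 := by omega
      subst hi'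
      rw [hi₀] at hy
      refine FReach.single (Or.inl (Subgroup.mem_inf.mpr ⟨Subgroup.mem_top _, hy⟩))
        (hB.trans (by exact_mod_cast (inf_le_left : NS (P : Subgroup G) _ ≤ (P : Subgroup G))))
        (hyB.trans (by exact_mod_cast (inf_le_left : NS (P : Subgroup G) _ ≤ (P : Subgroup G))))
    | succ k ih =>
      intro i hi y hy B hB hyB
      have ihnext := ih (i + 1) (by omega)
      set Ui := functorTower W (P : Subgroup G) U i with hUi
      set Qi := NS (P : Subgroup G) Ui with hQi
      have hQip : IsPGroup p Qi := hPp.to_inf_left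
      have hUiP : Ui ≤ (P : Subgroup G) := tower_le hW hPp hwp.1 i
      have hctl := ctrl2_at P hW hV hloc (hZT i) hUiP (M := Qi) inf_le_right hQip (hwp.2 i)
      have r := hctl B y hy hB hyB
      refine freach_bind r ?_ inf_le_left
      intro y' hy' B' hB' hy'B'
      rcases hy' with hy' | hy'
      · have hy'' : y' ∈ Subgroup.normalizer
            ((functorTower W (P : Subgroup G) U (i + 1) : Subgroup G) : Set G) := by
          rw [tower_succ]; exact hy'.2
        have hle : Qi ≤ NS (P : Subgroup G) (functorTower W (P : Subgroup G) U (i + 1)) :=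
          NS_tower_le_succ hW hPp U i
        exact ihnext y' hy'' B' (hB'.trans (by exact_mod_cast hle))
          (hy'B'.trans (by exact_mod_cast hle))
      · have hQine : Qi ≠ ⊥ := by
          intro hbot
          apply hTne i
          have h1 : Ui ≤ Qi := le_NS hUiP
          rw [hbot] at h1
          exact le_bot_iff.mp h1
        have hVle : V (P : Subgroup G) ≤ V Qi :=
          hVmono _ _ hPp hQip hPne hQine (center_le_center_NS hUiP)
        have hmem : y' ∈ Subgroup.centralizer ((V (P : Subgroup G) : Subgroup G) : Set G) :=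
          Subgroup.centralizer_le (by exact_mod_cast hVle) hy'.2
        refine FReach.single (Or.inr (Subgroup.mem_inf.mpr ⟨Subgroup.mem_top _, hmem⟩))
          (hB'.trans (by exact_mod_cast (inf_le_left : Qi ≤ (P : Subgroup G))))
          (hy'B'.trans (by exact_mod_cast (inf_le_left : Qi ≤ (P : Subgroup G))))
  exact claim (i₀ + 1) 0 (by omega)

theorem lc_sup (g : G) (H K : Subgroup G) : lc g (H ⊔ K) = lc g H ⊔ lc g K :=
  Subgroup.map_sup _ _ _

/-- a functor `W` with a central functor `V`: local control of strong fusion gives global control -/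
theorem wv_controls (hW : IsConjugacyFunctor p W) (hV : IsConjugacyFunctor p V)
    (hWZ : ∀ H : Subgroup G, IsPGroup p H → H ⊓ Subgroup.centralizer (H : Set G) ≤ W H)
    (hVmono : ∀ H K : Subgroup G, IsPGroup p H → IsPGroup p K → H ≠ ⊥ → K ≠ ⊥ →
      H ⊓ Subgroup.centralizer (H : Set G) ≤ K ⊓ Subgroup.centralizer (K : Set G) → V H ≤ V K)
    (hloc : LocalWV p W V (P : Subgroup G)) {X : Set G} {a : G}
    (hX : X ⊆ (P : Subgroup G)) (haX : rconj a X ⊆ (P : Subgroup G)) :
    FReach (stepSet2 W V ⊤ (P : Subgroup G)) (P : Subgroup G) X a := by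
  have hPp : IsPGroup p (P : Subgroup G) := P.2
  refine engine_set (R := fun A g => FReach (stepSet2 W V ⊤ (P : Subgroup G)) (P : Subgroup G) A g)
    (fun hBA h => h.mono hBA) ?_ hX haX
  refine alperin_engine P _ (fun U => IsWellPlaced p W (P : Subgroup G) U) ?_
    (fun hBA h => h.mono hBA) (fun h₁ h₂ => h₁.trans h₂) (fun h => h.symm stepSet2_inv) ?_
  · intro T hT
    obtain ⟨g, hg⟩ := exists_wellPlaced_lc hW P hT
    exact ⟨g, hg.1, hg, hg.2 0⟩
  · intro U hUP hwp hidx IH m hm
    by_cases hcen : (P : Subgroup G) ⊓ Subgroup.centralizer (U : Set G) ≤ U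
    · -- centric: climb the tower
      by_cases hUne : U = ⊥
      · -- then `P = ⊥`
        have hP : (P : Subgroup G) = ⊥ := by
          rw [hUne] at hcen
          have : (P : Subgroup G) ≤ (P : Subgroup G) ⊓ Subgroup.centralizer (((⊥ : Subgroup G) : Subgroup G) : Set G) := by
            refine le_inf le_rfl ?_
            intro x _
            rw [Subgroup.mem_centralizer_iff]
            intro y hy
            rw [SetLike.mem_coe, Subgroup.mem_bot] at hy
            subst hy
            simp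
          exact le_bot_iff.mp (this.trans hcen)
        refine (FReach.refl (by exact_mod_cast hUP)).congr ?_
        intro x hx
        have : x = 1 := by
          rw [hUne] at hx
          exact Subgroup.mem_bot.mp hx
        rw [this]; group
      · have hZU : (P : Subgroup G) ⊓ Subgroup.centralizer ((P : Subgroup G) : Set G) ≤ U :=
          (inf_le_inf le_rfl (Subgroup.centralizer_le (by exact_mod_cast hUP))).trans hcen
        have hUN : U ≤ NS (P : Subgroup G) U := le_NS hUP
        refine wv_climb P hW hV hWZ hVmono hloc hwp hUne hZU m hm _ (by exact_mod_cast hUN) ?_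
        rw [rconj_eq_of_mem_normalizer hm]
        exact_mod_cast hUN
    · -- not centric: Frattini argument
      obtain ⟨z, hz, n, hnN, hnC, rfl⟩ := exists_centralizer_mul_normalizer hPp hidx hm
      set CP := (P : Subgroup G) ⊓ Subgroup.centralizer (U : Set G) with hCP
      set U' := U ⊔ CP with hU'
      have hU'P : U' ≤ (P : Subgroup G) := sup_le hUP inf_le_left
      have hlt : U < U' := by
        refine lt_of_le_of_ne le_sup_left ?_
        intro h
        apply hcen
        rw [h]
        exact le_sup_right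
      have hnU' : lc n⁻¹ U' = U' := by
        rw [hU', lc_sup, mem_normalizer_iff_lc.mp (Subgroup.inv_mem _ hnN),
          mem_normalizer_iff_lc.mp (Subgroup.inv_mem _ hnC)]
      have r := IH U' hU'P (card_lt_card_of_lt hlt) n (by rw [hnU']; exact hU'P)
      have r' : FReach (stepSet2 W V ⊤ (P : Subgroup G)) (P : Subgroup G) (U : Set G) n :=
        r.mono (by exact_mod_cast hlt.le)
      refine r'.congr ?_
      intro x hx
      have hzx := (Subgroup.mem_centralizer_iff.mp hz) x hx
      calc n⁻¹ * x * n = n⁻¹ * (z⁻¹ * (z * x)) * n := by group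
      _ = n⁻¹ * (z⁻¹ * (x * z)) * n := by rw [hzx]
      _ = (z * n)⁻¹ * x * (z * n) := by group

end wv

end Cfsg.Agent.Lib.Helper41
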