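import Mathlib

/-!
# K-S2717-U1: a finite cyclic group has at most one involution
-/

set_option autoImplicit false

namespace Cfsg.Agent.Lib.Helper41.S2717K

/-- K-S2717-U1: a finite cyclic group has at most one involution. -/
theorem unique_involution_cyclic {G : Type*} [Group G] [Finite G] [IsCyclic G] (a b : G)
    (ha : orderOf a = 2) (hb : orderOf b = 2) : a = b := by
  classical
  haveI : Fintype G := Fintype.ofFinite G
  have hdvd : 2 ∣ Fintype.card G := by
    rw [← ha]
    exact orderOf_dvd_card
  have hcard : (Finset.univ.filter (fun x : G => orderOf x = 2)).card = Nat.totient 2 :=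
    IsCyclic.card_orderOf_eq_totient hdvd
  rw [Nat.totient_two] at hcard
  have hle : (Finset.univ.filter (fun x : G => orderOf x = 2)).card ≤ 1 := hcard.le
  rw [Finset.card_le_one] at hle
  exact hle a (by simp [ha]) b (by simp [hb])

end Cfsg.Agent.Lib.Helper41.S2717K
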