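import Mathlib
import Cfsg.Prelude.Def_GeometricClasses
import Cfsg.Agent.Lib.Helper61.AschDefs

/-!
# K-S5630-B2 (helper41): a normalized simple subalgebra with centre bigger than `F` gives class 3

If `A` is a simple subalgebra of the matrix algebra over a finite field `F`, normalized by `K`, whose centre is
not `F`, then the centre is a finite field `L ⊋ F`; for a prime `r` dividing `[L : F]` the unique subfield of
degree `r` (the fixed points of `x ↦ x ^ (q ^ r)`) is normalized by `K`.
-/

set_option autoImplicit false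

namespace Cfsg.Agent.Lib.Helper41.Asch

open Cfsg Cfsg.Geo Cfsg.Agent.Lib.Helper61.Asch
open scoped Matrix MatrixGroups
open Module

/-- The subfield of degree `r` of a finite extension `L / F` of finite fields, `r ∣ [L : F]`: the fixed points of
`x ↦ x ^ (|F| ^ r)`. -/
theorem exists_subalgebra_finrank_eq (F L : Type*) [Field F] [Fintype F] [Field L] [Finite L]
    [Algebra F L] (r : ℕ) (hr : r ∣ finrank F L) (hr0 : 0 < r) :
    ∃ S : Subalgebra F L, finrank F S = r ∧ ∀ x : L, x ∈ S ↔ x ^ (Fintype.card F ^ r) = x := by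
  classical
  set φ := FiniteField.frobeniusAlgEquivOfAlgebraic F L with hφ
  set H : Subgroup (L ≃ₐ[F] L) := Subgroup.zpowers (φ ^ r) with hH
  have hd : orderOf φ = finrank F L := FiniteField.orderOf_frobeniusAlgEquivOfAlgebraic F L
  have hcardH : Nat.card H = finrank F L / r := by
    rw [hH, Nat.card_zpowers, orderOf_pow, hd, Nat.gcd_eq_right hr]
  have h1 : finrank (IntermediateField.fixedField H) L = finrank F L / r := by
    rw [IntermediateField.finrank_fixedField_eq_card, hcardH]
  have h2 : finrank F (IntermediateField.fixedField H) * finrank (IntermediateField.fixedField H) L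
      = finrank F L := Module.finrank_mul_finrank F (IntermediateField.fixedField H) L
  have hdpos : 0 < finrank F L := Module.finrank_pos
  have h3 : finrank F (IntermediateField.fixedField H) = r := by
    rw [h1] at h2
    obtain ⟨c, hc⟩ := hr
    have hc0 : 0 < c := by
      rcases Nat.eq_zero_or_pos c with h | h
      · rw [h, mul_zero] at hc; omega
      · exact h
    rw [hc, Nat.mul_div_cancel_left c hr0] at h2
    exact Nat.eq_of_mul_eq_mul_right hc0 h2
  refine ⟨(IntermediateField.fixedField H).toSubalgebra, h3, ?_⟩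
  intro x
  rw [IntermediateField.mem_toSubalgebra, IntermediateField.mem_fixedField_iff]
  have hφr : (φ ^ r) x = x ^ (Fintype.card F ^ r) := by
    rw [AlgEquiv.coe_pow, hφ, FiniteField.coe_frobeniusAlgEquivOfAlgebraic_iterate]
  constructor
  · intro h
    rw [← hφr]
    exact h _ (Subgroup.mem_zpowers _)
  · intro h f hf
    have hle : H ≤ MulAction.stabilizer (L ≃ₐ[F] L) x := by
      rw [hH, Subgroup.zpowers_le]
      rw [MulAction.mem_stabilizer_iff, AlgEquiv.smul_def, hφr, h]
    have := hle hf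
    rwa [MulAction.mem_stabilizer_iff, AlgEquiv.smul_def] at this

/-- The same for a commutative ring which is a field. -/
theorem exists_subalgebra_finrank_eq_of_isField (F L : Type*) [Field F] [Fintype F] [CommRing L]
    (hL : IsField L) [Finite L] [Algebra F L] (r : ℕ) (hr : r ∣ finrank F L) (hr0 : 0 < r) :
    ∃ S : Subalgebra F L, finrank F S = r ∧ ∀ x : L, x ∈ S ↔ x ^ (Fintype.card F ^ r) = x := by
  letI := hL.toField
  exact exists_subalgebra_finrank_eq F L r hr hr0

/-- Transport to an ambient algebra: a finite field `L` embedded in an `F`-algebra `B` contains, for `r ∣ [L : F]`,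
a subalgebra `E` of `B` which is a field of degree `r`, cut out inside the image of `L` by `x ^ (|F| ^ r) = x`. -/
theorem exists_fieldSubalgebra_of_embedding {F B L : Type*} [Field F] [Fintype F] [Ring B] [Algebra F B]
    [CommRing L] (hL : IsField L) [Finite L] [Algebra F L] (ι : L →ₐ[F] B)
    (hι : Function.Injective ι) (r : ℕ) (hr : r ∣ finrank F L) (hr0 : 0 < r) :
    ∃ E : Subalgebra F B, finrank F E = r ∧ (∀ x ∈ E, ∀ y ∈ E, x * y = y * x) ∧
      (∀ x ∈ E, x ≠ 0 → ∃ y ∈ E, x * y = 1) ∧
      ∀ x : B, x ∈ E ↔ x ∈ ι.range ∧ x ^ (Fintype.card F ^ r) = x := by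
  obtain ⟨S, hS, hmem⟩ := exists_subalgebra_finrank_eq_of_isField F L hL r hr hr0
  refine ⟨S.map ι, ?_, ?_, ?_, ?_⟩
  · rw [← hS]
    exact (LinearEquiv.finrank_eq (Subalgebra.equivMapOfInjective S ι hι).toLinearEquiv).symm
  · intro x hx y hy
    obtain ⟨a, _, rfl⟩ := Subalgebra.mem_map.1 hx
    obtain ⟨b, _, rfl⟩ := Subalgebra.mem_map.1 hy
    rw [← map_mul, ← map_mul, mul_comm]
  · intro x hx hne
    obtain ⟨a, ha, rfl⟩ := Subalgebra.mem_map.1 hx
    have ha0 : a ≠ 0 := by
      rintro rfl
      exact hne (map_zero ι)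
    obtain ⟨b, hab⟩ := hL.mul_inv_cancel ha0
    refine ⟨ι b, Subalgebra.mem_map.2 ⟨b, ?_, rfl⟩, by rw [← map_mul, hab, map_one]⟩
    have ha' := (hmem a).1 ha
    rw [hmem]
    set m := Fintype.card F ^ r
    have h1 : a ^ m * b ^ m = 1 := by rw [← mul_pow, hab, one_pow]
    rw [ha'] at h1
    calc b ^ m = (b * a) * b ^ m := by rw [mul_comm b a, hab, one_mul]
      _ = b * (a * b ^ m) := by rw [mul_assoc]
      _ = b := by rw [h1, mul_one]
  · intro x
    constructor
    · intro hx
      obtain ⟨a, ha, rfl⟩ := Subalgebra.mem_map.1 hx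
      refine ⟨⟨a, rfl⟩, ?_⟩
      have ha' := (hmem a).1 ha
      rw [← map_pow, ha']
    · rintro ⟨⟨a, rfl⟩, hx⟩
      refine Subalgebra.mem_map.2 ⟨a, ?_, rfl⟩
      rw [hmem]
      apply hι
      rw [map_pow]
      exact hx

variable {F : Type*} [Field F] [Fintype F] {n : ℕ}

local notation "Mat" => Matrix (Fin n) (Fin n) F

/-- **K-S5630-B2.** -/
theorem c3_of_center_ne_bot (K : Subgroup (GL (Fin n) F)) (A : Subalgebra F Mat) [IsSimpleRing A]
    (hKA : NormAlg K A) (hc : Subalgebra.center F A ≠ ⊥) :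
    ∃ (r : ℕ) (E : Subalgebra F Mat), r.Prime ∧ IsFieldSubalgebra r E ∧ K ≤ subalgebraNormalizer E := by
  classical
  -- the centre is a field
  have hL : IsField (Subalgebra.center F A) := by
    have h := IsSimpleRing.isField_center A
    refine ⟨⟨0, 1, zero_ne_one⟩, mul_comm, ?_⟩
    intro a ha
    have ha' : (⟨a.1, a.2⟩ : Subring.center A) ≠ 0 := by
      intro h0
      apply ha
      apply Subtype.ext
      exact congrArg Subtype.val h0
    obtain ⟨b, hb⟩ := h.mul_inv_cancel ha'
    refine ⟨⟨b.1, b.2⟩, ?_⟩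
    apply Subtype.ext
    exact congrArg Subtype.val hb
  haveI : Finite (Subalgebra.center F A) :=
    Finite.of_injective (fun x : Subalgebra.center F A => ((x : A) : Mat))
      (fun x y h => Subtype.ext (Subtype.ext h))
  -- its degree is at least two
  have hd1 : finrank F (Subalgebra.center F A) ≠ 1 := by
    intro h
    apply hc
    rw [eq_bot_iff]
    intro w hw
    have h1 := (finrank_eq_one_iff_of_nonzero' (1 : Subalgebra.center F A) one_ne_zero).1 h ⟨w, hw⟩
    obtain ⟨c, hc'⟩ := h1
    rw [Algebra.mem_bot]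
    refine ⟨c, ?_⟩
    have h2 : ((c • (1 : Subalgebra.center F A) : Subalgebra.center F A) : A) = w :=
      congrArg Subtype.val hc'
    rw [← h2, Algebra.algebraMap_eq_smul_one]
    rfl
  obtain ⟨r, hrp, hrd⟩ := Nat.exists_prime_and_dvd hd1
  let ι : Subalgebra.center F A →ₐ[F] Mat := A.val.comp (Subalgebra.center F A).val
  have hι : Function.Injective ι := fun x y h => Subtype.ext (Subtype.ext h)
  obtain ⟨E, hEr, hEcomm, hEinv, hEmem⟩ :=
    exists_fieldSubalgebra_of_embedding (F := F) (B := Mat) (L := Subalgebra.center F A) hL ι hι r hrd hrp.pos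
  refine ⟨r, E, hrp, ⟨hEcomm, hEinv, hEr⟩, ?_⟩
  -- description of the image of the centre
  have hrange : ∀ x : Mat, x ∈ ι.range ↔ x ∈ A ∧ ∀ a ∈ A, a * x = x * a := by
    intro x
    constructor
    · rintro ⟨c, rfl⟩
      refine ⟨(c : A).2, ?_⟩
      intro a ha
      have := Subalgebra.mem_center_iff.1 c.2 ⟨a, ha⟩
      exact congrArg Subtype.val this
    · rintro ⟨hxA, hx⟩
      refine ⟨⟨⟨x, hxA⟩, ?_⟩, rfl⟩
      rw [Subalgebra.mem_center_iff]
      intro b
      apply Subtype.ext
      exact hx b.1 b.2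
  -- forward invariance
  have hfwd : ∀ g ∈ K, ∀ x : Mat, x ∈ E →
      (g : Mat) * x * ((g⁻¹ : GL (Fin n) F) : Mat) ∈ E := by
    intro g hg x hx
    rw [hEmem] at hx ⊢
    obtain ⟨hx1, hx2⟩ := hx
    rw [hrange] at hx1 ⊢
    obtain ⟨hxA, hxc⟩ := hx1
    refine ⟨⟨hKA g hg x hxA, ?_⟩, ?_⟩
    · intro a ha
      have ha' : ((g⁻¹ : GL (Fin n) F) : Mat) * a * (g : Mat) ∈ A := by
        have := hKA g⁻¹ (K.inv_mem hg) a ha
        rwa [inv_inv] at this
      have h1 := hxc _ ha'
      have hgi : ((g : GL (Fin n) F) : Mat) * ((g⁻¹ : GL (Fin n) F) : Mat) = 1 := by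
        rw [← Units.val_mul, mul_inv_cancel, Units.val_one]
      have hig : ((g⁻¹ : GL (Fin n) F) : Mat) * ((g : GL (Fin n) F) : Mat) = 1 := by
        rw [← Units.val_mul, inv_mul_cancel, Units.val_one]
      calc a * ((g : Mat) * x * ((g⁻¹ : GL (Fin n) F) : Mat))
          = (g : Mat) * ((((g⁻¹ : GL (Fin n) F) : Mat) * a * (g : Mat)) * x)
              * ((g⁻¹ : GL (Fin n) F) : Mat) := by
            simp only [mul_assoc]
            rw [← mul_assoc (g : Mat) ((g⁻¹ : GL (Fin n) F) : Mat), hgi, one_mul]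
        _ = (g : Mat) * (x * (((g⁻¹ : GL (Fin n) F) : Mat) * a * (g : Mat)))
              * ((g⁻¹ : GL (Fin n) F) : Mat) := by rw [h1]
        _ = (g : Mat) * x * ((g⁻¹ : GL (Fin n) F) : Mat) * a := by
            simp only [mul_assoc]
            rw [hgi, mul_one]
    · rw [Units.conj_pow, hx2]
  intro g hg
  show ∀ k : Mat, k ∈ E ↔ (g : Mat) * k * ((g⁻¹ : GL (Fin n) F) : Mat) ∈ E
  intro k
  constructor
  · exact hfwd g hg k
  · intro h
    have := hfwd g⁻¹ (K.inv_mem hg) _ h
    rw [inv_inv] at this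
    have hig : ((g⁻¹ : GL (Fin n) F) : Mat) * ((g : GL (Fin n) F) : Mat) = 1 := by
      rw [← Units.val_mul, inv_mul_cancel, Units.val_one]
    have e : ((g⁻¹ : GL (Fin n) F) : Mat) * ((g : Mat) * k * ((g⁻¹ : GL (Fin n) F) : Mat)) * (g : Mat)
        = k := by
      simp only [mul_assoc]
      rw [hig, mul_one, ← mul_assoc, hig, one_mul]
    rwa [e] at this

end Cfsg.Agent.Lib.Helper41.Asch
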