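import Mathlib.GroupTheory.Sylow
import Mathlib.GroupTheory.QuotientGroup.Basic
import Mathlib.GroupTheory.Commutator.Basic
import Cfsg.Prelude.Def_ConjugacyFunctors

set_option autoImplicit false

namespace Cfsg.Agent.Lib.Helper41

open Cfsg

universe u

section induced

variable {p : ℕ} (W : ∀ (Q : Type u) [Group Q], Subgroup Q)

theorem inducedFunctor_le {X : Type u} [Group X] (T : Subgroup X) : inducedFunctor W T ≤ T := by
  rintro _ ⟨x, -, rfl⟩
  exact x.2

theorem inducedFunctor_map_equiv (hW : IsCharPFunctor.{u} p W) {X Y : Type u} [Group X] [Group Y]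
    (e : X ≃* Y) (T : Subgroup X) [Finite T] (hT : IsPGroup p T) :
    inducedFunctor W (T.map e.toMonoidHom) = (inducedFunctor W T).map e.toMonoidHom := by
  unfold inducedFunctor
  have h := hW.2 ↥T ↥(T.map e.toMonoidHom) hT (e.subgroupMap T)
  rw [← h, Subgroup.map_map, Subgroup.map_map]
  rfl

theorem inducedFunctor_ne_bot (hW : IsCharPFunctor.{u} p W) {X : Type u} [Group X]
    (T : Subgroup X) [Finite T] (hT : IsPGroup p T) (hne : T ≠ ⊥) : inducedFunctor W T ≠ ⊥ := by
  unfold inducedFunctor
  have : Nontrivial T := (Subgroup.nontrivial_iff_ne_bot T).mpr hne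
  have h := hW.1 ↥T hT this
  intro h0
  apply h
  rw [Subgroup.map_eq_bot_iff_of_injective _ (Subgroup.subtype_injective T)] at h0
  exact h0

/-- conjugation invariance -/
theorem inducedFunctor_conj (hW : IsCharPFunctor.{u} p W) {X : Type u} [Group X]
    (T : Subgroup X) [Finite T] (hT : IsPGroup p T) (g : X) :
    inducedFunctor W (T.map (MulAut.conj g).toMonoidHom) =
      (inducedFunctor W T).map (MulAut.conj g).toMonoidHom :=
  inducedFunctor_map_equiv W hW (MulAut.conj g) T hT

theorem le_normalizer_inducedFunctor (hW : IsCharPFunctor.{u} p W) {X : Type u} [Group X]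
    (T : Subgroup X) [Finite T] (hT : IsPGroup p T) :
    Subgroup.normalizer (T : Set X) ≤ Subgroup.normalizer ((inducedFunctor W T : Subgroup X) : Set X) := by
  intro g hg
  have h1 : T.map (MulAut.conj g).toMonoidHom = T := by
    have := Subgroup.mem_normalizer_iff_map_conj_eq.mp hg
    exact this
  have h2 := inducedFunctor_conj W hW T hT g
  rw [h1] at h2
  exact Subgroup.mem_normalizer_iff_map_conj_eq.mpr h2.symm

theorem controlsTransferIn_top_of_equiv (hW : IsCharPFunctor.{u} p W) {X Y : Type u} [Group X] [Group Y]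
    [Finite X] (e : X ≃* Y)
    (h : ControlsTransferIn p (inducedFunctor W) (⊤ : Subgroup X)) :
    ControlsTransferIn p (inducedFunctor W) (⊤ : Subgroup Y) := by
  obtain ⟨T, -, hTp, hidx, heq⟩ := h
  refine ⟨T.map e.toMonoidHom, le_top, hTp.map _, ?_, ?_⟩
  · rw [Subgroup.relIndex_top_right] at hidx ⊢
    rwa [Subgroup.index_map_of_bijective e.bijective]
  · simp only [top_inf_eq] at heq ⊢
    rw [inducedFunctor_map_equiv W hW e T hTp]
    rw [← Subgroup.map_equiv_normalizer_eq]
    have htop : (⊤ : Subgroup Y) = (⊤ : Subgroup X).map e.toMonoidHom := by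
      rw [← MonoidHom.range_eq_map]
      exact (MonoidHom.range_eq_top.mpr e.surjective).symm
    rw [htop, ← Subgroup.map_commutator, ← Subgroup.map_commutator,
      ← Subgroup.map_inf _ _ _ e.injective, ← Subgroup.map_inf _ _ _ e.injective, heq]

end induced

section secctl

variable {p : ℕ} (W : ∀ (Q : Type u) [Group Q], Subgroup Q)

/-- `W` controls transfer in every section of `X` -/
def SecCtl (p : ℕ) (W : ∀ (Q : Type u) [Group Q], Subgroup Q) (X : Type u) [Group X] : Prop :=
  ∀ (K R : Subgroup X) [(R.subgroupOf K).Normal],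
    ControlsTransferIn p (inducedFunctor (G := (↥K ⧸ R.subgroupOf K)) W) ⊤

theorem SecCtl.top (hW : IsCharPFunctor.{u} p W) {X : Type u} [Group X] [Finite X]
    (h : SecCtl p W X) : ControlsTransferIn p (inducedFunctor W) (⊤ : Subgroup X) := by
  have h1 := h ⊤ ⊥
  have hb : (⊥ : Subgroup X).subgroupOf ⊤ = ⊥ := Subgroup.bot_subgroupOf _
  let e : (↥(⊤ : Subgroup X) ⧸ (⊥ : Subgroup X).subgroupOf ⊤) ≃* X :=
    ((QuotientGroup.quotientMulEquivOfEq hb).trans QuotientGroup.quotientBot).trans Subgroup.topEquiv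
  exact controlsTransferIn_top_of_equiv W hW e h1

theorem SecCtl.subgroup (hW : IsCharPFunctor.{u} p W) {X : Type u} [Group X] [Finite X]
    (h : SecCtl p W X) (N : Subgroup X) : SecCtl p W ↥N := by
  intro K' R' hn
  set K := K'.map N.subtype with hK
  set R := R'.map N.subtype with hR
  let e₀ : ↥K' ≃* ↥K := Subgroup.equivMapOfInjective K' N.subtype (Subgroup.subtype_injective N)
  have hmap : (R'.subgroupOf K').map e₀.toMonoidHom = R.subgroupOf K := by
    ext y
    constructor
    · rintro ⟨k, hk, rfl⟩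
      have hk' : (k : ↥N) ∈ R' := hk
      rw [Subgroup.mem_subgroupOf]
      exact ⟨_, hk', rfl⟩
    · intro hy
      rw [Subgroup.mem_subgroupOf] at hy
      obtain ⟨r, hr, hry⟩ := hy
      obtain ⟨k, hk, hky⟩ := y.2
      have hkr : k = r := Subgroup.subtype_injective N (hky.trans hry.symm)
      refine ⟨⟨k, hk⟩, ?_, ?_⟩
      · show k ∈ R'
        rw [hkr]; exact hr
      · apply Subtype.ext
        exact hky
  haveI hn' : (R.subgroupOf K).Normal := by
    rw [← hmap]
    exact Subgroup.Normal.map hn _ e₀.surjective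
  have h1 := h K R
  let e : (↥K ⧸ R.subgroupOf K) ≃* (↥K' ⧸ R'.subgroupOf K') :=
    (QuotientGroup.congr (R'.subgroupOf K') (R.subgroupOf K) e₀ hmap).symm
  exact controlsTransferIn_top_of_equiv W hW e h1

theorem SecCtl.quotient (hW : IsCharPFunctor.{u} p W) {X : Type u} [Group X] [Finite X]
    (h : SecCtl p W X) (M : Subgroup X) [M.Normal] : SecCtl p W (X ⧸ M) := by
  intro K' R' hn
  set K := K'.comap (QuotientGroup.mk' M) with hK
  set R := R'.comap (QuotientGroup.mk' M) with hR
  let f : ↥K →* (↥K' ⧸ R'.subgroupOf K') :=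
    (QuotientGroup.mk' (R'.subgroupOf K')).comp ((QuotientGroup.mk' M).subgroupComap K')
  have hf : Function.Surjective f :=
    (QuotientGroup.mk'_surjective _).comp
      (MonoidHom.subgroupComap_surjective_of_surjective _ _ (QuotientGroup.mk'_surjective M))
  have hker : R.subgroupOf K = f.ker := by
    ext x
    rw [MonoidHom.mem_ker, Subgroup.mem_subgroupOf]
    show (x : X) ∈ R ↔ QuotientGroup.mk' (R'.subgroupOf K') (((QuotientGroup.mk' M).subgroupComap K') x) = 1
    rw [QuotientGroup.mk'_apply, QuotientGroup.eq_one_iff, Subgroup.mem_subgroupOf]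
    rfl
  haveI hn' : (R.subgroupOf K).Normal := by
    rw [hker]; exact MonoidHom.normal_ker f
  have h1 := h K R
  let e : (↥K ⧸ R.subgroupOf K) ≃* (↥K' ⧸ R'.subgroupOf K') :=
    (QuotientGroup.quotientMulEquivOfEq hker).trans (QuotientGroup.quotientKerEquivOfSurjective f hf)
  exact controlsTransferIn_top_of_equiv W hW e h1

end secctl

end Cfsg.Agent.Lib.Helper41
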