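import Mathlib
import Cfsg.Agent.Lib.Helper23.SylowEmbed
import Cfsg.Agent.Lib.Helper23.SylowCount
import Cfsg.Agent.Lib.Helper23.SylowInter
import Cfsg.Agent.S4216

/-!
# K-S0496-756: no simple group of order 756
-/

set_option autoImplicit false

namespace Cfsg.Agent.Lib.Helper41.Small1092

open Subgroup

section

variable {G : Type*} [Group G] [Finite G] [IsSimpleGroup G]

/-- proper subgroups have index at least 9. -/
theorem n756_index (hG : ¬ IsMulCommutative G) (h : Nat.card G = 756) (H : Subgroup G)
    (hH : H ≠ ⊤) : 9 ≤ H.index := by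
  have h1 := Cfsg.Agent.Lib.Helper23.card_dvd_factorial_index hG H hH
  rw [h] at h1
  by_contra hlt
  have h8 : H.index ≤ 8 := by omega
  interval_cases H.index <;> revert h1 <;> decide

/-- a subgroup of order 9 or 27 is not normal; in particular its normalizer is proper. -/
theorem n756_ne_top (h : Nat.card G = 756) (D : Subgroup G) (hD1 : Nat.card D ≠ 1)
    (hD2 : Nat.card D ≠ 756) : normalizer (D : Set G) ≠ ⊤ := by
  intro htop
  have hn : D.Normal := normalizer_eq_top_iff.mp htop
  rcases hn.eq_bot_or_eq_top with h' | h'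
  · apply hD1; rw [h']; simp
  · apply hD2; rw [h', ← h]; simp

theorem n756_card_sylow (h : Nat.card G = 756) (P : Sylow 3 G) : Nat.card (P : Subgroup G) = 27 := by
  have := Cfsg.Agent.Lib.Helper23.sylow_card_of_card_eq 3 3 28 (by rw [h]; norm_num) (by decide) P
  simpa using this

/-- Sylow 3-subgroups are self-normalizing. -/
theorem n756_normalizer (hG : ¬ IsMulCommutative G) (h : Nat.card G = 756) (P : Sylow 3 G) :
    normalizer ((P : Subgroup G) : Set G) = P := by
  have hP := n756_card_sylow h P
  have hd : Nat.card (Sylow 3 G) ∣ 28 :=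
    Cfsg.Agent.Lib.Helper23.card_sylow_dvd_of_card_eq 3 3 28 (by rw [h]; norm_num) (by decide)
  have hmod : Nat.card (Sylow 3 G) ≡ 1 [MOD 3] := card_sylow_modEq_one 3 G
  have hidx := Cfsg.Agent.Lib.Helper23.card_sylow_eq_index_normalizer' 3 P
  have hN : normalizer ((P : Subgroup G) : Set G) ≠ ⊤ :=
    n756_ne_top h _ (by rw [hP]; decide) (by rw [hP]; decide)
  have h9 := n756_index hG h _ hN
  rw [← hidx] at h9
  have hn3 : Nat.card (Sylow 3 G) = 28 := by
    have hle : Nat.card (Sylow 3 G) ≤ 28 := Nat.le_of_dvd (by decide) hd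
    unfold Nat.ModEq at hmod
    obtain ⟨k, hk⟩ : ∃ k, k = Nat.card (Sylow 3 G) := ⟨_, rfl⟩
    rw [← hk] at hd hmod h9 hle ⊢
    clear hk hidx
    interval_cases k <;> first | rfl | omega | (exfalso; revert hd; decide)
  have hmul := Cfsg.Agent.Lib.Helper23.card_normalizer_mul_card_sylow 3 P
  rw [hn3, h] at hmul
  have hcard : Nat.card (normalizer ((P : Subgroup G) : Set G)) = 27 := by omega
  exact (Subgroup.eq_of_le_of_card_ge le_normalizer (by rw [hcard, hP])).symm

/-- two Sylow 3-subgroups meeting in a subgroup of order at least 9 are equal. -/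
theorem n756_inter (hG : ¬ IsMulCommutative G) (h : Nat.card G = 756) (P R : Sylow 3 G)
    (h9 : 9 ≤ Nat.card ↥((P : Subgroup G) ⊓ R)) : P = R := by
  by_contra hne
  have hP := n756_card_sylow h P
  have hR := n756_card_sylow h R
  set D : Subgroup G := (P : Subgroup G) ⊓ R with hD
  have hDP : D ≤ P := inf_le_left
  have hDR : D ≤ R := inf_le_right
  have hdvd : Nat.card D ∣ 27 := hP ▸ Subgroup.card_dvd_of_le hDP
  have hcases : Nat.card D = 9 ∨ Nat.card D = 27 := by
    have hle : Nat.card D ≤ 27 := Nat.le_of_dvd (by decide) hdvd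
    obtain ⟨k, hk⟩ : ∃ k, k = Nat.card D := ⟨_, rfl⟩
    rw [← hk] at hdvd h9 hle ⊢
    clear hk
    interval_cases k <;> first | omega | (exfalso; revert hdvd; decide)
  rcases hcases with h9' | h27
  swap
  · -- `D = P = R`
    have e1 : D = P := Subgroup.eq_of_le_of_card_ge hDP (by rw [h27, hP])
    have e2 : D = R := Subgroup.eq_of_le_of_card_ge hDR (by rw [h27, hR])
    exact hne (Sylow.ext (e1.symm.trans e2))
  -- `D` has index 3 in `P` and in `R`, hence is normal in both
  have hnorm : ∀ Q : Sylow 3 G, D ≤ Q → (Q : Subgroup G) ≤ normalizer (D : Set G) := by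
    intro Q hDQ
    have hQ := n756_card_sylow h Q
    have hidx : (D.subgroupOf Q).index = 3 := by
      have h1 := Subgroup.card_mul_index (D.subgroupOf Q)
      rw [Nat.card_congr (Subgroup.subgroupOfEquivOfLe hDQ).toEquiv, h9', hQ] at h1
      omega
    haveI : (D.subgroupOf Q).Normal := by
      apply Subgroup.normal_of_index_eq_minFac_card
      rw [hidx, hQ]
      norm_num
    exact le_normalizer_of_normal_subgroupOf hDQ
  have hPN := hnorm P hDP
  have hRN := hnorm R hDR
  obtain ⟨d, hd1, hd2, hd3⟩ := Cfsg.Agent.Lib.Helper23.exists_card_sylow_of_two_le 3 P R hne _ hPN hRN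
  rw [hP] at hd3
  have hNtop : normalizer (D : Set G) ≠ ⊤ :=
    n756_ne_top h D (by rw [h9']; decide) (by rw [h9']; decide)
  have hidx9 := n756_index hG h _ hNtop
  have hmul := Subgroup.card_mul_index (normalizer (D : Set G))
  rw [h] at hmul
  have hd4 : 4 ≤ d := by
    unfold Nat.ModEq at hd1
    omega
  obtain ⟨c, hc⟩ := hd3
  have hc1 : 1 ≤ c := by
    rcases Nat.eq_zero_or_pos c with h0 | h0
    · rw [h0, mul_zero] at hc
      rw [hc, zero_mul] at hmul
      omega
    · exact h0
  have : 108 ≤ Nat.card (normalizer (D : Set G)) := by rw [hc]; nlinarith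
  nlinarith

end

/-- in a group of order 27 commutators are central. -/
theorem n756_commutator_le_center {R : Type*} [Group R] [Finite R] (hR : Nat.card R = 27) :
    commutator R ≤ center R := by
  haveI : Fact (Nat.Prime 3) := ⟨by norm_num⟩
  have hp : IsPGroup 3 R := IsPGroup.of_card (n := 3) (by rw [hR]; norm_num)
  haveI : Nontrivial R := by
    rw [← Finite.one_lt_card_iff_nontrivial, hR]; norm_num
  have hZ : Nontrivial (center R) := hp.center_nontrivial
  have hZ1 : 1 < Nat.card (center R) := Finite.one_lt_card_iff_nontrivial.mpr hZ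
  have h1 := Subgroup.card_mul_index (center R)
  rw [hR] at h1
  have hidx : (center R).index = Nat.card (R ⧸ center R) := rfl
  have hdvd : (center R).index ∣ 27 := ⟨_, by rw [← h1, mul_comm]⟩
  have hle : (center R).index ≤ 27 := Nat.le_of_dvd (by decide) hdvd
  have hcases : (center R).index = 1 ∨ (center R).index = 3 ∨ (center R).index = 9 := by
    obtain ⟨k, hk⟩ : ∃ k, k = (center R).index := ⟨_, rfl⟩
    rw [← hk] at hdvd hle h1 ⊢
    clear hk hidx
    interval_cases k <;> first | omega | (exfalso; revert hdvd; decide)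
  rcases hcases with h | h | h
  · rw [Subgroup.index_eq_one] at h
    rw [h]; exact le_top
  · haveI : IsCyclic (R ⧸ center R) := isCyclic_of_prime_card (p := 3) (by rw [← hidx, h])
    have hc : IsMulCommutative R := isMulCommutative_of_isCyclic_quotient_center_self R
    rw [(commutator_eq_bot_iff R).mpr hc]
    exact bot_le
  · rw [← Subgroup.Normal.quotient_commutative_iff_commutator_le]
    exact IsPGroup.isMulCommutative_of_card_eq_prime_sq (p := 3) (by rw [← hidx, h]; norm_num)

/-- in a group of order 27 every centralizer of an element has at least 9 elements. -/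
theorem n756_card_centralizer {R : Type*} [Group R] [Finite R] (hR : Nat.card R = 27) (w : R) :
    9 ≤ Nat.card (centralizer ({w} : Set R)) := by
  haveI : Fact (Nat.Prime 3) := ⟨by norm_num⟩
  have hp : IsPGroup 3 R := IsPGroup.of_card (n := 3) (by rw [hR]; norm_num)
  haveI : Nontrivial R := by
    rw [← Finite.one_lt_card_iff_nontrivial, hR]; norm_num
  have hZ : Nontrivial (center R) := hp.center_nontrivial
  have hZ1 : 1 < Nat.card (center R) := Finite.one_lt_card_iff_nontrivial.mpr hZ
  have hZC : center R ≤ centralizer ({w} : Set R) := Subgroup.center_le_centralizer _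
  have hdvdZ : Nat.card (center R) ∣ Nat.card (centralizer ({w} : Set R)) :=
    Subgroup.card_dvd_of_le hZC
  have hdvd : Nat.card (centralizer ({w} : Set R)) ∣ 27 := hR ▸ Subgroup.card_subgroup_dvd_card _
  by_contra hlt
  have hle : Nat.card (centralizer ({w} : Set R)) ≤ 8 := by omega
  have hcases : Nat.card (centralizer ({w} : Set R)) = 1 ∨ Nat.card (centralizer ({w} : Set R)) = 3 := by
    obtain ⟨k, hk⟩ : ∃ k, k = Nat.card (centralizer ({w} : Set R)) := ⟨_, rfl⟩
    rw [← hk] at hdvd hle ⊢
    have hk0 : 0 < k := by rw [hk]; exact Nat.card_pos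
    clear hk hdvdZ hlt
    interval_cases k <;> first | omega | (exfalso; revert hdvd; decide)
  have hC3 : Nat.card (centralizer ({w} : Set R)) = 3 := by
    rcases hcases with h | h
    · rw [h] at hdvdZ
      have := Nat.le_of_dvd (by decide) hdvdZ
      omega
    · exact h
  have hZ3 : Nat.card (center R) = 3 := by
    rw [hC3] at hdvdZ
    rcases (Nat.dvd_prime (by norm_num : Nat.Prime 3)).mp hdvdZ with h | h
    · omega
    · exact h
  have heq : center R = centralizer ({w} : Set R) :=
    Subgroup.eq_of_le_of_card_ge hZC (by rw [hC3, hZ3])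
  have hw : w ∈ centralizer ({w} : Set R) := by
    rw [Subgroup.mem_centralizer_iff]
    intro x hx
    rw [Set.mem_singleton_iff] at hx
    rw [hx]
  rw [← heq] at hw
  have htop : centralizer ({w} : Set R) = ⊤ := by
    rw [eq_top_iff]
    intro x _
    rw [Subgroup.mem_centralizer_iff]
    intro y hy
    rw [Set.mem_singleton_iff] at hy
    rw [hy]
    exact (Subgroup.mem_center_iff.mp hw x).symm
  rw [htop, Subgroup.card_top, hR] at hC3
  omega

section

variable {G : Type*} [Group G] [Finite G] [IsSimpleGroup G]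

/-- a Sylow 3-subgroup meets the derived subgroup of any other Sylow 3-subgroup trivially. -/
theorem n756_inf_commutator (hG : ¬ IsMulCommutative G) (h : Nat.card G = 756) (P R : Sylow 3 G)
    (hne : P ≠ R) : (P : Subgroup G) ⊓ ⁅(R : Subgroup G), (R : Subgroup G)⁆ = ⊥ := by
  rw [eq_bot_iff]
  rintro w ⟨hwP, hwR⟩
  rw [Subgroup.mem_bot]
  by_contra hw1
  have hP := n756_card_sylow h P
  have hR := n756_card_sylow h R
  -- `w` is central in `R`
  have hcent : ∀ r ∈ (R : Subgroup G), r * w = w * r := by
    have h1 := n756_commutator_le_center (R := ↥(R : Subgroup G)) hR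
    have h2 : w ∈ (commutator ↥(R : Subgroup G)).map (R : Subgroup G).subtype := by
      rw [Subgroup.map_subtype_commutator]; exact hwR
    obtain ⟨w', hw', rfl⟩ := h2
    intro r hr
    have := Subgroup.mem_center_iff.mp (h1 hw') ⟨r, hr⟩
    exact congrArg Subtype.val this
  set H : Subgroup G := centralizer ({w} : Set G) with hH
  have hRH : (R : Subgroup G) ≤ H := by
    intro r hr
    rw [hH, Subgroup.mem_centralizer_iff]
    intro y hy
    rw [Set.mem_singleton_iff] at hy
    rw [hy]
    exact (hcent r hr).symm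
  -- `H` is proper
  have hHtop : H ≠ ⊤ := by
    intro htop
    have hwc : w ∈ center G := by
      rw [Subgroup.mem_center_iff]
      intro g
      have hg : g ∈ H := htop ▸ Subgroup.mem_top g
      rw [hH, Subgroup.mem_centralizer_iff] at hg
      exact (hg w rfl).symm
    have hcn : (center G).Normal := inferInstance
    rcases hcn.eq_bot_or_eq_top with h' | h'
    · rw [h', Subgroup.mem_bot] at hwc
      exact hw1 hwc
    · apply hG
      exact ⟨⟨fun a b => by
        have : a ∈ center G := h' ▸ Subgroup.mem_top a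
        exact (Subgroup.mem_center_iff.mp this b).symm⟩⟩
  have hidx9 := n756_index hG h H hHtop
  have hmul := Subgroup.card_mul_index H
  rw [h] at hmul
  have hRdvd : 27 ∣ Nat.card H := hR ▸ Subgroup.card_dvd_of_le hRH
  -- `|H| ∈ {27, 54}`
  have hHcard : Nat.card H = 27 ∨ Nat.card H = 54 := by
    obtain ⟨c, hc⟩ := hRdvd
    rw [hc] at hmul ⊢
    have hc28 : c * H.index = 28 := by nlinarith
    have hcle : c ≤ 3 := by
      by_contra hcon
      have : 4 ≤ c := by omega
      nlinarith
    have hc0 : 1 ≤ c := by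
      rcases Nat.eq_zero_or_pos c with h0 | h0
      · rw [h0] at hc28; omega
      · exact h0
    interval_cases c <;> first | (left; rfl) | (right; rfl) | omega
  -- every element of `P ⊓ H` lies in `R`
  have hPH : (P : Subgroup G) ⊓ H ≤ (P : Subgroup G) ⊓ R := by
    rintro x ⟨hxP, hxH⟩
    refine ⟨hxP, ?_⟩
    have hx27 : x ^ 27 = 1 := by
      have := pow_card_eq_one' (G := ↥(P : Subgroup G)) (x := ⟨x, hxP⟩)
      rw [hP] at this
      exact congrArg Subtype.val this
    rcases hHcard with h27 | h54
    · have : (R : Subgroup G) = H := Subgroup.eq_of_le_of_card_ge hRH (by rw [h27, hR])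
      rw [this]; exact hxH
    · have hidx2 : ((R : Subgroup G).subgroupOf H).index = 2 := by
        have h1 := Subgroup.card_mul_index ((R : Subgroup G).subgroupOf H)
        rw [Nat.card_congr (Subgroup.subgroupOfEquivOfLe hRH).toEquiv, hR, h54] at h1
        omega
      have hsq := Subgroup.sq_mem_of_index_two hidx2 ⟨x, hxH⟩
      rw [Subgroup.mem_subgroupOf] at hsq
      have hx2 : x ^ 2 ∈ (R : Subgroup G) := by simpa using hsq
      have : x = (x ^ 2) ^ 14 := by
        rw [← pow_mul]
        calc x = x ^ 27 * x := by rw [hx27, one_mul]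
          _ = x ^ (2 * 14) := by rw [← pow_succ]
      rw [this]
      exact Subgroup.pow_mem _ hx2 14
  -- but `P ⊓ H` has at least 9 elements
  have h9 : 9 ≤ Nat.card ↥((P : Subgroup G) ⊓ H) := by
    have h1 := n756_card_centralizer (R := ↥(P : Subgroup G)) hP ⟨w, hwP⟩
    set C' : Subgroup ↥(P : Subgroup G) := centralizer ({(⟨w, hwP⟩ : ↥(P : Subgroup G))} : Set _) with hC'
    have h2 : C'.map (P : Subgroup G).subtype ≤ (P : Subgroup G) ⊓ H := by
      rintro _ ⟨x', hx', rfl⟩
      refine ⟨x'.2, ?_⟩
      show (x' : G) ∈ centralizer ({w} : Set G)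
      rw [Subgroup.mem_centralizer_iff]
      intro y hy
      rw [Set.mem_singleton_iff] at hy
      rw [hy]
      have hx'' : x' ∈ centralizer ({(⟨w, hwP⟩ : ↥(P : Subgroup G))} : Set _) := hx'
      rw [Subgroup.mem_centralizer_iff] at hx''
      have := hx'' ⟨w, hwP⟩ rfl
      exact congrArg Subtype.val this
    have h3 : Nat.card (C'.map (P : Subgroup G).subtype) = Nat.card C' :=
      Subgroup.card_map_of_injective (Subgroup.subtype_injective _)
    have h4 := Subgroup.card_le_of_le h2
    omega
  have h9' : 9 ≤ Nat.card ↥((P : Subgroup G) ⊓ R) := h9.trans (Subgroup.card_le_of_le hPH)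
  exact hne (n756_inter hG h P R h9')

theorem no_simple_756 (hG : ¬ IsMulCommutative G) (h : Nat.card G = 756) : False := by
  haveI : Fact (Nat.Prime 3) := ⟨by norm_num⟩
  obtain ⟨P⟩ : Nonempty (Sylow 3 G) := inferInstance
  have hP := n756_card_sylow h P
  have hN := n756_normalizer hG h P
  have hgrun := Cfsg.Agent.S4216.result P
  -- `G` is perfect
  have hperf : commutator G = ⊤ := by
    have hn : (commutator G).Normal := inferInstance
    rcases hn.eq_bot_or_eq_top with h' | h'
    · exact absurd ((commutator_eq_bot_iff G).mp h') hG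
    · exact h'
  rw [hperf, inf_top_eq, hN] at hgrun
  -- every term on the right lies in `⁅P, P⁆`
  have hle : (P : Subgroup G) ≤ ⁅(P : Subgroup G), (P : Subgroup G)⁆ := by
    refine hgrun.le.trans ?_
    refine sup_le inf_le_right (iSup_le fun z => ?_)
    set R : Sylow 3 G := (MulAut.conj z) • P with hRdef
    have hmap : (⁅(P : Subgroup G), (P : Subgroup G)⁆).map (MulAut.conj z).toMonoidHom =
        ⁅(R : Subgroup G), (R : Subgroup G)⁆ := by
      rw [Subgroup.map_commutator]
      rfl
    rw [hmap]
    by_cases hRP : P = R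
    · rw [← hRP]
      exact inf_le_right
    · rw [n756_inf_commutator hG h P R hRP]
      exact bot_le
  -- contradiction: `P` is a nontrivial 3-group
  have hp : IsPGroup 3 ↥(P : Subgroup G) := P.isPGroup'
  haveI : Nontrivial ↥(P : Subgroup G) := by
    rw [← Finite.one_lt_card_iff_nontrivial, hP]; norm_num
  haveI : Group.IsNilpotent ↥(P : Subgroup G) := hp.isNilpotent
  have hlt := Group.IsSolvable.commutator_lt_top_of_nontrivial ↥(P : Subgroup G)
  apply hlt.ne
  rw [eq_top_iff]
  intro x _
  have hx : (x : G) ∈ ⁅(P : Subgroup G), (P : Subgroup G)⁆ := hle x.2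
  rw [← Subgroup.map_subtype_commutator] at hx
  obtain ⟨y, hy, hyx⟩ := hx
  have : y = x := Subtype.ext hyx
  rw [← this]; exact hy

end

end Cfsg.Agent.Lib.Helper41.Small1092
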