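import Mathlib
import Cfsg.Prelude.Def_Blocks
import Cfsg.Prelude.Def_BlockRank
import Cfsg.Agent.Lib.Helper82.SubsectionBlocks

/-!
# K-S4651-C (helper41): cardinality and `p`-regular rank are additive over a union of blocks
-/

set_option autoImplicit false
set_option linter.style.haveILetI false
set_option linter.unusedSectionVars false

namespace Cfsg.Agent.Lib.Helper41.KR

open Cfsg
open Cfsg.Agent.Lib.Helper82 Cfsg.Agent.Lib.Helper83

universe u

section Union

variable {H : Type u} [Group H] {M : Ideal AlgInt}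

/-- The union of a family of blocks, described through `blockOf`. -/
theorem union_blocks_eq (hM : M.IsPrime)
    (PP : Set (IrrCharacter H) → Prop) (hPP : ∀ β, PP β → IsPBlock M β) :
    {ψ : IrrCharacter H | ∃ β : Set (IrrCharacter H), ψ ∈ β ∧ PP β} =
      {ψ : IrrCharacter H | PP (blockOf M (ψ : H → ℂ))} := by
  ext ψ
  simp only [Set.mem_setOf_eq]
  constructor
  · rintro ⟨β, hψ, hβ⟩
    rw [← IsPBlock.eq_blockOf hM (hPP β hβ) hψ]
    exact hβ
  · intro h
    exact ⟨_, mem_blockOf_self hM ψ, h⟩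

/-- Regrouping a weighted count over a family of blocks as a sum over characters. -/
theorem finsum_blocks_weight [Fintype (IrrCharacter H)] (hM : M.IsPrime)
    (PP : Set (IrrCharacter H) → Prop) (hPP : ∀ β, PP β → IsPBlock M β)
    [DecidablePred fun ψ : IrrCharacter H => PP (blockOf M (ψ : H → ℂ))] (w : IrrCharacter H → ℕ) :
    ∑ᶠ β ∈ {β : Set (IrrCharacter H) | PP β}, ∑ᶠ ψ ∈ β, w ψ =
      ∑ ψ : IrrCharacter H, if PP (blockOf M (ψ : H → ℂ)) then w ψ else 0 := by
  classical
  have hfin : ({b : Set (IrrCharacter H) | PP b}).Finite := Set.toFinite _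
  rw [finsum_mem_eq_finite_toFinset_sum _ hfin]
  have h1 : ∀ b ∈ hfin.toFinset, ∑ᶠ ψ ∈ b, w ψ =
      ∑ ψ : IrrCharacter H, if b = blockOf M (ψ : H → ℂ) then w ψ else 0 := by
    intro b hb
    have hPb : PP b := by simpa using hb
    rw [finsum_mem_eq_finite_toFinset_sum _ (Set.toFinite b)]
    rw [← Finset.sum_filter]
    apply Finset.sum_congr _ (fun _ _ => rfl)
    ext ψ
    simp only [Set.Finite.mem_toFinset, Finset.mem_filter, Finset.mem_univ, true_and]
    constructor
    · intro h
      exact IsPBlock.eq_blockOf hM (hPP b hPb) h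
    · intro h
      rw [h]
      exact mem_blockOf_self hM ψ
  rw [Finset.sum_congr rfl h1, Finset.sum_comm]
  refine Finset.sum_congr rfl fun ψ _ => ?_
  rw [Finset.sum_ite_eq']
  by_cases h : PP (blockOf M (ψ : H → ℂ))
  · rw [if_pos h, if_pos]
    simpa using h
  · rw [if_neg h, if_neg]
    simpa using h

end Union

/-- **K-S4651-C, part 1.** -/
theorem card_union_blocks {H : Type u} [Group H] [Finite H] {M : Ideal AlgInt} (hM : M.IsPrime)
    (PP : Set (IrrCharacter H) → Prop) (hPP : ∀ β, PP β → IsPBlock M β) :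
    Nat.card {ψ : IrrCharacter H | ∃ β : Set (IrrCharacter H), ψ ∈ β ∧ PP β} =
      ∑ᶠ β ∈ {β : Set (IrrCharacter H) | PP β}, Nat.card β := by
  classical
  haveI : Fintype (IrrCharacter H) := Fintype.ofFinite _
  rw [union_blocks_eq hM PP hPP]
  have h1 : ∀ β : Set (IrrCharacter H),
      Nat.card β = ∑ᶠ ψ ∈ β, (fun _ => 1 : IrrCharacter H → ℕ) ψ := by
    intro β
    rw [finsum_mem_eq_finite_toFinset_sum _ (Set.toFinite β)]
    simp only [Finset.sum_const, smul_eq_mul, mul_one]
    rw [Nat.card_coe_set_eq, Set.ncard_eq_toFinset_card β (Set.toFinite β)]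
  have h2 : ∑ᶠ β ∈ {β : Set (IrrCharacter H) | PP β}, Nat.card β =
      ∑ᶠ β ∈ {β : Set (IrrCharacter H) | PP β},
        ∑ᶠ ψ ∈ β, (fun _ => 1 : IrrCharacter H → ℕ) ψ := by
    apply finsum_congr
    intro β
    apply finsum_congr
    intro _
    exact h1 β
  rw [h2, finsum_blocks_weight hM PP hPP (fun _ => 1), h1,
    finsum_mem_eq_finite_toFinset_sum _ (Set.toFinite _), ← Finset.sum_filter]
  apply Finset.sum_congr _ (fun _ _ => rfl)
  ext ψ
  simp

section Rank

variable {G : Type u} [Group G] [Fintype G] {p : ℕ} [Fintype (IrrCharacter G)]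

/-- The Gram matrix of the regular parts is idempotent for any set `U` of irreducible characters
which is orthogonal (via regular parts) to its complement. -/
theorem gramReg_mul_self_of_orth (U : Set (IrrCharacter G)) [DecidablePred (· ∈ U)]
    (hU : ∀ χ ∈ U, ∀ θ : IrrCharacter G, θ ∉ U →
      classInner (pRegularPart p (χ : G → ℂ)) (θ : G → ℂ) = 0) :
    gramReg p U * gramReg p U = gramReg p U := by
  classical
  ext χ ψ
  rw [Matrix.mul_apply]
  by_cases hχ : χ ∈ U
  · have h1 : ∀ θ : IrrCharacter G,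
        gramReg p U χ θ * gramReg p U θ ψ =
        classInner (classInner (pRegularPart p (χ : G → ℂ)) (θ : G → ℂ) • (θ : G → ℂ))
          (pRegularPart p (ψ : G → ℂ)) := by
      intro θ
      rw [classInner_smul_left, gramReg_apply, gramReg_apply, if_pos hχ]
      split_ifs with hθ
      · rw [classInner_pRegularPart_comm (θ : G → ℂ) (ψ : G → ℂ)]
      · rw [hU χ hχ θ hθ, zero_mul, zero_mul]
    rw [Finset.sum_congr rfl fun θ _ => h1 θ, ← classInner_sum_left, ← pRegularPart_eq_sum_irr,
      ← classInner_pRegularPart_comm, pRegularPart_idem, gramReg_apply, if_pos hχ]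
  · rw [gramReg_apply, if_neg hχ]
    refine Finset.sum_eq_zero fun θ _ => ?_
    rw [gramReg_apply, if_neg hχ, zero_mul]

/-- Trace formula for the `p`-regular rank of such a set. -/
theorem blockRank_eq_sum_of_orth (U : Set (IrrCharacter G)) [DecidablePred (· ∈ U)]
    (hU : ∀ χ ∈ U, ∀ θ : IrrCharacter G, θ ∉ U →
      classInner (pRegularPart p (χ : G → ℂ)) (θ : G → ℂ) = 0) :
    (blockRank p U : ℂ) = ∑ χ : IrrCharacter G,
      if χ ∈ U then classInner (pRegularPart p (χ : G → ℂ)) (χ : G → ℂ) else 0 := by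
  classical
  rw [← rank_gramReg, rank_eq_trace_of_idem _ (gramReg_mul_self_of_orth U hU), trace_gramReg]

end Rank

/-- **K-S4651-C, part 2.** -/
theorem blockRank_union_blocks {H : Type u} [Group H] [Finite H] {p : ℕ} {M : Ideal AlgInt}
    (hM : IsPModular p M)
    (PP : Set (IrrCharacter H) → Prop) (hPP : ∀ β, PP β → IsPBlock M β) :
    blockRank p {ψ : IrrCharacter H | ∃ β : Set (IrrCharacter H), ψ ∈ β ∧ PP β} =
      ∑ᶠ β ∈ {β : Set (IrrCharacter H) | PP β}, blockRank p β := by
  classical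
  haveI : Fintype H := Fintype.ofFinite _
  haveI : Fintype (IrrCharacter H) := Fintype.ofFinite _
  have hMp : M.IsPrime := hM.2.1.isPrime
  rw [union_blocks_eq hMp PP hPP]
  have hU : ∀ χ ∈ {ψ : IrrCharacter H | PP (blockOf M (ψ : H → ℂ))}, ∀ θ : IrrCharacter H,
      θ ∉ {ψ : IrrCharacter H | PP (blockOf M (ψ : H → ℂ))} →
      classInner (pRegularPart p (χ : H → ℂ)) (θ : H → ℂ) = 0 := by
    intro χ hχ θ hθ
    apply classInner_pRegularPart_eq_zero hM
    intro hs
    apply hθ
    simp only [Set.mem_setOf_eq] at hχ ⊢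
    rw [← blockOf_eq_of_sameBlock hMp hs]
    exact hχ
  have h1 := blockRank_eq_sum_of_orth (p := p) _ hU
  have h2 := finsum_blockRank_eq hM PP hPP
  have h3 : ((blockRank p {ψ : IrrCharacter H | PP (blockOf M (ψ : H → ℂ))} : ℕ) : ℂ) =
      ((∑ᶠ β ∈ {β : Set (IrrCharacter H) | PP β}, blockRank p β : ℕ) : ℂ) := by
    rw [h1, h2]
    rfl
  exact_mod_cast h3

end Cfsg.Agent.Lib.Helper41.KR
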