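import Cfsg.Agent.Lib.Helper41.FamilyCtl
import Cfsg.Agent.Lib.Helper40.Cores

set_option autoImplicit false

namespace Cfsg.Agent.Lib.Helper41

open Cfsg

variable {G : Type*} [Group G] {p : ℕ}

/-- Alperin's theorem as an induction principle: `R A g` is any relation ("conjugation by `g` on `A` is
accounted for") that is monotone, transitive and symmetric; `Good` selects the fully normalized
representatives used. -/
theorem alperin_engine [Finite G] [Fact p.Prime] (S : Sylow p G) (R : Set G → G → Prop)
    (Good : Subgroup G → Prop)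
    (hsel : ∀ T : Subgroup G, T ≤ (S : Subgroup G) → ∃ c : G, lc c T ≤ (S : Subgroup G) ∧
      Good (lc c T) ∧
      ¬ p ∣ ((S : Subgroup G) ⊓ Subgroup.normalizer ((lc c T : Subgroup G) : Set G)).relIndex
        (Subgroup.normalizer ((lc c T : Subgroup G) : Set G)))
    (hmono : ∀ {A B : Set G} {g : G}, B ⊆ A → R A g → R B g)
    (htrans : ∀ {A : Set G} {g h : G}, R A g → R (rconj g A) h → R A (g * h))
    (hsymm : ∀ {A : Set G} {g : G}, R A g → R (rconj g A) g⁻¹)
    (hmid : ∀ U : Subgroup G, U ≤ (S : Subgroup G) → Good U →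
      ¬ p ∣ ((S : Subgroup G) ⊓ Subgroup.normalizer ((U : Subgroup G) : Set G)).relIndex
        (Subgroup.normalizer ((U : Subgroup G) : Set G)) →
      (∀ T : Subgroup G, T ≤ (S : Subgroup G) → Nat.card U < Nat.card T →
        ∀ g : G, lc g⁻¹ T ≤ (S : Subgroup G) → R (T : Set G) g) →
      ∀ m ∈ Subgroup.normalizer ((U : Subgroup G) : Set G), R (U : Set G) m) :
    ∀ T : Subgroup G, T ≤ (S : Subgroup G) → ∀ g : G, lc g⁻¹ T ≤ (S : Subgroup G) →
      R (T : Set G) g := by
  have hGoodS : Good (S : Subgroup G) := by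
    obtain ⟨c, hc1, hc2, _⟩ := hsel S le_rfl
    have : lc c (S : Subgroup G) = S := Subgroup.eq_of_le_of_card_ge hc1 (by rw [card_lc])
    rwa [this] at hc2
  have top : ∀ g : G, lc g⁻¹ (S : Subgroup G) ≤ (S : Subgroup G) →
      R ((S : Subgroup G) : Set G) g := by
    intro g hg
    apply hmid _ le_rfl hGoodS (sylow_fullyNormalized S)
    · intro T' hT'S hlt
      exact absurd (Subgroup.card_le_of_le hT'S) (not_le.mpr hlt)
    · have := mem_normalizer_of_lc_le hg
      simpa using Subgroup.inv_mem _ this
  have key : ∀ n : ℕ, ∀ T : Subgroup G, T ≤ (S : Subgroup G) →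
      Nat.card (S : Subgroup G) ≤ Nat.card T + n → ∀ g : G, lc g⁻¹ T ≤ (S : Subgroup G) →
      R (T : Set G) g := by
    intro n
    induction n with
    | zero =>
      intro T hTS hcard g hg
      have : T = S := Subgroup.eq_of_le_of_card_ge hTS (by simpa using hcard)
      subst this
      exact top g hg
    | succ n ih =>
      intro T hTS hcard g hg
      have ih' : ∀ T' : Subgroup G, T' ≤ (S : Subgroup G) → Nat.card T < Nat.card T' →
          ∀ g : G, lc g⁻¹ T' ≤ (S : Subgroup G) → R (T' : Set G) g := by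
        intro T' hT'S hlt g hg
        exact ih T' hT'S (by omega) g hg
      obtain ⟨c, hUS, hUgood, hidx⟩ := hsel T hTS
      set U := lc c T with hU
      have hc : lc c T = U := rfl
      have hcardU : Nat.card U = Nat.card T := card_lc _ _
      by_cases hTeq : T = S
      · subst hTeq
        exact top g hg
      · have stepA : ∀ T' : Subgroup G, T' ≤ (S : Subgroup G) → Nat.card T' = Nat.card T →
            ∀ c : G, lc c T' = U → ∃ k : G, lc k⁻¹ T' = U ∧ R (T' : Set G) k := by
          intro T' hT'S hcardT' c hc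
          have hT'ne : T' ≠ S := by
            intro h'
            apply hTeq
            apply Subgroup.eq_of_le_of_card_ge hTS
            rw [← hcardT', h']
          set T₁ := (S : Subgroup G) ⊓ Subgroup.normalizer (T' : Set G) with hT₁
          have hlt : T' < T₁ := lt_inf_normalizer_of_ne S.2 hT'S hT'ne
          have hT₁p : IsPGroup p T₁ := S.2.to_inf_left
          have hQN : lc c T₁ ≤ Subgroup.normalizer ((U : Subgroup G) : Set G) := by
            rw [← hc, normalizer_lc]
            exact lc_mono inf_le_right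
          obtain ⟨y, hyN, hy⟩ := exists_lc_le_of_relIndex (p := p)
            (H := Subgroup.normalizer ((U : Subgroup G) : Set G))
            (P := (S : Subgroup G) ⊓ Subgroup.normalizer ((U : Subgroup G) : Set G))
            inf_le_right S.2.to_inf_left hidx (isPGroup_lc hT₁p) hQN
          refine ⟨(y * c)⁻¹, ?_, ?_⟩
          · rw [inv_inv, lc_mul, hc]
            exact mem_normalizer_iff_lc.mp hyN
          · have hcard₁ : Nat.card T < Nat.card T₁ := by
              have := card_lt_card_of_lt hlt
              omega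
            have hr : R (T₁ : Set G) (y * c)⁻¹ := by
              apply ih' T₁ inf_le_left hcard₁
              rw [inv_inv, lc_mul]
              exact hy.trans inf_le_left
            exact hmono (by exact_mod_cast hlt.le) hr
        obtain ⟨k, hk1, hk2⟩ := stepA T hTS rfl c hc
        obtain ⟨k', hk'1, hk'2⟩ := stepA (lc g⁻¹ T) hg (card_lc _ _) (c * g)
          (by rw [lc_mul, lc_lc_inv])
        have hkU : lc k U = T := by rw [← hk1]; simp
        have hm : k⁻¹ * g * k' ∈ Subgroup.normalizer ((U : Subgroup G) : Set G) := by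
          have : (k⁻¹ * g * k')⁻¹ ∈ Subgroup.normalizer ((U : Subgroup G) : Set G) := by
            rw [mem_normalizer_iff_lc]
            have e : (k⁻¹ * g * k')⁻¹ = k'⁻¹ * (g⁻¹ * k) := by group
            rw [e, lc_mul, lc_mul, hkU, hk'1]
          simpa using Subgroup.inv_mem _ this
        have r1 : R (T : Set G) k := hk2
        have e1 : rconj k (T : Set G) = U := by rw [rconj_coe, hk1]
        have r2 : R (rconj k (T : Set G)) (k⁻¹ * g * k') := by
          rw [e1]
          apply hmid U hUS hUgood hidx ?_ _ hm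
          intro T' hT'S hlt
          exact ih' T' hT'S (by omega)
        have r3 : R (rconj (k⁻¹ * g * k') (rconj k (T : Set G))) k'⁻¹ := by
          rw [e1, rconj_eq_of_mem_normalizer hm]
          have := hsymm hk'2
          rwa [rconj_coe, hk'1] at this
        have r3' : R (rconj (k * (k⁻¹ * g * k')) (T : Set G)) k'⁻¹ := by
          rw [rconj_mul]; exact r3
        have := htrans (htrans r1 r2) r3'
        have e : k * (k⁻¹ * g * k') * k'⁻¹ = g := by group
        rwa [e] at this
  intro T hTS g hg
  exact key (Nat.card (S : Subgroup G)) T hTS (Nat.le_add_left _ _) g hg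

theorem engine_set {S : Subgroup G} {R : Set G → G → Prop}
    (hmono : ∀ {A B : Set G} {g : G}, B ⊆ A → R A g → R B g)
    (h : ∀ T : Subgroup G, T ≤ S → ∀ g : G, lc g⁻¹ T ≤ S → R (T : Set G) g)
    {A : Set G} {g : G} (hAS : A ⊆ S) (hAg : rconj g A ⊆ S) : R A g := by
  have hcl : Subgroup.closure A ≤ S := (Subgroup.closure_le S).mpr hAS
  have hcl' : lc g⁻¹ (Subgroup.closure A) ≤ S := by
    rw [lc_le_iff, inv_inv, Subgroup.closure_le]
    intro a ha
    rw [SetLike.mem_coe, mem_lc]
    exact hAg ⟨a, ha, rfl⟩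
  exact hmono (Subgroup.subset_closure (k := A)) (h _ hcl g hcl')

/-- conjugates of elements of the centralizer by elements of the normalizer -/
theorem conj_mem_centralizer {T : Subgroup G} {n c : G}
    (hn : n ∈ Subgroup.normalizer (T : Set G)) (hc : c ∈ Subgroup.centralizer (T : Set G)) :
    n * c * n⁻¹ ∈ Subgroup.centralizer (T : Set G) := by
  rw [Subgroup.mem_centralizer_iff] at hc ⊢
  intro t ht
  have ht' : n⁻¹ * t * n⁻¹⁻¹ ∈ T :=
    (Subgroup.mem_normalizer_iff.mp (Subgroup.inv_mem _ hn) t).mp ht
  have := hc _ ht'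
  simp only [inv_inv] at this
  calc t * (n * c * n⁻¹) = n * ((n⁻¹ * t * n) * c) * n⁻¹ := by group
  _ = n * (c * (n⁻¹ * t * n)) * n⁻¹ := by rw [this]
  _ = n * c * n⁻¹ * t := by group

theorem lc_centralizer_eq {T : Subgroup G} {n : G}
    (hn : n ∈ Subgroup.normalizer (T : Set G)) :
    lc n (Subgroup.centralizer (T : Set G)) = Subgroup.centralizer (T : Set G) := by
  apply le_antisymm
  · intro x hx
    rw [mem_lc] at hx
    have := conj_mem_centralizer hn hx
    have e : n * (n⁻¹ * x * n) * n⁻¹ = x := by group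
    rwa [e] at this
  · intro x hx
    rw [mem_lc]
    have := conj_mem_centralizer (Subgroup.inv_mem _ hn) hx
    simpa using this

/-- a Sylow `p`-subgroup of `N` meets a subgroup `C` normalized by `N` in a Sylow `p`-subgroup of `C`
(`relIndex` form) -/
theorem not_dvd_relIndex_inf_of_normal [Finite G] [Fact p.Prime] {N R C : Subgroup G} (hRN : R ≤ N)
    (hR : IsPGroup p R) (hidx : ¬ p ∣ R.relIndex N) (hCN : C ≤ N)
    (hnorm : ∀ c n, c ∈ C → n ∈ N → n * c * n⁻¹ ∈ C) : ¬ p ∣ (R ⊓ C).relIndex C := by
  have hR' : IsPGroup p (R.subgroupOf N) := hR.comap_subtype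
  let R' : Sylow p N := hR'.toSylow hidx
  haveI : (C.subgroupOf N).Normal := (Subgroup.normal_subgroupOf_iff hCN).mpr hnorm
  have h := Cfsg.Agent.Lib.Helper40.not_dvd_relIndex_sylow_normal R' (C.subgroupOf N)
  have e : ((R' : Subgroup N)).relIndex (C.subgroupOf N) = R.relIndex C :=
    Subgroup.relIndex_subgroupOf hCN
  rw [e] at h
  rwa [Subgroup.inf_relIndex_right]

/-- the Frattini step of the Alperin–Goldschmidt theorem: if `U ≤ S` is fully normalized then every
`m ∈ N_G(U)` is `z * n` with `z ∈ C_G(U)` and `n` normalizing `U` and `C_S(U)` -/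
theorem exists_centralizer_mul_normalizer [Finite G] [Fact p.Prime] {S U : Subgroup G}
    (hS : IsPGroup p S)
    (hidx : ¬ p ∣ (S ⊓ Subgroup.normalizer (U : Set G)).relIndex (Subgroup.normalizer (U : Set G)))
    {m : G} (hm : m ∈ Subgroup.normalizer (U : Set G)) :
    ∃ z ∈ Subgroup.centralizer (U : Set G), ∃ n ∈ Subgroup.normalizer (U : Set G),
      n ∈ Subgroup.normalizer ((S ⊓ Subgroup.centralizer (U : Set G) : Subgroup G) : Set G) ∧
      m = z * n := by
  set N := Subgroup.normalizer (U : Set G) with hN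
  set C := Subgroup.centralizer (U : Set G) with hC
  have hCN : C ≤ N := Subgroup.centralizer_le_normalizer (U : Set G)
  have hSyl : ¬ p ∣ ((S ⊓ N) ⊓ C).relIndex C :=
    not_dvd_relIndex_inf_of_normal inf_le_right hS.to_inf_left hidx hCN
      (fun c n hc hn => conj_mem_centralizer hn hc)
  have e : (S ⊓ N) ⊓ C = S ⊓ C := by
    rw [inf_assoc, inf_eq_right.mpr hCN]
  rw [e] at hSyl
  have hCPp : IsPGroup p (S ⊓ C : Subgroup G) := hS.to_inf_left
  have hmC : lc m (S ⊓ C) ≤ C := by
    rw [lc_inf, lc_centralizer_eq hm]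
    exact inf_le_right
  obtain ⟨z, hzC, hz⟩ := exists_lc_le_of_relIndex (inf_le_right : S ⊓ C ≤ C) hCPp hSyl
    (isPGroup_lc hCPp) hmC
  have hn : z * m ∈ Subgroup.normalizer ((S ⊓ C : Subgroup G) : Set G) :=
    mem_normalizer_of_lc_le (by rw [lc_mul]; exact hz)
  refine ⟨z⁻¹, C.inv_mem hzC, z * m, N.mul_mem (hCN hzC) hm, hn, by group⟩

end Cfsg.Agent.Lib.Helper41
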