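import Mathlib
import Cfsg.Agent.Lib.Helper70.AGDefs

/-!
# Pack K-4188 (S4188), leaf A5 `caseB_geometry` (parallel hand, helper41).
-/

set_option autoImplicit false

namespace Cfsg.Agent.Lib.Helper41.AG

open Cfsg.Agent.Lib.Helper70.AG

theorem sq_eq_one_of_odd {V : Type*} [CommGroup V] [Finite V] (hodd : Odd (Nat.card V))
    (v : V) (hv : v ^ 2 = 1) : v = 1 := by
  have h2 : orderOf v ∣ 2 := orderOf_dvd_of_pow_eq_one hv
  have hc : orderOf v ∣ Nat.card V := orderOf_dvd_natCard v
  have hcop : Nat.Coprime 2 (Nat.card V) := Nat.coprime_two_left.mpr hodd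
  have h1 : orderOf v ∣ Nat.gcd 2 (Nat.card V) := Nat.dvd_gcd h2 hc
  rw [hcop] at h1
  exact orderOf_eq_one_iff.mp (Nat.dvd_one.mp h1)

theorem exists_sq_of_odd {V : Type*} [CommGroup V] [Finite V] (hodd : Odd (Nat.card V))
    (v : V) : ∃ w : V, w ^ 2 = v := by
  have hcop : (Nat.card V).Coprime 2 := Nat.coprime_two_right.mpr hodd
  obtain ⟨w, hw⟩ := (powCoprime hcop).surjective v
  exact ⟨w, hw⟩

theorem caseB_geometry {V : Type*} [CommGroup V] [Finite V] (hodd : Odd (Nat.card V))
    (Q : Subgroup (MulAut V))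
    (hirr : ∀ W : Subgroup V, IsInv Q W → W = ⊥ ∨ W = ⊤)
    (z u : ↥Q) (hz1 : z ≠ 1) (hz2 : z ^ 2 = 1) (hzc : z ∈ Subgroup.center ↥Q)
    (hu1 : u ≠ 1) (hu2 : u ^ 2 = 1) (huz : u ≠ z)
    (hconj : ∀ s : ↥Q, s * u * s⁻¹ = u ∨ s * u * s⁻¹ = u * z) :
    (Subgroup.centralizer ({u} : Set ↥Q)).index = 2 ∧
    fixedSub (u : MulAut V) ⊓ fixedSub ((u * z : ↥Q) : MulAut V) = ⊥ ∧
    fixedSub (u : MulAut V) ⊔ fixedSub ((u * z : ↥Q) : MulAut V) = ⊤ ∧
    (∀ m ∈ Subgroup.centralizer ({u} : Set ↥Q), ∀ v ∈ fixedSub (u : MulAut V),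
      (m : MulAut V) v ∈ fixedSub (u : MulAut V)) ∧
    (∀ m ∈ Subgroup.centralizer ({u} : Set ↥Q), ∀ v ∈ fixedSub ((u * z : ↥Q) : MulAut V),
      (m : MulAut V) v ∈ fixedSub ((u * z : ↥Q) : MulAut V)) ∧
    Nat.card ↥(fixedSub (u : MulAut V)) = Nat.card ↥(fixedSub ((u * z : ↥Q) : MulAut V)) ∧
    fixedSub (u : MulAut V) ≠ ⊥ := by
  classical
  -- pointwise form of products in `Q`
  have hcoe : ∀ (a b : ↥Q) (v : V),
      ((a * b : ↥Q) : MulAut V) v = (a : MulAut V) ((b : MulAut V) v) := fun _ _ _ => rfl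
  have hzz : ∀ v : V, (z : MulAut V) ((z : MulAut V) v) = v := by
    intro v
    have h := congrArg (fun q : ↥Q => (q : MulAut V) v) hz2
    simpa [pow_two] using h
  have huu : ∀ v : V, (u : MulAut V) ((u : MulAut V) v) = v := by
    intro v
    have h := congrArg (fun q : ↥Q => (q : MulAut V) v) hu2
    simpa [pow_two] using h
  have hzcomm : ∀ (q : ↥Q) (v : V),
      (q : MulAut V) ((z : MulAut V) v) = (z : MulAut V) ((q : MulAut V) v) := by
    intro q v
    have h := (Subgroup.mem_center_iff.mp hzc) q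
    have h' := congrArg (fun q : ↥Q => (q : MulAut V) v) h
    simpa using h'
  -- (1) z inverts V
  have hzfix_inv : IsInv Q (fixedSub (z : MulAut V)) := by
    intro q hq w hw
    rw [mem_fixedSub] at hw ⊢
    have := hzcomm ⟨q, hq⟩ w
    simp only at this
    rw [← this, hw]
  have hzfix : fixedSub (z : MulAut V) = ⊥ := by
    rcases hirr _ hzfix_inv with h | h
    · exact h
    · exfalso
      apply hz1
      apply Subtype.ext
      apply MulEquiv.ext
      intro v
      have hv : v ∈ fixedSub (z : MulAut V) := by rw [h]; exact Subgroup.mem_top v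
      simpa [mem_fixedSub] using hv
  have hzinv : ∀ v : V, (z : MulAut V) v = v⁻¹ := by
    intro v
    have hmem : v * (z : MulAut V) v ∈ fixedSub (z : MulAut V) := by
      rw [mem_fixedSub, map_mul, hzz, mul_comm]
    rw [hzfix, Subgroup.mem_bot] at hmem
    exact (eq_inv_of_mul_eq_one_right hmem)
  -- membership in the two fixed subgroups
  have hplus : ∀ v : V, v ∈ fixedSub (u : MulAut V) ↔ (u : MulAut V) v = v := fun _ => Iff.rfl
  have hminus : ∀ v : V, v ∈ fixedSub ((u * z : ↥Q) : MulAut V) ↔ (u : MulAut V) v = v⁻¹ := by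
    intro v
    rw [mem_fixedSub, hcoe, hzinv, map_inv]
    exact inv_eq_iff_eq_inv
  -- (2) inf and sup
  have hinf : fixedSub (u : MulAut V) ⊓ fixedSub ((u * z : ↥Q) : MulAut V) = ⊥ := by
    rw [eq_bot_iff]
    intro v hv
    rw [Subgroup.mem_inf] at hv
    rw [Subgroup.mem_bot]
    have h1 := (hplus v).mp hv.1
    have h2 := (hminus v).mp hv.2
    apply sq_eq_one_of_odd hodd
    have : v = v⁻¹ := h1.symm.trans h2
    rw [pow_two]
    nth_rewrite 1 [this]
    exact inv_mul_cancel v
  have hsup : fixedSub (u : MulAut V) ⊔ fixedSub ((u * z : ↥Q) : MulAut V) = ⊤ := by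
    rw [eq_top_iff]
    intro v _
    obtain ⟨w, hw⟩ := exists_sq_of_odd hodd v
    have h1 : w * (u : MulAut V) w ∈ fixedSub (u : MulAut V) := by
      rw [hplus, map_mul, huu, mul_comm]
    have h2 : w * ((u : MulAut V) w)⁻¹ ∈ fixedSub ((u * z : ↥Q) : MulAut V) := by
      rw [hminus, map_mul, map_inv, huu, mul_inv, inv_inv, mul_comm]
    have h3 : v = (w * (u : MulAut V) w) * (w * ((u : MulAut V) w)⁻¹) := by
      rw [← hw, pow_two]
      rw [mul_mul_mul_comm, mul_inv_cancel, mul_one]
    rw [h3]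
    exact Subgroup.mul_mem_sup h1 h2
  -- centralizer membership, pointwise
  have hcent : ∀ m : ↥Q, m ∈ Subgroup.centralizer ({u} : Set ↥Q) ↔ m * u = u * m := by
    intro m
    rw [Subgroup.mem_centralizer_iff]
    constructor
    · intro h
      exact (h u rfl).symm
    · intro h x hx
      rw [Set.mem_singleton_iff] at hx
      rw [hx]
      exact h.symm
  have hcent_conj : ∀ m : ↥Q, m ∈ Subgroup.centralizer ({u} : Set ↥Q) ↔ m * u * m⁻¹ = u := by
    intro m
    rw [hcent, mul_inv_eq_iff_eq_mul]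
  have hcentpt : ∀ m : ↥Q, m ∈ Subgroup.centralizer ({u} : Set ↥Q) →
      ∀ v : V, (m : MulAut V) ((u : MulAut V) v) = (u : MulAut V) ((m : MulAut V) v) := by
    intro m hm v
    have h := (hcent m).mp hm
    have h' := congrArg (fun q : ↥Q => (q : MulAut V) v) h
    simpa using h'
  -- (3)
  have hpres_plus : ∀ m ∈ Subgroup.centralizer ({u} : Set ↥Q), ∀ v ∈ fixedSub (u : MulAut V),
      (m : MulAut V) v ∈ fixedSub (u : MulAut V) := by
    intro m hm v hv
    rw [hplus] at hv ⊢
    rw [← hcentpt m hm, hv]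
  have hpres_minus : ∀ m ∈ Subgroup.centralizer ({u} : Set ↥Q),
      ∀ v ∈ fixedSub ((u * z : ↥Q) : MulAut V),
      (m : MulAut V) v ∈ fixedSub ((u * z : ↥Q) : MulAut V) := by
    intro m hm v hv
    rw [hminus] at hv ⊢
    rw [← hcentpt m hm, hv, map_inv]
  -- if V₊ = ⊥ then u = z
  have hplus_ne_bot : fixedSub (u : MulAut V) ≠ ⊥ := by
    intro hbot
    apply huz
    apply Subtype.ext
    apply MulEquiv.ext
    intro v
    have hv : v ∈ fixedSub ((u * z : ↥Q) : MulAut V) := by
      have : fixedSub ((u * z : ↥Q) : MulAut V) = ⊤ := by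
        rw [hbot, bot_sup_eq] at hsup
        exact hsup
      rw [this]
      exact Subgroup.mem_top v
    rw [hminus] at hv
    rw [hv, hzinv]
  -- (4) a non-centralizing element exists
  have hexists : ∃ s : ↥Q, s ∉ Subgroup.centralizer ({u} : Set ↥Q) := by
    by_contra hno
    push Not at hno
    have hinv : IsInv Q (fixedSub (u : MulAut V)) := by
      intro q hq w hw
      exact hpres_plus ⟨q, hq⟩ (hno ⟨q, hq⟩) w hw
    rcases hirr _ hinv with h | h
    · exact hplus_ne_bot h
    · apply hu1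
      apply Subtype.ext
      apply MulEquiv.ext
      intro v
      have hv : v ∈ fixedSub (u : MulAut V) := by rw [h]; exact Subgroup.mem_top v
      simpa [mem_fixedSub] using hv
  obtain ⟨s, hs⟩ := hexists
  have hnc : ∀ t : ↥Q, t ∉ Subgroup.centralizer ({u} : Set ↥Q) → t * u * t⁻¹ = u * z := by
    intro t ht
    rcases hconj t with h | h
    · exact absurd ((hcent_conj t).mpr h) ht
    · exact h
  -- pointwise: t (u v) = u (z (t v)) for non-centralizing t
  have hncpt : ∀ t : ↥Q, t ∉ Subgroup.centralizer ({u} : Set ↥Q) →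
      ∀ v : V, (t : MulAut V) ((u : MulAut V) v) = ((u : MulAut V) ((t : MulAut V) v))⁻¹ := by
    intro t ht v
    have h := hnc t ht
    rw [mul_inv_eq_iff_eq_mul] at h
    have h' := congrArg (fun q : ↥Q => (q : MulAut V) v) h
    have h'' : (t : MulAut V) ((u : MulAut V) v)
        = (u : MulAut V) ((z : MulAut V) ((t : MulAut V) v)) := by
      simpa using h'
    rw [h'', hzinv, map_inv]
  have hswap_pm : ∀ t : ↥Q, t ∉ Subgroup.centralizer ({u} : Set ↥Q) →
      ∀ v ∈ fixedSub (u : MulAut V), (t : MulAut V) v ∈ fixedSub ((u * z : ↥Q) : MulAut V) := by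
    intro t ht v hv
    rw [hplus] at hv
    rw [hminus]
    have := hncpt t ht v
    rw [hv] at this
    exact (inv_eq_iff_eq_inv.mp this.symm)
  have hswap_mp : ∀ t : ↥Q, t ∉ Subgroup.centralizer ({u} : Set ↥Q) →
      ∀ v ∈ fixedSub ((u * z : ↥Q) : MulAut V), (t : MulAut V) v ∈ fixedSub (u : MulAut V) := by
    intro t ht v hv
    rw [hminus] at hv
    rw [hplus]
    have := hncpt t ht v
    rw [hv, map_inv] at this
    exact (inv_injective this).symm
  have hcard : Nat.card ↥(fixedSub (u : MulAut V))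
      = Nat.card ↥(fixedSub ((u * z : ↥Q) : MulAut V)) := by
    apply le_antisymm
    · apply Nat.card_le_card_of_injective
        (fun v : ↥(fixedSub (u : MulAut V)) =>
          (⟨(s : MulAut V) v, hswap_pm s hs v v.2⟩ : ↥(fixedSub ((u * z : ↥Q) : MulAut V))))
      intro a b hab
      apply Subtype.ext
      have := congrArg Subtype.val hab
      exact (s : MulAut V).injective this
    · apply Nat.card_le_card_of_injective
        (fun v : ↥(fixedSub ((u * z : ↥Q) : MulAut V)) =>
          (⟨(s : MulAut V) v, hswap_mp s hs v v.2⟩ : ↥(fixedSub (u : MulAut V))))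
      intro a b hab
      apply Subtype.ext
      have := congrArg Subtype.val hab
      exact (s : MulAut V).injective this
  -- (5) index two
  have hindex : (Subgroup.centralizer ({u} : Set ↥Q)).index = 2 := by
    rw [Subgroup.index_eq_two_iff]
    refine ⟨s, fun b => ?_⟩
    by_cases hb : b ∈ Subgroup.centralizer ({u} : Set ↥Q)
    · refine Or.inr ⟨hb, fun hbs => hs ?_⟩
      have : s = b⁻¹ * (b * s) := by group
      rw [this]
      exact Subgroup.mul_mem _ (Subgroup.inv_mem _ hb) hbs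
    · refine Or.inl ⟨?_, hb⟩
      rw [hcent_conj]
      have h1 := hnc s hs
      have h2 := hnc b hb
      have hzb : b * z = z * b := (Subgroup.mem_center_iff.mp hzc) b
      calc b * s * u * (b * s)⁻¹ = b * (s * u * s⁻¹) * b⁻¹ := by group
        _ = b * (u * z) * b⁻¹ := by rw [h1]
        _ = (b * u * b⁻¹) * (b * z * b⁻¹) := by group
        _ = (u * z) * (z * b * b⁻¹) := by rw [h2, hzb]
        _ = u * (z * z) := by group
        _ = u := by rw [← pow_two, hz2, mul_one]
  exact ⟨hindex, hinf, hsup, hpres_plus, hpres_minus, hcard, hplus_ne_bot⟩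

end Cfsg.Agent.Lib.Helper41.AG
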