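import Cfsg.Agent.Lib.Helper41.AG

set_option autoImplicit false

namespace Cfsg.Agent.Lib.Helper41

open Cfsg

variable {G : Type*} [Group G] {p : ℕ}

/-- for `D` in the Alperin–Goldschmidt family, `O_{p',p}(N_G(D)) = D C_G(D)`
(spelled as in the strong form of the fusion theorem) -/
theorem ag_pPrimePCore_eq [Finite G] [Fact p.Prime] (P : Sylow p G) {D : Subgroup G}
    (hD : D ∈ agFamily p P) :
    (Cfsg.pPrimePCore p ↥(Subgroup.normalizer (D : Set G))).map
        (Subgroup.normalizer (D : Set G)).subtype =
      D ⊔ Subgroup.centralizer (D : Set G) := by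
  obtain ⟨_, hDL, hcomm, _, hsup⟩ := ag_isInternalDirectProduct P hD
  obtain ⟨hDP, hfn, hcen, _⟩ := hD
  have hCL := ag_centralizer_le P hDP hfn hcen
  show relPPrimePCore p (Subgroup.normalizer (D : Set G)) = _
  apply le_antisymm
  · rw [← hsup]
    refine sup_le ?_ le_sup_left
    refine le_trans ?_ le_sup_right
    intro a ha
    rw [Subgroup.mem_centralizer_iff]
    intro b hb
    exact (hcomm a ha b hb).symm
  · exact sup_le hDL hCL

end Cfsg.Agent.Lib.Helper41
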