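import Cfsg.Prelude.Def_ConjugacyFunctors
import Mathlib.GroupTheory.Nilpotent

set_option autoImplicit false

open scoped commutatorElement

namespace Cfsg.Agent.Lib.Helper41

variable {P : Type*} [Group P]

/-- the centre of a subgroup, as used in the K-infinity definitions -/
abbrev zOf (B : Subgroup P) : Subgroup P := B ⊓ Subgroup.centralizer (B : Set P)

theorem comm_mul_left (b y k : P) : ⁅b * y, k⁆ = b * ⁅y, k⁆ * b⁻¹ * ⁅b, k⁆ := by
  simp only [commutatorElement_def]; group

theorem centralizer_sup_eq (B X : Subgroup P) :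
    Subgroup.centralizer ((B ⊔ X : Subgroup P) : Set P) =
      Subgroup.centralizer (B : Set P) ⊓ Subgroup.centralizer (X : Set P) := by
  apply le_antisymm
  · exact le_inf (Subgroup.centralizer_le (by exact_mod_cast (le_sup_left : B ≤ B ⊔ X)))
      (Subgroup.centralizer_le (by exact_mod_cast (le_sup_right : X ≤ B ⊔ X)))
  · rw [Subgroup.le_centralizer_iff]
    apply sup_le
    · rw [← Subgroup.le_centralizer_iff]; exact inf_le_left
    · rw [← Subgroup.le_centralizer_iff]; exact inf_le_right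

theorem mem_sup_of_le_normalizer_adj {B X : Subgroup P} (hX : X ≤ Subgroup.normalizer (B : Set P))
    {u : P} (hu : u ∈ B ⊔ X) : ∃ b ∈ B, ∃ y ∈ X, u = b * y := by
  have := Subgroup.coe_mul_of_right_le_normalizer_left B X hX
  have hu' : u ∈ ((B ⊔ X : Subgroup P) : Set P) := hu
  rw [this, Set.mem_mul] at hu'
  obtain ⟨b, hb, y, hy, rfl⟩ := hu'
  exact ⟨b, hb, y, hy, rfl⟩

theorem commutator_le_of_le_normalizer {X K M : Subgroup P} (hXM : X ≤ M)
    (hK : K ≤ Subgroup.normalizer (M : Set P)) : ⁅X, K⁆ ≤ M := by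
  rw [Subgroup.commutator_le]
  intro x hx k hk
  have h1 := (Subgroup.mem_normalizer_iff.mp (hK hk) x⁻¹).mp (M.inv_mem (hXM hx))
  have : ⁅x, k⁆ = x * (k * x⁻¹ * k⁻¹) := by simp only [commutatorElement_def]; group
  rw [this]
  exact M.mul_mem (hXM hx) h1

theorem normalizer_le_normalizer_centralizer (B : Subgroup P) :
    Subgroup.normalizer (B : Set P) ≤
      Subgroup.normalizer ((Subgroup.centralizer (B : Set P) : Subgroup P) : Set P) := by
  intro r hr
  rw [Subgroup.mem_normalizer_iff]
  intro c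
  have key : ∀ (s : P), s ∈ Subgroup.normalizer (B : Set P) → ∀ c ∈ Subgroup.centralizer (B : Set P),
      s * c * s⁻¹ ∈ Subgroup.centralizer (B : Set P) := by
    intro s hs c hc
    rw [Subgroup.mem_centralizer_iff] at hc ⊢
    intro b hb
    have hb' : s⁻¹ * b * s ∈ B := by
      have := (Subgroup.mem_normalizer_iff.mp (Subgroup.inv_mem _ hs) b).mp hb
      simpa using this
    have := hc _ hb'
    calc b * (s * c * s⁻¹) = s * ((s⁻¹ * b * s) * c) * s⁻¹ := by group
    _ = s * (c * (s⁻¹ * b * s)) * s⁻¹ := by rw [this]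
    _ = s * c * s⁻¹ * b := by group
  constructor
  · exact key r hr c
  · intro h
    have := key r⁻¹ (Subgroup.inv_mem _ hr) _ h
    have e : r⁻¹ * (r * c * r⁻¹) * r⁻¹⁻¹ = c := by group
    rwa [e] at this

/-- data for adjoining an abelian subgroup `X ≤ C(B)` that is central modulo `B` under `N(B)` -/
structure AdjoinData (B X : Subgroup P) : Prop where
  cent : X ≤ Subgroup.centralizer (B : Set P)
  comm : ⁅X, Subgroup.normalizer (B : Set P)⁆ ≤ B
  abel : X ≤ Subgroup.centralizer (X : Set P)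

namespace AdjoinData

variable {B X : Subgroup P} (h : AdjoinData B X)
include h

theorem le_normalizer : X ≤ Subgroup.normalizer (B : Set P) :=
  h.cent.trans (Subgroup.centralizer_le_normalizer _)

theorem le_centralizer_sup : X ≤ Subgroup.centralizer ((B ⊔ X : Subgroup P) : Set P) := by
  rw [centralizer_sup_eq]
  exact le_inf h.cent h.abel

theorem comm_le_zOf : ⁅X, Subgroup.normalizer (B : Set P)⁆ ≤ zOf B :=
  le_inf h.comm (commutator_le_of_le_normalizer h.cent (normalizer_le_normalizer_centralizer B))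

theorem zOf_le : zOf B ≤ zOf (B ⊔ X) := by
  refine le_inf (inf_le_left.trans le_sup_left) ?_
  rw [centralizer_sup_eq]
  refine le_inf inf_le_right ?_
  rw [Subgroup.le_centralizer_iff]
  exact h.cent.trans (Subgroup.centralizer_le (by exact_mod_cast (inf_le_left : zOf B ≤ B)))

theorem sup_le_centralizer_zOf : B ⊔ X ≤ Subgroup.centralizer ((zOf B : Subgroup P) : Set P) := by
  apply sup_le
  · rw [Subgroup.le_centralizer_iff]; exact inf_le_right
  · exact h.cent.trans (Subgroup.centralizer_le (by exact_mod_cast (inf_le_left : zOf B ≤ B)))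

/-- commutators with a subgroup `K ≤ N(B)` for which `[B, K] ≤ Z(B)` -/
theorem comm_sup_le {K : Subgroup P} (hK : K ≤ Subgroup.normalizer (B : Set P))
    (hBK : ⁅B, K⁆ ≤ zOf B) : ⁅B ⊔ X, K⁆ ≤ zOf B := by
  rw [Subgroup.commutator_le]
  intro u hu k hk
  obtain ⟨b, hb, y, hy, rfl⟩ := mem_sup_of_le_normalizer_adj h.le_normalizer hu
  rw [comm_mul_left]
  have h1 : ⁅y, k⁆ ∈ zOf B := h.comm_le_zOf (Subgroup.commutator_mem_commutator hy (hK hk))
  have h2 : ⁅b, k⁆ ∈ zOf B := hBK (Subgroup.commutator_mem_commutator hb hk)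
  have h3 : b * ⁅y, k⁆ * b⁻¹ = ⁅y, k⁆ := by
    have := (Subgroup.mem_centralizer_iff.mp (Subgroup.mem_inf.mp h1).2) b hb
    rw [this, mul_inv_cancel_right]
  rw [h3]
  exact (zOf B).mul_mem h1 h2

/-- commutators with a subgroup centralizing `X` -/
theorem comm_sup_le_of_centralizes {H : Subgroup P} (hH : H ≤ Subgroup.centralizer (X : Set P)) :
    ⁅B ⊔ X, H⁆ ≤ ⁅B, H⁆ := by
  rw [Subgroup.commutator_le]
  intro u hu k hk
  obtain ⟨b, hb, y, hy, rfl⟩ := mem_sup_of_le_normalizer_adj h.le_normalizer hu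
  rw [comm_mul_left]
  have h1 : ⁅y, k⁆ = 1 := by
    have := (Subgroup.mem_centralizer_iff.mp (hH hk)) y hy
    rw [commutatorElement_def, this]; group
  rw [h1]
  simpa using Subgroup.commutator_mem_commutator hb hk

theorem classTwo (hB : B ∈ Cfsg.classTwoSubgroups P) : B ⊔ X ∈ Cfsg.classTwoSubgroups P := by
  show ⁅B ⊔ X, B ⊔ X⁆ ≤ Subgroup.centralizer ((B ⊔ X : Subgroup P) : Set P)
  have hBX : B ⊔ X ≤ Subgroup.centralizer (X : Set P) := by
    rw [Subgroup.le_centralizer_iff]; exact h.le_centralizer_sup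
  have h1 : ⁅B ⊔ X, B ⊔ X⁆ ≤ ⁅B, B ⊔ X⁆ := h.comm_sup_le_of_centralizes hBX
  have h2 : ⁅B, B ⊔ X⁆ ≤ ⁅B, B⁆ := by
    rw [Subgroup.commutator_comm]
    refine (h.comm_sup_le_of_centralizes ?_).trans (le_of_eq (Subgroup.commutator_comm _ _))
    rw [Subgroup.le_centralizer_iff]; exact h.cent
  refine (h1.trans h2).trans ?_
  rw [centralizer_sup_eq]
  refine le_inf hB ?_
  have hBB : ⁅B, B⁆ ≤ B := Subgroup.commutator_le_self B
  rw [Subgroup.le_centralizer_iff]
  exact h.cent.trans (Subgroup.centralizer_le (by exact_mod_cast hBB))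

theorem normalizer_le :
    Subgroup.normalizer (B : Set P) ≤ Subgroup.normalizer ((B ⊔ X : Subgroup P) : Set P) := by
  intro r hr
  -- it suffices that conjugation by r maps B ⊔ X into itself
  have key : ∀ s ∈ Subgroup.normalizer (B : Set P), ∀ u ∈ B ⊔ X, s * u * s⁻¹ ∈ B ⊔ X := by
    intro s hs u hu
    obtain ⟨b, hb, y, hy, rfl⟩ := mem_sup_of_le_normalizer_adj h.le_normalizer hu
    have e : s * (b * y) * s⁻¹ = (s * b * s⁻¹) * (⁅y, s⁆⁻¹ * y) := by
      simp only [commutatorElement_def]; group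
    rw [e]
    refine (B ⊔ X).mul_mem (Subgroup.mem_sup_left ((Subgroup.mem_normalizer_iff.mp hs b).mp hb)) ?_
    refine (B ⊔ X).mul_mem (Subgroup.mem_sup_left (B.inv_mem ?_)) (Subgroup.mem_sup_right hy)
    exact h.comm (Subgroup.commutator_mem_commutator hy hs)
  rw [Subgroup.mem_normalizer_iff]
  intro u
  constructor
  · exact key r hr u
  · intro hu
    have := key r⁻¹ (Subgroup.inv_mem _ hr) _ hu
    have e : r⁻¹ * (r * u * r⁻¹) * r⁻¹⁻¹ = u := by group
    rwa [e] at this

end AdjoinData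

/-- iterated commutators of `C(B)` with `N(B)` -/
def centChain (B : Subgroup P) : ℕ → Subgroup P
  | 0 => Subgroup.centralizer (B : Set P)
  | i + 1 => ⁅centChain B i, Subgroup.normalizer (B : Set P)⁆

theorem centChain_le_centralizer (B : Subgroup P) (i : ℕ) :
    centChain B i ≤ Subgroup.centralizer (B : Set P) := by
  induction i with
  | zero => exact le_rfl
  | succ i ih => exact commutator_le_of_le_normalizer ih (normalizer_le_normalizer_centralizer B)

theorem centChain_le_lcs (B : Subgroup P) (i : ℕ) :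
    centChain B i ≤ (⊤ : Subgroup P).lowerCentralSeries i := by
  induction i with
  | zero => exact le_top
  | succ i ih => exact Subgroup.commutator_mono ih le_top

theorem exists_adjoinData [Group.IsNilpotent P] {B : Subgroup P}
    (hB : ¬ Subgroup.centralizer (B : Set P) ≤ B) :
    ∃ X : Subgroup P, AdjoinData B X ∧ ¬ X ≤ B := by
  classical
  obtain ⟨n, hn⟩ := Subgroup.nilpotent_iff_lowerCentralSeries.mp (inferInstance : Group.IsNilpotent P)
  have hex : ∃ j, centChain B j ≤ B := ⟨n, by
    have := centChain_le_lcs B n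
    rw [hn] at this
    exact this.trans bot_le⟩
  have hmin : ∀ m, m < Nat.find hex → ¬ centChain B m ≤ B := fun m hm => Nat.find_min hex hm
  have hspec := Nat.find_spec hex
  generalize Nat.find hex = j at hmin hspec
  have hj : j ≠ 0 := by
    rintro rfl
    exact hB hspec
  obtain ⟨i, rfl⟩ := Nat.exists_eq_succ_of_ne_zero hj
  obtain ⟨x, hx1, hx2⟩ := SetLike.not_le_iff_exists.mp (hmin i (Nat.lt_succ_self i))
  have hXD : Subgroup.zpowers x ≤ centChain B i := by
    rw [Subgroup.zpowers_le]; exact hx1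
  refine ⟨Subgroup.zpowers x, ⟨hXD.trans (centChain_le_centralizer B i), ?_, ?_⟩, ?_⟩
  · exact (Subgroup.commutator_mono hXD le_rfl).trans hspec
  · rw [Subgroup.le_centralizer_iff_isMulCommutative]
    infer_instance
  · intro h
    exact hx2 (h (Subgroup.mem_zpowers x))

end Cfsg.Agent.Lib.Helper41
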