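import Cfsg.Agent.Lib.Helper16.ZJ

set_option autoImplicit false

/-!
Axiomatic version of Glauberman's `ZJ`-argument: a family `𝒜` of abelian subgroups of a Sylow
`p`-subgroup `P` (`p` odd) with an invariance and a replacement property has a normal
intersection, when `G` is `p`-constrained (`C_G(O_p(G)) ≤ O_p(G)`) and `p`-stable.
-/

namespace Cfsg.Agent.Lib.Helper41.AxZJ

open scoped commutatorElement
open Cfsg.Agent.Lib.Helper16.ZJ

variable {G : Type*} [Group G]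

/-- the intersection of the members of `𝒜` contained in `R` -/
def II (𝒜 : Set (Subgroup G)) (R : Subgroup G) : Subgroup G :=
  ⨅ A ∈ {A : Subgroup G | A ∈ 𝒜 ∧ A ≤ R}, A

theorem II_le_of_mem {𝒜 : Set (Subgroup G)} {R A : Subgroup G} (hA : A ∈ 𝒜) (hAR : A ≤ R) :
    II 𝒜 R ≤ A := iInf₂_le A ⟨hA, hAR⟩

theorem le_II {𝒜 : Set (Subgroup G)} {R B : Subgroup G} (h : ∀ A ∈ 𝒜, A ≤ R → B ≤ A) :
    B ≤ II 𝒜 R := le_iInf₂ (fun A hA => h A hA.1 hA.2)

theorem II_mono {𝒜 : Set (Subgroup G)} {P R : Subgroup G} (hRP : R ≤ P) : II 𝒜 P ≤ II 𝒜 R :=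
  le_II (fun _ hA hAR => II_le_of_mem hA (hAR.trans hRP))

theorem II_eq_iInf {𝒜 : Set (Subgroup G)} {P : Subgroup G} (h : ∀ A ∈ 𝒜, A ≤ P) :
    II 𝒜 P = ⨅ A ∈ 𝒜, A := by
  apply le_antisymm
  · exact le_iInf₂ (fun A hA => II_le_of_mem hA (h A hA))
  · exact le_II (fun A hA _ => iInf₂_le A hA)

/-- invariance gives that the normalizer of `R` normalizes `I(R)` -/
theorem normalizer_le_normalizer_II {𝒜 : Set (Subgroup G)} {R : Subgroup G}
    (hinv : ∀ g ∈ Subgroup.normalizer (R : Set G), ∀ x ∈ II 𝒜 R, g * x * g⁻¹ ∈ II 𝒜 R) :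
    Subgroup.normalizer (R : Set G) ≤ Subgroup.normalizer (II 𝒜 R : Set G) := by
  intro g hg
  rw [Subgroup.mem_normalizer_iff]
  intro h
  constructor
  · exact hinv g hg h
  · intro hh
    have := hinv g⁻¹ (Subgroup.inv_mem _ hg) _ hh
    simpa [mul_assoc] using this

theorem II_commutator_eq_bot {𝒜 : Set (Subgroup G)} {R A : Subgroup G} (hA : A ∈ 𝒜)
    (hAR : A ≤ R) (hAc : IsMulCommutative ↥A) : ⁅II 𝒜 R, II 𝒜 R⁆ = ⊥ := by
  have hWA := II_le_of_mem hA hAR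
  rw [eq_bot_iff]
  calc ⁅II 𝒜 R, II 𝒜 R⁆ ≤ ⁅A, A⁆ := Subgroup.commutator_mono hWA hWA
    _ = ⊥ := Subgroup.commutator_eq_bot_iff_le_centralizer.mpr (Subgroup.le_centralizer A)

theorem claimA [Finite G] {p : ℕ} [Fact p.Prime]
    (hst : ∀ (V : Subgroup G) [V.Normal], IsPGroup p ↥V → Cfsg.IsPStableOn p V)
    (P : Sylow p G) (𝒜 : Set (Subgroup G))
    (h𝒜 : ∀ A ∈ 𝒜, A ≤ (P : Subgroup G) ∧ IsMulCommutative ↥A) (hne : 𝒜.Nonempty)
    (hinv : ∀ R : Subgroup G, R ≤ P → (∃ A ∈ 𝒜, A ≤ R) →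
      ∀ g ∈ Subgroup.normalizer (R : Set G), ∀ x ∈ II 𝒜 R, g * x * g⁻¹ ∈ II 𝒜 R)
    (hrep : ∀ B : Subgroup G, B ≤ P → ⁅⁅B, B⁆, B⁆ = ⊥ → (∃ A ∈ 𝒜, ⁅B, B⁆ ≤ A ∧ ¬ B ≤ A) →
      ∃ A ∈ 𝒜, ⁅B, B⁆ ≤ A ∧ ¬ B ≤ A ∧ B ≤ Subgroup.normalizer (A : Set G)) :
    ∀ (n : ℕ) (B : Subgroup G) [B.Normal], IsPGroup p ↥B → Nat.card ↥B ≤ n →
      (II 𝒜 (P : Subgroup G) ⊓ B).Normal := by
  obtain ⟨A₀, hA₀⟩ := hne
  have hA₀P := (h𝒜 A₀ hA₀).1
  have hA₀c := (h𝒜 A₀ hA₀).2
  intro n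
  induction n with
  | zero =>
    intro B _ _ hcard
    have := Nat.card_pos (α := ↥B)
    omega
  | succ n ih =>
    intro B hBn hB hcard
    have hBP : B ≤ P := hB.le_sylow_of_normal P
    have hPW : (P : Subgroup G) ≤ Subgroup.normalizer (II 𝒜 (P : Subgroup G) : Set G) :=
      Subgroup.le_normalizer.trans
        (normalizer_le_normalizer_II (hinv (P : Subgroup G) le_rfl ⟨A₀, hA₀, hA₀P⟩))
    have hB₁B : Subgroup.normalClosure ((II 𝒜 (P : Subgroup G) ⊓ B : Subgroup G) : Set G) ≤ B :=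
      Subgroup.normalClosure_le_normal (inf_le_right)
    have hZB₁ : II 𝒜 (P : Subgroup G) ⊓ B ≤
        Subgroup.normalClosure ((II 𝒜 (P : Subgroup G) ⊓ B : Subgroup G) : Set G) :=
      Subgroup.subset_normalClosure
    by_cases hlt : Subgroup.normalClosure ((II 𝒜 (P : Subgroup G) ⊓ B : Subgroup G) : Set G) = B
    swap
    · have hc1 : Nat.card ↥(Subgroup.normalClosure
          ((II 𝒜 (P : Subgroup G) ⊓ B : Subgroup G) : Set G)) ≤ n := by
        by_contra hcon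
        push Not at hcon
        exact hlt (Subgroup.eq_of_le_of_card_ge hB₁B (by omega))
      have := ih _ (hB.to_le hB₁B) hc1
      have heq : II 𝒜 (P : Subgroup G) ⊓ Subgroup.normalClosure
          ((II 𝒜 (P : Subgroup G) ⊓ B : Subgroup G) : Set G) = II 𝒜 (P : Subgroup G) ⊓ B :=
        le_antisymm (inf_le_inf_left _ hB₁B) (le_inf inf_le_left hZB₁)
      rw [heq] at this; exact this
    · suffices hBW : B ≤ II 𝒜 (P : Subgroup G) by
        have : II 𝒜 (P : Subgroup G) ⊓ B = B := inf_eq_right.mpr hBW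
        rw [this]; exact hBn
      by_cases hbot : B = ⊥
      · rw [hbot]; exact bot_le
      have hB'lt : ⁅B, B⁆ < B := commutator_lt_self hB hbot
      have hB'B : ⁅B, B⁆ ≤ B := le_of_lt hB'lt
      have hc2 : Nat.card ↥⁅B, B⁆ ≤ n := by
        by_contra hcon
        push Not at hcon
        exact (ne_of_lt hB'lt) (Subgroup.eq_of_le_of_card_ge hB'B (by omega))
      have hN₀ : (II 𝒜 (P : Subgroup G) ⊓ ⁅B, B⁆).Normal := ih ⁅B, B⁆ (hB.to_le hB'B) hc2
      have h1 : ∀ z ∈ ((II 𝒜 (P : Subgroup G) ⊓ B : Subgroup G) : Set G), ∀ y ∈ B,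
          ⁅z, y⁆ ∈ II 𝒜 (P : Subgroup G) ⊓ ⁅B, B⁆ := by
        intro z hz y hy
        refine ⟨?_, Subgroup.commutator_mem_commutator hz.2 hy⟩
        have hyN := hPW (hBP hy)
        have : ⁅z, y⁆ = z * (y * z⁻¹ * y⁻¹) := by simp [commutatorElement_def, mul_assoc]
        rw [this]
        exact Subgroup.mul_mem _ hz.1
          ((Subgroup.mem_normalizer_iff.mp hyN _).mp (Subgroup.inv_mem _ hz.1))
      have h2 := comm_mem_of_normalClosure (N₀ := II 𝒜 (P : Subgroup G) ⊓ ⁅B, B⁆) (B := B) h1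
      have hB'W : ⁅B, B⁆ ≤ II 𝒜 (P : Subgroup G) := by
        rw [Subgroup.commutator_le]
        intro x hx y hy
        exact (h2 x (by rw [hlt]; exact hx) y hy).1
      -- `B` has class at most two
      have hB'n : (⁅B, B⁆ : Subgroup G).Normal := Subgroup.commutator_normal B B
      have hCn' : (Subgroup.centralizer ((⁅B, B⁆ : Subgroup G) : Set G)).Normal :=
        Subgroup.normal_centralizer
      have hIc : II 𝒜 (P : Subgroup G) ⊓ B ≤
          Subgroup.centralizer ((⁅B, B⁆ : Subgroup G) : Set G) := by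
        intro z hz
        rw [Subgroup.mem_centralizer_iff]
        intro c hc
        have hcA : c ∈ A₀ := II_le_of_mem hA₀ hA₀P (hB'W hc)
        have hzA : z ∈ A₀ := II_le_of_mem hA₀ hA₀P hz.1
        have := hA₀c.is_comm.comm (⟨c, hcA⟩ : ↥A₀) ⟨z, hzA⟩
        exact congrArg Subtype.val this
      have hBc : B ≤ Subgroup.centralizer ((⁅B, B⁆ : Subgroup G) : Set G) := by
        conv_lhs => rw [← hlt]
        exact Subgroup.normalClosure_le_normal hIc
      have hcl2 : ⁅⁅B, B⁆, B⁆ = ⊥ := by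
        rw [Subgroup.commutator_eq_bot_iff_le_centralizer]
        exact Subgroup.le_centralizer_iff.mp hBc
      by_contra hnot
      have hU : ∃ U ∈ 𝒜, ⁅B, B⁆ ≤ U ∧ ¬ B ≤ U := by
        by_contra hcon
        push Not at hcon
        apply hnot
        apply le_II
        intro A hA hAP
        exact hcon A hA (hB'W.trans (II_le_of_mem hA hAP))
      obtain ⟨A, hAF, hA1, hA2, hA3⟩ := hrep B hBP hcl2 hU
      have hAP := (h𝒜 A hAF).1
      have hAc := (h𝒜 A hAF).2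
      have hquad : ∀ a ∈ A, ⁅⁅B, Subgroup.zpowers a⁆, Subgroup.zpowers a⁆ = ⊥ := by
        intro a ha
        have hza : Subgroup.zpowers a ≤ A := (Subgroup.zpowers_le).mpr ha
        have h3 : ⁅B, Subgroup.zpowers a⁆ ≤ A := by
          rw [Subgroup.commutator_le]
          intro b hb x hx
          have hbN := hA3 hb
          have : ⁅b, x⁆ = (b * x * b⁻¹) * x⁻¹ := by simp [commutatorElement_def]
          rw [this]
          exact A.mul_mem ((Subgroup.mem_normalizer_iff.mp hbN _).mp (hza hx))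
            (A.inv_mem (hza hx))
        rw [eq_bot_iff]
        calc ⁅⁅B, Subgroup.zpowers a⁆, Subgroup.zpowers a⁆ ≤ ⁅A, A⁆ :=
              Subgroup.commutator_mono h3 hza
          _ = ⊥ := Subgroup.commutator_eq_bot_iff_le_centralizer.mpr (Subgroup.le_centralizer A)
      have hCn : (Subgroup.centralizer (B : Set G)).Normal := Subgroup.normal_centralizer
      have hAL : A ≤ (Cfsg.pCore p (G ⧸ Subgroup.centralizer (B : Set G))).comap
          (QuotientGroup.mk' (Subgroup.centralizer (B : Set G))) :=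
        fun a ha => hst B hB a (hquad a ha)
      have hfac := factor_of_pCore P (Subgroup.centralizer (B : Set G))
      have hAR : A ≤ (P : Subgroup G) ⊓ (Cfsg.pCore p (G ⧸ Subgroup.centralizer (B : Set G))).comap
          (QuotientGroup.mk' (Subgroup.centralizer (B : Set G))) := le_inf hAP hAL
      have hRP : (P : Subgroup G) ⊓ (Cfsg.pCore p (G ⧸ Subgroup.centralizer (B : Set G))).comap
          (QuotientGroup.mk' (Subgroup.centralizer (B : Set G))) ≤ P := inf_le_left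
      generalize (P : Subgroup G) ⊓ (Cfsg.pCore p (G ⧸ Subgroup.centralizer (B : Set G))).comap
          (QuotientGroup.mk' (Subgroup.centralizer (B : Set G))) = R at hfac hAR hRP
      have hWWR : II 𝒜 (P : Subgroup G) ≤ II 𝒜 R := II_mono hRP
      have hNR := normalizer_le_normalizer_II (hinv R hRP ⟨A, hAF, hAR⟩)
      have : (II 𝒜 R ⊓ B).Normal := by
        apply normal_of_factor
        intro g
        obtain ⟨n, hn, c, hc, rfl⟩ := hfac g
        refine ⟨n, ?_, c, ?_, rfl⟩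
        · have hnW := hNR hn
          rw [Subgroup.mem_normalizer_iff] at hnW ⊢
          intro h
          constructor
          · rintro ⟨h1, h2⟩; exact ⟨(hnW h).mp h1, hBn.conj_mem h h2 n⟩
          · rintro ⟨h1, h2⟩
            refine ⟨(hnW h).mpr h1, ?_⟩
            have := hBn.conj_mem _ h2 n⁻¹
            simpa [mul_assoc] using this
        · exact Subgroup.centralizer_le (fun _ hx => hx.2) hc
      have : B ≤ II 𝒜 R ⊓ B := by
        conv_lhs => rw [← hlt]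
        apply Subgroup.normalClosure_le_normal
        exact fun z hz => ⟨hWWR hz.1, hz.2⟩
      exact hA2 ((this.trans inf_le_left).trans (II_le_of_mem hAF hAR))

theorem II_le_pCore [Finite G] {p : ℕ} [Fact p.Prime]
    (hc : Subgroup.centralizer (Cfsg.pCore p G : Set G) ≤ Cfsg.pCore p G)
    (hst : ∀ (V : Subgroup G) [V.Normal], IsPGroup p ↥V → Cfsg.IsPStableOn p V)
    (P : Sylow p G) (𝒜 : Set (Subgroup G))
    (h𝒜 : ∀ A ∈ 𝒜, A ≤ (P : Subgroup G) ∧ IsMulCommutative ↥A) (hne : 𝒜.Nonempty)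
    (hinv : ∀ g ∈ Subgroup.normalizer ((P : Subgroup G) : Set G),
      ∀ x ∈ II 𝒜 (P : Subgroup G), g * x * g⁻¹ ∈ II 𝒜 (P : Subgroup G)) :
    II 𝒜 (P : Subgroup G) ≤ Cfsg.pCore p G := by
  obtain ⟨A₀, hA₀⟩ := hne
  have hA₀P := (h𝒜 A₀ hA₀).1
  have hA₀c := (h𝒜 A₀ hA₀).2
  have hKn := pCore_normal (G := G) p
  have hKp := pCore_isPGroup (G := G) p
  have hKP := pCore_le_sylow P
  have hPW : (P : Subgroup G) ≤ Subgroup.normalizer (II 𝒜 (P : Subgroup G) : Set G) :=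
    Subgroup.le_normalizer.trans (normalizer_le_normalizer_II hinv)
  intro z hz
  have hquad : ⁅⁅Cfsg.pCore p G, Subgroup.zpowers z⁆, Subgroup.zpowers z⁆ = ⊥ := by
    have hzW : Subgroup.zpowers z ≤ II 𝒜 (P : Subgroup G) := (Subgroup.zpowers_le).mpr hz
    have h3 : ⁅Cfsg.pCore p G, Subgroup.zpowers z⁆ ≤ II 𝒜 (P : Subgroup G) := by
      rw [Subgroup.commutator_le]
      intro k hk x hx
      have hkN := hPW (hKP hk)
      have : ⁅k, x⁆ = (k * x * k⁻¹) * x⁻¹ := by simp [commutatorElement_def]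
      rw [this]
      exact Subgroup.mul_mem _ ((Subgroup.mem_normalizer_iff.mp hkN _).mp (hzW hx))
        (Subgroup.inv_mem _ (hzW hx))
    rw [eq_bot_iff, ← II_commutator_eq_bot hA₀ hA₀P hA₀c]
    exact Subgroup.commutator_mono h3 hzW
  have hmem := hst (Cfsg.pCore p G) hKp z hquad
  have hCn : (Subgroup.centralizer (Cfsg.pCore p G : Set G)).Normal := Subgroup.normal_centralizer
  have hLp : IsPGroup p ↥((Cfsg.pCore p (G ⧸ Subgroup.centralizer (Cfsg.pCore p G : Set G))).comap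
      (QuotientGroup.mk' (Subgroup.centralizer (Cfsg.pCore p G : Set G)))) := by
    apply IsPGroup.comap_of_ker_isPGroup (pCore_isPGroup p)
    rw [QuotientGroup.ker_mk']
    exact hKp.to_le hc
  have hLn : ((Cfsg.pCore p (G ⧸ Subgroup.centralizer (Cfsg.pCore p G : Set G))).comap
      (QuotientGroup.mk' (Subgroup.centralizer (Cfsg.pCore p G : Set G)))).Normal :=
    (Cfsg.Agent.Lib.Helper16.ZJ.pCore_normal p).comap _
  exact le_pCore hLn hLp hmem

/-- **Axiomatic `ZJ`-theorem**: the intersection of the family is normal in `G`. -/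
theorem inf_normal [Finite G] {p : ℕ} [Fact p.Prime] (hp : p ≠ 2)
    (hc : Subgroup.centralizer (Cfsg.pCore p G : Set G) ≤ Cfsg.pCore p G)
    (hst : ∀ (V : Subgroup G) [V.Normal], IsPGroup p ↥V → Cfsg.IsPStableOn p V)
    (P : Sylow p G) (𝒜 : Set (Subgroup G))
    (h𝒜 : ∀ A ∈ 𝒜, A ≤ (P : Subgroup G) ∧ IsMulCommutative ↥A) (hne : 𝒜.Nonempty)
    (hinv : ∀ R : Subgroup G, R ≤ P → (∃ A ∈ 𝒜, A ≤ R) →
      ∀ g ∈ Subgroup.normalizer (R : Set G),
        ∀ x ∈ (⨅ A ∈ {A : Subgroup G | A ∈ 𝒜 ∧ A ≤ R}, A),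
          g * x * g⁻¹ ∈ (⨅ A ∈ {A : Subgroup G | A ∈ 𝒜 ∧ A ≤ R}, A))
    (hrep : ∀ B : Subgroup G, B ≤ P → ⁅⁅B, B⁆, B⁆ = ⊥ → (∃ A ∈ 𝒜, ⁅B, B⁆ ≤ A ∧ ¬ B ≤ A) →
      ∃ A ∈ 𝒜, ⁅B, B⁆ ≤ A ∧ ¬ B ≤ A ∧ B ≤ Subgroup.normalizer (A : Set G)) :
    (⨅ A ∈ 𝒜, A).Normal := by
  have _ := hp
  obtain ⟨A₀, hA₀⟩ := id hne
  have hA₀P := (h𝒜 A₀ hA₀).1
  have h1 := II_le_pCore hc hst P 𝒜 h𝒜 hne (hinv (P : Subgroup G) le_rfl ⟨A₀, hA₀, hA₀P⟩)
  have hKn := pCore_normal (G := G) p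
  have := claimA hst P 𝒜 h𝒜 hne hinv hrep (Nat.card ↥(Cfsg.pCore p G)) (Cfsg.pCore p G)
    (pCore_isPGroup p) le_rfl
  rw [inf_eq_left.mpr h1, II_eq_iInf (fun A hA => (h𝒜 A hA).1)] at this
  exact this

end Cfsg.Agent.Lib.Helper41.AxZJ
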