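import Mathlib

/-!
# Pack K-CD3 (S4460), leaf GRP `frobenius_structure` (parallel hand, helper41).
Pure group theory: a solvable non-abelian group `X` whose derived subgroup `V` lies in every
nontrivial normal subgroup, and which is not a `p`-group, is a Frobenius group `V ⋊ Q`.
-/

set_option autoImplicit false

namespace Cfsg.Agent.Lib.Helper41.CD3

universe u

section basic
variable {X : Type u} [Group X]

theorem gcomm_mem (a b : X) : a * b * a⁻¹ * b⁻¹ ∈ commutator X := by
  have h := Subgroup.commutator_mem_commutator (H₁ := (⊤ : Subgroup X)) (H₂ := (⊤ : Subgroup X))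
    (Subgroup.mem_top a) (Subgroup.mem_top b)
  rw [commutatorElement_def] at h
  exact h

theorem gV_ne_bot (hnab : ∃ a b : X, a * b ≠ b * a) : commutator X ≠ ⊥ := by
  obtain ⟨a, b, hab⟩ := hnab
  intro h
  apply hab
  have h1 := gcomm_mem a b
  rw [h, Subgroup.mem_bot] at h1
  calc a * b = (a * b * a⁻¹ * b⁻¹) * (b * a) := by group
    _ = b * a := by rw [h1, one_mul]

/-- the derived subgroup is abelian -/
theorem gV_comm (hsolv : Group.IsSolvable X)
    (hmin : ∀ L : Subgroup X, L.Normal → L ≠ ⊥ → commutator X ≤ L) :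
    ∀ a ∈ commutator X, ∀ b ∈ commutator X, a * b = b * a := by
  set V := commutator X with hV
  set W : Subgroup X := ⁅V, V⁆ with hW
  have hWn : W.Normal := by
    rw [hW]
    infer_instance
  have hWle : W ≤ V := Subgroup.commutator_le_left V V
  have hWbot : W = ⊥ := by
    by_contra hne
    have hVW : V ≤ W := hmin W hWn hne
    have hEq : W = V := le_antisymm hWle hVW
    -- derived series is constant from 1 on
    have hder : ∀ n : ℕ, derivedSeries X (n + 1) = V := by
      intro n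
      induction n with
      | zero => rfl
      | succ n ih =>
        rw [derivedSeries_succ, ih]
        exact hEq
    obtain ⟨n, hn⟩ := hsolv.solvable
    have h1 : derivedSeries X (n + 1) ≤ derivedSeries X n :=
      derivedSeries_antitone X (Nat.le_succ n)
    rw [hder n, hn, le_bot_iff] at h1
    rw [h1] at hEq
    exact hne hEq
  intro a ha b hb
  have h1 := Subgroup.commutator_mem_commutator (H₁ := V) (H₂ := V) ha hb
  rw [← hW, hWbot, Subgroup.mem_bot, commutatorElement_def] at h1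
  calc a * b = (a * b * a⁻¹ * b⁻¹) * (b * a) := by group
    _ = b * a := by rw [h1, one_mul]

/-- conjugates: `g⁻¹ x g = x w` with `w ∈ V` -/
theorem gconj_eq (x g : X) : ∃ w ∈ commutator X, g⁻¹ * x * g = x * w := by
  refine ⟨x⁻¹ * g⁻¹ * x * g, ?_, by group⟩
  have := gcomm_mem x⁻¹ g⁻¹
  simpa using this

/-- the fixed points of `x` on `V` form a normal subgroup of `X` -/
def fixSub (hc : ∀ a ∈ commutator X, ∀ b ∈ commutator X, a * b = b * a) (x : X) : Subgroup X where
  carrier := {v | v ∈ commutator X ∧ x * v = v * x}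
  one_mem' := ⟨Subgroup.one_mem _, by simp⟩
  mul_mem' := by
    rintro a b ⟨ha, hax⟩ ⟨hb, hbx⟩
    refine ⟨Subgroup.mul_mem _ ha hb, ?_⟩
    calc x * (a * b) = (x * a) * b := by group
      _ = a * (x * b) := by rw [hax]; group
      _ = a * b * x := by rw [hbx]; group
  inv_mem' := by
    rintro a ⟨ha, hax⟩
    refine ⟨Subgroup.inv_mem _ ha, ?_⟩
    calc x * a⁻¹ = a⁻¹ * (a * x) * a⁻¹ := by group
      _ = a⁻¹ * (x * a) * a⁻¹ := by rw [hax]
      _ = a⁻¹ * x := by group

theorem fixSub_normal (hc : ∀ a ∈ commutator X, ∀ b ∈ commutator X, a * b = b * a) (x : X) :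
    (fixSub hc x).Normal := by
  constructor
  intro v hv g
  obtain ⟨hvV, hvx⟩ := hv
  have hVn : (commutator X).Normal := inferInstance
  refine ⟨hVn.conj_mem v hvV g, ?_⟩
  obtain ⟨w, hw, hgw⟩ := gconj_eq x g
  have hwv : w * v = v * w := hc w hw v hvV
  calc x * (g * v * g⁻¹) = g * (g⁻¹ * x * g) * v * g⁻¹ := by group
    _ = g * (x * w) * v * g⁻¹ := by rw [hgw]
    _ = g * x * (w * v) * g⁻¹ := by group
    _ = g * x * (v * w) * g⁻¹ := by rw [hwv]
    _ = g * (x * v) * w * g⁻¹ := by group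
    _ = g * (v * x) * w * g⁻¹ := by rw [hvx]
    _ = g * v * (x * w) * g⁻¹ := by group
    _ = g * v * (g⁻¹ * x * g) * g⁻¹ := by rw [hgw]
    _ = g * v * g⁻¹ * x := by group

/-- dichotomy: every element centralizes `V` or acts fixed-point-freely on it -/
theorem gdichotomy (hc : ∀ a ∈ commutator X, ∀ b ∈ commutator X, a * b = b * a)
    (hmin : ∀ L : Subgroup X, L.Normal → L ≠ ⊥ → commutator X ≤ L) (x : X) :
    (∀ v ∈ commutator X, x * v = v * x) ∨ (∀ v ∈ commutator X, x * v = v * x → v = 1) := by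
  by_cases h : fixSub hc x = ⊥
  · right
    intro v hv hxv
    have : v ∈ fixSub hc x := ⟨hv, hxv⟩
    rw [h, Subgroup.mem_bot] at this
    exact this
  · left
    intro v hv
    have := hmin _ (fixSub_normal hc x) h hv
    exact this.2

end basic

section finite
variable {X : Type u} [Group X] [Finite X]

/-- the centre is trivial -/
theorem gcenter_eq_bot (hnab : ∃ a b : X, a * b ≠ b * a)
    (hmin : ∀ L : Subgroup X, L.Normal → L ≠ ⊥ → commutator X ≤ L)
    (hnp : ∀ p : ℕ, p.Prime → ¬ IsPGroup p X) : Subgroup.center X = ⊥ := by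
  by_contra hne
  have hVZ : commutator X ≤ Subgroup.center X := hmin _ inferInstance hne
  have hVne := gV_ne_bot hnab
  -- nilpotent of class ≤ 2
  have hnil : Group.IsNilpotent X := by
    refine ⟨⟨2, ?_⟩⟩
    rw [eq_top_iff]
    intro x _
    rw [Subgroup.mem_upperCentralSeries_succ_iff]
    intro y
    rw [Subgroup.upperCentralSeries_one]
    apply hVZ
    rw [commutatorElement_def]
    exact gcomm_mem x y
  have hsyl := ((Group.isNilpotent_of_finite_tfae (G := X)).out 0 3).mp hnil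
  -- a prime dividing the order
  have hcard : Nat.card X ≠ 1 := by
    intro h1
    have : Subsingleton X := (Nat.card_eq_one_iff_unique.mp h1).1
    obtain ⟨a, b, hab⟩ := hnab
    exact hab (Subsingleton.elim _ _)
  obtain ⟨p, hp, hpd⟩ := Nat.exists_prime_and_dvd hcard
  apply hnp p hp
  have : Fact p.Prime := ⟨hp⟩
  have huniq : ∀ {s : ℕ}, s.Prime → s ∣ Nat.card X → s = p := by
    intro s hs hsd
    by_contra hsp
    have : Fact s.Prime := ⟨hs⟩
    obtain ⟨P⟩ : Nonempty (Sylow p X) := inferInstance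
    obtain ⟨S⟩ : Nonempty (Sylow s X) := inferInstance
    have hPn : (P : Subgroup X).Normal := hsyl p inferInstance P
    have hSn : (S : Subgroup X).Normal := hsyl s inferInstance S
    have hP : commutator X ≤ P := hmin _ hPn (P.ne_bot_of_dvd_card hpd)
    have hS : commutator X ≤ S := hmin _ hSn (S.ne_bot_of_dvd_card hsd)
    have hdisj := IsPGroup.disjoint_of_ne p s (fun h => hsp h.symm) (P : Subgroup X) (S : Subgroup X)
      P.isPGroup' S.isPGroup'
    apply hVne
    rw [eq_bot_iff]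
    exact hdisj hP hS
  have hpow := Nat.eq_prime_pow_of_unique_prime_dvd (Nat.card_pos.ne') (fun {d} hd hdd => huniq hd hdd)
  exact IsPGroup.of_card hpow

/-- the elements of `V` of order dividing `r` -/
def omegaSub (hc : ∀ a ∈ commutator X, ∀ b ∈ commutator X, a * b = b * a) (r : ℕ) : Subgroup X where
  carrier := {v | v ∈ commutator X ∧ v ^ r = 1}
  one_mem' := ⟨Subgroup.one_mem _, one_pow r⟩
  mul_mem' := by
    rintro a b ⟨ha, har⟩ ⟨hb, hbr⟩
    refine ⟨Subgroup.mul_mem _ ha hb, ?_⟩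
    have hcomm : Commute a b := hc a ha b hb
    rw [hcomm.mul_pow, har, hbr, one_mul]
  inv_mem' := by
    rintro a ⟨ha, har⟩
    exact ⟨Subgroup.inv_mem _ ha, by rw [inv_pow, har, inv_one]⟩

theorem omegaSub_normal (hc : ∀ a ∈ commutator X, ∀ b ∈ commutator X, a * b = b * a) (r : ℕ) :
    (omegaSub hc r).Normal := by
  constructor
  rintro v ⟨hv, hvr⟩ g
  have hVn : (commutator X).Normal := inferInstance
  exact ⟨hVn.conj_mem v hv g, by rw [conj_pow, hvr, mul_one, mul_inv_cancel]⟩

/-- `V` has prime exponent -/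
theorem gexists_prime_exp (hc : ∀ a ∈ commutator X, ∀ b ∈ commutator X, a * b = b * a)
    (hmin : ∀ L : Subgroup X, L.Normal → L ≠ ⊥ → commutator X ≤ L)
    (hVne : commutator X ≠ ⊥) :
    ∃ r : ℕ, r.Prime ∧ ∀ v ∈ commutator X, v ^ r = 1 := by
  have hcard : Nat.card ↥(commutator X) ≠ 1 := by
    intro h
    exact hVne (Subgroup.card_eq_one.mp h)
  obtain ⟨r, hr, hrd⟩ := Nat.exists_prime_and_dvd hcard
  refine ⟨r, hr, ?_⟩
  have : Fact r.Prime := ⟨hr⟩
  obtain ⟨x, hx⟩ := exists_prime_orderOf_dvd_card' (G := ↥(commutator X)) r hrd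
  have hx1 : x ≠ 1 := by
    intro h
    rw [h, orderOf_one] at hx
    exact hr.one_lt.ne hx
  have hxr : x ^ r = 1 := by
    rw [← hx]
    exact pow_orderOf_eq_one x
  have hmem : (x : X) ∈ omegaSub hc r := by
    refine ⟨x.2, ?_⟩
    have := congrArg Subtype.val hxr
    simpa using this
  have hne : omegaSub hc r ≠ ⊥ := by
    intro h
    rw [h, Subgroup.mem_bot] at hmem
    apply hx1
    exact Subtype.ext hmem
  intro v hv
  exact (hmin _ (omegaSub_normal hc r) hne hv).2

/-- the centralizer of `V` is `V` -/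
theorem gcent_mem (hc : ∀ a ∈ commutator X, ∀ b ∈ commutator X, a * b = b * a)
    (hmin : ∀ L : Subgroup X, L.Normal → L ≠ ⊥ → commutator X ≤ L)
    (hZ : Subgroup.center X = ⊥) (hVne : commutator X ≠ ⊥)
    (c : X) (hcV : ∀ v ∈ commutator X, c * v = v * c) : c ∈ commutator X := by
  -- some element does not centralize `V`
  have hy0 : ∃ y0 : X, ¬ ∀ v ∈ commutator X, y0 * v = v * y0 := by
    by_contra hno
    push Not at hno
    apply hVne
    rw [eq_bot_iff, ← hZ]
    intro v hv
    rw [Subgroup.mem_center_iff]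
    intro g
    exact hno g v hv
  obtain ⟨y0, hy0⟩ := hy0
  have hfpf : ∀ v ∈ commutator X, y0 * v = v * y0 → v = 1 := by
    rcases gdichotomy hc hmin y0 with h | h
    · exact absurd h hy0
    · exact h
  -- the map `v ↦ [v, y0]` is a bijection of `V`
  let β : ↥(commutator X) → ↥(commutator X) :=
    fun v => ⟨(v : X) * y0 * (v : X)⁻¹ * y0⁻¹, gcomm_mem (v : X) y0⟩
  have hβinj : Function.Injective β := by
    intro v w hvw
    have h1 : (v : X) * y0 * (v : X)⁻¹ * y0⁻¹ = (w : X) * y0 * (w : X)⁻¹ * y0⁻¹ :=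
      congrArg Subtype.val hvw
    have h2 : y0 * ((v : X)⁻¹ * (w : X)) = ((v : X)⁻¹ * (w : X)) * y0 := by
      have h3 : (v : X) * y0 * (v : X)⁻¹ = (w : X) * y0 * (w : X)⁻¹ := mul_right_cancel h1
      calc y0 * ((v : X)⁻¹ * (w : X)) = (v : X)⁻¹ * ((v : X) * y0 * (v : X)⁻¹) * (w : X) := by group
        _ = (v : X)⁻¹ * ((w : X) * y0 * (w : X)⁻¹) * (w : X) := by rw [h3]
        _ = ((v : X)⁻¹ * (w : X)) * y0 := by group
    have h4 := hfpf _ (Subgroup.mul_mem _ (Subgroup.inv_mem _ v.2) w.2) h2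
    apply Subtype.ext
    exact (inv_mul_eq_one.mp h4)
  have hβsurj : Function.Surjective β := Finite.injective_iff_surjective.mp hβinj
  set e : X := c * y0 * c⁻¹ * y0⁻¹ with he
  have heV : e ∈ commutator X := gcomm_mem c y0
  obtain ⟨v0, hv0⟩ := hβsurj ⟨e⁻¹, Subgroup.inv_mem _ heV⟩
  have hv0' : (v0 : X) * y0 * (v0 : X)⁻¹ * y0⁻¹ = e⁻¹ := congrArg Subtype.val hv0
  set a : X := c * (v0 : X) with ha
  -- `a` commutes with `y0`
  have h1 : (v0 : X) * y0 = e⁻¹ * y0 * (v0 : X) := by
    rw [← hv0']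
    group
  have h2 : c * e⁻¹ = e⁻¹ * c := hcV _ (Subgroup.inv_mem _ heV)
  have h3 : e⁻¹ * c * y0 = y0 * c := by
    rw [he]
    group
  have hay : a * y0 = y0 * a := by
    calc a * y0 = c * ((v0 : X) * y0) := by rw [ha]; group
      _ = c * (e⁻¹ * y0 * (v0 : X)) := by rw [h1]
      _ = (c * e⁻¹) * y0 * (v0 : X) := by group
      _ = (e⁻¹ * c) * y0 * (v0 : X) := by rw [h2]
      _ = (e⁻¹ * c * y0) * (v0 : X) := by group
      _ = (y0 * c) * (v0 : X) := by rw [h3]
      _ = y0 * a := by rw [ha]; group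
  -- `a` centralizes `V`
  have haV : ∀ v ∈ commutator X, a * v = v * a := by
    intro v hv
    have h5 : (v0 : X) * v = v * (v0 : X) := hc _ v0.2 v hv
    calc a * v = c * ((v0 : X) * v) := by rw [ha]; group
      _ = c * (v * (v0 : X)) := by rw [h5]
      _ = (c * v) * (v0 : X) := by group
      _ = (v * c) * (v0 : X) := by rw [hcV v hv]
      _ = v * a := by rw [ha]; group
  -- `a` is central
  have hacen : a ∈ Subgroup.center X := by
    rw [Subgroup.mem_center_iff]
    intro x
    set w : X := y0⁻¹ * x⁻¹ * y0 * x with hw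
    have hwV : w ∈ commutator X := by
      have := gcomm_mem y0⁻¹ x⁻¹
      simpa [hw] using this
    have hx : y0 * x = x * y0 * w := by
      rw [hw]
      group
    have hw2 : y0 * w * x⁻¹ = x⁻¹ * y0 := by
      rw [hw]
      group
    have hCy : Commute a y0 := hay
    have hCw : Commute a w := haV w hwV
    have h_aiy : a⁻¹ * y0 = y0 * a⁻¹ := hCy.inv_left.eq
    have h_aiw : a⁻¹ * w = w * a⁻¹ := hCw.inv_left.eq
    have hd : y0 * (a * x * a⁻¹ * x⁻¹) = (a * x * a⁻¹ * x⁻¹) * y0 := by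
      calc y0 * (a * x * a⁻¹ * x⁻¹)
          = (y0 * a) * x * a⁻¹ * x⁻¹ := by group
        _ = (a * y0) * x * a⁻¹ * x⁻¹ := by rw [hay]
        _ = a * (y0 * x) * a⁻¹ * x⁻¹ := by group
        _ = a * (x * y0 * w) * a⁻¹ * x⁻¹ := by rw [hx]
        _ = a * x * y0 * (w * a⁻¹) * x⁻¹ := by group
        _ = a * x * y0 * (a⁻¹ * w) * x⁻¹ := by rw [h_aiw]
        _ = a * x * (y0 * a⁻¹) * w * x⁻¹ := by group
        _ = a * x * (a⁻¹ * y0) * w * x⁻¹ := by rw [h_aiy]
        _ = a * x * a⁻¹ * (y0 * w * x⁻¹) := by group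
        _ = a * x * a⁻¹ * (x⁻¹ * y0) := by rw [hw2]
        _ = (a * x * a⁻¹ * x⁻¹) * y0 := by group
    have hd1 := hfpf _ (gcomm_mem a x) hd
    calc x * a = (a * x * a⁻¹ * x⁻¹)⁻¹ * (a * x) := by group
      _ = a * x := by rw [hd1, inv_one, one_mul]
  rw [hZ, Subgroup.mem_bot] at hacen
  have hcv : c = (v0 : X)⁻¹ := by
    rw [ha] at hacen
    exact eq_inv_of_mul_eq_one_left hacen
  rw [hcv]
  exact Subgroup.inv_mem _ v0.2

/-- `r` does not divide the index of `V` -/
theorem gnot_dvd_index {r a : ℕ} (hr : r.Prime)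
    (hc : ∀ a ∈ commutator X, ∀ b ∈ commutator X, a * b = b * a)
    (hcard : Nat.card ↥(commutator X) = r ^ a) (ha : 0 < a)
    (hfpf : ∀ g : X, g ∉ commutator X → ∀ v ∈ commutator X, g * v = v * g → v = 1) :
    ¬ r ∣ (commutator X).index := by
  classical
  intro hdvd
  have : Fact r.Prime := ⟨hr⟩
  rw [Subgroup.index_eq_card] at hdvd
  obtain ⟨gbar, hgbar⟩ := exists_prime_orderOf_dvd_card' (G := X ⧸ commutator X) r hdvd
  obtain ⟨g, rfl⟩ := QuotientGroup.mk_surjective gbar
  have hgV : g ∉ commutator X := by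
    intro h
    have h1 : (g : X ⧸ commutator X) = 1 := (QuotientGroup.eq_one_iff g).mpr h
    rw [h1, orderOf_one] at hgbar
    exact hr.one_lt.ne hgbar
  have hgr : g ^ r ∈ commutator X := by
    have h1 : (g : X ⧸ commutator X) ^ r = 1 := by
      rw [← hgbar]
      exact pow_orderOf_eq_one _
    rw [← QuotientGroup.mk_pow] at h1
    exact (QuotientGroup.eq_one_iff _).mp h1
  have hVn : (commutator X).Normal := inferInstance
  let f : Function.End ↥(commutator X) := fun v => ⟨g * (v : X) * g⁻¹, hVn.conj_mem v v.2 g⟩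
  have hfk : ∀ (k : ℕ) (v : ↥(commutator X)), (((f ^ k) v : ↥(commutator X)) : X)
      = g ^ k * (v : X) * (g ^ k)⁻¹ := by
    intro k
    induction k with
    | zero =>
      intro v
      rw [pow_zero, pow_zero]
      show (v : X) = 1 * (v : X) * 1⁻¹
      group
    | succ k ih =>
      intro v
      have h : (f ^ (k + 1)) v = f ((f ^ k) v) := by
        rw [pow_succ']
        rfl
      rw [h]
      show g * (((f ^ k) v : ↥(commutator X)) : X) * g⁻¹ = _
      rw [ih v, pow_succ']
      group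
  have hfr : f ^ r ^ 1 = 1 := by
    rw [pow_one]
    funext v
    apply Subtype.ext
    rw [hfk r v]
    have h1 : g ^ r * (v : X) = (v : X) * g ^ r := hc _ hgr _ v.2
    show g ^ r * (v : X) * (g ^ r)⁻¹ = (v : X)
    rw [h1]
    group
  letI : Fintype ↥(commutator X) := Fintype.ofFinite _
  have hmod := Equiv.Perm.card_fixedPoints_modEq (f := f) (p := r) (n := 1) hfr
  have hfix : Fintype.card (Function.fixedPoints f) = 1 := by
    rw [Fintype.card_eq_one_iff]
    refine ⟨⟨1, ?_⟩, ?_⟩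
    · apply Subtype.ext
      simp [f]
    · rintro ⟨y, hy⟩
      apply Subtype.ext
      have h1 : g * (y : X) * g⁻¹ = (y : X) := congrArg Subtype.val hy
      have h2 : g * (y : X) = (y : X) * g := by
        calc g * (y : X) = (g * (y : X) * g⁻¹) * g := by group
          _ = (y : X) * g := by rw [h1]
      have h3 := hfpf g hgV _ y.2 h2
      apply Subtype.ext
      exact h3
  rw [hfix, ← Nat.card_eq_fintype_card, hcard] at hmod
  have h0 : r ^ a % r = 0 := Nat.mod_eq_zero_of_dvd (dvd_pow_self r ha.ne')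
  have h1 : 1 % r = 1 := Nat.mod_eq_of_lt hr.one_lt
  unfold Nat.ModEq at hmod
  rw [h0, h1] at hmod
  exact zero_ne_one hmod

/-- 446025 K-CD3-GRP: GROUP LEMMA (Isaacs 12.3(b), pure group theory, Mathlib only). -/
theorem frobenius_structure {X : Type u} [Group X] [Finite X] (hsolv : Group.IsSolvable X)
    (hnab : ∃ a b : X, a * b ≠ b * a)
    (hmin : ∀ L : Subgroup X, L.Normal → L ≠ ⊥ → commutator X ≤ L)
    (hnp : ∀ p : ℕ, p.Prime → ¬ IsPGroup p X) :
    ∃ (r : ℕ) (Q : Subgroup X), r.Prime ∧ IsPGroup r (commutator X) ∧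
      (∀ a ∈ commutator X, ∀ b ∈ commutator X, a * b = b * a) ∧
      (∀ a ∈ Q, ∀ b ∈ Q, a * b = b * a) ∧
      commutator X ⊓ Q = ⊥ ∧ commutator X ⊔ Q = ⊤ ∧ (Nat.card Q).Coprime r ∧
      (∀ q ∈ Q, q ≠ 1 → ∀ v ∈ commutator X, q * v = v * q → v = 1) ∧
      (∀ g : X, g ∉ commutator X → ∀ v ∈ commutator X, g * v = v * g → v = 1) ∧
      (commutator X).index = Nat.card Q ∧ 1 < Nat.card Q ∧
      ∃ a : ℕ, 0 < a ∧ Nat.card (commutator X) = r ^ a := by
  have hVne := gV_ne_bot hnab
  have hc := gV_comm hsolv hmin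
  have hZ := gcenter_eq_bot hnab hmin hnp
  obtain ⟨r, hr, hexp⟩ := gexists_prime_exp hc hmin hVne
  have : Fact r.Prime := ⟨hr⟩
  have hVp : IsPGroup r ↥(commutator X) := by
    intro v
    refine ⟨1, ?_⟩
    rw [pow_one]
    apply Subtype.ext
    have := hexp v v.2
    simpa using this
  obtain ⟨a, hcard⟩ := IsPGroup.iff_card.mp hVp
  have ha : 0 < a := by
    rcases Nat.eq_zero_or_pos a with h | h
    · exfalso
      rw [h, pow_zero] at hcard
      exact hVne (Subgroup.card_eq_one.mp hcard)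
    · exact h
  have hfpf : ∀ g : X, g ∉ commutator X → ∀ v ∈ commutator X, g * v = v * g → v = 1 := by
    intro g hg
    rcases gdichotomy hc hmin g with h | h
    · exact absurd (gcent_mem hc hmin hZ hVne g h) hg
    · exact h
  have hnd := gnot_dvd_index hr hc hcard ha hfpf
  have hcop : (Nat.card ↥(commutator X)).Coprime (commutator X).index := by
    rw [hcard]
    exact Nat.Coprime.pow_left a ((Nat.Prime.coprime_iff_not_dvd hr).mpr hnd)
  obtain ⟨Q, hQ⟩ := Subgroup.exists_right_complement'_of_coprime hcop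
  have hinf : commutator X ⊓ Q = ⊥ := disjoint_iff.mp hQ.disjoint
  have hsup : commutator X ⊔ Q = ⊤ := hQ.sup_eq_top
  have hidx : (commutator X).index = Nat.card Q := hQ.symm.index_eq_card
  have hQc : ∀ x ∈ Q, ∀ y ∈ Q, x * y = y * x := by
    intro x hx y hy
    have h1 : x * y * x⁻¹ * y⁻¹ ∈ commutator X ⊓ Q :=
      ⟨gcomm_mem x y, Q.mul_mem (Q.mul_mem (Q.mul_mem hx hy) (Q.inv_mem hx)) (Q.inv_mem hy)⟩
    rw [hinf, Subgroup.mem_bot] at h1
    calc x * y = (x * y * x⁻¹ * y⁻¹) * (y * x) := by group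
      _ = y * x := by rw [h1, one_mul]
  have hQfpf : ∀ q ∈ Q, q ≠ 1 → ∀ v ∈ commutator X, q * v = v * q → v = 1 := by
    intro q hq hq1
    apply hfpf
    intro hqV
    have : q ∈ commutator X ⊓ Q := ⟨hqV, hq⟩
    rw [hinf, Subgroup.mem_bot] at this
    exact hq1 this
  have hQcop : (Nat.card Q).Coprime r := by
    rw [← hidx]
    exact ((Nat.Prime.coprime_iff_not_dvd hr).mpr hnd).symm
  have hQ1 : 1 < Nat.card Q := by
    rw [← hidx]
    have h0 : (commutator X).index ≠ 0 := Subgroup.index_ne_zero_of_finite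
    have h1 : (commutator X).index ≠ 1 := by
      intro h
      rw [Subgroup.index_eq_one] at h
      apply hnp r hr
      intro x
      have hx : x ∈ commutator X := by rw [h]; exact Subgroup.mem_top x
      exact ⟨1, by rw [pow_one]; exact hexp x hx⟩
    omega
  exact ⟨r, Q, hr, hVp, hc, hQc, hinf, hsup, hQcop, hQfpf, hfpf, hidx, hQ1, a, ha, hcard⟩

end finite

end Cfsg.Agent.Lib.Helper41.CD3
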