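import Mathlib
import Cfsg.Prelude.Def_Characters
import Cfsg.Prelude.Def_Blocks
import Cfsg.Agent.Lib.Helper84.SigmaExt
import Cfsg.Agent.Lib.Helper83.FullyRamified
import Cfsg.Agent.Lib.Helper80.DetCanon

/-!
# K-S4140-E (helper41): fully ramified invariant characters force `s ∣ |M : M'|`
-/

set_option autoImplicit false

namespace Cfsg.Agent.Lib.Helper41.Camina

open Cfsg
open scoped ComplexConjugate

universe u

/-- The order of a linear character `M →* ℂˣ` divides the order of the abelianization. -/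
theorem orderOf_hom_dvd_card_abelianization {M : Type u} [Group M] [Finite M] (μ : M →* ℂˣ) :
    orderOf μ ∣ Nat.card (Abelianization M) := by
  apply orderOf_dvd_of_pow_eq_one
  ext m
  have h1 : μ m = Abelianization.lift μ (Abelianization.of m) := by
    simp
  have h2 : (Abelianization.of m : Abelianization M) ^ Nat.card (Abelianization M) = 1 :=
    pow_card_eq_one'
  have h3 : (μ ^ Nat.card (Abelianization M)) m = (μ m) ^ Nat.card (Abelianization M) := rfl
  rw [h3, h1, ← map_pow, h2, map_one]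
  rfl

/-- The core of K-S4140-E, with the output of K-S4140-D as a hypothesis. -/
theorem dvd_card_abelianization_of_ramified_aux {A : Type u} [Group A] [Finite A] (M : Subgroup A)
    [hM : M.Normal] (s : ℕ) [hsp : Fact s.Prime] (k : ℕ) (hk : k ≠ 0) (hidx : M.index = s ^ k)
    (hD : ∃ θ : M → ℂ, IsIrrCharacter M θ ∧ (θ ≠ fun _ => 1) ∧
      (∀ a : A, Cfsg.Agent.Lib.Helper84.conjFun M a θ = θ) ∧ ¬ (s ∣ charDegree θ))
    (hR : ∀ θ : M → ℂ, IsIrrCharacter M θ → (θ ≠ fun _ => 1) →
      (∀ a : A, Cfsg.Agent.Lib.Helper84.conjFun M a θ = θ) →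
      ∃ (η : A → ℂ) (f : ℕ), IsIrrCharacter A η ∧ f ^ 2 = M.index ∧
        ∀ m : M, η (m : A) = (f : ℂ) * θ m) :
    s ∣ Nat.card (Abelianization M) := by
  classical
  by_contra hnd
  obtain ⟨θ, hθ, hθ1, hθinv, hdeg⟩ := hD
  have hθc := Cfsg.Agent.Lib.Helper83.isCharacter_of_irr hθ
  -- coprimality
  have hord : ¬ s ∣ detOrder θ := by
    intro h
    apply hnd
    rw [Cfsg.Agent.Lib.Helper80.detOrder_eq] at h
    exact h.trans (orderOf_hom_dvd_card_abelianization _)
  have hcop : Nat.Coprime M.index (detOrder θ * charDegree θ) := by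
    rw [hidx]
    apply Nat.Coprime.pow_left
    rw [Nat.Prime.coprime_iff_not_dvd hsp.out]
    intro h
    rcases (Nat.Prime.dvd_mul hsp.out).1 h with h | h
    · exact hord h
    · exact hdeg h
  have hd : θ 1 = (charDegree θ : ℂ) := (Cfsg.Agent.Lib.Helper83.charDegree_cast hθc).symm
  have hinv' : ∀ (g : A) (n : M), θ ⟨g * n * g⁻¹, hM.conj_mem (n : A) n.2 g⟩ = θ n := by
    intro g n
    exact congrFun (hθinv g) n
  obtain ⟨χ, ⟨hχ, hχres, -⟩, -⟩ :=
    Cfsg.Agent.Lib.Helper80.exists_canonical_ext M θ hθ hinv' (charDegree θ) hd hcop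
  obtain ⟨η, f, hη, hf, hηres⟩ := hR θ hθ hθ1 hθinv
  haveI : Fintype A := Fintype.ofFinite A
  haveI : Fintype M := Fintype.ofFinite M
  -- η vanishes off M
  have hvan : ∀ g : A, g ∉ M → η g = 0 := by
    intro g hg
    exact Cfsg.Agent.Lib.Helper83.fr_vanish M ⟨η, hη⟩ ⟨θ, hθ⟩ f hf hηres g hg
  -- f ≥ 2
  have hf2 : 2 ≤ f := by
    by_contra hlt
    have hf1 : f ≤ 1 := by omega
    have h1 : f ^ 2 ≤ 1 := by
      calc f ^ 2 ≤ 1 ^ 2 := Nat.pow_le_pow_left hf1 2
        _ = 1 := by norm_num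
    have h2 : 2 ≤ s ^ k := by
      calc 2 ≤ s := hsp.out.two_le
        _ = s ^ 1 := (pow_one s).symm
        _ ≤ s ^ k := Nat.pow_le_pow_right hsp.out.pos (Nat.one_le_iff_ne_zero.2 hk)
    rw [hf, hidx] at h1
    omega
  -- compute the inner product
  have hsum : ∑ g : A, η g * conj (χ g) = (f : ℂ) * (Nat.card M : ℂ) := by
    have h1 : ∑ g : A, η g * conj (χ g) = ∑ g : A, if g ∈ M then η g * conj (χ g) else 0 := by
      apply Finset.sum_congr rfl
      intro g _
      by_cases hg : g ∈ M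
      · rw [if_pos hg]
      · rw [if_neg hg, hvan g hg, zero_mul]
    rw [h1, ← Cfsg.Agent.Lib.Helper83.sum_subgroup_eq_sum_ite' M (fun g => η g * conj (χ g))]
    have h2 : ∀ m : M, η (m : A) * conj (χ (m : A))
        = (f : ℂ) * ((Complex.normSq (θ m) : ℝ) : ℂ) := by
      intro m
      rw [hηres m, hχres m, mul_assoc, Complex.mul_conj]
    simp only [h2]
    rw [← Finset.mul_sum, ← Complex.ofReal_sum]
    have h3 := Cfsg.Agent.Lib.Helper83.irr_sum_normSq (⟨θ, hθ⟩ : IrrCharacter M)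
    simp only at h3
    rw [h3]
    simp
  have hinner : classInner η χ = (Nat.card A : ℂ)⁻¹ * ((f : ℂ) * (Nat.card M : ℂ)) := by
    unfold classInner
    rw [hsum]
  have hcard : (Nat.card A : ℂ) = (Nat.card M : ℂ) * (f : ℂ) ^ 2 := by
    have := Subgroup.card_mul_index M
    rw [← hf] at this
    exact_mod_cast this.symm
  have hM0 : (Nat.card M : ℂ) ≠ 0 := by
    exact_mod_cast (Nat.card_pos (α := M)).ne'
  have hf0 : (f : ℂ) ≠ 0 := by
    have : f ≠ 0 := by omega
    exact_mod_cast this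
  have hval : classInner η χ = (f : ℂ)⁻¹ := by
    rw [hinner, hcard]
    field_simp
  have hirr := Cfsg.Agent.Lib.Helper84.classInner_irr_irr hη hχ
  rw [hval] at hirr
  split_ifs at hirr with h
  · -- 1/f = 1
    have : (f : ℂ) = 1 := by
      have := congrArg (fun z => z * (f : ℂ)) hirr
      simp only [inv_mul_cancel₀ hf0, one_mul] at this
      exact this.symm
    have : f = 1 := by exact_mod_cast this
    omega
  · exact inv_ne_zero hf0 hirr

end Cfsg.Agent.Lib.Helper41.Camina
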