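import Mathlib
import Cfsg.Prelude.Def_Characters
import Cfsg.Prelude.Def_Blocks
import Cfsg.Agent.Lib.Helper84.SigmaExt
import Cfsg.Agent.Lib.Helper83.FullyRamified
import Cfsg.Agent.Lib.Helper80.DetCanon
import Cfsg.Agent.Lib.Helper96.CaminaD
import Cfsg.Agent.Lib.Helper41.CaminaEaux

/-!
# K-S4140-E (helper41): exact-signature keystone, combining `CaminaEaux` with K-S4140-D (helper96)
-/

set_option autoImplicit false

namespace Cfsg.Agent.Lib.Helper41.Camina

open Cfsg

universe u

/-- **K-S4140-E.** If `A/M` is a nontrivial `s`-group, `s ∣ |M|`, and every nontrivial `A`-invariant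
irreducible character of `M` is fully ramified in `A`, then `s ∣ |M : M'|`. -/
theorem dvd_card_abelianization_of_ramified {A : Type u} [Group A] [Finite A] (M : Subgroup A)
    [hM : M.Normal] (s : ℕ) [Fact s.Prime] (k : ℕ) (hk : k ≠ 0) (hidx : M.index = s ^ k)
    (hs : s ∣ Nat.card M)
    (hR : ∀ θ : M → ℂ, IsIrrCharacter M θ → (θ ≠ fun _ => 1) →
      (∀ a : A, Cfsg.Agent.Lib.Helper84.conjFun M a θ = θ) →
      ∃ (η : A → ℂ) (f : ℕ), IsIrrCharacter A η ∧ f ^ 2 = M.index ∧
        ∀ m : M, η (m : A) = (f : ℂ) * θ m) :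
    s ∣ Nat.card (Abelianization M) :=
  dvd_card_abelianization_of_ramified_aux M s k hk hidx
    (Cfsg.Agent.Lib.Helper96.Camina.exists_invariant_irr_not_dvd M s k hidx hs) hR

end Cfsg.Agent.Lib.Helper41.Camina
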