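import Cfsg.Agent.Lib.Helper41.FamilyCtl
import Cfsg.Prelude.Def_SylowChains

set_option autoImplicit false

namespace Cfsg.Agent.Lib.Helper41

open Cfsg

variable {G : Type*} [Group G] {p : ℕ}

/-- along a chain starting at a set `A` with a nonidentity element, all the conjugating elements lie
in any subgroup `M` containing the normalizers of the nontrivial members of the family -/
theorem chain_prod_mem_of_ne_one {𝓕 : Set (Subgroup G)} {M : Subgroup G}
    (hM : ∀ D ∈ 𝓕, D ≠ ⊥ → Subgroup.normalizer (D : Set G) ≤ M) :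
    ∀ {L : List (Subgroup G × G)} {A : Set G}, (∃ a ∈ A, a ≠ 1) → Chain 𝓕 A L →
      (L.map Prod.snd).prod ∈ M := by
  intro L
  induction L with
  | nil => intro A _ _; simp
  | cons b L ih =>
    obtain ⟨T, x⟩ := b
    rintro A ⟨a, haA, ha1⟩ ⟨h1, h2, h3, h4⟩
    have hTne : T ≠ ⊥ := by
      intro hT
      apply ha1
      have := h3 haA
      rw [hT] at this
      simpa using this
    have hx : x ∈ M := hM T h1 hTne h2
    have hne : ∃ b ∈ rconj x A, b ≠ 1 := by
      refine ⟨x⁻¹ * a * x, ⟨a, haA, rfl⟩, ?_⟩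
      intro h
      apply ha1
      have : a = x * (x⁻¹ * a * x) * x⁻¹ := by group
      rw [this, h]; group
    have := ih hne h4
    simp only [List.map_cons, List.prod_cons]
    exact M.mul_mem hx this

section main

variable [Finite G] [Fact p.Prime]

/-- if `S ∩ xSx⁻¹ ≠ 1` then `x` lies in the subgroup generated by the normalizers of the nontrivial
subgroups of `S` -/
theorem mem_of_inf_lc_ne_bot (S : Sylow p G) (M : Subgroup G)
    (hM : ∀ D : Subgroup G, D ≤ (S : Subgroup G) → D ≠ ⊥ → Subgroup.normalizer (D : Set G) ≤ M)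
    {x : G} (hx : (S : Subgroup G) ⊓ lc x (S : Subgroup G) ≠ ⊥) : x ∈ M := by
  set T := (S : Subgroup G) ⊓ lc x (S : Subgroup G) with hT
  have h1 : lc x⁻¹ T ≤ (S : Subgroup G) := by
    rw [lc_le_iff, inv_inv]; exact inf_le_right
  obtain ⟨L, hL, hprod⟩ := fn_reach S T inf_le_left x h1
  rw [← hprod]
  refine chain_prod_mem_of_ne_one (𝓕 := fnFamily p S) (fun D hD hne => hM D hD.1 hne) ?_ hL
  obtain ⟨a, ha1⟩ := (Subgroup.ne_bot_iff_exists_ne_one).mp hx
  exact ⟨a.1, a.2, fun h => ha1 (Subtype.ext h)⟩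

/-- **connected Sylow graph ⇒ generation by `p`-local subgroups**: if the Sylow `p`-subgroups of `G`
are chain-connected through nontrivial intersections, then `G` is generated by `N_G(S)` together with the
normalizers of the nontrivial subgroups of `S`. -/
theorem eq_top_of_isSylowChainConnected (hconn : Cfsg.IsSylowChainConnected p G) (S : Sylow p G)
    (M : Subgroup G) (hS : Subgroup.normalizer ((S : Subgroup G) : Set G) ≤ M)
    (hM : ∀ D : Subgroup G, D ≤ (S : Subgroup G) → D ≠ ⊥ → Subgroup.normalizer (D : Set G) ≤ M) :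
    M = ⊤ := by
  -- every Sylow subgroup in a chain from `S` is an `M`-conjugate of `S`
  have key : ∀ (n : ℕ) (c : Fin (n + 1) → Sylow p G), c 0 = S →
      (∀ i : Fin n, (c i.castSucc : Subgroup G) ⊓ (c i.succ : Subgroup G) ≠ ⊥) →
      ∀ i : Fin (n + 1), ∃ g ∈ M, (c i : Subgroup G) = lc g (S : Subgroup G) := by
    intro n c h0 hstep i
    induction i using Fin.induction with
    | zero => exact ⟨1, M.one_mem, by rw [h0, lc_one]⟩
    | succ i ih =>
      obtain ⟨g, hgM, hg⟩ := ih
      obtain ⟨h, hh⟩ := MulAction.exists_smul_eq G S (c i.succ)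
      have hh' : (c i.succ : Subgroup G) = lc h (S : Subgroup G) := by
        rw [← hh, lc_eq_smul]; rfl
      have hne := hstep i
      rw [hg, hh'] at hne
      have hne' : (S : Subgroup G) ⊓ lc (g⁻¹ * h) (S : Subgroup G) ≠ ⊥ := by
        intro hbot
        apply hne
        have : lc g (S : Subgroup G) ⊓ lc h (S : Subgroup G)
            = lc g ((S : Subgroup G) ⊓ lc (g⁻¹ * h) (S : Subgroup G)) := by
          rw [lc_inf, ← lc_mul, mul_inv_cancel_left]
        rw [this, hbot, lc_bot]
      have hmem := mem_of_inf_lc_ne_bot S M hM hne'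
      refine ⟨h, ?_, hh'⟩
      have : h = g * (g⁻¹ * h) := by group
      rw [this]
      exact M.mul_mem hgM hmem
  rw [eq_top_iff]
  intro m _
  obtain ⟨n, c, h0, hlast, _, hstep⟩ := hconn S (m • S)
  obtain ⟨g, hgM, hg⟩ := key n c h0 (fun i => (hstep i).2) (Fin.last n)
  rw [hlast] at hg
  have hmS : ((m • S : Sylow p G) : Subgroup G) = lc m (S : Subgroup G) := by
    rw [lc_eq_smul]; rfl
  rw [hmS] at hg
  have hN : g⁻¹ * m ∈ Subgroup.normalizer ((S : Subgroup G) : Set G) := by
    rw [mem_normalizer_iff_lc, lc_mul, hg, lc_inv_lc]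
  have : m = g * (g⁻¹ * m) := by group
  rw [this]
  exact M.mul_mem hgM (hS hN)

end main

end Cfsg.Agent.Lib.Helper41
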