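import Cfsg.Agent.Lib.Helper41.ChainGen

set_option autoImplicit false

namespace Cfsg.Agent.Lib.Helper41

open Cfsg

variable {G : Type*} [Group G] {p : ℕ}

/-- **non-isolated case of the Alperin–Goldschmidt mid step**: let `H < P` be fully normalized and suppose
the Sylow `p`-subgroups of `N_G(H)/H` are chain-connected.  Then `N_G(H)` is generated by the subgroups
`N_G(H) ∩ N_G(T)`, `H < T ≤ N_P(H)`. -/
theorem normalizer_le_of_isSylowChainConnected [Finite G] [Fact p.Prime] (P : Sylow p G)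
    {H : Subgroup G} (hHP : H ≤ (P : Subgroup G)) (hne : H ≠ (P : Subgroup G))
    (hfn : ¬ p ∣ ((P : Subgroup G) ⊓ Subgroup.normalizer (H : Set G)).relIndex
        (Subgroup.normalizer (H : Set G)))
    (hconn : Cfsg.IsSylowChainConnected p
      (↥(Subgroup.normalizer (H : Set G)) ⧸ H.subgroupOf (Subgroup.normalizer (H : Set G))))
    (K : Subgroup G)
    (hK : ∀ T : Subgroup G, H < T → T ≤ (P : Subgroup G) ⊓ Subgroup.normalizer (H : Set G) →
        Subgroup.normalizer (H : Set G) ⊓ Subgroup.normalizer (T : Set G) ≤ K) :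
    Subgroup.normalizer (H : Set G) ≤ K := by
  set N := Subgroup.normalizer (H : Set G) with hN
  set H' := H.subgroupOf N with hH'
  set π := QuotientGroup.mk' H' with hπ
  have hπs : Function.Surjective π := QuotientGroup.mk'_surjective H'
  have hker : π.ker = H' := QuotientGroup.ker_mk' H'
  have hHN : H ≤ N := Subgroup.le_normalizer
  have hlt : H < (P : Subgroup G) ⊓ N := lt_inf_normalizer_of_ne P.2 hHP hne
  have hRp : IsPGroup p (((P : Subgroup G) ⊓ N).subgroupOf N) := (P.2.to_inf_left).comap_subtype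
  let R : Sylow p ↥N := hRp.toSylow hfn
  have hRcoe : (R : Subgroup ↥N) = ((P : Subgroup G) ⊓ N).subgroupOf N := rfl
  let S' : Sylow p (↥N ⧸ H') := R.mapSurjective hπs
  have hS'coe : (S' : Subgroup (↥N ⧸ H')) = (R : Subgroup ↥N).map π := rfl
  have hH'R : H' ≤ (R : Subgroup ↥N) := by
    rw [hRcoe]
    exact Subgroup.comap_mono hlt.le
  set M : Subgroup (↥N ⧸ H') := (K.subgroupOf N).map π with hMdef
  -- the key inclusion
  have hM : ∀ D : Subgroup (↥N ⧸ H'), D ≤ (S' : Subgroup (↥N ⧸ H')) → D ≠ ⊥ →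
      Subgroup.normalizer (D : Set (↥N ⧸ H')) ≤ M := by
    intro D hDS hDne
    set T' : Subgroup ↥N := D.comap π with hT'
    have hH'T' : H' ≤ T' := by
      rw [← hker]; exact Subgroup.ker_le_comap π D
    have hT'R : T' ≤ (R : Subgroup ↥N) := by
      have h1 : T' ≤ ((R : Subgroup ↥N).map π).comap π := Subgroup.comap_mono (hS'coe ▸ hDS)
      rw [Subgroup.comap_map_eq, hker, sup_eq_left.mpr hH'R] at h1
      exact h1
    have hT'ne : T' ≠ H' := by
      intro h
      apply hDne
      have h2 : D.comap π = (⊥ : Subgroup (↥N ⧸ H')).comap π :=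
        h.trans (by rw [MonoidHom.comap_bot]; exact hker.symm)
      exact Subgroup.comap_injective hπs h2
    set T : Subgroup G := T'.map N.subtype with hT
    have hHT : H < T := by
      refine lt_of_le_of_ne ?_ ?_
      · intro h hh
        exact ⟨⟨h, hHN hh⟩, hH'T' (by simpa [hH', Subgroup.mem_subgroupOf] using hh), rfl⟩
      · intro heq
        apply hT'ne
        apply le_antisymm _ hH'T'
        intro t ht
        have : (t : G) ∈ T := ⟨t, ht, rfl⟩
        rw [← heq] at this
        simpa [hH', Subgroup.mem_subgroupOf] using this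
    have hTPN : T ≤ (P : Subgroup G) ⊓ N := by
      rintro _ ⟨t, ht, rfl⟩
      have := hT'R ht
      rw [hRcoe, Subgroup.mem_subgroupOf] at this
      exact this
    intro xbar hxbar
    obtain ⟨x, rfl⟩ := hπs xbar
    refine ⟨x, ?_, rfl⟩
    show x ∈ K.subgroupOf N
    rw [Subgroup.mem_subgroupOf]
    apply hK T hHT hTPN
    refine Subgroup.mem_inf.mpr ⟨x.2, ?_⟩
    -- `x` normalizes `T' = π⁻¹ D`
    have hxT' : ∀ t : ↥N, t ∈ T' ↔ x * t * x⁻¹ ∈ T' := by
      intro t
      have := (Subgroup.mem_normalizer_iff.mp hxbar) (π t)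
      simpa [hT', Subgroup.mem_comap, map_mul, map_inv] using this
    rw [Subgroup.mem_normalizer_iff]
    intro g
    constructor
    · rintro ⟨t, ht, rfl⟩
      exact ⟨x * t * x⁻¹, (hxT' t).mp ht, by simp⟩
    · rintro ⟨t, ht, hteq⟩
      have hgN : g ∈ N := by
        have : g = (x : G)⁻¹ * (t : G) * x := by
          have : (t : G) = x * g * (x : G)⁻¹ := hteq
          rw [this]; group
        rw [this]
        exact N.mul_mem (N.mul_mem (N.inv_mem x.2) t.2) x.2
      refine ⟨⟨g, hgN⟩, ?_, rfl⟩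
      show (⟨g, hgN⟩ : ↥N) ∈ T'
      rw [hxT']
      have : x * ⟨g, hgN⟩ * x⁻¹ = t := by
        apply Subtype.ext
        simpa using hteq.symm
      rwa [this]
  have hS'ne : (S' : Subgroup (↥N ⧸ H')) ≠ ⊥ := by
    intro hbot
    rw [hS'coe, Subgroup.map_eq_bot_iff, hker] at hbot
    have h1 : (R : Subgroup ↥N) = H' := le_antisymm hbot hH'R
    rw [hRcoe] at h1
    apply hlt.ne
    apply le_antisymm hlt.le
    intro g hg
    have : (⟨g, hg.2⟩ : ↥N) ∈ ((P : Subgroup G) ⊓ N).subgroupOf N := by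
      rw [Subgroup.mem_subgroupOf]; exact hg
    rw [h1, hH', Subgroup.mem_subgroupOf] at this
    exact this
  have htop : M = ⊤ :=
    eq_top_of_isSylowChainConnected hconn S' M (hM _ le_rfl hS'ne) hM
  intro n hn
  have h1 : π ⟨n, hn⟩ ∈ M := by rw [htop]; trivial
  obtain ⟨k, hk, hkeq⟩ := h1
  have hk : k ∈ K.subgroupOf N := hk
  rw [Subgroup.mem_subgroupOf] at hk
  -- `k⁻¹ * n ∈ H ≤ K`
  have h2 : k⁻¹ * ⟨n, hn⟩ ∈ H' := by
    rw [← hker, MonoidHom.mem_ker, map_mul, map_inv, hkeq]; simp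
  rw [hH', Subgroup.mem_subgroupOf] at h2
  have hHK : H ≤ K := by
    intro h hh
    apply hK _ hlt le_rfl
    exact Subgroup.mem_inf.mpr ⟨hHN hh, Subgroup.le_normalizer (hlt.le hh)⟩
  have : n = (k : G) * ((k : G)⁻¹ * n) := by group
  rw [this]
  exact K.mul_mem hk (hHK (by simpa using h2))

end Cfsg.Agent.Lib.Helper41
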