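import Mathlib.GroupTheory.FixedPointFree
import Mathlib.GroupTheory.SpecificGroups.KleinFour
import Mathlib.GroupTheory.GroupAction.ConjAct

set_option autoImplicit false

namespace Cfsg.Agent.Lib.Helper41

variable {H : Type*} [Group H]

/-- An involution `e` whose centralizer meets the finite normal subgroup `N` trivially inverts `N`. -/
theorem inverts_of_fpf [Finite H] (N : Subgroup H) [N.Normal] (e : H) (he : e * e = 1)
    (hfix : ∀ n ∈ N, e * n * e⁻¹ = n → n = 1) : ∀ n ∈ N, e * n * e⁻¹ = n⁻¹ := by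
  intro n hn
  have hφ : MonoidHom.FixedPointFree (MulAut.conjNormal e : MulAut N) := by
    intro g hg
    have h1 : e * (g : H) * e⁻¹ = g := by
      have := congrArg Subtype.val hg
      simpa [MulAut.conjNormal_apply] using this
    exact Subtype.ext (hfix g g.2 h1)
  have h2 : Function.Involutive (MulAut.conjNormal e : MulAut N) := by
    intro g
    apply Subtype.ext
    have einv : e⁻¹ = e := inv_eq_of_mul_eq_one_left he
    simp only [MulAut.conjNormal_apply, einv]
    calc e * (e * (g : H) * e) * e = (e * e) * g * (e * e) := by group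
    _ = g := by rw [he]; simp
  have := congrFun (hφ.coe_eq_inv_of_involutive h2) ⟨n, hn⟩
  have := congrArg Subtype.val this
  simpa [MulAut.conjNormal_apply] using this

theorem crit19_core [Finite H] (z : H) (hz : orderOf z = 2)
    (hN : ∀ N : Subgroup H, N.Normal → N ≠ ⊤ → N ⊓ Subgroup.centralizer ({z} : Set H) = ⊥)
    (E : Subgroup H) (hE : IsKleinFour ↥E) (hzE : z ∈ E) (hc : ∀ e ∈ E, e ≠ 1 → IsConj z e) :
    (∃ b ∈ E, b ≠ 1 ∧ b ≠ z) ∧ ∀ N : Subgroup H, N.Normal → N ≠ ⊤ → N = ⊥ := by
  have hz1 : z ≠ 1 := by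
    rintro rfl
    simp at hz
  have hzz : z * z = 1 := by
    rw [← sq, ← hz, pow_orderOf_eq_one]
  -- another involution of E
  have hb : ∃ b ∈ E, b ≠ 1 ∧ b ≠ z := by
    by_contra hcon
    push Not at hcon
    have : Finite E := IsKleinFour.instFinite
    have := Fintype.ofFinite E
    have hcard : Fintype.card E = 4 := by
      rw [← Nat.card_eq_fintype_card]; exact hE.card_four
    classical
    have hsub : (Finset.univ : Finset E) ⊆ {1, ⟨z, hzE⟩} := by
      intro x _
      by_cases hx : (x : H) = 1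
      · simp [Subtype.ext_iff, hx]
      · have := hcon x x.2 hx
        simp [Subtype.ext_iff, this]
    have := Finset.card_le_card hsub
    rw [Finset.card_univ, hcard] at this
    have h2 : ({1, ⟨z, hzE⟩} : Finset E).card ≤ 2 := Finset.card_le_two
    omega
  refine ⟨hb, ?_⟩
  obtain ⟨b, hbE, hb1, hbz⟩ := hb
  intro N hNn hNtop
  have := hNn
  -- every nonidentity element of E has trivial fixed points on N
  have hfix : ∀ e ∈ E, e ≠ 1 → ∀ n ∈ N, e * n * e⁻¹ = n → n = 1 := by
    intro e heE he1 n hn hen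
    obtain ⟨c, rfl⟩ := isConj_iff.mp (hc e heE he1)
    have hmem : c⁻¹ * n * c ∈ N ⊓ Subgroup.centralizer ({z} : Set H) := by
      refine Subgroup.mem_inf.mpr ⟨?_, ?_⟩
      · have := hNn.conj_mem n hn c⁻¹
        simpa using this
      · rw [Subgroup.mem_centralizer_iff]
        intro y hy
        rw [Set.mem_singleton_iff] at hy
        subst hy
        have h3 : c * y * c⁻¹ * n = n * (c * y * c⁻¹) := by
          calc c * y * c⁻¹ * n = (c * y * c⁻¹ * n * (c * y * c⁻¹)⁻¹) * (c * y * c⁻¹) := by group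
          _ = n * (c * y * c⁻¹) := by rw [hen]
        calc y * (c⁻¹ * n * c) = c⁻¹ * (c * y * c⁻¹ * n) * c := by group
        _ = c⁻¹ * (n * (c * y * c⁻¹)) * c := by rw [h3]
        _ = c⁻¹ * n * c * y := by group
    rw [hN N hNn hNtop, Subgroup.mem_bot] at hmem
    have : n = c * (c⁻¹ * n * c) * c⁻¹ := by group
    rw [this, hmem]; group
  have hsq : ∀ e ∈ E, e * e = 1 := by
    intro e he
    have := IsKleinFour.mul_self (G := E) ⟨e, he⟩
    simpa [Subtype.ext_iff] using this
  have hbz1 : z * b ≠ 1 := by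
    intro h
    apply hbz
    have hbb := hsq b hbE
    calc b = (z * z) * b := by rw [hzz, one_mul]
    _ = z * (z * b) := by group
    _ = z := by rw [h, mul_one]
  have hzbE : z * b ∈ E := E.mul_mem hzE hbE
  have i1 := inverts_of_fpf N z hzz (hfix z hzE hz1)
  have i2 := inverts_of_fpf N b (hsq b hbE) (hfix b hbE hb1)
  have i3 := inverts_of_fpf N (z * b) (hsq _ hzbE) (hfix _ hzbE hbz1)
  rw [eq_bot_iff]
  intro n hn
  rw [Subgroup.mem_bot]
  have e3 := i3 n hn
  have e2 := i2 n hn
  have e1 := i1 n⁻¹ (N.inv_mem hn)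
  have : n⁻¹ = n := by
    calc n⁻¹ = z * b * n * (z * b)⁻¹ := e3.symm
    _ = z * (b * n * b⁻¹) * z⁻¹ := by group
    _ = z * n⁻¹ * z⁻¹ := by rw [e2]
    _ = n := by rw [e1, inv_inv]
  apply hfix z hzE hz1 n hn
  rw [i1 n hn, this]

end Cfsg.Agent.Lib.Helper41
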