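import Cfsg.Agent.Lib.Helper41.PChain

set_option autoImplicit false

namespace Cfsg.Agent.Lib.Helper41

open Cfsg

variable {G : Type*} [Group G]

theorem rconj_congr {A : Set G} {g h : G} (hgh : ∀ a ∈ A, g⁻¹ * a * g = h⁻¹ * a * h) :
    rconj g A = rconj h A := by
  ext x
  constructor
  · rintro ⟨a, ha, rfl⟩
    exact ⟨a, ha, (hgh a ha).symm⟩
  · rintro ⟨a, ha, rfl⟩
    exact ⟨a, ha, hgh a ha⟩

/-- a chain of conjugations by elements of the set `K`, all sets met on the way lying in `M` -/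
def FChain (K : Set G) (M : Subgroup G) : Set G → List G → Prop
  | A, [] => A ⊆ M
  | A, y :: L => A ⊆ M ∧ y ∈ K ∧ FChain K M (rconj y A) L

theorem FChain.subset {K : Set G} {M : Subgroup G} {A : Set G} {L : List G}
    (h : FChain K M A L) : A ⊆ M := by
  cases L with
  | nil => exact h
  | cons y L => exact h.1

theorem FChain.subset_final {K : Set G} {M : Subgroup G} {A : Set G} {L : List G}
    (h : FChain K M A L) : rconj L.prod A ⊆ M := by
  induction L generalizing A with
  | nil =>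
    have h' : A ⊆ M := h
    simpa using h'
  | cons y L ih =>
    obtain ⟨_, _, h3⟩ := h
    simpa [rconj_mul] using ih h3

theorem fchain_mono {K : Set G} {M : Subgroup G} {A B : Set G} (hBA : B ⊆ A) {L : List G}
    (h : FChain K M A L) : FChain K M B L := by
  induction L generalizing A B with
  | nil => exact hBA.trans h
  | cons y L ih =>
    obtain ⟨h1, h2, h3⟩ := h
    exact ⟨hBA.trans h1, h2, ih (rconj_mono hBA) h3⟩

theorem fchain_weaken {K K' : Set G} {M M' : Subgroup G} (hK : K ⊆ K') (hM : M ≤ M') {A : Set G}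
    {L : List G} (h : FChain K M A L) : FChain K' M' A L := by
  induction L generalizing A with
  | nil => exact fun a ha => hM (h ha)
  | cons y L ih =>
    obtain ⟨h1, h2, h3⟩ := h
    exact ⟨fun a ha => hM (h1 ha), hK h2, ih h3⟩

theorem fchain_append {K : Set G} {M : Subgroup G} {A : Set G} {L₁ L₂ : List G} :
    FChain K M A (L₁ ++ L₂) ↔ FChain K M A L₁ ∧ FChain K M (rconj L₁.prod A) L₂ := by
  induction L₁ generalizing A with
  | nil =>
    simp only [List.nil_append, List.prod_nil, rconj_one]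
    exact ⟨fun h => ⟨h.subset, h⟩, fun h => h.2⟩
  | cons y L ih =>
    simp only [List.cons_append, FChain, List.prod_cons, ih, rconj_mul]
    tauto

/-- conjugation by `g` on `A` is realized by a chain of conjugations by elements of `K` through subsets of
`M` -/
def FReach (K : Set G) (M : Subgroup G) (A : Set G) (g : G) : Prop :=
  ∃ L : List G, FChain K M A L ∧ ∀ a ∈ A, L.prod⁻¹ * a * L.prod = g⁻¹ * a * g

theorem FReach.subset {K : Set G} {M : Subgroup G} {A : Set G} {g : G} (h : FReach K M A g) :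
    A ⊆ M := by
  obtain ⟨L, hL, _⟩ := h
  exact hL.subset

theorem FReach.subset_final {K : Set G} {M : Subgroup G} {A : Set G} {g : G}
    (h : FReach K M A g) : rconj g A ⊆ M := by
  obtain ⟨L, hL, hag⟩ := h
  rw [← rconj_congr hag]
  exact hL.subset_final

theorem FReach.refl {K : Set G} {M : Subgroup G} {A : Set G} (hA : A ⊆ M) : FReach K M A 1 :=
  ⟨[], hA, fun _ _ => by simp⟩

theorem FReach.congr {K : Set G} {M : Subgroup G} {A : Set G} {g g' : G}
    (hgg : ∀ a ∈ A, g⁻¹ * a * g = g'⁻¹ * a * g') (h : FReach K M A g) : FReach K M A g' := by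
  obtain ⟨L, hL, hag⟩ := h
  exact ⟨L, hL, fun a ha => (hag a ha).trans (hgg a ha)⟩

theorem FReach.single {K : Set G} {M : Subgroup G} {A : Set G} {y : G} (hy : y ∈ K) (hA : A ⊆ M)
    (hA' : rconj y A ⊆ M) : FReach K M A y :=
  ⟨[y], ⟨hA, hy, hA'⟩, fun _ _ => by simp⟩

theorem FReach.mono {K : Set G} {M : Subgroup G} {A B : Set G} {g : G} (hBA : B ⊆ A)
    (h : FReach K M A g) : FReach K M B g := by
  obtain ⟨L, hL, hag⟩ := h
  exact ⟨L, fchain_mono hBA hL, fun a ha => hag a (hBA ha)⟩

theorem FReach.weaken {K K' : Set G} {M M' : Subgroup G} (hK : K ⊆ K') (hM : M ≤ M') {A : Set G}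
    {g : G} (h : FReach K M A g) : FReach K' M' A g := by
  obtain ⟨L, hL, hag⟩ := h
  exact ⟨L, fchain_weaken hK hM hL, hag⟩

theorem FReach.trans {K : Set G} {M : Subgroup G} {A : Set G} {g h : G} (h₁ : FReach K M A g)
    (h₂ : FReach K M (rconj g A) h) : FReach K M A (g * h) := by
  obtain ⟨L₁, hL₁, hag₁⟩ := h₁
  obtain ⟨L₂, hL₂, hag₂⟩ := h₂
  refine ⟨L₁ ++ L₂, fchain_append.mpr ⟨hL₁, ?_⟩, ?_⟩
  · rw [rconj_congr hag₁]; exact hL₂
  · intro a ha
    have e1 := hag₁ a ha
    have e2 := hag₂ (g⁻¹ * a * g) ⟨a, ha, rfl⟩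
    rw [List.prod_append]
    calc (L₁.prod * L₂.prod)⁻¹ * a * (L₁.prod * L₂.prod)
        = L₂.prod⁻¹ * (L₁.prod⁻¹ * a * L₁.prod) * L₂.prod := by group
    _ = L₂.prod⁻¹ * (g⁻¹ * a * g) * L₂.prod := by rw [e1]
    _ = h⁻¹ * (g⁻¹ * a * g) * h := e2
    _ = (g * h)⁻¹ * a * (g * h) := by group

theorem FReach.symm {K : Set G} {M : Subgroup G} (hK : ∀ y ∈ K, y⁻¹ ∈ K) {A : Set G} {g : G}
    (h : FReach K M A g) : FReach K M (rconj g A) g⁻¹ := by
  obtain ⟨L, hL, hag⟩ := h
  have key : ∀ (L : List G) (A : Set G), FChain K M A L → FReach K M (rconj L.prod A) L.prod⁻¹ := by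
    intro L
    induction L with
    | nil =>
      intro A hA
      simpa using FReach.refl (K := K) hA
    | cons y L ih =>
      intro A hA
      obtain ⟨h1, h2, h3⟩ := hA
      have r1 := ih _ h3
      have r2 : FReach K M (rconj y A) y⁻¹ :=
        FReach.single (hK y h2) h3.subset (by rw [rconj_inv_rconj]; exact h1)
      simp only [List.prod_cons, mul_inv_rev, rconj_mul]
      refine FReach.trans r1 ?_
      rw [rconj_inv_rconj]
      exact r2
  have := key L A hL
  rw [rconj_congr hag] at this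
  refine this.congr ?_
  rintro _ ⟨a, ha, rfl⟩
  have e := hag a ha
  calc (L.prod⁻¹)⁻¹ * (g⁻¹ * a * g) * L.prod⁻¹
      = L.prod * (g⁻¹ * a * g) * L.prod⁻¹ := by group
  _ = L.prod * (L.prod⁻¹ * a * L.prod) * L.prod⁻¹ := by rw [e]
  _ = (g⁻¹)⁻¹ * (g⁻¹ * a * g) * g⁻¹ := by group

/-- replace every step of a chain by a chain -/
theorem freach_bind {K K' : Set G} {M M' : Subgroup G} {A : Set G} {x : G} (h : FReach K M A x)
    (hstep : ∀ y ∈ K, ∀ B : Set G, B ⊆ M → rconj y B ⊆ M → FReach K' M' B y) (hM : M ≤ M') :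
    FReach K' M' A x := by
  obtain ⟨L, hL, hag⟩ := h
  have key : ∀ (L : List G) (A : Set G), FChain K M A L → FReach K' M' A L.prod := by
    intro L
    induction L with
    | nil =>
      intro A hA
      simpa using FReach.refl (K := K') (fun a ha => hM (hA ha))
    | cons y L ih =>
      intro A hA
      obtain ⟨h1, h2, h3⟩ := hA
      simp only [List.prod_cons]
      exact FReach.trans (hstep y h2 A h1 h3.subset) (ih _ h3)
  exact (key L A hL).congr hag

/-- a chain through normalizers of members of `𝓕` gives a chain in the sense of `FReach`, when every step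
does -/
theorem freach_of_chain {𝓕 : Set (Subgroup G)} {K : Set G} {M : Subgroup G}
    (h𝓕 : ∀ T ∈ 𝓕, T ≤ M)
    (hstep : ∀ T ∈ 𝓕, ∀ x ∈ Subgroup.normalizer (T : Set G), ∀ B : Set G, B ⊆ T →
      FReach K M B x) :
    ∀ (L : List (Subgroup G × G)) (A : Set G), Chain 𝓕 A L → A ⊆ M →
      FReach K M A (L.map Prod.snd).prod := by
  intro L
  induction L with
  | nil =>
    intro A _ hA
    simpa using FReach.refl (K := K) hA
  | cons b L ih =>
    intro A hL hA
    obtain ⟨T, x⟩ := b
    obtain ⟨h1, h2, h3, h4⟩ := hL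
    simp only [List.map_cons, List.prod_cons]
    have hxA : rconj x A ⊆ M := fun a ha =>
      h𝓕 T h1 (rconj_subset_of_mem_normalizer h2 h3 ha)
    exact FReach.trans (hstep T h1 x h2 A h3) (ih _ h4 hxA)

end Cfsg.Agent.Lib.Helper41
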