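import Cfsg.Agent.Lib.Helper41.AG
import Cfsg.Agent.Lib.Helper41.WV
import Cfsg.Agent.Lib.Helper87.Hyperfocal

set_option autoImplicit false

namespace Cfsg.Agent.Lib.Helper41

open Cfsg

variable {G : Type*} [Group G] {p : ℕ}

/-- the product of a chain lies in any subgroup containing the normalizers of the family -/
theorem chain_prod_mem {𝓕 : Set (Subgroup G)} {M : Subgroup G}
    (hM : ∀ T ∈ 𝓕, Subgroup.normalizer (T : Set G) ≤ M) :
    ∀ {A : Set G} {L : List (Subgroup G × G)}, Chain 𝓕 A L → (L.map Prod.snd).prod ∈ M := by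
  intro A L
  induction L generalizing A with
  | nil => intro _; simp
  | cons a L ih =>
    obtain ⟨T, x⟩ := a
    rintro ⟨h1, h2, _, h4⟩
    simp only [List.map_cons, List.prod_cons]
    exact M.mul_mem (hM T h1 h2) (ih h4)

/-- If all normalizers of members of the Alperin–Goldschmidt family lie in `M`, then `M` controls
strong fusion in `P` (left conjugation form). -/
theorem ag_control [Finite G] [Fact p.Prime] (P : Sylow p G) {M : Subgroup G}
    (hM : ∀ T ∈ agFamily p P, Subgroup.normalizer (T : Set G) ≤ M)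
    {A : Set G} {g : G} (hA : A ⊆ (P : Subgroup G))
    (hgA : ∀ a ∈ A, g * a * g⁻¹ ∈ (P : Subgroup G)) :
    ∃ v ∈ M, ∀ a ∈ A, v * a * v⁻¹ = g * a * g⁻¹ := by
  have hgA' : rconj g⁻¹ A ⊆ (P : Subgroup G) := by
    rintro _ ⟨a, ha, rfl⟩
    show g⁻¹⁻¹ * a * g⁻¹ ∈ (P : Subgroup G)
    rw [inv_inv]
    exact hgA a ha
  obtain ⟨g', ⟨L, hL, hprod⟩, hagree⟩ := ag_reach P hA hgA'
  have hmem : g' ∈ M := by
    rw [← hprod]; exact chain_prod_mem hM hL
  refine ⟨g'⁻¹, M.inv_mem hmem, fun a ha => ?_⟩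
  have := hagree a ha
  simpa using this

/-- `p`-normality: the normalizers of the members of the Alperin–Goldschmidt family lie in `N_G(Z(P))`. -/
theorem ag_normalizer_le_of_pNormal [Finite G] [Fact p.Prime] (P : Sylow p G)
    (hn : ∀ Q : Sylow p G, (P : Subgroup G) ⊓ Subgroup.centralizer (P : Set G) ≤ (Q : Subgroup G) →
      (Q : Subgroup G) ⊓ Subgroup.centralizer (Q : Set G) =
        (P : Subgroup G) ⊓ Subgroup.centralizer (P : Set G)) :
    ∀ T ∈ agFamily p P, Subgroup.normalizer (T : Set G) ≤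
      Subgroup.normalizer (((P : Subgroup G) ⊓ Subgroup.centralizer (P : Set G) : Subgroup G) : Set G) := by
  intro T hT x hx
  set Z := (P : Subgroup G) ⊓ Subgroup.centralizer (P : Set G) with hZ
  obtain ⟨hTP, _, hcen, _⟩ := hT
  have hZT : Z ≤ T := by
    refine le_trans ?_ hcen
    exact inf_le_inf_left _ (Subgroup.centralizer_le hTP)
  -- `x Z x⁻¹ ≤ T ≤ P`
  have h1 : lc x Z ≤ (P : Subgroup G) := by
    have : lc x T = T := mem_normalizer_iff_lc.mp hx
    exact ((lc_mono hZT).trans this.le).trans hTP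
  -- so `Z ≤ x⁻¹ P x`
  have h2 : Z ≤ ((x⁻¹ • P : Sylow p G) : Subgroup G) := by
    rw [Sylow.coe_subgroup_smul, ← lc_eq_smul]
    rw [lc_le_iff] at h1
    exact h1
  have h3 : ((x⁻¹ • P : Sylow p G) : Subgroup G) ⊓
      Subgroup.centralizer (((x⁻¹ • P : Sylow p G) : Subgroup G) : Set G) = Z := hn _ h2
  rw [Sylow.coe_subgroup_smul, ← lc_eq_smul, centralizer_lc, ← lc_inf] at h3
  -- `lc x⁻¹ Z = Z`
  have h4 : x⁻¹ ∈ Subgroup.normalizer (Z : Set G) := mem_normalizer_iff_lc.mpr h3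
  simpa using Subgroup.inv_mem _ h4

/-- lifting an automorphism of order prime to `p` induced by `v` to a subgroup `M` containing a
`p`-power of `v` -/
theorem exists_conj_mem_of_pow_mem {Q : Subgroup G} (β : MulAut Q) (hβ : Nat.Coprime (orderOf β) p)
    (v : G) (h : ∀ x : Q, ((β x : Q) : G) = v * (x : G) * v⁻¹) {M : Subgroup G} {b : ℕ}
    (hb : v ^ p ^ b ∈ M) :
    ∃ k ∈ M, ∀ x : Q, ((β x : Q) : G) = k * (x : G) * k⁻¹ := by
  have hc : Nat.Coprime (p ^ b) (orderOf β) := (Nat.Coprime.pow_right b hβ).symm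
  obtain ⟨m, hm⟩ := exists_pow_eq_self_of_coprime hc
  refine ⟨(v ^ p ^ b) ^ m, Subgroup.pow_mem _ hb m, fun x => ?_⟩
  have h1 := Cfsg.Agent.Lib.Helper87.conj_pow_apply β v h (p ^ b)
  have h2 := Cfsg.Agent.Lib.Helper87.conj_pow_apply (β ^ p ^ b) (v ^ p ^ b) h1 m x
  rw [hm] at h2
  exact h2

end Cfsg.Agent.Lib.Helper41
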