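import Mathlib.GroupTheory.Sylow
import Mathlib.GroupTheory.Abelianization.Defs
import Mathlib.GroupTheory.Commutator.Basic

set_option autoImplicit false

namespace Cfsg.Agent.Lib.Helper41

/-- a finite abelian group of order divisible by `p` has a subgroup of index `p` -/
theorem exists_index_prime_of_comm {A : Type*} [CommGroup A] [Finite A] {p : ℕ} [Fact p.Prime]
    (hdvd : p ∣ Nat.card A) : ∃ B : Subgroup A, B.index = p := by
  have hp : p.Prime := Fact.out
  set R : Subgroup A := (powMonoidHom p : A →* A).range with hR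
  -- `A ⧸ R` is a nontrivial `p`-group
  have hpg : IsPGroup p (A ⧸ R) := by
    intro q
    obtain ⟨a, rfl⟩ := QuotientGroup.mk_surjective q
    refine ⟨1, ?_⟩
    rw [pow_one, ← QuotientGroup.mk_pow, QuotientGroup.eq_one_iff]
    exact ⟨a, rfl⟩
  have hnt : Nontrivial (A ⧸ R) := by
    by_contra hnt
    rw [not_nontrivial_iff_subsingleton] at hnt
    have hRtop : R = ⊤ := by
      rw [eq_top_iff]
      intro a _
      have : (QuotientGroup.mk a : A ⧸ R) = 1 := Subsingleton.elim _ _
      exact (QuotientGroup.eq_one_iff a).mp this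
    have hsurj : Function.Surjective (powMonoidHom p : A →* A) := MonoidHom.range_eq_top.mp hRtop
    have hinj : Function.Injective (powMonoidHom p : A →* A) := Finite.injective_iff_surjective.mpr hsurj
    obtain ⟨x, hx⟩ := exists_prime_orderOf_dvd_card' p hdvd
    have h1 : (powMonoidHom p : A →* A) x = (powMonoidHom p : A →* A) 1 := by
      simp only [powMonoidHom_apply, one_pow]
      rw [← hx]; exact pow_orderOf_eq_one x
    have h2 := hinj h1
    rw [h2, orderOf_one] at hx
    exact hp.one_lt.ne hx
  obtain ⟨k, hk⟩ := IsPGroup.exists_card_eq hpg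
  have hk0 : k ≠ 0 := by
    rintro rfl
    rw [pow_zero] at hk
    have := Finite.one_lt_card_iff_nontrivial.mpr hnt
    omega
  obtain ⟨K, hK⟩ := Sylow.exists_subgroup_card_pow_prime (G := A ⧸ R) p (n := k - 1)
    (by rw [hk]; exact pow_dvd_pow p (Nat.sub_le k 1))
  have hKi : K.index = p := by
    have h1 := K.card_mul_index
    rw [hK, hk] at h1
    have h2 : p ^ k = p ^ (k - 1) * p := by
      rw [← pow_succ]; congr 1; omega
    rw [h2] at h1
    exact Nat.eq_of_mul_eq_mul_left (pow_pos hp.pos _) h1
  refine ⟨K.comap (QuotientGroup.mk' R), ?_⟩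
  rw [Subgroup.index_comap_of_surjective _ (QuotientGroup.mk'_surjective R), hKi]

/-- a `p`-subgroup not contained in the commutator subgroup yields a normal subgroup of index `p` -/
theorem exists_normal_index_prime_of_not_le_commutator {G : Type*} [Group G] [Finite G] {p : ℕ}
    [Fact p.Prime] (S : Subgroup G) (hS : IsPGroup p S) (h : ¬ S ≤ commutator G) :
    ∃ N : Subgroup G, N.Normal ∧ N.index = p := by
  have hp : p.Prime := Fact.out
  obtain ⟨s, hsS, hsc⟩ := SetLike.not_le_iff_exists.mp h
  set a : Abelianization G := Abelianization.of s with ha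
  have ha1 : a ≠ 1 := by
    intro h1
    apply hsc
    have : (QuotientGroup.mk s : G ⧸ commutator G) = 1 := h1
    exact (QuotientGroup.eq_one_iff s).mp this
  obtain ⟨j, hj⟩ := hS ⟨s, hsS⟩
  have hj' : a ^ p ^ j = 1 := by
    have := congrArg Subtype.val hj
    simp only [Subgroup.coe_pow, Subgroup.coe_one] at this
    rw [ha, ← map_pow, this, map_one]
  have hdvd : p ∣ Nat.card (Abelianization G) := by
    obtain ⟨i, hi, hoi⟩ := (Nat.dvd_prime_pow hp).mp (orderOf_dvd_of_pow_eq_one hj')
    have hi0 : i ≠ 0 := by
      rintro rfl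
      rw [pow_zero, orderOf_eq_one_iff] at hoi
      exact ha1 hoi
    have h2 : p ∣ orderOf a := by
      rw [hoi]; exact dvd_pow_self p hi0
    exact dvd_trans h2 (orderOf_dvd_natCard a)
  haveI : Finite (Abelianization G) := inferInstanceAs (Finite (G ⧸ commutator G))
  obtain ⟨B, hB⟩ := exists_index_prime_of_comm hdvd
  refine ⟨B.comap Abelianization.of, ?_, ?_⟩
  · haveI : B.Normal := Subgroup.normal_of_comm B
    exact Subgroup.Normal.comap inferInstance _
  · have hsurj : Function.Surjective (Abelianization.of : G →* Abelianization G) :=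
      QuotientGroup.mk'_surjective (commutator G)
    rw [Subgroup.index_comap_of_surjective _ hsurj, hB]

end Cfsg.Agent.Lib.Helper41
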