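import Mathlib
import Cfsg.Agent.Lib.Helper41.InvBDefs
import Cfsg.Agent.Lib.Helper19.InvB1
import Cfsg.Agent.Lib.Helper84.InvB6

/-!
# S3928 K-IB leaf 14a (392819): `card_centralizer_le`
-/

set_option autoImplicit false

namespace Cfsg.Agent.Lib.Helper41.InvB

variable {Γ : Type*} [Group Γ] [Finite Γ]

/-- a normal subgroup containing `a` is everything (under `Gen a`). -/
theorem eq_top_of_normal_of_mem (a : Γ) (hg : Gen a) (C : Subgroup Γ) (hC : C.Normal) (ha : a ∈ C) :
    C = ⊤ := by
  rw [eq_top_iff, ← hg.2, Subgroup.closure_le]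
  rintro t (ht | ht)
  · obtain ⟨h, -, -, h2⟩ := Cfsg.Agent.Lib.Helper84.InvB.exists_sqrt_TG ht
    rw [← h2]
    exact C.mul_mem (hC.conj_mem a ha h) (C.inv_mem ha)
  · rw [Set.mem_singleton_iff] at ht
    rw [ht]; exact ha

theorem conj_mem_TG_of_comm {a c t : Γ} (hc : c * a = a * c) (ht : t ∈ TG a) :
    c * t * c⁻¹ ∈ TG a := by
  obtain ⟨h1, h2⟩ := ht
  refine ⟨?_, ?_⟩
  · have : orderOf (c * t * c⁻¹) = orderOf t := by
      have := (MulAut.conj c).orderOf_eq t
      simpa [MulAut.conj_apply] using this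
    rw [this]; exact h1
  · have hc' : a * c = c * a := hc.symm
    have hci : a * c⁻¹ = c⁻¹ * a := by
      have : c⁻¹ * (c * a) * c⁻¹ = c⁻¹ * (a * c) * c⁻¹ := by rw [hc]
      simpa [mul_assoc] using this
    calc a * (c * t * c⁻¹) * a⁻¹ = (a * c) * t * (c⁻¹ * a⁻¹) := by group
      _ = (c * a) * t * (c⁻¹ * a⁻¹) := by rw [hc']
      _ = c * (a * t * a⁻¹) * (a * c⁻¹ * a⁻¹) := by group
      _ = c * t⁻¹ * (c⁻¹ * a * a⁻¹) := by rw [h2, hci]
      _ = (c * t * c⁻¹)⁻¹ := by group

/-- `[G, α]` is a normal subgroup. -/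
theorem normal_closure_range_comm {G : Type*} [Group G] (α : MulAut G) :
    (Subgroup.closure (Set.range (fun c : G => c * (α c)⁻¹))).Normal := by
  constructor
  intro n hn g
  induction hn using Subgroup.closure_induction with
  | mem x hx =>
    obtain ⟨c, rfl⟩ := hx
    have : g * (c * (α c)⁻¹) * g⁻¹ = ((g * c) * (α (g * c))⁻¹) * (g * (α g)⁻¹)⁻¹ := by
      rw [map_mul]; group
    rw [this]
    exact Subgroup.mul_mem _ (Subgroup.subset_closure ⟨g * c, rfl⟩)
      (Subgroup.inv_mem _ (Subgroup.subset_closure ⟨g, rfl⟩))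
  | one => simp
  | mul x y _ _ hx hy =>
    have : g * (x * y) * g⁻¹ = (g * x * g⁻¹) * (g * y * g⁻¹) := by group
    rw [this]; exact Subgroup.mul_mem _ hx hy
  | inv x _ hx =>
    have : g * x⁻¹ * g⁻¹ = (g * x * g⁻¹)⁻¹ := by group
    rw [this]; exact Subgroup.inv_mem _ hx

theorem card_centralizer_le (a : Γ) (hg : Gen a) (S : Subgroup Γ) [S.Normal] (hS : IsSimpleGroup S)
    (hna : ¬ ∀ x ∈ S, ∀ y ∈ S, x * y = y * x) (m : ℕ) (hm : Nat.card (TG a) ≤ m) :
    (∃ t ∈ TG a, t ≠ 1 ∧ t ∈ S) ∧ ¬ S ≤ Subgroup.centralizer {a} ∧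
      Nat.card ↥(S ⊓ Subgroup.centralizer {a}) ≤ m.factorial := by
  classical
  -- step 1: a does not centralise S
  have hnc : ¬ S ≤ Subgroup.centralizer {a} := by
    intro hle
    have ha : a ∈ Subgroup.centralizer (S : Set Γ) := by
      rw [Subgroup.mem_centralizer_iff]
      intro s hs
      have := hle hs
      rw [Subgroup.mem_centralizer_iff] at this
      exact (this a rfl).symm
    have htop := eq_top_of_normal_of_mem a hg (Subgroup.centralizer (S : Set Γ)) inferInstance ha
    apply hna
    intro x hx y hy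
    have : y ∈ Subgroup.centralizer (S : Set Γ) := by rw [htop]; trivial
    rw [Subgroup.mem_centralizer_iff] at this
    exact this x hx
  -- the automorphism
  set α : MulAut S := MulAut.conjNormal a with hα
  have hαapp : ∀ c : S, ((α c : S) : Γ) = a * c * a⁻¹ := fun c => by
    rw [hα]; exact MulAut.conjNormal_apply a c
  have hαα : α * α = 1 := by
    rw [hα, ← map_mul, hg.1, map_one]
  -- step 2: [S, α] = S
  have hcl : Subgroup.closure (Set.range (fun c : S => c * (α c)⁻¹)) = ⊤ := by
    rcases (normal_closure_range_comm α).eq_bot_or_eq_top with hb | ht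
    · exfalso
      apply hnc
      intro s hs
      rw [Subgroup.mem_centralizer_iff]
      intro x hx
      rw [Set.mem_singleton_iff] at hx
      subst hx
      have h1 : (⟨s, hs⟩ : S) * (α ⟨s, hs⟩)⁻¹ ∈
          Subgroup.closure (Set.range (fun c : S => c * (α c)⁻¹)) :=
        Subgroup.subset_closure ⟨⟨s, hs⟩, rfl⟩
      rw [hb, Subgroup.mem_bot] at h1
      have h2 : (⟨s, hs⟩ : S) = α ⟨s, hs⟩ := mul_inv_eq_one.mp h1
      have h3 : s = x * s * x⁻¹ := by
        have := congrArg Subtype.val h2
        rw [hαapp] at this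
        exact this
      calc x * s = (x * s * x⁻¹) * x := by group
        _ = s * x := by rw [← h3]
    · exact ht
  -- step 3: leaf 1
  have hgen := Cfsg.Agent.Lib.Helper19.InvB.closure_T_eq_top α hαα hcl
  have hmemT : ∀ g : S, (Odd (orderOf g) ∧ α g = g⁻¹) → (g : Γ) ∈ TG a := by
    rintro g ⟨h1, h2⟩
    refine ⟨by rwa [Subgroup.orderOf_coe], ?_⟩
    rw [← hαapp, h2]; rfl
  refine ⟨?_, hnc, ?_⟩
  · -- some nontrivial generator
    by_contra hcon
    push Not at hcon
    have : Subgroup.closure {g : S | Odd (orderOf g) ∧ α g = g⁻¹} ≤ ⊥ := by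
      rw [Subgroup.closure_le]
      intro g hg'
      by_contra hne
      have hne' : (g : Γ) ≠ 1 := fun h => hne (by
        rw [SetLike.mem_coe, Subgroup.mem_bot]; exact Subtype.ext h)
      exact hcon (g : Γ) (hmemT g hg') hne' g.2
    rw [hgen] at this
    haveI hnt : Nontrivial S := hS.toNontrivial
    exact top_ne_bot (le_bot_iff.mp this)
  · -- the conjugation action of C_S(a) on TG a is faithful
    have hcomm : ∀ c : ↥(S ⊓ Subgroup.centralizer {a}), (c : Γ) * a = a * c := by
      intro c
      have := (Subgroup.mem_inf.mp c.2).2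
      rw [Subgroup.mem_centralizer_iff] at this
      exact (this a rfl).symm
    have hcomm' : ∀ c : ↥(S ⊓ Subgroup.centralizer {a}), (c : Γ)⁻¹ * a = a * (c : Γ)⁻¹ := by
      intro c
      have := hcomm c⁻¹
      simpa using this
    let φ : ↥(S ⊓ Subgroup.centralizer {a}) → Equiv.Perm (TG a) := fun c =>
      { toFun := fun t => ⟨c * t * (c : Γ)⁻¹, conj_mem_TG_of_comm (hcomm c) t.2⟩
        invFun := fun t => ⟨(c : Γ)⁻¹ * t * c, by
          have := conj_mem_TG_of_comm (hcomm' c) t.2
          simpa using this⟩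
        left_inv := fun t => by
          apply Subtype.ext
          simp [mul_assoc]
        right_inv := fun t => by
          apply Subtype.ext
          simp [mul_assoc] }
    have hφinj : Function.Injective φ := by
      intro c d hcd
      -- c⁻¹ d centralises TG a ∩ S, hence S
      have hfix : ∀ t ∈ TG a, (c : Γ) * t * (c : Γ)⁻¹ = d * t * (d : Γ)⁻¹ := by
        intro t ht
        have := congrArg (fun f : Equiv.Perm (TG a) => ((f ⟨t, ht⟩ : TG a) : Γ)) hcd
        exact this
      set z : S := ⟨(c : Γ)⁻¹ * d, S.mul_mem (S.inv_mem (Subgroup.mem_inf.mp c.2).1) (Subgroup.mem_inf.mp d.2).1⟩ with hz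
      have hzc : z ∈ Subgroup.center S := by
        have hle : (⊤ : Subgroup S) ≤ Subgroup.centralizer {z} := by
          rw [← hgen, Subgroup.closure_le]
          intro g hg'
          rw [SetLike.mem_coe, Subgroup.mem_centralizer_iff]
          intro y hy
          rw [Set.mem_singleton_iff] at hy
          subst hy
          apply Subtype.ext
          have := hfix (g : Γ) (hmemT g hg')
          simp only [Subgroup.coe_mul, hz]
          calc (c : Γ)⁻¹ * d * g = (c : Γ)⁻¹ * (d * g * (d : Γ)⁻¹) * d := by group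
            _ = (c : Γ)⁻¹ * (c * g * (c : Γ)⁻¹) * d := by rw [this]
            _ = g * ((c : Γ)⁻¹ * d) := by group
        rw [Subgroup.mem_center_iff]
        intro g
        have := hle (Subgroup.mem_top g)
        rw [Subgroup.mem_centralizer_iff] at this
        exact (this z rfl).symm
      have hz1 : z = 1 := by
        rcases (inferInstance : (Subgroup.center S).Normal).eq_bot_or_eq_top with hb | ht
        · rw [hb, Subgroup.mem_bot] at hzc; exact hzc
        · exfalso
          apply hna
          intro u hu v hv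
          have : (⟨u, hu⟩ : S) ∈ Subgroup.center S := by rw [ht]; trivial
          rw [Subgroup.mem_center_iff] at this
          have := this ⟨v, hv⟩
          exact (congrArg Subtype.val this).symm
      have : (c : Γ)⁻¹ * d = 1 := congrArg Subtype.val hz1
      apply Subtype.ext
      exact (inv_mul_eq_one.mp this)
    haveI : Finite (TG a) := Subtype.finite
    calc Nat.card ↥(S ⊓ Subgroup.centralizer {a}) ≤ Nat.card (Equiv.Perm (TG a)) :=
          Nat.card_le_card_of_injective φ hφinj
      _ = (Nat.card (TG a)).factorial := Nat.card_perm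
      _ ≤ m.factorial := Nat.factorial_le hm

end Cfsg.Agent.Lib.Helper41.InvB
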