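import Mathlib
import Cfsg.Agent.Lib.Helper41.InvBDefs
import Cfsg.Agent.Lib.Helper41.InvB14a
import Cfsg.Agent.Lib.Helper84.InvB6
import Cfsg.Agent.Lib.Helper84.InvB9b
import Cfsg.Agent.Lib.Helper19.InvB7
import Cfsg.Agent.Lib.Helper97.InvBSchur
import Cfsg.Agent.Lib.Helper99.InvB14b
import Cfsg.Agent.Lib.Helper46.InvB14c

/-!
# S3928: glue leaves 9 (hypercentral bound) and 14 (simple normal subgroup bound)
-/

set_option autoImplicit false

namespace Cfsg.Agent.Lib.Helper41.InvB

variable {Γ : Type*} [Group Γ] [Finite Γ]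

theorem card_le_of_ucs_index (a : Γ) (hg : Gen a) (m b n : ℕ) (hm : Nat.card (TG a) ≤ m)
    (hb : (Subgroup.upperCentralSeries Γ n).index ≤ b) : Nat.card Γ ≤ 2 * m * b ^ (b ^ 3 + 1) := by
  have h1 := Cfsg.Agent.Lib.Helper84.InvB.index_commutator_le_two a hg
  have h2 := Cfsg.Agent.Lib.Helper84.InvB.card_commutator_le_mul a hg m hm
  have h3 := Cfsg.Agent.Lib.Helper19.InvB.index_center_commutator_le a hg n
  have h4 := Cfsg.Agent.Lib.Helper97.InvB.card_commutator_le_of_index_center (X := ↥(commutator Γ)) b (h3.trans hb)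
  have h5 : Nat.card Γ = (commutator Γ).index * Nat.card (commutator Γ) := by
    rw [mul_comm]; exact (Subgroup.card_mul_index _).symm
  rw [h5]
  calc (commutator Γ).index * Nat.card (commutator Γ)
      ≤ 2 * (m * Nat.card (commutator ↥(commutator Γ))) := Nat.mul_le_mul h1 h2
    _ ≤ 2 * (m * b ^ (b ^ 3 + 1)) := by gcongr
    _ = 2 * m * b ^ (b ^ 3 + 1) := by ring

theorem simple_normal_bound (a : Γ) (hg : Gen a) (S : Subgroup Γ) [S.Normal] (hS : IsSimpleGroup S)
    (hna : ¬ ∀ x ∈ S, ∀ y ∈ S, x * y = y * x) (m : ℕ) (hm : Nat.card (TG a) ≤ m) :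
    (∃ t ∈ TG a, t ≠ 1 ∧ t ∈ S) ∧ Nat.card S ≤ (2 * m.factorial ^ 2).factorial := by
  obtain ⟨hT, hnc, hc⟩ := card_centralizer_le a hg S hS hna m hm
  refine ⟨hT, ?_⟩
  obtain ⟨x, hxS, hx1, hcard⟩ := Cfsg.Agent.Lib.Helper99.InvB.bf_count a hg.1 S hnc m.factorial hc
  set H : Subgroup S := (S ⊓ Subgroup.centralizer {x}).subgroupOf S with hH
  have hHcard : Nat.card H = Nat.card ↥(S ⊓ Subgroup.centralizer {x}) :=
    Nat.card_congr (Subgroup.subgroupOfEquivOfLe inf_le_left).toEquiv
  have hHtop : H ≠ ⊤ := by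
    intro htop
    -- then x is central in S
    have hxc : ∀ y ∈ S, y * x = x * y := by
      intro y hy
      have : (⟨y, hy⟩ : S) ∈ H := by rw [htop]; trivial
      rw [hH, Subgroup.mem_subgroupOf, Subgroup.mem_inf] at this
      have h2 := this.2
      rw [Subgroup.mem_centralizer_iff] at h2
      exact (h2 x rfl).symm
    have hcen : (⟨x, hxS⟩ : S) ∈ Subgroup.center S := by
      rw [Subgroup.mem_center_iff]
      rintro ⟨y, hy⟩
      exact Subtype.ext (hxc y hy)
    rcases (inferInstance : (Subgroup.center S).Normal).eq_bot_or_eq_top with hb | ht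
    · rw [hb, Subgroup.mem_bot] at hcen
      exact hx1 (congrArg Subtype.val hcen)
    · apply hna
      intro u hu v hv
      have : (⟨u, hu⟩ : S) ∈ Subgroup.center S := by rw [ht]; trivial
      rw [Subgroup.mem_center_iff] at this
      have := this ⟨v, hv⟩
      exact (congrArg Subtype.val this).symm
  have hidx : H.index ≤ 2 * m.factorial ^ 2 := by
    have h1 : H.index * Nat.card H = Nat.card S := by
      rw [mul_comm]; exact Subgroup.card_mul_index H
    have hpos : 0 < Nat.card H := Nat.card_pos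
    rw [← h1, hHcard] at hcard
    rw [hHcard] at hpos
    exact Nat.le_of_mul_le_mul_right hcard hpos
  exact Cfsg.Agent.Lib.Helper46.InvB.card_le_factorial_of_simple H hHtop _ hidx

end Cfsg.Agent.Lib.Helper41.InvB
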