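import Mathlib
import Cfsg.Agent.Lib.Helper41.InvBDefs
import Cfsg.Agent.Lib.Helper01.InvB12
import Cfsg.Agent.Lib.Helper44.InvB16Main
import Cfsg.Agent.Lib.Helper41.InvBGlue
import Cfsg.Agent.Lib.Helper79.InvB10
import Cfsg.Agent.Lib.Helper17.InvB11
import Cfsg.Agent.Lib.Helper69.InvB13
import Cfsg.Agent.Lib.Helper50.InvB18
import Cfsg.Agent.Lib.Helper50.InvB16a
import Cfsg.Agent.Lib.Helper46.InvB15
import Cfsg.Agent.Lib.Helper79.InvB17b
import Cfsg.Agent.Lib.Helper44.InvB17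
import Cfsg.Agent.Lib.Helper97.InvBHyper
import Cfsg.Agent.Lib.Helper97.InvBGenQuot
import Cfsg.Agent.Lib.Helper84.InvB9b
import Cfsg.Agent.Lib.Helper01.InvB4c

/-!
# S3928: glue (minimal normal subgroup bound, main induction)
-/

set_option autoImplicit false

namespace Cfsg.Agent.Lib.Helper41.InvB

/-- a finite nontrivial group has a minimal normal subgroup -/
theorem exists_isMinNormal (Γ : Type*) [Group Γ] [Finite Γ] [Nontrivial Γ] :
    ∃ N : Subgroup Γ, IsMinNormal N := by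
  classical
  have hex : ∃ k : ℕ, ∃ N : Subgroup Γ, N.Normal ∧ N ≠ ⊥ ∧ Nat.card N = k :=
    ⟨_, ⊤, inferInstance, top_ne_bot, rfl⟩
  obtain ⟨N, hNn, hN1, hNk⟩ := Nat.find_spec hex
  refine ⟨N, hNn, hN1, ?_⟩
  intro M hMn hMN
  by_cases hM1 : M = ⊥
  · exact Or.inl hM1
  · right
    have h1 : Nat.find hex ≤ Nat.card M := Nat.find_min' hex ⟨M, hMn, hM1, rfl⟩
    rw [← hNk] at h1
    exact Subgroup.eq_of_le_of_card_ge hMN h1

theorem conjS_le_of_normal {Γ : Type*} [Group Γ] (γ : Γ) {S N : Subgroup Γ} (hN : N.Normal) (hSN : S ≤ N) :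
    conjS γ S ≤ N := by
  intro x hx
  rw [mem_conjS_iff] at hx
  have := hN.conj_mem _ (hSN hx) γ
  simpa [mul_assoc] using this

/-- the conjugate of a simple group is simple -/
theorem isSimpleGroup_conjS {Γ : Type*} [Group Γ] (γ : Γ) (S : Subgroup Γ) (hS : IsSimpleGroup S) :
    IsSimpleGroup (conjS γ S) := by
  have e : S ≃* conjS γ S := S.equivMapOfInjective _ (MulEquiv.injective _)
  exact (MulEquiv.isSimpleGroup_congr e).mp hS

theorem card_conjS {Γ : Type*} [Group Γ] (γ : Γ) (S : Subgroup Γ) :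
    Nat.card (conjS γ S) = Nat.card S := by
  have e : S ≃* conjS γ S := S.equivMapOfInjective _ (MulEquiv.injective _)
  exact (Nat.card_congr e.toEquiv).symm

theorem not_comm_conjS {Γ : Type*} [Group Γ] (γ : Γ) (S : Subgroup Γ)
    (hna : ¬ ∀ x ∈ S, ∀ y ∈ S, x * y = y * x) :
    ¬ ∀ x ∈ conjS γ S, ∀ y ∈ conjS γ S, x * y = y * x := by
  intro h
  apply hna
  intro x hx y hy
  have hx' : γ * x * γ⁻¹ ∈ conjS γ S := by
    rw [mem_conjS_iff]; simpa [mul_assoc] using hx
  have hy' : γ * y * γ⁻¹ ∈ conjS γ S := by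
    rw [mem_conjS_iff]; simpa [mul_assoc] using hy
  have := h _ hx' _ hy'
  have h2 : γ * (x * y) * γ⁻¹ = γ * (y * x) * γ⁻¹ := by
    calc γ * (x * y) * γ⁻¹ = (γ * x * γ⁻¹) * (γ * y * γ⁻¹) := by group
      _ = (γ * y * γ⁻¹) * (γ * x * γ⁻¹) := this
      _ = γ * (y * x) * γ⁻¹ := by group
  exact mul_left_cancel (mul_right_cancel h2)

theorem le_beta_1 (m : ℕ) : m ^ m ≤ beta m := by unfold beta; omega
theorem le_beta_2 (m : ℕ) : m ^ (2 * m) ≤ beta m := by unfold beta; omega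
theorem le_beta_3 (m : ℕ) : (m.factorial) ^ (1 + m * (2 * m)) ≤ beta m := by unfold beta; omega
theorem le_beta_4 (m : ℕ) : (2 * m.factorial ^ 2).factorial ≤ beta m := by unfold beta; omega

/-- (MN): a minimal normal subgroup of a centreless `Γ` drops `TG` and is bounded. -/
theorem minNormal_bound {Γ : Type*} [Group Γ] [Finite Γ] (a : Γ) (hg : Gen a)
    (hZ : Subgroup.center Γ = ⊥) (N : Subgroup Γ) (hN : IsMinNormal N) (m : ℕ)
    (hm : Nat.card (TG a) ≤ m) : Drop a N ∧ Nat.card N ≤ beta m := by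
  by_cases hab : ∀ x ∈ N, ∀ y ∈ N, x * y = y * x
  · obtain ⟨p, hp, hexp⟩ := Cfsg.Agent.Lib.Helper79.InvB.exists_prime_exponent N hN hab
    by_cases hp2 : p = 2
    · subst hp2
      obtain ⟨h1, h2⟩ := Cfsg.Agent.Lib.Helper01.InvB.minNormal_abelian_two a hg hZ N hN hab hexp m hm
      exact ⟨h1, h2.trans (le_beta_2 m)⟩
    · obtain ⟨h1, h2⟩ := Cfsg.Agent.Lib.Helper17.InvB.minNormal_abelian_odd a hg hZ N hN hab p hp hp2 hexp m hm
      exact ⟨h1, h2.trans (le_beta_1 m)⟩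
  · obtain ⟨S, hSN, hnorm, hS, hna⟩ := Cfsg.Agent.Lib.Helper69.InvB.exists_simple_normal N hN hab
    have hS1 : S ≠ ⊥ := by
      intro h
      apply hna
      intro x hx y hy
      rw [h, Subgroup.mem_bot] at hx hy
      rw [hx, hy]
    by_cases hfix : ∀ γ : Γ, conjS a (conjS γ S) = conjS γ S
    · have hSn : S.Normal := Cfsg.Agent.Lib.Helper50.InvB.normal_of_conj_fixed a hg S hfix
      obtain ⟨⟨t, ht, ht1, htS⟩, hcard⟩ := simple_normal_bound a hg S hS hna m hm
      have hSN' : S = N := by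
        rcases hN.2.2 S hSn hSN with h | h
        · exact absurd h hS1
        · exact h
      refine ⟨⟨1, one_mem_TG a, t, ht, Ne.symm ht1, ?_⟩, ?_⟩
      · simpa using hSN htS
      · rw [← hSN']; exact hcard.trans (le_beta_4 m)
    · push Not at hfix
      obtain ⟨γ, hγ⟩ := hfix
      have hR_simple : IsSimpleGroup (conjS γ S) := isSimpleGroup_conjS γ S hS
      have hR_na := not_comm_conjS γ S hna
      have hne : conjS γ S ≠ conjS (a * γ) S := by
        rw [conjS_mul]; exact fun h => hγ h.symm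
      obtain ⟨hdisj, hcomm⟩ := Cfsg.Agent.Lib.Helper50.InvB.conj_disjoint_commute N hN S hSN hnorm hS hna γ (a * γ) hne
      rw [conjS_mul] at hdisj hcomm
      obtain ⟨⟨t, ht, ht1, htR⟩, hcardR⟩ :=
        Cfsg.Agent.Lib.Helper46.InvB.swap_bound a hg.1 (conjS γ S) hR_simple hR_na hcomm hdisj m hm
      have hRN : conjS γ S ≤ N := conjS_le_of_normal γ hN.1 hSN
      have haRN : conjS a (conjS γ S) ≤ N := conjS_le_of_normal a hN.1 hRN
      refine ⟨⟨1, one_mem_TG a, t, ht, Ne.symm ht1, ?_⟩, ?_⟩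
      · simpa using (sup_le hRN haRN) htR
      · have h1 := Cfsg.Agent.Lib.Helper79.InvB.card_le_pow_orbit N hN S hSN hS1 hnorm
        have h2 := Cfsg.Agent.Lib.Helper44.InvB.orbit_ncard_le a hg S m hm
        have h3 := Cfsg.Agent.Lib.Helper44.InvB.moved_ncard_le a hg.1 N hN S hSN hnorm hS hna m hm
        have h4 : Nat.card S ≤ m.factorial := by rw [← card_conjS γ S]; exact hcardR
        have h5 : Set.ncard {R : Subgroup Γ | ∃ γ : Γ, R = conjS γ S} ≤ 1 + m * (2 * m) :=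
          h2.trans (by gcongr)
        calc Nat.card N ≤ Nat.card S ^ Set.ncard {R : Subgroup Γ | ∃ γ : Γ, R = conjS γ S} := h1
          _ ≤ m.factorial ^ Set.ncard {R : Subgroup Γ | ∃ γ : Γ, R = conjS γ S} :=
              Nat.pow_le_pow_left h4 _
          _ ≤ m.factorial ^ (1 + m * (2 * m)) :=
              Nat.pow_le_pow_right (Nat.factorial_pos m) h5
          _ ≤ beta m := le_beta_3 m


theorem card_TG_pos {Γ : Type*} [Group Γ] [Finite Γ] (a : Γ) : 0 < Nat.card (TG a) := by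
  haveI : Nonempty (TG a) := ⟨⟨1, one_mem_TG a⟩⟩
  exact Nat.card_pos

/-- (Main) -/
theorem main_bound : ∀ m : ℕ, ∃ B : ℕ, ∀ (Γ : Type) [Group Γ] [Finite Γ] (a : Γ),
    Gen a → Nat.card (TG a) ≤ m → Nat.card Γ ≤ B := by
  intro m
  induction m with
  | zero =>
    refine ⟨0, ?_⟩
    intro Γ _ _ a _ hm
    have := card_TG_pos a
    omega
  | succ m ih =>
    obtain ⟨B', hB'⟩ := ih
    refine ⟨2 * (m + 1) * (beta (m + 1) * B' + 1) ^ ((beta (m + 1) * B' + 1) ^ 3 + 1), ?_⟩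
    intro Γ _ _ a hg hm
    obtain ⟨n, hn⟩ := Cfsg.Agent.Lib.Helper97.InvB.exists_hyper Γ
    have hidx : (Subgroup.upperCentralSeries Γ n).index ≤ beta (m + 1) * B' + 1 := by
      rw [Subgroup.index_eq_card]
      by_cases htriv : Subsingleton (Γ ⧸ Subgroup.upperCentralSeries Γ n)
      · rw [Nat.card_unique]; omega
      · rw [not_subsingleton_iff_nontrivial] at htriv
        obtain ⟨N, hN⟩ := exists_isMinNormal (Γ ⧸ Subgroup.upperCentralSeries Γ n)
        haveI : N.Normal := hN.1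
        have hg1 := Cfsg.Agent.Lib.Helper97.InvB.gen_quot a hg (Subgroup.upperCentralSeries Γ n)
        have hc1 := Cfsg.Agent.Lib.Helper84.InvB.card_TG_quot_le a hg.1 (Subgroup.upperCentralSeries Γ n)
        obtain ⟨hdrop, hcardN⟩ := minNormal_bound _ hg1 hn N hN (m + 1) (hc1.trans hm)
        have hg2 := Cfsg.Agent.Lib.Helper97.InvB.gen_quot _ hg1 N
        have hc2 := Cfsg.Agent.Lib.Helper01.InvB.card_TG_quot_lt _ hg1.1 N hdrop
        have hq : Nat.card ((Γ ⧸ Subgroup.upperCentralSeries Γ n) ⧸ N) ≤ B' :=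
          hB' _ _ hg2 (by omega)
        rw [Subgroup.card_eq_card_quotient_mul_card_subgroup N]
        calc Nat.card ((Γ ⧸ Subgroup.upperCentralSeries Γ n) ⧸ N) * Nat.card N
            ≤ B' * beta (m + 1) := Nat.mul_le_mul hq hcardN
          _ ≤ beta (m + 1) * B' + 1 := by rw [Nat.mul_comm]; omega
    exact card_le_of_ucs_index a hg (m + 1) _ n hm hidx

end Cfsg.Agent.Lib.Helper41.InvB
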