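import Cfsg.Agent.Lib.Helper57.KQBase

/-!
# Clifford's theorem for subnormal subgroups, in the language of subgroups

If `W` is an abelian minimal normal subgroup of the finite group `H`, and `M` lies between two normal
subgroups `N₀ ≤ N` of `H` with `N / N₀` a `p`-group (so `M` is subnormal in `H`), then every `M`-invariant
subgroup of `W` has an `M`-invariant complement in `W`.
-/

set_option autoImplicit false

namespace Cfsg.Agent.Lib.Helper41.KCliff

open Cfsg Cfsg.Agent.Lib.Helper57.KQ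
open scoped commutatorElement

variable {H : Type*} [Group H]

/-- every `M`-invariant subgroup of `W` has an `M`-invariant complement in `W` -/
def Compl (M W : Subgroup H) : Prop :=
  ∀ U : Subgroup H, U ≤ W → M ≤ Subgroup.normalizer (U : Set H) →
    ∃ C : Subgroup H, C ≤ W ∧ M ≤ Subgroup.normalizer (C : Set H) ∧ U ⊓ C = ⊥ ∧ W ≤ U ⊔ C

theorem le_normalizer_bot (M : Subgroup H) :
    M ≤ Subgroup.normalizer (((⊥ : Subgroup H) : Subgroup H) : Set H) := by
  intro n _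
  rw [Subgroup.mem_normalizer_iff]
  intro x
  simp

theorem compl_top_of_minAb {W : Subgroup H} (hW : MinAb W) : Compl ⊤ W := by
  intro U hUW hU
  have hUn : U.Normal := Subgroup.normalizer_eq_top_iff.mp (top_le_iff.mp hU)
  have hWn : W.Normal := hW.normal
  rcases hW.min U hUn hUW with h | h
  · refine ⟨W, le_rfl, ?_, ?_, le_sup_right⟩
    · rw [Subgroup.normalizer_eq_top W]
    · rw [h]; exact bot_inf_eq _
  · refine ⟨⊥, bot_le, le_normalizer_bot _, inf_bot_eq _, ?_⟩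
    rw [h]; exact le_sup_left

theorem normalizer_cj' {N U : Subgroup H} {h : H} (hh : h ∈ Subgroup.normalizer (N : Set H))
    (hU : N ≤ Subgroup.normalizer (U : Set H)) :
    N ≤ Subgroup.normalizer ((cj h U : Subgroup H) : Set H) := by
  intro n hn
  rw [Subgroup.mem_normalizer_iff]
  intro x
  rw [mem_cj, mem_cj]
  have hn' : h⁻¹ * n * h⁻¹⁻¹ ∈ N :=
    (Subgroup.mem_normalizer_iff.mp (Subgroup.inv_mem _ hh) n).mp hn
  have h1 := Subgroup.mem_normalizer_iff.mp (hU hn') (h⁻¹ * x * h)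
  have e : h⁻¹ * n * h⁻¹⁻¹ * (h⁻¹ * x * h) * (h⁻¹ * n * h⁻¹⁻¹)⁻¹ = h⁻¹ * (n * x * n⁻¹) * h := by
    group
  rw [e] at h1
  exact h1

theorem isMinInv_cj' {N V : Subgroup H} {h : H} (hh : h ∈ Subgroup.normalizer (N : Set H))
    (hV : IsMinInv N V) : IsMinInv N (cj h V) := by
  obtain ⟨h1, h2, h3⟩ := hV
  refine ⟨?_, normalizer_cj' hh h2, ?_⟩
  · intro hbot
    apply h1
    rw [← cj_inv_cj h V, hbot, cj_bot]
  · intro V' hV' hN'
    have h4 : cj h⁻¹ V' ≤ V := by
      rw [← cj_inv_cj h V]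
      exact cj_mono hV'
    rcases h3 _ h4 (normalizer_cj' (Subgroup.inv_mem _ hh) hN') with h5 | h5
    · left
      rw [← cj_cj_inv h V', h5, cj_bot]
    · right
      rw [← cj_cj_inv h V', h5]

theorem cj_le_of_mem_normalizer {h : H} {U W : Subgroup H}
    (hh : h ∈ Subgroup.normalizer (W : Set H)) (hUW : U ≤ W) : cj h U ≤ W := by
  intro x hx
  rw [mem_cj] at hx
  have h1 := (Subgroup.mem_normalizer_iff.mp hh _).mp (hUW hx)
  have e : h * (h⁻¹ * x * h) * h⁻¹ = x := by group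
  rwa [e] at h1

theorem exists_isMinInv_le [Finite H] {M D : Subgroup H} (hD : D ≠ ⊥)
    (hMD : M ≤ Subgroup.normalizer (D : Set H)) : ∃ V : Subgroup H, V ≤ D ∧ IsMinInv M V := by
  obtain ⟨V₀, hV₀D, hV₀⟩ := Finite.exists_le_minimal
    (p := fun V : Subgroup H => V ≠ ⊥ ∧ M ≤ Subgroup.normalizer (V : Set H)) (a := D) ⟨hD, hMD⟩
  refine ⟨V₀, hV₀D, hV₀.1.1, hV₀.1.2, ?_⟩
  intro V' hV' hN'
  by_cases hb : V' = ⊥
  · left; exact hb
  · right
    exact le_antisymm hV' (hV₀.2 ⟨hb, hN'⟩ hV')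

/-- the socle of `W` with respect to `M` is all of `W`, if `W` is completely reducible under a
subgroup `K` normalizing `M` -/
theorem le_sSup_isMinInv [Finite H] {W M K : Subgroup H} (hMK : M ≤ K)
    (hKM : K ≤ Subgroup.normalizer (M : Set H)) (hKW : K ≤ Subgroup.normalizer (W : Set H))
    (h : Compl K W) : W ≤ sSup {V : Subgroup H | V ≤ W ∧ IsMinInv M V} := by
  set Soc := sSup {V : Subgroup H | V ≤ W ∧ IsMinInv M V} with hSoc
  have hSocW : Soc ≤ W := sSup_le (fun V hV => hV.1)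
  have hKSoc : K ≤ Subgroup.normalizer (Soc : Set H) := by
    apply le_normalizer_of_conj_mem
    intro k hk x hx
    have h1 : cj k Soc ≤ Soc := by
      have e : cj k Soc = ⨆ V : {V : Subgroup H | V ≤ W ∧ IsMinInv M V}, cj k (V : Subgroup H) := by
        unfold cj
        rw [hSoc, sSup_eq_iSup', Subgroup.map_iSup]
      rw [e]
      apply iSup_le
      rintro ⟨V, hV⟩
      exact le_sSup ⟨cj_le_of_mem_normalizer (hKW hk) hV.1, isMinInv_cj' (hKM hk) hV.2⟩
    exact h1 (conj_mem_cj hx)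
  obtain ⟨D, hDW, hKD, hSD, hWSD⟩ := h Soc hSocW hKSoc
  have hD : D = ⊥ := by
    by_contra hD
    obtain ⟨V, hVD, hV⟩ := exists_isMinInv_le hD (hMK.trans hKD)
    have h1 : V ≤ Soc := le_sSup ⟨hVD.trans hDW, hV⟩
    have h2 : V ≤ Soc ⊓ D := le_inf h1 hVD
    rw [hSD] at h2
    exact hV.1 (le_bot_iff.mp h2)
  rw [hD, sup_bot_eq] at hWSD
  exact hWSD

/-- **Clifford**: complete reducibility passes to subgroups normalized by the acting group -/
theorem Compl.of_normal [Finite H] {W M K : Subgroup H}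
    (hWab : W ≤ Subgroup.centralizer (W : Set H)) (hMK : M ≤ K)
    (hKM : K ≤ Subgroup.normalizer (M : Set H)) (hKW : K ≤ Subgroup.normalizer (W : Set H))
    (h : Compl K W) : Compl M W := by
  classical
  intro U hUW hMU
  have hsoc := le_sSup_isMinInv hMK hKM hKW h
  obtain ⟨C, -, hC⟩ := Finite.exists_le_maximal
    (p := fun C : Subgroup H => C ≤ W ∧ M ≤ Subgroup.normalizer (C : Set H) ∧ U ⊓ C = ⊥)
    (a := ⊥) ⟨bot_le, le_normalizer_bot M, inf_bot_eq _⟩
  obtain ⟨⟨hCW, hCM, hUC⟩, hCmax⟩ := hC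
  refine ⟨C, hCW, hCM, hUC, ?_⟩
  by_contra hnot
  have hex : ∃ V : Subgroup H, (V ≤ W ∧ IsMinInv M V) ∧ ¬ V ≤ U ⊔ C := by
    by_contra hall
    push Not at hall
    exact hnot (hsoc.trans (sSup_le (fun V hV => hall V hV)))
  obtain ⟨V, ⟨hVW, hV⟩, hVUC⟩ := hex
  have hUCM : M ≤ Subgroup.normalizer ((U ⊔ C : Subgroup H) : Set H) := normalizer_sup' hMU hCM
  have hmeet : V ⊓ (U ⊔ C) = ⊥ := by
    rcases hV.2.2 _ inf_le_left (normalizer_inf' hV.2.1 hUCM) with h1 | h1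
    · exact h1
    · exfalso
      apply hVUC
      rw [← h1]
      exact inf_le_right
  have hC' : C ⊔ V ≤ C := by
    apply hCmax ⟨sup_le hCW hVW, normalizer_sup' hCM hV.2.1, ?_⟩ le_sup_left
    rw [eq_bot_iff]
    intro x hx
    rw [Subgroup.mem_inf] at hx
    obtain ⟨c, hc, v, hv, hxcv⟩ := mem_sup_ab hWab hCW hVW hx.2
    have hv' : v ∈ U ⊔ C := by
      have e : v = c⁻¹ * x := by rw [hxcv]; group
      rw [e, sup_comm]
      exact Subgroup.mul_mem_sup (C.inv_mem hc) hx.1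
    have hv1 : v = 1 := by
      have : v ∈ V ⊓ (U ⊔ C) := Subgroup.mem_inf.mpr ⟨hv, hv'⟩
      rw [hmeet] at this
      exact Subgroup.mem_bot.mp this
    rw [hv1, mul_one] at hxcv
    have : x ∈ U ⊓ C := Subgroup.mem_inf.mpr ⟨hx.1, hxcv ▸ hc⟩
    rw [hUC] at this
    exact this
  exact hVUC ((le_sup_right.trans hC').trans le_sup_right)

/-- the normalizer condition, relative to a normal subgroup `N₀` modulo which `N` is a `p`-group -/
theorem exists_normalizing [Finite H] {p : ℕ} [Fact p.Prime] {N N₀ M : Subgroup H} [hN₀ : N₀.Normal]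
    (hpp : ∀ n ∈ N, ∃ k : ℕ, n ^ p ^ k ∈ N₀) (hN₀M : N₀ ≤ M) (hMN : M ≤ N) (hne : M ≠ N) :
    ∃ x ∈ N, x ∉ M ∧ x ∈ Subgroup.normalizer (M : Set H) := by
  set ρ := QuotientGroup.mk' N₀ with hρ
  have hmem : ∀ h : H, ρ h ∈ M.map ρ ↔ h ∈ M := by
    intro h
    constructor
    · intro hh
      have h1 : h ∈ (M.map ρ).comap ρ := hh
      rw [Subgroup.comap_map_eq, QuotientGroup.ker_mk', sup_eq_left.mpr hN₀M] at h1
      exact h1
    · intro hh
      exact Subgroup.mem_map_of_mem ρ hh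
  set Nb := N.map ρ with hNb
  have hNbp : IsPGroup p ↥Nb := by
    rintro ⟨_, n, hn, rfl⟩
    obtain ⟨k, hk⟩ := hpp n hn
    refine ⟨k, ?_⟩
    apply Subtype.ext
    simp only [Subgroup.coe_pow, Subgroup.coe_one]
    rw [← map_pow]
    exact (QuotientGroup.eq_one_iff _).mpr hk
  haveI : Group.IsNilpotent ↥Nb := hNbp.isNilpotent
  have hnc : NormalizerCondition ↥Nb := Group.normalizerCondition_of_isNilpotent
  set Mt : Subgroup ↥Nb := (M.map ρ).subgroupOf Nb with hMt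
  have hlt : Mt < ⊤ := by
    rw [lt_top_iff_ne_top]
    intro htop
    apply hne
    apply le_antisymm hMN
    intro n hn
    have h1 : (⟨ρ n, Subgroup.mem_map_of_mem ρ hn⟩ : ↥Nb) ∈ Mt := by rw [htop]; exact Subgroup.mem_top _
    rw [hMt, Subgroup.mem_subgroupOf] at h1
    exact (hmem n).mp h1
  obtain ⟨xt, hxt, hxt'⟩ := SetLike.exists_of_lt (hnc Mt hlt)
  obtain ⟨xb, hxb⟩ := xt
  have hxb' := hxb
  obtain ⟨x, hx, hxe⟩ := hxb'
  refine ⟨x, hx, ?_, ?_⟩
  · intro hxM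
    apply hxt'
    rw [hMt, Subgroup.mem_subgroupOf]
    show xb ∈ M.map ρ
    rw [← hxe]
    exact Subgroup.mem_map_of_mem ρ hxM
  · rw [Subgroup.mem_normalizer_iff]
    intro h
    have key : ∀ (hh : h ∈ N), (h ∈ M ↔ x * h * x⁻¹ ∈ M) := by
      intro hh
      have h1 := Subgroup.mem_normalizer_iff.mp hxt (⟨ρ h, Subgroup.mem_map_of_mem ρ hh⟩ : ↥Nb)
      rw [hMt, Subgroup.mem_subgroupOf, Subgroup.mem_subgroupOf] at h1
      have e : (((⟨xb, hxb⟩ : ↥Nb) * ⟨ρ h, Subgroup.mem_map_of_mem ρ hh⟩ *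
          (⟨xb, hxb⟩ : ↥Nb)⁻¹ : ↥Nb) : H ⧸ N₀) = ρ (x * h * x⁻¹) := by
        simp only [Subgroup.coe_mul, Subgroup.coe_inv, map_mul, map_inv, hxe]
      rw [e] at h1
      rw [← hmem h, ← hmem (x * h * x⁻¹)]
      exact h1
    constructor
    · intro hh
      exact (key (hMN hh)).mp hh
    · intro hh
      have hhN : h ∈ N := by
        have h1 : x * h * x⁻¹ ∈ N := hMN hh
        have e : h = x⁻¹ * (x * h * x⁻¹) * x := by group
        rw [e]
        exact N.mul_mem (N.mul_mem (N.inv_mem hx) h1) hx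
      exact (key hhN).mpr hh

/-- **Clifford for subnormal subgroups**: complements exist for every subgroup between `N₀` and `N` -/
theorem compl_of_between [Finite H] {p : ℕ} [Fact p.Prime] {W N N₀ : Subgroup H} (hW : MinAb W)
    [hN : N.Normal] [hN₀ : N₀.Normal] (hpp : ∀ n ∈ N, ∃ k : ℕ, n ^ p ^ k ∈ N₀) :
    ∀ (k : ℕ) (M : Subgroup H), N₀ ≤ M → M ≤ N → Nat.card N ≤ Nat.card M + k → Compl M W := by
  have hWn : W.Normal := hW.normal
  have htop : ∀ M : Subgroup H, M ≤ Subgroup.normalizer (W : Set H) := by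
    intro M
    rw [Subgroup.normalizer_eq_top W]
    exact le_top
  have hbase : Compl N W := by
    apply Compl.of_normal hW.comm le_top ?_ (htop ⊤) (compl_top_of_minAb hW)
    rw [Subgroup.normalizer_eq_top N]
  intro k
  induction k with
  | zero =>
    intro M _ hMN hcard
    have : M = N := Subgroup.eq_of_le_of_card_ge hMN (by simpa using hcard)
    rw [this]
    exact hbase
  | succ k ih =>
    intro M hN₀M hMN hcard
    by_cases hMN' : M = N
    · rw [hMN']; exact hbase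
    obtain ⟨x, hxN, hxM, hxn⟩ := exists_normalizing hpp hN₀M hMN hMN'
    set M' := Subgroup.normalizer (M : Set H) ⊓ N with hM'
    have hMM' : M ≤ M' := le_inf Subgroup.le_normalizer hMN
    have hlt : M < M' := by
      refine lt_of_le_of_ne hMM' ?_
      intro he
      apply hxM
      rw [he]
      exact ⟨hxn, hxN⟩
    have hc : Nat.card M < Nat.card M' := by
      have : Nat.card M ≠ Nat.card M' := by
        intro he
        exact hlt.ne (Subgroup.eq_of_le_of_card_ge hMM' he.ge)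
      exact lt_of_le_of_ne (Subgroup.card_le_of_le hMM') this
    have h1 : Compl M' W := ih M' (hN₀M.trans hMM') inf_le_right (by omega)
    exact Compl.of_normal hW.comm hMM' inf_le_left (htop M') h1

theorem compl_between [Finite H] {p : ℕ} [Fact p.Prime] {W N N₀ M : Subgroup H} (hW : MinAb W)
    [hN : N.Normal] [hN₀ : N₀.Normal] (hpp : ∀ n ∈ N, ∃ k : ℕ, n ^ p ^ k ∈ N₀) (hN₀M : N₀ ≤ M)
    (hMN : M ≤ N) : Compl M W :=
  compl_of_between hW hpp (Nat.card N) M hN₀M hMN (Nat.le_add_left _ _)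

/-- in an abelian normal subgroup, commutators with a subgroup are additive -/
theorem commutator_sup_le_ab {W D E B : Subgroup H} [hWn : W.Normal]
    (hW : W ≤ Subgroup.centralizer (W : Set H)) (hD : D ≤ W) (hE : E ≤ W) :
    ⁅D ⊔ E, B⁆ ≤ ⁅D, B⁆ ⊔ ⁅E, B⁆ := by
  rw [Subgroup.commutator_le]
  intro x hx b hb
  obtain ⟨d, hd, e, he, rfl⟩ := mem_sup_ab hW hD hE hx
  have heW : ⁅e, b⁆ ∈ W := by
    rw [commutatorElement_def]
    have h1 : b * e⁻¹ * b⁻¹ ∈ W := hWn.conj_mem _ (W.inv_mem (hE he)) b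
    have e1 : e * b * e⁻¹ * b⁻¹ = e * (b * e⁻¹ * b⁻¹) := by group
    rw [e1]
    exact W.mul_mem (hE he) h1
  have hcomm : d * ⁅e, b⁆ = ⁅e, b⁆ * d :=
    (Subgroup.mem_centralizer_iff.mp (hW (hD hd)) _ heW).symm
  have e2 : ⁅d * e, b⁆ = (d * ⁅e, b⁆) * d⁻¹ * ⁅d, b⁆ := by
    simp only [commutatorElement_def]; group
  rw [e2, hcomm]
  have e3 : ⁅e, b⁆ * d * d⁻¹ * ⁅d, b⁆ = ⁅e, b⁆ * ⁅d, b⁆ := by group
  rw [e3]
  exact Subgroup.mul_mem _ (Subgroup.mem_sup_right (Subgroup.commutator_mem_commutator he hb))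
    (Subgroup.mem_sup_left (Subgroup.commutator_mem_commutator hd hb))

/-- the two-step quadratic action of `B` on `W` (through the `M`-invariant subgroup `U`) is
quadratic, if `W` is completely reducible under `M ≥ B` -/
theorem quadratic_of_compl {W U M B : Subgroup H} [hWn : W.Normal]
    (hW : W ≤ Subgroup.centralizer (W : Set H)) (hc : Compl M W) (hUW : U ≤ W)
    (hMU : M ≤ Subgroup.normalizer (U : Set H)) (hBM : B ≤ M)
    (hq1 : ⁅⁅W, B⁆, B⁆ ≤ U) (hq2 : ⁅⁅U, B⁆, B⁆ = ⊥) : ⁅⁅W, B⁆, B⁆ = ⊥ := by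
  obtain ⟨C, hCW, hMC, hUC, hWUC⟩ := hc U hUW hMU
  have hBC : B ≤ Subgroup.normalizer (C : Set H) := hBM.trans hMC
  have hCB : ⁅C, B⁆ ≤ C := commutator_le_left_of_le_normalizer hBC
  have hCBB : ⁅⁅C, B⁆, B⁆ = ⊥ := by
    rw [eq_bot_iff, ← hUC]
    refine le_inf ?_ ?_
    · exact (Subgroup.commutator_mono (Subgroup.commutator_mono hCW le_rfl) le_rfl).trans hq1
    · exact (Subgroup.commutator_mono hCB le_rfl).trans hCB
  have hWB : ∀ D : Subgroup H, D ≤ W → ⁅D, B⁆ ≤ W := fun D hD =>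
    (Subgroup.commutator_mono hD le_rfl).trans (Subgroup.commutator_le_left W B)
  rw [eq_bot_iff]
  calc ⁅⁅W, B⁆, B⁆ ≤ ⁅⁅U ⊔ C, B⁆, B⁆ :=
        Subgroup.commutator_mono (Subgroup.commutator_mono hWUC le_rfl) le_rfl
    _ ≤ ⁅⁅U, B⁆ ⊔ ⁅C, B⁆, B⁆ :=
        Subgroup.commutator_mono (commutator_sup_le_ab hW hUW hCW) le_rfl
    _ ≤ ⁅⁅U, B⁆, B⁆ ⊔ ⁅⁅C, B⁆, B⁆ := commutator_sup_le_ab hW (hWB U hUW) (hWB C hCW)
    _ = ⊥ := by rw [hq2, hCBB, sup_bot_eq]

end Cfsg.Agent.Lib.Helper41.KCliff
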