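import Cfsg.Agent.Lib.Helper41.KStableB
import Cfsg.Agent.Lib.Helper41.KCliff
import Cfsg.Agent.Lib.Helper16.KInfCtl

/-!
# Glauberman: a non-normal `K_∞` subgroup gives a quadratic, non-trivial action on a chief factor inside
a critical subgroup
-/

set_option autoImplicit false

universe u

namespace Cfsg.Agent.Lib.Helper41.KStable

open Cfsg Cfsg.Agent.Lib.Helper41 Cfsg.Agent.Lib.Helper16.KComm Cfsg.Agent.Lib.Helper16.KSub
open scoped commutatorElement

section twostep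

variable {G : Type*} [Group G] [Finite G] {p : ℕ} [Fact p.Prime]

/-- a two-step quadratic action of `B` on the chief factor `X / Y`, through a subgroup `X_K` invariant under
`N₀ B`, is quadratic (Clifford's theorem for the subnormal subgroup `N₀ B`) -/
theorem two_step_quadratic {X Y XK N N₀ B : Subgroup G} [hXn : X.Normal] [hYn : Y.Normal]
    [hNn : N.Normal] [hN₀n : N₀.Normal]
    (hmax : ∀ Z : Subgroup G, Z.Normal → Z ≤ X → Z ≠ X → Z ≤ Y) (hXX : ⁅X, X⁆ ≤ Y)
    (hpp : ∀ n ∈ N, ∃ k : ℕ, n ^ p ^ k ∈ N₀) (hN₀N : N₀ ≤ N) (hBN : B ≤ N) (hXKX : XK ≤ X)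
    (hBXK : B ≤ Subgroup.normalizer (XK : Set G)) (hN₀XK : N₀ ≤ Subgroup.normalizer (XK : Set G))
    (hq1 : ⁅⁅X, B⁆, B⁆ ≤ XK) (hq2 : ⁅⁅XK, B⁆, B⁆ ≤ Y) : ⁅⁅X, B⁆, B⁆ ≤ Y := by
  set π := QuotientGroup.mk' Y with hπ
  have hsurj : Function.Surjective π := QuotientGroup.mk'_surjective Y
  set W := X.map π with hWdef
  haveI hWn : W.Normal := Subgroup.Normal.map hXn π hsurj
  have hWab : W ≤ Subgroup.centralizer (W : Set (G ⧸ Y)) := by
    rw [← Subgroup.commutator_eq_bot_iff_le_centralizer, hWdef, ← Subgroup.map_commutator,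
      ← le_iff_map_mk_eq_bot]
    exact hXX
  have hW : Cfsg.Agent.Lib.Helper57.KQ.MinAb W := by
    refine ⟨hWn, hWab, ?_⟩
    intro U hUn hUW
    set Z := U.comap π ⊓ X with hZ
    have hZn : Z.Normal := by
      haveI : (U.comap π).Normal := Subgroup.Normal.comap hUn π
      infer_instance
    by_cases hZX : Z = X
    · right
      apply le_antisymm hUW
      rintro _ ⟨x, hx, rfl⟩
      have h1 : x ∈ Z := by rw [hZX]; exact hx
      exact h1.1
    · left
      have h1 : Z ≤ Y := hmax Z hZn inf_le_right hZX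
      rw [eq_bot_iff]
      intro u hu
      obtain ⟨x, hx, rfl⟩ := hUW hu
      have h2 : x ∈ Z := ⟨hu, hx⟩
      rw [Subgroup.mem_bot]
      exact (QuotientGroup.eq_one_iff x).mpr (h1 h2)
  set Nb := N.map π with hNb
  set N₀b := N₀.map π with hN₀b
  haveI hNbn : Nb.Normal := Subgroup.Normal.map hNn π hsurj
  haveI hN₀bn : N₀b.Normal := Subgroup.Normal.map hN₀n π hsurj
  have hpp' : ∀ n ∈ Nb, ∃ k : ℕ, n ^ p ^ k ∈ N₀b := by
    rintro _ ⟨n, hn, rfl⟩
    obtain ⟨k, hk⟩ := hpp n hn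
    exact ⟨k, ⟨n ^ p ^ k, hk, map_pow π n _⟩⟩
  set M := (N₀ ⊔ B).map π with hM
  have hc : Cfsg.Agent.Lib.Helper41.KCliff.Compl M W :=
    Cfsg.Agent.Lib.Helper41.KCliff.compl_between (p := p) hW hpp' (Subgroup.map_mono le_sup_left)
      (Subgroup.map_mono (sup_le hN₀N hBN))
  have hMU : M ≤ Subgroup.normalizer ((XK.map π : Subgroup (G ⧸ Y)) : Set (G ⧸ Y)) :=
    (Subgroup.map_mono (sup_le hN₀XK hBXK)).trans (Subgroup.le_normalizer_map π)
  have hq1' : ⁅⁅W, B.map π⁆, B.map π⁆ ≤ XK.map π := by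
    rw [hWdef, ← Subgroup.map_commutator, ← Subgroup.map_commutator]
    exact Subgroup.map_mono hq1
  have hq2' : ⁅⁅XK.map π, B.map π⁆, B.map π⁆ = ⊥ := by
    rw [← Subgroup.map_commutator, ← Subgroup.map_commutator, ← le_iff_map_mk_eq_bot]
    exact hq2
  have hq := Cfsg.Agent.Lib.Helper41.KCliff.quadratic_of_compl hWab hc (Subgroup.map_mono hXKX) hMU
    (Subgroup.map_mono le_sup_right) hq1' hq2'
  rw [le_iff_map_mk_eq_bot, Subgroup.map_commutator, Subgroup.map_commutator]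
  exact hq

end twostep

section critical

variable {G : Type*} [Group G] [Finite G] {p : ℕ} [Fact p.Prime]

/-- a subgroup of `O_p(G)` that is characteristic in `O_p(G)` is normal in `G` -/
theorem normal_of_char_in_pCore {A : Subgroup G} (hAT : A ≤ pCore p G)
    (hAchar : (A.subgroupOf (pCore p G)).Characteristic) : A.Normal := by
  haveI hTn : (pCore p G).Normal := pCore_normal' p
  constructor
  intro a ha g
  have h1 := (Subgroup.characteristic_iff_le_comap.mp hAchar) (MulAut.conjNormal g)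
  have h2 : (⟨a, hAT ha⟩ : ↥(pCore p G)) ∈ A.subgroupOf (pCore p G) := by
    rw [Subgroup.mem_subgroupOf]; exact ha
  have h3 := h1 h2
  rw [Subgroup.mem_comap, Subgroup.mem_subgroupOf] at h3
  simpa [MulAut.conjNormal_apply] using h3

/-- for a critical subgroup `A` of `T = O_p(G)` (coprime automorphisms of `T` trivial on `A` are
trivial), `C_G(T) ≤ T` forces `C_G(A) ≤ T` -/
theorem centralizer_le_pCore_of_critical {A : Subgroup G} [hAn : A.Normal]
    (hcon : Subgroup.centralizer ((pCore p G : Subgroup G) : Set G) ≤ pCore p G)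
    (hA5 : ∀ φ : MulAut ↥(pCore p G), (orderOf φ).Coprime p →
      (∀ a : ↥(pCore p G), (a : G) ∈ A → φ a = a) → φ = 1) :
    Subgroup.centralizer (A : Set G) ≤ pCore p G := by
  have hp : p.Prime := Fact.out
  haveI hTn : (pCore p G).Normal := pCore_normal' p
  have hTp : IsPGroup p ↥(pCore p G) := Cfsg.Agent.Lib.Helper40.pCore_isPGroup' p G
  set D := Subgroup.centralizer (A : Set G) with hD
  have hDn : D.Normal := inferInstance
  apply Cfsg.Agent.Lib.Helper40.le_pCore' hDn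
  rintro ⟨x, hx⟩
  obtain ⟨a, m, hm, hxm⟩ := Nat.exists_eq_pow_mul_and_not_dvd (orderOf_pos x).ne' p hp.ne_one
  set y := x ^ p ^ a with hy
  have hyD : y ∈ D := pow_mem hx _
  have hym : y ^ m = 1 := by rw [hy, ← pow_mul, ← hxm, pow_orderOf_eq_one]
  have hmc : m.Coprime p := ((Nat.Prime.coprime_iff_not_dvd hp).mpr hm).symm
  have hyo : (orderOf y).Coprime p :=
    Nat.Coprime.coprime_dvd_left (orderOf_dvd_of_pow_eq_one hym) hmc
  set φ : MulAut ↥(pCore p G) := MulAut.conjNormal y with hφ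
  have hφo : (orderOf φ).Coprime p :=
    Nat.Coprime.coprime_dvd_left (orderOf_map_dvd _ y) hyo
  have hφA : ∀ t : ↥(pCore p G), (t : G) ∈ A → φ t = t := by
    intro t ht
    apply Subtype.ext
    rw [hφ, MulAut.conjNormal_apply]
    have h1 := (Subgroup.mem_centralizer_iff.mp hyD) (t : G) ht
    rw [← h1, mul_inv_cancel_right]
  have hφ1 := hA5 φ hφo hφA
  have hyT : y ∈ pCore p G := by
    apply hcon
    rw [Subgroup.mem_centralizer_iff]
    intro t ht
    have h1 : φ ⟨t, ht⟩ = ⟨t, ht⟩ := by rw [hφ1]; rfl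
    have h2 := congrArg Subtype.val h1
    rw [hφ, MulAut.conjNormal_apply] at h2
    have h2' : y * t * y⁻¹ = t := h2
    calc t * y = (y * t * y⁻¹) * y := by rw [h2']
      _ = y * t := by group
  obtain ⟨j, hj⟩ := hTp ⟨y, hyT⟩
  have hj' : y ^ p ^ j = 1 := by
    have := congrArg Subtype.val hj
    simpa using this
  have hy1 : y = 1 := eq_one_of_pow_eq_one_of_coprime hym hj' hmc
  refine ⟨a, ?_⟩
  apply Subtype.ext
  simp only [Subgroup.coe_pow, Subgroup.coe_one]
  exact hy1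

end critical

section family

variable {G : Type*} [Group G]

/-- the family analysis, keeping track of the family of the bad subgroup: either it acts on `A` with
`⁅A, B, B⁆ ≤ Z(A)`, or it is a member of a lower-star family relative to a subgroup `R` that contains the
normal class-two subgroups `X ≤ T` with `⁅X, T⁆ ≤ Z(X)` -/
theorem exists_bad_subgroup' (S T A : Subgroup G) [T.Normal] [A.Normal] (hTS : T ≤ S) (hAT : A ≤ T)
    (hA3 : ⁅T, A⁆ ≤ A ⊓ Subgroup.centralizer (A : Set G))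
    (hfail : ¬ ∀ n, lowerIn S (oSeq S n) ≤ T ∧ oSeq S (n + 1) ≤ T) :
    ∃ B : Subgroup G, B ≤ S ∧ ¬ B ≤ T ∧ iterCommutator A B 3 = ⊥ ∧
      iterCommutator (A ⊓ Subgroup.centralizer (A : Set G)) B 2 = ⊥ ∧
      (iterCommutator A B 2 ≤ A ⊓ Subgroup.centralizer (A : Set G) ∨
        (B ∈ classTwoSubgroups G ∧ ∃ R : Subgroup G, R ≤ Subgroup.normalizer (B : Set G) ∧
          (∀ A' ∈ classTwoSubgroups G, A' ≤ R → B ≤ Subgroup.normalizer (A' : Set G) →
            ⁅B, ⁅A', A'⁆⁆ = ⊥ → ⁅⁅B ⊓ Subgroup.centralizer (B : Set G), A'⁆, A'⁆ = ⊥ →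
            ⁅B, A'⁆ ≤ B ⊓ Subgroup.centralizer (B : Set G)) ∧
          (∀ X : Subgroup G, X.Normal → X ≤ T → X ∈ classTwoSubgroups G →
            ⁅X, T⁆ ≤ X ⊓ Subgroup.centralizer (X : Set G) → X ≤ R))) := by
  classical
  have hex : ∃ n, ¬ (lowerIn S (oSeq S n) ≤ T ∧ oSeq S (n + 1) ≤ T) := not_forall.mp hfail
  have hn := Nat.find_spec hex
  have hmin : ∀ m < Nat.find hex, lowerIn S (oSeq S m) ≤ T ∧ oSeq S (m + 1) ≤ T :=
    fun m hm => not_not.mp (Nat.find_min hex hm)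
  generalize Nat.find hex = n at hn hmin
  have hZn : (A ⊓ Subgroup.centralizer (A : Set G)).Normal := inferInstance
  set Z := A ⊓ Subgroup.centralizer (A : Set G) with hZ
  have hZab : ⁅Z, Z⁆ = ⊥ := by
    rw [Subgroup.commutator_eq_bot_iff_le_centralizer]
    exact inf_le_right.trans (Subgroup.centralizer_le inf_le_left)
  have hZc : IsMulCommutative ↥Z := Subgroup.commutator_self_eq_bot_iff.mp hZab
  have key0 : ∀ X : Subgroup G, X ≤ T → ⁅A, X⁆ ≤ Z := by
    intro X hX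
    rw [Subgroup.commutator_comm]
    exact (Subgroup.commutator_mono hX le_rfl).trans hA3
  have hAcl : A ∈ classTwoSubgroups G := (key0 A hAT).trans inf_le_right
  have hZcl : Z ∈ classTwoSubgroups G := by
    show ⁅Z, Z⁆ ≤ _
    rw [hZab]
    exact bot_le
  have hAS : A ≤ S := hAT.trans hTS
  by_cases hE : lowerIn S (oSeq S n) ≤ T
  · -- upper case
    have hO : ¬ upperIn S (lowerIn S (oSeq S n)) ≤ T := fun h => hn ⟨hE, h⟩
    unfold upperIn at hO
    rw [sSup_le_iff] at hO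
    push Not at hO
    obtain ⟨B, ⟨⟨hBcl, hBE⟩, hBS⟩, hBT⟩ := hO
    have hZE : Z ≤ lowerIn S (oSeq S n) :=
      le_sSup ⟨normal_abelian_mem_lower Z hZc (oSeq S n), inf_le_left.trans hAS⟩
    have hZ2 : iterCommutator Z B 2 = ⊥ :=
      iter2_of_le_center ((Subgroup.commutator_mono le_rfl hZE).trans hBE)
    by_cases hAl : A ∈ kLowerStarFamily (oSeq S n)
    · have hAE : A ≤ lowerIn S (oSeq S n) := le_sSup ⟨hAl, hAS⟩
      have hA2 : iterCommutator A B 2 = ⊥ :=
        iter2_of_le_center ((Subgroup.commutator_mono le_rfl hAE).trans hBE)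
      refine ⟨B, hBS, hBT, iter_eq_bot_of_le hA2 (by norm_num), hZ2, Or.inl ?_⟩
      rw [hA2]
      exact bot_le
    · have hAl' : ¬ (A ∈ classTwoSubgroups G ∧ oSeq S n ≤ Subgroup.normalizer (A : Set G) ∧
          ∀ A₁ ∈ classTwoSubgroups G, A₁ ≤ oSeq S n → A ≤ Subgroup.normalizer (A₁ : Set G) →
            ⁅A, ⁅A₁, A₁⁆⁆ = ⊥ → ⁅⁅Z, A₁⁆, A₁⁆ = ⊥ → ⁅A, A₁⁆ ≤ Z) := hAl
      push Not at hAl'
      obtain ⟨A₁, hA₁cl, hA₁O, hAA₁, hAA₁', hZA₁, hnot⟩ :=
        hAl' hAcl (le_normalizer_of_normal _ A)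
      refine ⟨A₁, hA₁O.trans (oSeq_le S n), fun h => hnot (key0 A₁ h),
        iter3_of_classTwo hA₁cl hAA₁, hZA₁, Or.inl ?_⟩
      show ⁅⁅A, A₁⁆, A₁⁆ ≤ Z
      have h1 : ⁅A, A₁⁆ ≤ A₁ := by
        rw [Subgroup.commutator_comm]
        exact commutator_le_left_of_normalizer hAA₁
      refine le_inf ?_ ?_
      · exact (Subgroup.commutator_mono (Subgroup.commutator_le_left A A₁) le_rfl).trans
          (Subgroup.commutator_le_left A A₁)
      · refine (Subgroup.commutator_mono h1 le_rfl).trans ?_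
        rw [← Subgroup.commutator_eq_bot_iff_le_centralizer, Subgroup.commutator_comm]
        exact hAA₁'
  · -- lower case
    unfold lowerIn at hE
    rw [sSup_le_iff] at hE
    push Not at hE
    obtain ⟨B, ⟨⟨hBcl, hBnorm, hBcond⟩, hBS⟩, hBT⟩ := hE
    have hRall : ∀ X : Subgroup G, X.Normal → X ≤ T → X ∈ classTwoSubgroups G →
        ⁅X, T⁆ ≤ X ⊓ Subgroup.centralizer (X : Set G) → X ≤ oSeq S n := by
      intro X _ hXT hXcl hXTZ
      cases n with
      | zero => exact hXT.trans hTS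
      | succ m =>
        refine le_sSup ⟨⟨hXcl, ?_⟩, hXT.trans hTS⟩
        exact (Subgroup.commutator_mono le_rfl (hmin m (Nat.lt_succ_self m)).1).trans hXTZ
    have hAO : A ≤ oSeq S n := by
      apply hRall A inferInstance hAT hAcl
      rw [Subgroup.commutator_comm]
      exact hA3
    refine ⟨B, hBS, hBT, iter3_of_classTwo hBcl (hAO.trans hBnorm), iter2_of_le_center ?_,
      Or.inr ⟨hBcl, oSeq S n, hBnorm, hBcond, hRall⟩⟩
    apply hBcond Z hZcl (inf_le_left.trans hAO) (le_normalizer_of_normal B Z)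
    · rw [hZab]
      exact Subgroup.commutator_bot_right B
    · rw [eq_bot_iff, ← hZab]
      exact Subgroup.commutator_mono (Subgroup.commutator_le_right _ Z) le_rfl

end family

section lowercore

variable {G : Type*} [Group G] [Finite G] {p : ℕ} [Fact p.Prime]

/-- **the lower case**: a member `B` of a lower-star family relative to `R ≥ X` acts trivially on the chief
factor `X / Y`, if those of its elements that act quadratically on `X / Y` act trivially -/
theorem lower_core (S : Sylow p G) {X Y : Subgroup G} [hXn : X.Normal] [hYn : Y.Normal]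
    (hXY : ChiefPair S X Y) {B R : Subgroup G} (hBS : B ≤ (S : Subgroup G))
    (hBcl : B ∈ classTwoSubgroups G) (hRB : R ≤ Subgroup.normalizer (B : Set G))
    (hLS : ∀ A ∈ classTwoSubgroups G, A ≤ R → B ≤ Subgroup.normalizer (A : Set G) →
      ⁅B, ⁅A, A⁆⁆ = ⊥ → ⁅⁅B ⊓ Subgroup.centralizer (B : Set G), A⁆, A⁆ = ⊥ →
      ⁅B, A⁆ ≤ B ⊓ Subgroup.centralizer (B : Set G))
    (hXR : X ≤ R) (hYZ : Y ≤ Subgroup.centralizer (X : Set G))
    (hN₀Y : pPrimeGen p (Subgroup.normalClosure (B : Set G)) ≤ Subgroup.centralizer (Y : Set G))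
    (hXX : ⁅X, X⁆ ≤ Y)
    (hstar : ∀ g ∈ B, ⁅⁅X, Subgroup.zpowers g⁆, Subgroup.zpowers g⁆ ≤ Y → g ∈ cmod X Y) :
    B ≤ cmod X Y := by
  set N := Subgroup.normalClosure (B : Set G) with hN
  haveI hNn : N.Normal := Subgroup.normalClosure_normal
  set N₀ := pPrimeGen p N with hN₀
  have hXcl : X ∈ classTwoSubgroups G := hXX.trans hYZ
  have hXB : X ≤ Subgroup.normalizer (B : Set G) := hXR.trans hRB
  have hquad : ∀ D : Subgroup G, D ≤ B → ⁅⁅X, D⁆, D⁆ ≤ Y → D ≤ cmod X Y := by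
    intro D hDB hD g hg
    apply hstar g (hDB hg)
    have hz : Subgroup.zpowers g ≤ D := by rwa [Subgroup.zpowers_le]
    exact (Subgroup.commutator_mono (Subgroup.commutator_mono le_rfl hz) hz).trans hD
  set ZB := B ⊓ Subgroup.centralizer (B : Set G) with hZB
  have hXBB : ⁅X, B⁆ ≤ B := by
    rw [Subgroup.commutator_comm]; exact commutator_le_left_of_normalizer hXB
  have hBZB : ⁅B, ZB⁆ = ⊥ := by
    rw [Subgroup.commutator_eq_bot_iff_le_centralizer]
    exact Subgroup.le_centralizer_iff.mp inf_le_right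
  have hZBc : ZB ≤ cmod X Y := by
    apply hquad ZB inf_le_left
    have h1 : ⁅X, ZB⁆ ≤ B := (Subgroup.commutator_mono le_rfl inf_le_left).trans hXBB
    have h2 : ⁅⁅X, ZB⁆, ZB⁆ ≤ ⁅B, ZB⁆ := Subgroup.commutator_mono h1 le_rfl
    rw [hBZB] at h2
    exact h2.trans bot_le
  have hZBX : ⁅⁅ZB, X⁆, X⁆ = ⊥ := by
    rw [Subgroup.commutator_eq_bot_iff_le_centralizer]
    exact ((le_cmod_iff X Y ZB).mp hZBc).trans hYZ
  have hquadB : ∀ A : Subgroup G, ⁅B, A⁆ ≤ ZB → ⁅⁅A, B⁆, B⁆ = ⊥ := by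
    intro A hA
    rw [eq_bot_iff]
    calc ⁅⁅A, B⁆, B⁆ ≤ ⁅ZB, B⁆ :=
          Subgroup.commutator_mono (by rw [Subgroup.commutator_comm]; exact hA) le_rfl
      _ = ⊥ := by rw [Subgroup.commutator_comm]; exact hBZB
  set K := ⁅X, X⁆ ⊓ Subgroup.centralizer (B : Set G) with hK
  set XK := radK X K hXcl with hXK
  have hXKX : XK ≤ X := radK_le
  have hKB : ∀ g ∈ B, ∀ k ∈ K, g * k * g⁻¹ ∈ K := by
    intro g hg k hk
    have h1 := (Subgroup.mem_centralizer_iff.mp hk.2) g hg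
    have e : g * k * g⁻¹ = k := by rw [h1]; group
    rw [e]; exact hk
  have hKN₀ : ∀ g ∈ N₀, ∀ k ∈ K, g * k * g⁻¹ ∈ K := by
    intro g hg k hk
    have hkY : k ∈ Y := hXX hk.1
    have h1 := (Subgroup.mem_centralizer_iff.mp (hN₀Y hg)) k hkY
    have e : g * k * g⁻¹ = k := by rw [← h1]; group
    rw [e]; exact hk
  have hBH : B ≤ Subgroup.normalizer ((XK : Subgroup G) : Set G) := le_normalizer_radK hKB
  have hN₀H : N₀ ≤ Subgroup.normalizer ((XK : Subgroup G) : Set G) := le_normalizer_radK hKN₀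
  have hXKcl : XK ∈ classTwoSubgroups G :=
    (Subgroup.commutator_mono hXKX hXKX).trans (hXcl.trans (Subgroup.centralizer_le hXKX))
  have hBXK' : ⁅B, ⁅XK, XK⁆⁆ = ⊥ := by
    rw [Subgroup.commutator_eq_bot_iff_le_centralizer, Subgroup.le_centralizer_iff]
    exact ((Subgroup.commutator_mono le_rfl hXKX).trans commutator_radK_le).trans inf_le_right
  have hZBXK : ⁅⁅ZB, XK⁆, XK⁆ = ⊥ :=
    eq_bot_iff.mpr ((Subgroup.commutator_mono (Subgroup.commutator_mono le_rfl hXKX) hXKX).trans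
      hZBX.le)
  have h1 := hLS XK hXKcl (hXKX.trans hXR) hBH hBXK' hZBXK
  have hq2 : ⁅⁅XK, B⁆, B⁆ ≤ Y := by rw [hquadB XK h1]; exact bot_le
  have hq1 : ⁅⁅X, B⁆, B⁆ ≤ XK := by
    refine le_trans (le_inf ?_ ?_) (inf_center_le_radK hXB)
    · exact (Subgroup.commutator_mono (Subgroup.commutator_le_left X B) le_rfl).trans
        (Subgroup.commutator_le_left X B)
    · have h2 : ⁅⁅X, B⁆, B⁆ ≤ ⁅B, B⁆ := Subgroup.commutator_mono hXBB le_rfl
      exact h2.trans (le_inf (Subgroup.commutator_le_self B) hBcl)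
  have hq : ⁅⁅X, B⁆, B⁆ ≤ Y :=
    two_step_quadratic (p := p) (N := N) (N₀ := N₀) hXY.hmax hXX
      (fun n hn => exists_pow_mem_pPrimeGen N hn) (pPrimeGen_le p N) Subgroup.le_normalClosure hXKX
      hBH hN₀H hq1 hq2
  exact hquad B le_rfl hq

end lowercore

section main

variable {G : Type u} [Group G] [Finite G] {p : ℕ} [Fact p.Prime]

theorem ChiefPair.isChiefFactor {S : Sylow p G} {X Y : Subgroup G} [hXn : X.Normal] [hYn : Y.Normal]
    (h : ChiefPair S X Y) : IsChiefFactor X Y := by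
  refine ⟨lt_of_le_of_ne h.hYX h.hne, hXn, hYn, ?_⟩
  intro N hNn hYN hNX
  by_cases hN : N = X
  · right; exact hN
  · left; exact le_antisymm (h.hmax N hNn hNX hN) hYN

/-- **Glauberman**: if a `K_∞` subgroup of `S` is not normal in `G` and `A` is a critical subgroup of
`T = O_p(G)`, then some `g ∈ S \ T` has `⁅A, g; 3⁆ ≤ Z(A)`, `⁅Z(A), g; 2⁆ = 1`, and (if `C_G(T) ≤ T`) acts
quadratically and non-trivially on some chief factor of `G` inside `A` -/
theorem kinf_cubic (S : Sylow p G) (A : Subgroup G) [hAn : A.Normal] (hAT : A ≤ pCore p G)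
    (hA3 : ⁅pCore p G, A⁆ ≤ A ⊓ Subgroup.centralizer (A : Set G))
    (hA5 : ∀ φ : MulAut ↥(pCore p G), (orderOf φ).Coprime p →
      (∀ a : ↥(pCore p G), (a : G) ∈ A → φ a = a) → φ = 1)
    (hK : ¬ (inducedFunctor kInfLower (S : Subgroup G)).Normal ∨
      ¬ (inducedFunctor kInfUpper (S : Subgroup G)).Normal) :
    ∃ g : G, g ∈ (S : Subgroup G) ∧ g ∉ pCore p G ∧
      iterCommutator A (Subgroup.zpowers g) 3 ≤ A ⊓ Subgroup.centralizer (A : Set G) ∧
      ⁅⁅A ⊓ Subgroup.centralizer (A : Set G), Subgroup.zpowers g⁆, Subgroup.zpowers g⁆ = ⊥ ∧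
      (Subgroup.centralizer ((pCore p G : Subgroup G) : Set G) ≤ pCore p G →
        ∃ U V : Subgroup G, IsChiefFactor U V ∧ U ≤ A ∧
          ⁅⁅U, Subgroup.zpowers g⁆, Subgroup.zpowers g⁆ ≤ V ∧ ¬ ⁅U, Subgroup.zpowers g⁆ ≤ V) := by
  haveI hTn : (pCore p G).Normal := pCore_normal' p
  have hTp : IsPGroup p ↥(pCore p G) := Cfsg.Agent.Lib.Helper40.pCore_isPGroup' p G
  have hTS : pCore p G ≤ (S : Subgroup G) := Cfsg.Agent.Lib.Helper40.pCore_le_sylow' S
  have hfail : ¬ ∀ n, lowerIn (S : Subgroup G) (oSeq (S : Subgroup G) n) ≤ pCore p G ∧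
      oSeq (S : Subgroup G) (n + 1) ≤ pCore p G := by
    intro h
    rcases hK with h1 | h1
    · exact h1 (kInf_normal_of_le S _ hTS h)
    · exact h1 (kInfUpper_normal_of_le S _ hTS h)
  obtain ⟨B, hBS, hBT, hB3, hB2, hcase⟩ :=
    exists_bad_subgroup' (S : Subgroup G) (pCore p G) A hTS hAT hA3 hfail
  set T := pCore p G with hT
  set Z := A ⊓ Subgroup.centralizer (A : Set G) with hZ
  have hgen : ∀ g ∈ B, iterCommutator A (Subgroup.zpowers g) 3 ≤ Z ∧
      ⁅⁅Z, Subgroup.zpowers g⁆, Subgroup.zpowers g⁆ = ⊥ := by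
    intro g hg
    have hH : Subgroup.zpowers g ≤ B := by rwa [Subgroup.zpowers_le]
    constructor
    · have h1 := iter_mono_right A hH 3
      rw [hB3] at h1
      exact h1.trans bot_le
    · rw [eq_bot_iff, ← hB2]
      exact iter_mono_right Z hH 2
  by_cases hcon : Subgroup.centralizer ((T : Subgroup G) : Set G) ≤ T
  swap
  · obtain ⟨g, hgB, hgT⟩ := SetLike.not_le_iff_exists.mp hBT
    exact ⟨g, hBS hgB, hgT, (hgen g hgB).1, (hgen g hgB).2, fun h => absurd h hcon⟩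
  have hCA : Subgroup.centralizer (A : Set G) ≤ T := centralizer_le_pCore_of_critical hcon hA5
  rcases hcase with hup | ⟨hBcl, R, hRB, hLS, hRall⟩
  · -- the upper case
    obtain ⟨g, hgB, hgT⟩ := SetLike.not_le_iff_exists.mp hBT
    have hH : Subgroup.zpowers g ≤ B := by rwa [Subgroup.zpowers_le]
    have hHT : ¬ Subgroup.zpowers g ≤ T := fun h => hgT (h (Subgroup.mem_zpowers g))
    obtain ⟨X, Y, hXn, hYn, hXY, hXA, -, -, -, -, hHc⟩ :=
      exists_chiefPair_in S hAT hCA (hH.trans hBS) hHT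
    haveI := hXn
    haveI := hYn
    refine ⟨g, hBS hgB, hgT, (hgen g hgB).1, (hgen g hgB).2,
      fun _ => ⟨X, Y, hXY.isChiefFactor, hXA, ?_, ?_⟩⟩
    · have hA2 : iterCommutator A (Subgroup.zpowers g) 2 ≤ Z :=
        (iter_mono_right A hH 2).trans hup
      have hZ2 : iterCommutator Z (Subgroup.zpowers g) 2 = ⊥ := (hgen g hgB).2
      have hn : ((X ⊓ Z) ⊔ Y).Normal := inferInstance
      show iterCommutator X (Subgroup.zpowers g) 2 ≤ Y
      by_cases hd : (X ⊓ Z) ⊔ Y = X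
      · have hX' : X ≤ Y ⊔ (X ⊓ Z) := by rw [sup_comm]; exact hd.ge
        apply iter_le_of_le_sup hX'
        calc iterCommutator (X ⊓ Z) (Subgroup.zpowers g) 2
            ≤ iterCommutator Z (Subgroup.zpowers g) 2 := iter_mono _ inf_le_right 2
          _ = ⊥ := hZ2
          _ ≤ Y := bot_le
      · have h1 : (X ⊓ Z) ⊔ Y ≤ Y := hXY.hmax _ hn (sup_le inf_le_left hXY.hYX) hd
        have h2 : X ⊓ Z ≤ Y := le_sup_left.trans h1
        refine le_trans (le_inf ?_ ?_) h2
        · show ⁅⁅X, Subgroup.zpowers g⁆, Subgroup.zpowers g⁆ ≤ X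
          exact (Subgroup.commutator_mono (Subgroup.commutator_le_left X _) le_rfl).trans
            (Subgroup.commutator_le_left X _)
        · exact (iter_mono _ hXA 2).trans hA2
    · intro h
      apply hHc
      rw [le_cmod_iff, Subgroup.commutator_comm]
      exact h
  · -- the lower case
    by_contra hno
    have hneg : ∀ g ∈ B, g ∉ T → ∀ U V : Subgroup G, IsChiefFactor U V → U ≤ A →
        ⁅⁅U, Subgroup.zpowers g⁆, Subgroup.zpowers g⁆ ≤ V → ⁅U, Subgroup.zpowers g⁆ ≤ V := by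
      intro g hgB hgT U V hUV hUA hq
      by_contra hnt
      exact hno ⟨g, hBS hgB, hgT, (hgen g hgB).1, (hgen g hgB).2,
        fun _ => ⟨U, V, hUV, hUA, hq, hnt⟩⟩
    obtain ⟨X, Y, hXn, hYn, hXY, hXA, hYZ, hN₀Y, hXX, hXTY, hBc⟩ :=
      exists_chiefPair_in S hAT hCA hBS hBT
    haveI := hXn
    haveI := hYn
    apply hBc
    have hTc : T ≤ cmod X Y := by
      apply hXY.le_cmod
      intro q hq
      obtain ⟨k, hk⟩ := hTp ⟨q, hq⟩
      refine ⟨k, ?_⟩
      have h1 : q ^ p ^ k = 1 := by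
        have := congrArg Subtype.val hk
        simpa using this
      rw [h1]
      exact Subgroup.one_mem _
    have hXR : X ≤ R :=
      hRall X hXn (hXA.trans hAT) (hXX.trans hYZ) (hXTY.trans (le_inf hXY.hYX hYZ))
    apply lower_core S hXY hBS hBcl hRB hLS hXR hYZ hN₀Y hXX
    intro g hgB hquad
    by_cases hgT : g ∈ T
    · exact hTc hgT
    · have h1 := hneg g hgB hgT X Y hXY.isChiefFactor hXA hquad
      rw [← zpowers_le_cmod_iff, le_cmod_iff, Subgroup.commutator_comm]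
      exact h1

end main

end Cfsg.Agent.Lib.Helper41.KStable
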