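import Cfsg.Prelude.Def_ConjugacyFunctors
import Mathlib.Order.OrderIsoNat
import Mathlib.Data.Fintype.Card

set_option autoImplicit false

namespace Cfsg.Agent.Lib.Helper41

open Cfsg

variable {P : Type*} [Group P]

theorem kUpperStarFamily_anti {Q Q' : Subgroup P} (h : Q ≤ Q') :
    kUpperStarFamily Q' ⊆ kUpperStarFamily Q := by
  intro B hB
  exact ⟨hB.1, le_trans (Subgroup.commutator_mono le_rfl h) hB.2⟩

theorem kLowerStarFamily_anti {Q Q' : Subgroup P} (h : Q ≤ Q') :
    kLowerStarFamily Q' ⊆ kLowerStarFamily Q := by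
  intro B hB
  exact ⟨hB.1, le_trans h hB.2.1, fun A hA hAQ => hB.2.2 A hA (le_trans hAQ h)⟩

theorem sSup_kUpperStarFamily_anti {Q Q' : Subgroup P} (h : Q ≤ Q') :
    sSup (kUpperStarFamily Q') ≤ sSup (kUpperStarFamily Q) :=
  sSup_le_sSup (kUpperStarFamily_anti h)

theorem sSup_kLowerStarFamily_anti {Q Q' : Subgroup P} (h : Q ≤ Q') :
    sSup (kLowerStarFamily Q') ≤ sSup (kLowerStarFamily Q) :=
  sSup_le_sSup (kLowerStarFamily_anti h)

theorem kSeqOdd_succ_le (n : ℕ) : kSeqOdd P (n + 1) ≤ kSeqOdd P n := by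
  induction n with
  | zero => simp [kSeqOdd]
  | succ n ih =>
    rw [kSeqOdd, kSeqOdd]
    exact sSup_kUpperStarFamily_anti (sSup_kLowerStarFamily_anti ih)

theorem kSeqEven_le_succ (n : ℕ) : kSeqEven P n ≤ kSeqEven P (n + 1) :=
  sSup_kLowerStarFamily_anti (kSeqOdd_succ_le n)

theorem kSeqOdd_antitone : Antitone (kSeqOdd P) :=
  antitone_nat_of_succ_le kSeqOdd_succ_le

theorem kSeqEven_monotone : Monotone (kSeqEven P) :=
  monotone_nat_of_le_succ kSeqEven_le_succ

theorem normal_abelian_le_inf_centralizer (A : Subgroup P) [A.Normal] (hA : IsMulCommutative ↥A)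
    (Q : Subgroup P) : ⁅A, Q⁆ ≤ A ⊓ Subgroup.centralizer (A : Set P) :=
  le_inf (Subgroup.commutator_le_left A Q)
    (le_trans (Subgroup.commutator_le_left A Q) (Subgroup.le_centralizer_iff_isMulCommutative.mpr hA))

theorem normal_abelian_mem_classTwo (A : Subgroup P) (hA : IsMulCommutative ↥A) :
    A ∈ classTwoSubgroups P := by
  show ⁅A, A⁆ ≤ Subgroup.centralizer (A : Set P)
  rw [Subgroup.commutator_self_eq_bot_iff.mpr hA]
  exact bot_le

theorem normal_abelian_mem_lower (A : Subgroup P) [A.Normal] (hA : IsMulCommutative ↥A)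
    (Q : Subgroup P) : A ∈ kLowerStarFamily Q := by
  refine ⟨normal_abelian_mem_classTwo A hA, ?_, fun A' _ _ _ _ _ => normal_abelian_le_inf_centralizer A hA A'⟩
  rw [Subgroup.normalizer_eq_top]
  exact le_top

theorem normal_abelian_mem_upper (A : Subgroup P) [A.Normal] (hA : IsMulCommutative ↥A)
    (Q : Subgroup P) : A ∈ kUpperStarFamily Q :=
  ⟨normal_abelian_mem_classTwo A hA, normal_abelian_le_inf_centralizer A hA Q⟩

theorem normal_abelian_le_kSeqEven (A : Subgroup P) [A.Normal] (hA : IsMulCommutative ↥A) (n : ℕ) :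
    A ≤ kSeqEven P n :=
  le_sSup (normal_abelian_mem_lower A hA _)

theorem normal_abelian_le_kSeqOdd (A : Subgroup P) [A.Normal] (hA : IsMulCommutative ↥A) (n : ℕ) :
    A ≤ kSeqOdd P n := by
  cases n with
  | zero => exact le_top
  | succ n => exact le_sSup (normal_abelian_mem_upper A hA _)

theorem kSeq_stabilize [Finite P] :
    ∃ n : ℕ, ∀ m : ℕ, n ≤ m → kSeqEven P m = kInfLower P ∧ kSeqOdd P m = kInfUpper P := by
  obtain ⟨n₁, h₁⟩ := WellFoundedGT.monotone_chain_condition
    (⟨kSeqEven P, kSeqEven_monotone⟩ : ℕ →o Subgroup P)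
  obtain ⟨n₂, h₂⟩ := WellFoundedGT.monotone_chain_condition
    (⟨fun n => OrderDual.toDual (kSeqOdd P n), fun a b hab => kSeqOdd_antitone hab⟩ :
      ℕ →o (Subgroup P)ᵒᵈ)
  simp only [OrderHom.coe_mk] at h₁ h₂
  have e₁ : ∀ m, n₁ ≤ m → kSeqEven P m = kInfLower P := by
    intro m hm
    apply le_antisymm (le_iSup (fun n => kSeqEven P n) m)
    refine iSup_le fun k => ?_
    rcases le_total k m with hk | hk
    · exact kSeqEven_monotone hk
    · rw [← h₁ m hm, h₁ k (le_trans hm hk)]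
  have e₂ : ∀ m, n₂ ≤ m → kSeqOdd P m = kInfUpper P := by
    intro m hm
    apply le_antisymm _ (iInf_le (fun n => kSeqOdd P n) m)
    refine le_iInf fun k => ?_
    rcases le_total k m with hk | hk
    · exact kSeqOdd_antitone hk
    · have a := h₂ m hm
      have b := h₂ k (le_trans hm hk)
      have c : kSeqOdd P m = kSeqOdd P k := by
        have := a.symm.trans b
        exact this
      rw [c]
  exact ⟨max n₁ n₂, fun m hm =>
    ⟨e₁ m (le_trans (le_max_left _ _) hm), e₂ m (le_trans (le_max_right _ _) hm)⟩⟩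

end Cfsg.Agent.Lib.Helper41
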