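import Cfsg.Agent.Lib.Helper41.Adjoin
import Cfsg.Agent.Lib.Helper41.KInf

set_option autoImplicit false

open scoped commutatorElement

namespace Cfsg.Agent.Lib.Helper41

open Cfsg

variable {P : Type*} [Group P]

theorem le_normalizer_of_commutator_le {B Q : Subgroup P} (h : ⁅B, Q⁆ ≤ B) :
    Q ≤ Subgroup.normalizer (B : Set P) := by
  have key : ∀ q ∈ Q, ∀ b ∈ B, q * b * q⁻¹ ∈ B := by
    intro q hq b hb
    have h1 : ⁅b, q⁆ ∈ B := h (Subgroup.commutator_mem_commutator hb hq)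
    have e : q * b * q⁻¹ = ⁅b, q⁆⁻¹ * b := by simp only [commutatorElement_def]; group
    rw [e]
    exact B.mul_mem (B.inv_mem h1) hb
  intro q hq
  rw [Subgroup.mem_normalizer_iff]
  intro b
  constructor
  · exact key q hq b
  · intro hb
    have := key q⁻¹ (Q.inv_mem hq) _ hb
    have e : q⁻¹ * (q * b * q⁻¹) * q⁻¹⁻¹ = b := by group
    rwa [e] at this

/-- a maximal member of any of the families building the K-sequence contains its centralizer -/
theorem centralizer_le_of_maximal [Group.IsNilpotent P] (B : Subgroup P) (𝒦 : Set (Subgroup P))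
    (h𝒦 : 𝒦 = classTwoSubgroups P ∨ (∃ Q, 𝒦 = kLowerStarFamily Q) ∨ ∃ Q, 𝒦 = kUpperStarFamily Q)
    (hB : B ∈ 𝒦) (hmax : ∀ C ∈ 𝒦, B ≤ C → C = B) : Subgroup.centralizer (B : Set P) ≤ B := by
  by_contra hcon
  obtain ⟨X, hX, hXB⟩ := exists_adjoinData hcon
  have hne : B ⊔ X ≠ B := fun h => hXB (by rw [← h]; exact le_sup_right)
  apply hne
  apply hmax _ ?_ le_sup_left
  rcases h𝒦 with rfl | ⟨Q, rfl⟩ | ⟨Q, rfl⟩
  · exact hX.classTwo hB
  · obtain ⟨hB1, hB2, hB3⟩ := hB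
    refine ⟨hX.classTwo hB1, hB2.trans hX.normalizer_le, ?_⟩
    intro A hA hAQ hBA h1 h2
    have hAN : A ≤ Subgroup.normalizer (B : Set P) := hAQ.trans hB2
    have hBA' : ⁅B, A⁆ ≤ zOf B := by
      apply hB3 A hA hAQ (le_sup_left.trans hBA)
      · rw [eq_bot_iff, ← h1]
        exact Subgroup.commutator_mono le_sup_left le_rfl
      · rw [eq_bot_iff, ← h2]
        exact Subgroup.commutator_mono (Subgroup.commutator_mono hX.zOf_le le_rfl) le_rfl
    exact (hX.comm_sup_le hAN hBA').trans hX.zOf_le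
  · obtain ⟨hB1, hB2⟩ := hB
    have hQN : Q ≤ Subgroup.normalizer (B : Set P) :=
      le_normalizer_of_commutator_le (hB2.trans inf_le_left)
    exact ⟨hX.classTwo hB1, (hX.comm_sup_le hQN hB2).trans hX.zOf_le⟩

theorem centralizer_sSup_le_of_family [Finite P] [Group.IsNilpotent P] (𝒦 : Set (Subgroup P))
    (h𝒦 : 𝒦 = classTwoSubgroups P ∨ (∃ Q, 𝒦 = kLowerStarFamily Q) ∨ ∃ Q, 𝒦 = kUpperStarFamily Q)
    (hne : 𝒦.Nonempty) : Subgroup.centralizer ((sSup 𝒦 : Subgroup P) : Set P) ≤ sSup 𝒦 := by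
  obtain ⟨B₀, hB₀⟩ := hne
  obtain ⟨B, _, hB⟩ := (Set.toFinite 𝒦).exists_le_maximal hB₀
  have hmax : ∀ C ∈ 𝒦, B ≤ C → C = B := fun C hC hBC => le_antisymm (hB.2 hC hBC) hBC
  have h1 := centralizer_le_of_maximal B 𝒦 h𝒦 hB.1 hmax
  have h2 : B ≤ sSup 𝒦 := le_sSup hB.1
  exact (Subgroup.centralizer_le (by exact_mod_cast h2)).trans (h1.trans h2)

theorem bot_mem_lower (Q : Subgroup P) : (⊥ : Subgroup P) ∈ kLowerStarFamily Q :=
  normal_abelian_mem_lower ⊥ inferInstance Q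

theorem bot_mem_upper (Q : Subgroup P) : (⊥ : Subgroup P) ∈ kUpperStarFamily Q :=
  normal_abelian_mem_upper ⊥ inferInstance Q

theorem centralizer_kInf_le [Finite P] [Group.IsNilpotent P] :
    Subgroup.centralizer (kInfLower P : Set P) ≤ kInfLower P ∧
      Subgroup.centralizer (kInfUpper P : Set P) ≤ kInfUpper P := by
  obtain ⟨n, hn⟩ := kSeq_stabilize (P := P)
  constructor
  · rw [← (hn n le_rfl).1]
    exact centralizer_sSup_le_of_family _ (Or.inr (Or.inl ⟨_, rfl⟩)) ⟨⊥, bot_mem_lower _⟩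
  · rw [← (hn (n + 1) (Nat.le_succ n)).2]
    exact centralizer_sSup_le_of_family _ (Or.inr (Or.inr ⟨_, rfl⟩)) ⟨⊥, bot_mem_upper _⟩

end Cfsg.Agent.Lib.Helper41
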