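import Cfsg.Agent.Lib.Helper41.KInf
import Cfsg.Agent.Lib.Helper41.Adjoin

set_option autoImplicit false

namespace Cfsg.Agent.Lib.Helper41

open Cfsg

section transport

variable {H G : Type*} [Group H] [Group G] {f : H →* G}

theorem map_le_centralizer_iff (hf : Function.Injective f) {X Y : Subgroup H} :
    X.map f ≤ Subgroup.centralizer ((Y.map f : Subgroup G) : Set G) ↔
      X ≤ Subgroup.centralizer (Y : Set H) := by
  constructor
  · intro h x hx
    rw [Subgroup.mem_centralizer_iff]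
    intro y hy
    have := Subgroup.mem_centralizer_iff.mp (h (Subgroup.mem_map_of_mem f hx)) (f y)
      (Subgroup.mem_map_of_mem f hy)
    apply hf
    simpa using this
  · rintro h _ ⟨x, hx, rfl⟩
    rw [Subgroup.mem_centralizer_iff]
    rintro _ ⟨y, hy, rfl⟩
    have := Subgroup.mem_centralizer_iff.mp (h hx) y hy
    rw [← map_mul, ← map_mul, this]

theorem map_le_normalizer_iff (hf : Function.Injective f) {X Y : Subgroup H} :
    X.map f ≤ Subgroup.normalizer ((Y.map f : Subgroup G) : Set G) ↔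
      X ≤ Subgroup.normalizer (Y : Set H) := by
  constructor
  · intro h x hx
    rw [Subgroup.mem_normalizer_iff]
    intro y
    have := Subgroup.mem_normalizer_iff.mp (h (Subgroup.mem_map_of_mem f hx)) (f y)
    rw [← map_inv, ← map_mul, ← map_mul, Subgroup.mem_map_iff_mem hf, Subgroup.mem_map_iff_mem hf] at this
    exact this
  · rintro h _ ⟨x, hx, rfl⟩
    rw [Subgroup.mem_normalizer_iff]
    intro z
    have hx' := Subgroup.mem_normalizer_iff.mp (h hx)
    constructor
    · rintro ⟨y, hy, rfl⟩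
      rw [← map_inv, ← map_mul, ← map_mul, Subgroup.mem_map_iff_mem hf]
      exact (hx' y).mp hy
    · rintro ⟨w, hw, hwz⟩
      have hz : z = f (x⁻¹ * w * x) := by
        rw [map_mul, map_mul, map_inv, hwz]; group
      rw [hz, Subgroup.mem_map_iff_mem hf]
      have := (hx' (x⁻¹ * w * x)).mpr (by
        have e : x * (x⁻¹ * w * x) * x⁻¹ = w := by group
        rw [e]; exact hw)
      exact this

theorem map_zOf (hf : Function.Injective f) (B : Subgroup H) : (zOf B).map f = zOf (B.map f) := by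
  apply le_antisymm
  · apply le_inf (Subgroup.map_mono inf_le_left)
    rw [map_le_centralizer_iff hf]
    exact inf_le_right
  · rintro _ ⟨⟨b, hb, rfl⟩, hc⟩
    refine Subgroup.mem_map_of_mem f (Subgroup.mem_inf.mpr ⟨hb, ?_⟩)
    have h1 : (Subgroup.zpowers b).map f ≤ Subgroup.centralizer ((B.map f : Subgroup G) : Set G) := by
      rw [Subgroup.map_le_iff_le_comap, Subgroup.zpowers_le]
      exact hc
    have := (map_le_centralizer_iff hf).mp h1
    exact this (Subgroup.mem_zpowers b)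

theorem classTwo_map_iff (hf : Function.Injective f) {B : Subgroup H} :
    B.map f ∈ classTwoSubgroups G ↔ B ∈ classTwoSubgroups H := by
  show ⁅B.map f, B.map f⁆ ≤ Subgroup.centralizer ((B.map f : Subgroup G) : Set G) ↔
    ⁅B, B⁆ ≤ Subgroup.centralizer (B : Set H)
  rw [← Subgroup.map_commutator, map_le_centralizer_iff hf]

theorem upper_map_iff (hf : Function.Injective f) {B R : Subgroup H} :
    B.map f ∈ kUpperStarFamily (R.map f) ↔ B ∈ kUpperStarFamily R := by
  show (B.map f ∈ classTwoSubgroups G ∧ ⁅B.map f, R.map f⁆ ≤ zOf (B.map f)) ↔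
    (B ∈ classTwoSubgroups H ∧ ⁅B, R⁆ ≤ zOf B)
  rw [classTwo_map_iff hf, ← Subgroup.map_commutator, ← map_zOf hf,
    Subgroup.map_le_map_iff_of_injective hf]

theorem lower_map_iff (hf : Function.Injective f) {B R : Subgroup H} :
    B.map f ∈ kLowerStarFamily (R.map f) ↔ B ∈ kLowerStarFamily R := by
  show (B.map f ∈ classTwoSubgroups G ∧ R.map f ≤ Subgroup.normalizer ((B.map f : Subgroup G) : Set G) ∧
      ∀ A ∈ classTwoSubgroups G, A ≤ R.map f → B.map f ≤ Subgroup.normalizer (A : Set G) →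
        ⁅B.map f, ⁅A, A⁆⁆ = ⊥ → ⁅⁅zOf (B.map f), A⁆, A⁆ = ⊥ → ⁅B.map f, A⁆ ≤ zOf (B.map f)) ↔
    (B ∈ classTwoSubgroups H ∧ R ≤ Subgroup.normalizer (B : Set H) ∧
      ∀ A ∈ classTwoSubgroups H, A ≤ R → B ≤ Subgroup.normalizer (A : Set H) →
        ⁅B, ⁅A, A⁆⁆ = ⊥ → ⁅⁅zOf B, A⁆, A⁆ = ⊥ → ⁅B, A⁆ ≤ zOf B)
  rw [classTwo_map_iff hf, map_le_normalizer_iff hf]
  refine and_congr Iff.rfl (and_congr Iff.rfl ?_)
  have hstep : ∀ A : Subgroup H,
      (A.map f ∈ classTwoSubgroups G → A.map f ≤ R.map f →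
        B.map f ≤ Subgroup.normalizer ((A.map f : Subgroup G) : Set G) →
        ⁅B.map f, ⁅A.map f, A.map f⁆⁆ = ⊥ → ⁅⁅zOf (B.map f), A.map f⁆, A.map f⁆ = ⊥ →
        ⁅B.map f, A.map f⁆ ≤ zOf (B.map f)) ↔
      (A ∈ classTwoSubgroups H → A ≤ R → B ≤ Subgroup.normalizer (A : Set H) →
        ⁅B, ⁅A, A⁆⁆ = ⊥ → ⁅⁅zOf B, A⁆, A⁆ = ⊥ → ⁅B, A⁆ ≤ zOf B) := by
    intro A
    rw [classTwo_map_iff hf, Subgroup.map_le_map_iff_of_injective hf, map_le_normalizer_iff hf,
      ← map_zOf hf, ← Subgroup.map_commutator, ← Subgroup.map_commutator, ← Subgroup.map_commutator,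
      ← Subgroup.map_commutator, ← Subgroup.map_commutator,
      Subgroup.map_eq_bot_iff_of_injective _ hf, Subgroup.map_eq_bot_iff_of_injective _ hf,
      Subgroup.map_le_map_iff_of_injective hf]
  constructor
  · intro h A
    exact (hstep A).mp (h (A.map f))
  · intro h A hA hAR
    have hAr : A ≤ f.range := hAR.trans (Subgroup.map_le_range f R)
    have hA' : (A.comap f).map f = A := Subgroup.map_comap_eq_self hAr
    have := (hstep (A.comap f)).mpr (h (A.comap f))
    rw [hA'] at this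
    exact this hA hAR

theorem map_sSup_eq (S : Set (Subgroup H)) : (sSup S).map f = sSup (Subgroup.map f '' S) := by
  rw [sSup_eq_iSup', Subgroup.map_iSup, sSup_image']

theorem map_lower (hf : Function.Injective f) (R : Subgroup H) :
    (sSup (kLowerStarFamily R)).map f =
      sSup {B | B ∈ kLowerStarFamily (R.map f) ∧ B ≤ f.range} := by
  rw [map_sSup_eq]
  congr 1
  ext B
  constructor
  · rintro ⟨B', hB', rfl⟩
    exact ⟨(lower_map_iff hf).mpr hB', Subgroup.map_le_range f B'⟩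
  · rintro ⟨hB, hBr⟩
    refine ⟨B.comap f, ?_, Subgroup.map_comap_eq_self hBr⟩
    rw [← lower_map_iff hf, Subgroup.map_comap_eq_self hBr]
    exact hB

theorem map_upper (hf : Function.Injective f) (R : Subgroup H) :
    (sSup (kUpperStarFamily R)).map f =
      sSup {B | B ∈ kUpperStarFamily (R.map f) ∧ B ≤ f.range} := by
  rw [map_sSup_eq]
  congr 1
  ext B
  constructor
  · rintro ⟨B', hB', rfl⟩
    exact ⟨(upper_map_iff hf).mpr hB', Subgroup.map_le_range f B'⟩
  · rintro ⟨hB, hBr⟩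
    refine ⟨B.comap f, ?_, Subgroup.map_comap_eq_self hBr⟩
    rw [← upper_map_iff hf, Subgroup.map_comap_eq_self hBr]
    exact hB

end transport

section interleave

variable {G : Type*} [Group G] (Q : Subgroup G)

/-- join of the members of the lower-star family that lie in `Q` -/
def lowerIn (R : Subgroup G) : Subgroup G := sSup {B | B ∈ kLowerStarFamily R ∧ B ≤ Q}

/-- join of the members of the upper-star family that lie in `Q` -/
def upperIn (R : Subgroup G) : Subgroup G := sSup {B | B ∈ kUpperStarFamily R ∧ B ≤ Q}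

theorem lowerIn_le (R : Subgroup G) : lowerIn Q R ≤ sSup (kLowerStarFamily R) :=
  sSup_le_sSup (fun _ hB => hB.1)

theorem upperIn_le (R : Subgroup G) : upperIn Q R ≤ sSup (kUpperStarFamily R) :=
  sSup_le_sSup (fun _ hB => hB.1)

theorem lowerIn_eq {R : Subgroup G} (h : sSup (kLowerStarFamily R) ≤ Q) :
    lowerIn Q R = sSup (kLowerStarFamily R) :=
  le_antisymm (lowerIn_le Q R) (sSup_le_sSup fun _ hB => ⟨hB, (le_sSup hB).trans h⟩)

theorem upperIn_eq {R : Subgroup G} (h : sSup (kUpperStarFamily R) ≤ Q) :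
    upperIn Q R = sSup (kUpperStarFamily R) :=
  le_antisymm (upperIn_le Q R) (sSup_le_sSup fun _ hB => ⟨hB, (le_sSup hB).trans h⟩)

theorem lowerIn_anti {R R' : Subgroup G} (h : R ≤ R') : lowerIn Q R' ≤ lowerIn Q R :=
  sSup_le_sSup fun _ hB => ⟨kLowerStarFamily_anti h hB.1, hB.2⟩

theorem upperIn_anti {R R' : Subgroup G} (h : R ≤ R') : upperIn Q R' ≤ upperIn Q R :=
  sSup_le_sSup fun _ hB => ⟨kUpperStarFamily_anti h hB.1, hB.2⟩

/-- the odd terms of the K-sequence of `Q`, viewed in `G` -/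
def oSeq : ℕ → Subgroup G
  | 0 => Q
  | n + 1 => upperIn Q (lowerIn Q (oSeq n))

theorem map_kSeqOdd (n : ℕ) : (kSeqOdd ↥Q n).map Q.subtype = oSeq Q n := by
  have hf : Function.Injective Q.subtype := Q.subtype_injective
  induction n with
  | zero =>
    show (⊤ : Subgroup ↥Q).map Q.subtype = Q
    rw [← MonoidHom.range_eq_map, Subgroup.range_subtype]
  | succ n ih =>
    show (sSup (kUpperStarFamily (sSup (kLowerStarFamily (kSeqOdd ↥Q n))))).map Q.subtype = _
    rw [map_upper hf, map_lower hf, ih, Subgroup.range_subtype]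
    rfl

theorem map_kSeqEven (n : ℕ) : (kSeqEven ↥Q n).map Q.subtype = lowerIn Q (oSeq Q n) := by
  have hf : Function.Injective Q.subtype := Q.subtype_injective
  show (sSup (kLowerStarFamily (kSeqOdd ↥Q n))).map Q.subtype = _
  rw [map_lower hf, map_kSeqOdd, Subgroup.range_subtype]
  rfl

variable {Q}

theorem interleave (hQ : ∀ n : ℕ, kSeqEven G n ≤ Q ∧ kSeqOdd G (n + 1) ≤ Q) (n : ℕ) :
    kSeqOdd G (n + 1) ≤ oSeq Q n ∧ oSeq Q n ≤ kSeqOdd G n := by
  induction n with
  | zero => exact ⟨(hQ 0).2, le_top⟩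
  | succ n ih =>
    obtain ⟨h1, h2⟩ := ih
    have hE : kSeqEven G n ≤ lowerIn Q (oSeq Q n) := by
      have : kSeqEven G n = lowerIn Q (kSeqOdd G n) := (lowerIn_eq Q (hQ n).1).symm
      rw [this]
      exact lowerIn_anti Q h2
    have hE' : lowerIn Q (oSeq Q n) ≤ kSeqEven G (n + 1) :=
      (lowerIn_anti Q h1).trans (lowerIn_le Q _)
    constructor
    · have : kSeqOdd G (n + 1 + 1) = upperIn Q (kSeqEven G (n + 1)) :=
        (upperIn_eq Q (hQ (n + 1)).2).symm
      rw [this]
      exact upperIn_anti Q hE'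
    · exact (upperIn_anti Q hE).trans (upperIn_le Q _)

theorem interleave_even (hQ : ∀ n : ℕ, kSeqEven G n ≤ Q ∧ kSeqOdd G (n + 1) ≤ Q) (n : ℕ) :
    kSeqEven G n ≤ lowerIn Q (oSeq Q n) ∧ lowerIn Q (oSeq Q n) ≤ kSeqEven G (n + 1) := by
  obtain ⟨h1, h2⟩ := interleave hQ n
  constructor
  · have : kSeqEven G n = lowerIn Q (kSeqOdd G n) := (lowerIn_eq Q (hQ n).1).symm
    rw [this]
    exact lowerIn_anti Q h2
  · exact (lowerIn_anti Q h1).trans (lowerIn_le Q _)

theorem kInf_subgroup (hQ : ∀ n : ℕ, kSeqEven G n ≤ Q ∧ kSeqOdd G (n + 1) ≤ Q) :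
    (kInfLower ↥Q).map Q.subtype = kInfLower G ∧ (kInfUpper ↥Q).map Q.subtype = kInfUpper G := by
  constructor
  · show (⨆ n, kSeqEven ↥Q n).map Q.subtype = ⨆ n, kSeqEven G n
    rw [Subgroup.map_iSup]
    simp only [map_kSeqEven]
    apply le_antisymm
    · exact iSup_le fun n => ((interleave_even hQ n).2).trans (le_iSup (fun n => kSeqEven G n) (n + 1))
    · exact iSup_le fun n => ((interleave_even hQ n).1).trans
        (le_iSup (fun n => lowerIn Q (oSeq Q n)) n)
  · show (⨅ n, kSeqOdd ↥Q n).map Q.subtype = ⨅ n, kSeqOdd G n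
    rw [Subgroup.map_iInf _ Q.subtype_injective]
    simp only [map_kSeqOdd]
    apply le_antisymm
    · exact le_iInf fun n => (iInf_le (fun n => oSeq Q n) n).trans (interleave hQ n).2
    · exact le_iInf fun n => (iInf_le (fun n => kSeqOdd G n) (n + 1)).trans (interleave hQ n).1

end interleave

end Cfsg.Agent.Lib.Helper41
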