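import Cfsg.Agent.Lib.Helper41.SecTransferLemmas

set_option autoImplicit false

namespace Cfsg.Agent.Lib.Helper41

open Cfsg

universe u

section pcore

variable {X : Type*} [Group X] (p : ℕ)

theorem pCore_normal' : (pCore p X).Normal :=
  Subgroup.sSup_normal _ (fun _ h => h.1)

end pcore

section mw

variable {X : Type u} [Group X] [Finite X] {p : ℕ} [Fact p.Prime]
  (W : ∀ (Q : Type u) [Group Q], Subgroup Q)

/-- `S` normalizes the preimage of `W(S/P)` -/
theorem le_normalizer_comap_induced (hW : IsCharPFunctor.{u} p W) (S : Sylow p X) (P : Subgroup X)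
    [P.Normal] :
    (S : Subgroup X) ≤ Subgroup.normalizer (((inducedFunctor (G := X ⧸ P) W
      ((S : Subgroup X).map (QuotientGroup.mk' P))).comap (QuotientGroup.mk' P) : Subgroup X) : Set X) := by
  intro s hs
  rw [← Subgroup.comap_normalizer_eq_of_surjective _ (QuotientGroup.mk'_surjective P),
    Subgroup.mem_comap]
  have h1 : QuotientGroup.mk' P s ∈ (S : Subgroup X).map (QuotientGroup.mk' P) := ⟨s, hs, rfl⟩
  exact le_normalizer_inducedFunctor W hW _ (S.2.map _) (Subgroup.le_normalizer h1)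

/-- the normalizer of the preimage of `W(S/O_p(X))` is a proper subgroup unless `S = O_p(X)` -/
theorem normalizer_comap_induced_ne_top (hW : IsCharPFunctor.{u} p W) (S : Sylow p X)
    (hSP : (S : Subgroup X) ≠ pCore p X) :
    haveI := pCore_normal' (X := X) p
    Subgroup.normalizer (((inducedFunctor (G := X ⧸ pCore p X) W
      ((S : Subgroup X).map (QuotientGroup.mk' (pCore p X)))).comap (QuotientGroup.mk' (pCore p X)) :
        Subgroup X) : Set X) ≠ ⊤ := by
  haveI := pCore_normal' (X := X) p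
  set P := pCore p X with hP
  set f := QuotientGroup.mk' P with hf
  have hfs : Function.Surjective f := QuotientGroup.mk'_surjective P
  set Ebar := inducedFunctor (G := X ⧸ P) W ((S : Subgroup X).map f) with hEbar
  intro htop
  have hVn : (Ebar.comap f).Normal := Subgroup.normalizer_eq_top_iff.mp htop
  have hPS : P ≤ (S : Subgroup X) := Cfsg.Agent.Lib.Helper40.pCore_le_sylow' S
  have hVS : Ebar.comap f ≤ (S : Subgroup X) := by
    have h1 : Ebar ≤ (S : Subgroup X).map f := inducedFunctor_le W _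
    calc Ebar.comap f ≤ ((S : Subgroup X).map f).comap f := Subgroup.comap_mono h1
      _ = (S : Subgroup X) ⊔ P := by rw [Subgroup.comap_map_eq, QuotientGroup.ker_mk']
      _ = (S : Subgroup X) := sup_of_le_left hPS
  have hVP : Ebar.comap f ≤ P := Cfsg.Agent.Lib.Helper40.le_pCore' hVn (S.2.to_le hVS)
  have hE : Ebar = ⊥ := by
    rw [eq_bot_iff, ← Subgroup.map_comap_eq_self_of_surjective hfs Ebar]
    calc (Ebar.comap f).map f ≤ P.map f := Subgroup.map_mono hVP
      _ = ⊥ := by rw [Subgroup.map_eq_bot_iff, QuotientGroup.ker_mk']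
  have hSb : (S : Subgroup X).map f = ⊥ := by
    by_contra hne
    exact inducedFunctor_ne_bot W hW _ (S.2.map f) hne hE
  apply hSP
  apply le_antisymm _ hPS
  have := (Subgroup.map_eq_bot_iff _).mp hSb
  rwa [QuotientGroup.ker_mk'] at this

end mw

section main

variable {p : ℕ} [Fact p.Prime] {𝓦 : Set (∀ (Q : Type u) [Group Q], Subgroup Q)}

/-- the hypothesis on constrained sections in the transfer theorems -/
def ConstrainedT (p : ℕ) (𝓦 : Set (∀ (Q : Type u) [Group Q], Subgroup Q)) (Y : Type u) [Group Y] :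
    Prop :=
  Subgroup.centralizer ((pCore p Y : Subgroup Y) : Set Y) ≤ pCore p Y →
    ∀ T : Sylow p Y, pCore p Y ⊓ commutator Y ≤ famD (indFam 𝓦 Y) (T : Subgroup Y)

theorem famD_le_commutator {X : Type*} [Group X] (𝓕 : Set (Subgroup X → Subgroup X)) (S : Subgroup X) :
    famD 𝓕 S ≤ S ⊓ commutator X := by
  unfold famD
  refine iSup₂_le (fun W _ => ?_)
  rw [commutator_def]
  exact inf_le_inf_left _ (Subgroup.commutator_mono le_top le_top)

theorem secT_step (h𝓦 : ∀ W ∈ 𝓦, IsCharPFunctor.{u} p W) (X : Type u) [Group X] [Finite X]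
    (hΦ : ConstrainedT p 𝓦 X) (hsub : ∀ H : Subgroup X, H ≠ ⊤ → GoodT p 𝓦 ↥H)
    (hquot : ∀ (M : Subgroup X) [M.Normal], M ≠ ⊥ → GoodT p 𝓦 (X ⧸ M)) : GoodT p 𝓦 X := by
  have hp : p.Prime := Fact.out
  obtain ⟨S⟩ : Nonempty (Sylow p X) := inferInstance
  have h𝓦X := isConjugacyFunctor_indFam h𝓦 X
  suffices hle : (S : Subgroup X) ⊓ ⁅(⊤ : Subgroup X), ⊤⁆ ≤ famD (indFam 𝓦 X) (S : Subgroup X) from
    ⟨S, le_top, S.2, sylow_relIndex_top S, ftransAt_top_of_le hle⟩
  set D := famD (indFam 𝓦 X) (S : Subgroup X) with hD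
  have hsubD : ∀ H : Subgroup X, (S : Subgroup X) ≤ H → H ≠ ⊤ → (S : Subgroup X) ⊓ ⁅H, H⁆ ≤ D := by
    intro H hSH hH
    have h1 := GoodT.subgroup h𝓦 H (hsub H hH)
    have hidx : ¬ p ∣ (S : Subgroup X).relIndex H := fun h =>
      S.not_dvd_index (h.trans (Subgroup.relIndex_dvd_index_of_le hSH))
    exact ftransAt_le_famD (ftransAt_of_controls h𝓦X h1 hSH S.2 hidx)
  by_cases hK : pPrimeCore p X = ⊥
  swap
  · haveI : (pPrimeCore p X).Characteristic := Cfsg.Agent.Lib.Helper40.pPrimeCore_characteristic p X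
    haveI : (pPrimeCore p X).Normal := inferInstance
    have := ftransAt_of_quotient_coprime h𝓦 S (pPrimeCore p X)
      (Cfsg.Agent.Lib.Helper40.pPrimeCore_card_coprime' p X) (hquot _ hK)
    exact ftransAt_le_famD this
  haveI hPn := pCore_normal' (X := X) p
  set P := pCore p X with hP
  have hPp : IsPGroup p P := Cfsg.Agent.Lib.Helper40.pCore_isPGroup' p X
  have hPS : P ≤ (S : Subgroup X) := Cfsg.Agent.Lib.Helper40.pCore_le_sylow' S
  have hmax : ∀ Q : Subgroup X, Q.Normal → IsPGroup p Q → Q ≤ P :=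
    fun Q hQn hQp => Cfsg.Agent.Lib.Helper40.le_pCore' hQn hQp
  by_cases hPb : P = ⊥
  · -- no normal `p`-subgroups: local to global
    have hloc : ∀ T : Subgroup X, T ≤ (S : Subgroup X) → T ≠ ⊥ →
        ¬ p ∣ ((S : Subgroup X) ⊓ Subgroup.normalizer ((T : Subgroup X) : Set X)).relIndex
          (Subgroup.normalizer ((T : Subgroup X) : Set X)) →
        FamilyControlsTransferIn p (indFam 𝓦 X) (Subgroup.normalizer ((T : Subgroup X) : Set X)) := by
      intro T hTS hTne _
      apply GoodT.subgroup h𝓦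
      apply hsub
      intro htop
      have hTn : T.Normal := Subgroup.normalizer_eq_top_iff.mp htop
      have := hmax T hTn (S.2.to_le hTS)
      rw [hPb] at this
      exact hTne (eq_bot_iff.mpr this)
    exact ftransAt_le_famD (family_transfer_of_local S h𝓦X hloc)
  -- the quotient by `P`
  have hstepP : (S : Subgroup X) ≠ P → P ⊓ commutator X ≤ D →
      (S : Subgroup X) ⊓ ⁅(⊤ : Subgroup X), ⊤⁆ ≤ D := by
    intro hSP hPD
    have hM : ∀ W ∈ 𝓦, (S : Subgroup X) ⊓
      ⁅Subgroup.normalizer (((inducedFunctor (G := X ⧸ P) W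
          ((S : Subgroup X).map (QuotientGroup.mk' P))).comap (QuotientGroup.mk' P) : Subgroup X) : Set X),
        Subgroup.normalizer (((inducedFunctor (G := X ⧸ P) W
          ((S : Subgroup X).map (QuotientGroup.mk' P))).comap (QuotientGroup.mk' P) : Subgroup X) : Set X)⁆
        ≤ D := by
      intro W hW
      exact hsubD _ (le_normalizer_comap_induced W (h𝓦 W hW) S P)
        (normalizer_comap_induced_ne_top W (h𝓦 W hW) S hSP)
    have h2 := inf_commutator_le_sup_of_quotient h𝓦 S P hPS (hquot P hPb) D hM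
    intro z hz
    have hz' := h2 hz
    have hDP : D ≤ Subgroup.normalizer (P : Set X) := by
      rw [Subgroup.normalizer_eq_top]; exact le_top
    obtain ⟨u, hu, d, hd, hzud⟩ := (mem_sup_of_le_normalizer hDP).mp (by rwa [sup_comm] at hz')
    have hdC : d ∈ commutator X := (famD_le_commutator _ _ hd).2
    have huC : u ∈ commutator X := by
      have : u = z * d⁻¹ := by rw [hzud]; group
      rw [this]
      have hzC : z ∈ commutator X := by rw [commutator_def]; exact hz.2
      exact Subgroup.mul_mem _ hzC (Subgroup.inv_mem _ hdC)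
    rw [hzud]
    exact Subgroup.mul_mem _ (hPD ⟨hu, huC⟩) hd
  by_cases hcon : Subgroup.centralizer (P : Set X) ≤ P
  · have h1 := hΦ hcon S
    by_cases hSP : (S : Subgroup X) = P
    · rw [hSP, ← commutator_def]; exact h1
    · exact hstepP hSP h1
  · have hSP : (S : Subgroup X) ≠ P := by
      intro hSP
      haveI : (S : Subgroup X).Normal := hSP ▸ hPn
      have := Cfsg.Agent.Lib.Helper40.centralizer_le_of_normal_sylow S hK
      rw [hSP] at this
      exact hcon this
    set C := Subgroup.centralizer (P : Set X) with hC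
    have hG₁ : Subgroup.normalizer (((S : Subgroup X) ⊓ (P ⊔ C) : Subgroup X) : Set X) ≠ ⊤ := by
      intro htop
      exact hcon (centralizer_le_of_normalizer_eq_top S hK hmax htop)
    have hSG₁ : (S : Subgroup X) ≤
        Subgroup.normalizer (((S : Subgroup X) ⊓ (P ⊔ C) : Subgroup X) : Set X) := by
      haveI : C.Normal := Subgroup.normal_centralizer
      exact le_normalizer_inf_of_normal _ (P ⊔ C)
    by_cases hG₂ : C ⊔ (S : Subgroup X) = ⊤
    · apply hstepP hSP
      have h1 := inf_commutator_le_of_sup_centralizer S hPS hG₂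
      have hStop : (S : Subgroup X) ≠ ⊤ := by
        intro hS
        apply hSP
        apply le_antisymm _ hPS
        apply hmax _ (hS ▸ inferInstance) S.2
      have h2 := hsubD (S : Subgroup X) le_rfl hStop
      have hSS : ⁅(S : Subgroup X), (S : Subgroup X)⁆ ≤ (S : Subgroup X) :=
        Subgroup.commutator_le.mpr (fun a ha b hb => by
          rw [commutatorElement_def]
          exact Subgroup.mul_mem _ (Subgroup.mul_mem _ (Subgroup.mul_mem _ ha hb)
            (Subgroup.inv_mem _ ha)) (Subgroup.inv_mem _ hb))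
      exact h1.trans ((le_inf hSS le_rfl).trans h2)
    · have h1 := inf_commutator_le_of_split S hPS
      exact h1.trans (sup_le (hsubD _ hSG₁ hG₁) (hsubD _ le_sup_right hG₂))

/-- **Main theorem on control of transfer in sections.** -/
theorem secT_main (h𝓦 : ∀ W ∈ 𝓦, IsCharPFunctor.{u} p W) (G : Type u) [Group G] [Finite G]
    (h : SecAll (ConstrainedT p 𝓦) G) : SecAll (GoodT p 𝓦) G :=
  sec_induction' (fun _ _ _ _ _ e hY => GoodT.of_equiv h𝓦 e hY) (secT_step h𝓦) G h

end main

end Cfsg.Agent.Lib.Helper41
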