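import Cfsg.Agent.Lib.Helper16.KFour
import Cfsg.Agent.Lib.Helper41.SecTransferMain
import Cfsg.Agent.Lib.Helper41.Alperin

/-!
# `p`-stability and the `K`-families: general group theory

The subgroup generated by the `p'`-elements of a subgroup, index lemmas, and the "no normal `p`-subgroups
in the action on a chief factor" lemmas used to show that `p`-stability of all sections forces the terms of
the `K`-sequence of a Sylow `p`-subgroup into `O_p(G)`.
-/

set_option autoImplicit false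

namespace Cfsg.Agent.Lib.Helper41.KStable

open Cfsg Cfsg.Agent.Lib.Helper41 Cfsg.Agent.Lib.Helper16.KComm
open scoped commutatorElement

variable {G : Type*} [Group G]

/-- the subgroup generated by the elements of `N` of order prime to `p` -/
def pPrimeGen (p : ℕ) (N : Subgroup G) : Subgroup G :=
  Subgroup.closure {n | n ∈ N ∧ (orderOf n).Coprime p}

theorem pPrimeGen_le (p : ℕ) (N : Subgroup G) : pPrimeGen p N ≤ N :=
  (Subgroup.closure_le N).mpr (fun _ h => h.1)

instance pPrimeGen_normal (p : ℕ) (N : Subgroup G) [hN : N.Normal] : (pPrimeGen p N).Normal := by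
  constructor
  intro n hn g
  unfold pPrimeGen at hn ⊢
  induction hn using Subgroup.closure_induction with
  | mem x hx =>
    refine Subgroup.subset_closure ⟨hN.conj_mem x hx.1 g, ?_⟩
    have : g * x * g⁻¹ = MulAut.conj g x := by simp [MulAut.conj_apply]
    rw [this, MulEquiv.orderOf_eq]
    exact hx.2
  | one => simp
  | mul x y _ _ hx hy =>
    have : g * (x * y) * g⁻¹ = (g * x * g⁻¹) * (g * y * g⁻¹) := by group
    rw [this]; exact mul_mem hx hy
  | inv x _ hx =>
    have : g * x⁻¹ * g⁻¹ = (g * x * g⁻¹)⁻¹ := by group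
    rw [this]; exact inv_mem hx

theorem exists_pow_mem_pPrimeGen [Finite G] {p : ℕ} [Fact p.Prime] (N : Subgroup G) {g : G}
    (hg : g ∈ N) : ∃ k : ℕ, g ^ p ^ k ∈ pPrimeGen p N := by
  have hp : p.Prime := Fact.out
  obtain ⟨a, m, hm, hgm⟩ := Nat.exists_eq_pow_mul_and_not_dvd (orderOf_pos g).ne' p hp.ne_one
  refine ⟨a, Subgroup.subset_closure ⟨pow_mem hg _, ?_⟩⟩
  have h1 : (g ^ p ^ a) ^ m = 1 := by rw [← pow_mul, ← hgm, pow_orderOf_eq_one]
  have h2 : orderOf (g ^ p ^ a) ∣ m := orderOf_dvd_of_pow_eq_one h1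
  have h3 : m.Coprime p := ((Nat.Prime.coprime_iff_not_dvd hp).mpr hm).symm
  exact Nat.Coprime.coprime_dvd_left h2 h3

theorem eq_one_of_pow_eq_one_of_coprime {p : ℕ} [Fact p.Prime] {c : G} {k j : ℕ} (h1 : c ^ k = 1)
    (h2 : c ^ p ^ j = 1) (hk : k.Coprime p) : c = 1 := by
  have d1 : orderOf c ∣ k := orderOf_dvd_of_pow_eq_one h1
  have d2 : orderOf c ∣ p ^ j := orderOf_dvd_of_pow_eq_one h2
  have hc : Nat.Coprime k (p ^ j) := Nat.Coprime.pow_right j hk
  have : orderOf c ∣ 1 := by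
    have := Nat.dvd_gcd d1 d2
    rwa [hc] at this
  exact orderOf_eq_one_iff.mp (Nat.dvd_one.mp this)

/-- if the `p'`-generated part of `N` acts on the normal `p`-subgroup `X` with `[X, N₀, N₀] = 1`, it
centralizes `X` -/
theorem pPrimeGen_le_centralizer {p : ℕ} [Fact p.Prime] {X N : Subgroup G} [hXn : X.Normal]
    (hX : IsPGroup p X) (h : ⁅⁅X, pPrimeGen p N⁆, pPrimeGen p N⁆ = ⊥) :
    pPrimeGen p N ≤ Subgroup.centralizer (X : Set G) := by
  unfold pPrimeGen
  rw [Subgroup.closure_le]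
  rintro n ⟨hnN, hnc⟩
  have hn0 : n ∈ pPrimeGen p N := Subgroup.subset_closure ⟨hnN, hnc⟩
  rw [SetLike.mem_coe, Subgroup.mem_centralizer_iff]
  intro x hx
  set c := n * x * n⁻¹ * x⁻¹ with hc
  have hcX : c ∈ X := X.mul_mem (hXn.conj_mem x hx n) (X.inv_mem hx)
  have hcc : c ∈ ⁅X, pPrimeGen p N⁆ := by
    rw [Subgroup.commutator_comm]
    have : c = ⁅n, x⁆ := by rw [commutatorElement_def]
    rw [this]
    exact Subgroup.commutator_mem_commutator hn0 hx
  have hcn : c * n = n * c := by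
    have h1 : ⁅c, n⁆ ∈ ⁅⁅X, pPrimeGen p N⁆, pPrimeGen p N⁆ :=
      Subgroup.commutator_mem_commutator hcc hn0
    rw [h, Subgroup.mem_bot, commutatorElement_def] at h1
    calc c * n = (c * n * c⁻¹ * n⁻¹) * (n * c) := by group
      _ = n * c := by rw [h1, one_mul]
  have key : ∀ k : ℕ, n ^ k * x * (n ^ k)⁻¹ = c ^ k * x := by
    intro k
    induction k with
    | zero => simp
    | succ k ih =>
      have hck : c ^ k * n = n * c ^ k := by
        have : Commute c n := hcn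
        exact (this.pow_left k).eq
      have hck' : n * c ^ k * n⁻¹ = c ^ k := by
        rw [← hck]; group
      calc n ^ (k + 1) * x * (n ^ (k + 1))⁻¹ = n * (n ^ k * x * (n ^ k)⁻¹) * n⁻¹ := by
            rw [pow_succ']; group
        _ = n * (c ^ k * x) * n⁻¹ := by rw [ih]
        _ = (n * c ^ k * n⁻¹) * (n * x * n⁻¹ * x⁻¹) * x := by group
        _ = c ^ k * c * x := by rw [hck']
        _ = c ^ (k + 1) * x := by rw [pow_succ]
  have h1 := key (orderOf n)
  rw [pow_orderOf_eq_one, one_mul, inv_one, mul_one] at h1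
  have h2 : c ^ orderOf n = 1 := by
    have : c ^ orderOf n * x = 1 * x := by rw [← h1, one_mul]
    exact mul_right_cancel this
  obtain ⟨j, hj⟩ := hX ⟨c, hcX⟩
  have h3 : c ^ p ^ j = 1 := by
    have := congrArg Subtype.val hj
    simpa using this
  have h4 : c = 1 := eq_one_of_pow_eq_one_of_coprime h2 h3 hnc
  have h5 : n * x * n⁻¹ * x⁻¹ = 1 := h4
  calc x * n = (n * x * n⁻¹ * x⁻¹)⁻¹ * (n * x) := by group
    _ = n * x := by rw [h5, inv_one, one_mul]

section index

variable [Finite G] {p : ℕ} [Fact p.Prime]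

theorem relIndex_eq_prime_pow {N₁ A : Subgroup G} [N₁.Normal]
    (hp : ∀ a ∈ A, ∃ k : ℕ, a ^ p ^ k ∈ N₁) : ∃ n, N₁.relIndex A = p ^ n := by
  have hq : IsPGroup p (↥A ⧸ N₁.subgroupOf A) := by
    intro q
    induction q using QuotientGroup.induction_on with
    | H a =>
      obtain ⟨k, hk⟩ := hp a a.2
      refine ⟨k, ?_⟩
      rw [← QuotientGroup.mk_pow, QuotientGroup.eq_one_iff, Subgroup.mem_subgroupOf]
      simpa using hk
  obtain ⟨n, hn⟩ := IsPGroup.iff_card.mp hq
  exact ⟨n, by rw [Subgroup.relIndex, Subgroup.index_eq_card]; exact hn⟩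

/-- if `A / (A ∩ N₁)` is a `p`-group and `P ∩ A` has index prime to `p` in `A`, then
`A = (A ∩ N₁)(P ∩ A)` -/
theorem le_sup_inf_of_ppow {N₁ A P : Subgroup G} [N₁.Normal]
    (hp : ∀ a ∈ A, ∃ k : ℕ, a ^ p ^ k ∈ N₁) (hP : ¬ p ∣ P.relIndex A) : A ≤ N₁ ⊔ (P ⊓ A) := by
  have hpp : p.Prime := Fact.out
  set J := N₁ ⊔ (P ⊓ A) with hJ
  obtain ⟨n, hn⟩ := relIndex_eq_prime_pow (p := p) hp
  have d1 : J.relIndex A ∣ (P ⊓ A).relIndex A := Subgroup.relIndex_dvd_of_le_left A le_sup_right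
  rw [Subgroup.inf_relIndex_right] at d1
  have d2 : J.relIndex A ∣ N₁.relIndex A := Subgroup.relIndex_dvd_of_le_left A le_sup_left
  rw [hn] at d2
  obtain ⟨j, -, hj⟩ := (Nat.dvd_prime_pow hpp).mp d2
  have : j = 0 := by
    by_contra h0
    apply hP
    refine dvd_trans ?_ d1
    rw [hj]; exact dvd_pow_self p h0
  rw [this, pow_zero] at hj
  exact Subgroup.relIndex_eq_one.mp hj

theorem sylow_relIndex_normal (S : Sylow p G) (A : Subgroup G) [A.Normal] :
    ¬ p ∣ (S : Subgroup G).relIndex A := by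
  rw [Cfsg.Agent.Lib.Helper40.relIndex_eq_relIndex_sup_of_normal]
  intro h
  exact S.not_dvd_index (h.trans (Subgroup.relIndex_dvd_index_of_le le_sup_left))

end index

section chief

variable [Finite G] {p : ℕ} [Fact p.Prime]

/-- **no normal `p`-subgroups in the action on a chief factor**: a normal subgroup `Q` acting as a
`p`-group on the chief factor `X / Y` (inside a `p`-group) acts trivially -/
theorem le_cmod_of_ppow {X Y Q : Subgroup G} [X.Normal] [Y.Normal] [Q.Normal] (S : Sylow p G)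
    (hXS : X ≤ (S : Subgroup G)) (hYX : Y ≤ X)
    (hmax : ∀ Z : Subgroup G, Z.Normal → Z ≤ X → Z ≠ X → Z ≤ Y) (hne : Y ≠ X)
    (hQ : ∀ q ∈ Q, ∃ k : ℕ, q ^ p ^ k ∈ cmod X Y) : Q ≤ cmod X Y := by
  rw [le_cmod_iff, Subgroup.commutator_comm]
  set C := cmod X Y with hC
  have hCX : ⁅C, X⁆ ≤ Y := (le_cmod_iff X Y C).mp le_rfl
  have hQ' : ∀ q ∈ Q, ∃ k : ℕ, q ^ p ^ k ∈ Q ⊓ C := by
    intro q hq
    obtain ⟨k, hk⟩ := hQ q hq
    exact ⟨k, pow_mem hq _, hk⟩
  have hdec : Q ≤ (Q ⊓ C) ⊔ ((S : Subgroup G) ⊓ Q) :=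
    le_sup_inf_of_ppow (p := p) hQ' (sylow_relIndex_normal S Q)
  set QS := (S : Subgroup G) ⊓ Q with hQS
  by_cases hZ : ⁅X, Q⁆ ⊔ Y = X
  swap
  · have hZn : (⁅X, Q⁆ ⊔ Y).Normal := inferInstance
    have := hmax _ hZn (sup_le (Subgroup.commutator_le_left X Q) hYX) hZ
    exact le_sup_left.trans this
  exfalso
  -- `⁅X, Q⁆ ≤ ⁅X, Q_S⁆ Y`
  have hstar : ⁅X, Q⁆ ≤ Y ⊔ ⁅X, QS⁆ := by
    rw [Subgroup.commutator_le]
    intro x hx q hq
    have hq' := hdec hq
    have hnorm : QS ≤ Subgroup.normalizer (((Q ⊓ C : Subgroup G)) : Set G) := by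
      rw [Subgroup.normalizer_eq_top]; exact le_top
    obtain ⟨c, hc, s, hs, rfl⟩ := (mem_sup_of_le_normalizer hnorm).mp hq'
    have e : ⁅x, c * s⁆ = ⁅x, c⁆ * (⁅c, ⁅x, s⁆⁆ * ⁅x, s⁆) := by
      simp only [commutatorElement_def]; group
    rw [e]
    have h1 : ⁅x, c⁆ ∈ Y := by
      have : ⁅x, c⁆ = ⁅c, x⁆⁻¹ := by simp only [commutatorElement_def]; group
      rw [this]
      exact Y.inv_mem (hCX (Subgroup.commutator_mem_commutator hc.2 hx))
    have hw : ⁅x, s⁆ ∈ X := by
      rw [commutatorElement_def]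
      have := (inferInstance : X.Normal).conj_mem x⁻¹ (X.inv_mem hx) s
      have e2 : x * s * x⁻¹ * s⁻¹ = x * (s * x⁻¹ * s⁻¹) := by group
      rw [e2]
      exact X.mul_mem hx this
    have h2 : ⁅c, ⁅x, s⁆⁆ ∈ Y := hCX (Subgroup.commutator_mem_commutator hc.2 hw)
    have h3 : ⁅x, s⁆ ∈ ⁅X, QS⁆ := Subgroup.commutator_mem_commutator hx hs
    exact Subgroup.mul_mem _ (Subgroup.mem_sup_left h1)
      (Subgroup.mul_mem _ (Subgroup.mem_sup_left h2) (Subgroup.mem_sup_right h3))
  have hX1 : X ≤ Y ⊔ ⁅X, QS⁆ := by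
    calc X = ⁅X, Q⁆ ⊔ Y := hZ.symm
      _ ≤ Y ⊔ ⁅X, QS⁆ := sup_le hstar le_sup_left
  have hiter : ∀ n, X ≤ Y ⊔ iterCommutator X QS n := by
    intro n
    induction n with
    | zero => exact le_sup_right
    | succ n ih =>
      have h1 : ⁅X, QS⁆ ≤ Y ⊔ iterCommutator X QS (n + 1) :=
        calc ⁅X, QS⁆ ≤ ⁅Y ⊔ iterCommutator X QS n, QS⁆ := Subgroup.commutator_mono ih le_rfl
          _ ≤ Y ⊔ ⁅iterCommutator X QS n, QS⁆ := commutator_sup_le
      exact hX1.trans (sup_le le_sup_left h1)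
  obtain ⟨c, hc⟩ := iter_eq_bot_of_pgroup (p := p) (T := (S : Subgroup G)) S.2 hXS
    (inf_le_left : QS ≤ (S : Subgroup G))
  have := hiter c
  rw [hc, sup_bot_eq] at this
  exact hne (le_antisymm hYX this)

end chief

section nonormal

variable {H : Type*} [Group H] [Finite H] {p : ℕ} [Fact p.Prime]

/-- a `p`-subgroup of the normal subgroup `M` that is normal in `M` lies in every Sylow `p`-subgroup -/
theorem le_sylow_of_normal_in_normal (P : Sylow p H) {M Q : Subgroup H} [M.Normal] (hQM : Q ≤ M)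
    (hMQ : M ≤ Subgroup.normalizer (Q : Set H)) (hQ : IsPGroup p Q) : Q ≤ (P : Subgroup H) := by
  have hp : p.Prime := Fact.out
  set PM := (P : Subgroup H) ⊓ M with hPM
  have hPMp : IsPGroup p PM := P.2.to_le inf_le_left
  have hW : IsPGroup p (Q ⊔ PM : Subgroup H) :=
    IsPGroup.to_sup_of_normal_left' hQ hPMp (inf_le_right.trans hMQ)
  have hWM : Q ⊔ PM ≤ M := sup_le hQM inf_le_right
  have h1 := Subgroup.relIndex_mul_relIndex PM (Q ⊔ PM) M le_sup_right hWM
  have h2 : PM.relIndex M = (P : Subgroup H).relIndex M := Subgroup.inf_relIndex_right _ _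
  have h3 : ¬ p ∣ PM.relIndex (Q ⊔ PM) := by
    intro h
    apply sylow_relIndex_normal P M
    rw [← h2, ← h1]
    exact Dvd.dvd.mul_right h _
  obtain ⟨n, hn⟩ := IsPGroup.index hW (PM.subgroupOf (Q ⊔ PM))
  have h4 : PM.relIndex (Q ⊔ PM) = 1 := by
    have : PM.relIndex (Q ⊔ PM) = p ^ n := hn
    rw [this] at h3 ⊢
    cases n with
    | zero => rfl
    | succ n => exact absurd (dvd_pow_self p (Nat.succ_ne_zero n)) h3
  have h5 : Q ⊔ PM ≤ PM := Subgroup.relIndex_eq_one.mp h4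
  exact (le_sup_left.trans h5).trans inf_le_left

/-- in a group without nontrivial normal `p`-subgroups, normal subgroups have no nontrivial normal
`p`-subgroups either -/
theorem eq_bot_of_normal_in_normal
    (hOp : ∀ D : Subgroup H, D.Normal → IsPGroup p D → D = ⊥) {M Q : Subgroup H} [hMn : M.Normal]
    (hQM : Q ≤ M) (hMQ : M ≤ Subgroup.normalizer (Q : Set H)) (hQ : IsPGroup p Q) : Q = ⊥ := by
  obtain ⟨P⟩ : Nonempty (Sylow p H) := inferInstance
  have hle : Subgroup.normalClosure (Q : Set H) ≤ (P : Subgroup H) := by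
    unfold Subgroup.normalClosure
    rw [Subgroup.closure_le]
    intro a ha
    obtain ⟨b, hb, hba⟩ := Group.mem_conjugatesOfSet_iff.mp ha
    obtain ⟨c, hc⟩ := isConj_iff.mp hba
    have h1 : lc c Q ≤ M := by
      rintro _ ⟨q, hq, rfl⟩
      exact hMn.conj_mem q (hQM hq) c
    have h2 : M ≤ Subgroup.normalizer ((lc c Q : Subgroup H) : Set H) := by
      intro m hm
      apply mem_normalizer_of_lc_le
      have hm' : c⁻¹ * m * c ∈ M := by
        have := hMn.conj_mem m hm c⁻¹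
        simpa using this
      have h3 : lc (c⁻¹ * m * c) Q = Q := mem_normalizer_iff_lc.mp (hMQ hm')
      have e : m * c = c * (c⁻¹ * m * c) := by group
      rw [← lc_mul, e, lc_mul, h3]
    have h3 := le_sylow_of_normal_in_normal P h1 h2 (isPGroup_lc (g := c) hQ)
    apply h3
    exact ⟨b, hb, by rw [← hc]; rfl⟩
  have hn : (Subgroup.normalClosure (Q : Set H)).Normal := Subgroup.normalClosure_normal
  have := hOp _ hn (P.2.to_le hle)
  rw [eq_bot_iff, ← this]
  exact Subgroup.le_normalClosure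

/-- a normal subgroup `N` that is a `p`-group modulo a central subgroup `N₀` has no nontrivial
`p`-subgroups, if the ambient group has no nontrivial normal `p`-subgroups -/
theorem eq_bot_of_central_ppow
    (hOp : ∀ D : Subgroup H, D.Normal → IsPGroup p D → D = ⊥) {N N₀ B : Subgroup H} [N.Normal]
    [N₀.Normal] (hcent : N ≤ Subgroup.centralizer (N₀ : Set H))
    (hpp : ∀ n ∈ N, ∃ k : ℕ, n ^ p ^ k ∈ N₀) (hBN : B ≤ N) (hB : IsPGroup p B) : B = ⊥ := by
  obtain ⟨P, hBP⟩ := hB.exists_le_sylow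
  set Q := (P : Subgroup H) ⊓ N with hQ
  have hdec : N ≤ N₀ ⊔ Q := le_sup_inf_of_ppow (p := p) hpp (sylow_relIndex_normal P N)
  have hNQ : N ≤ Subgroup.normalizer (Q : Set H) := by
    refine hdec.trans (sup_le ?_ Subgroup.le_normalizer)
    intro z hz
    apply Subgroup.centralizer_le_normalizer
    rw [Subgroup.mem_centralizer_iff]
    intro q hq
    have := (Subgroup.mem_centralizer_iff.mp (hcent hq.2)) z hz
    exact this.symm
  have hQb : Q = ⊥ := eq_bot_of_normal_in_normal hOp inf_le_right hNQ (P.2.to_le inf_le_left)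
  rw [eq_bot_iff, ← hQb]
  exact le_inf hBP hBN

end nonormal

section bridge

variable [Finite G] {p : ℕ} [Fact p.Prime] {X Y : Subgroup G} [X.Normal] [Y.Normal]

/-- `X / Y` is a chief factor of `G` inside the Sylow `p`-subgroup `S`, and `Y` is the unique maximal
`G`-invariant subgroup of `X` -/
structure ChiefPair (S : Sylow p G) (X Y : Subgroup G) : Prop where
  hXS : X ≤ (S : Subgroup G)
  hYX : Y ≤ X
  hne : Y ≠ X
  hmax : ∀ Z : Subgroup G, Z.Normal → Z ≤ X → Z ≠ X → Z ≤ Y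

variable {S : Sylow p G}

theorem ChiefPair.le_cmod (h : ChiefPair S X Y) {Q : Subgroup G} [Q.Normal]
    (hQ : ∀ q ∈ Q, ∃ k : ℕ, q ^ p ^ k ∈ cmod X Y) : Q ≤ cmod X Y :=
  le_cmod_of_ppow S h.hXS h.hYX h.hmax h.hne hQ

theorem ChiefPair.hOp (h : ChiefPair S X Y) :
    ∀ D : Subgroup (G ⧸ cmod X Y), D.Normal → IsPGroup p D → D = ⊥ := by
  intro D hDn hD
  set π := QuotientGroup.mk' (cmod X Y) with hπ
  have hn : (D.comap π).Normal := Subgroup.Normal.comap hDn π
  have h1 : D.comap π ≤ cmod X Y := by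
    apply h.le_cmod
    intro d hd
    obtain ⟨k, hk⟩ := hD ⟨π d, hd⟩
    refine ⟨k, ?_⟩
    have h2 : π d ^ p ^ k = 1 := by
      have := congrArg Subtype.val hk
      simpa using this
    rw [← map_pow] at h2
    rw [← QuotientGroup.ker_mk' (cmod X Y)]
    exact h2
  rw [eq_bot_iff, ← Subgroup.map_comap_eq_self_of_surjective (QuotientGroup.mk'_surjective _) D]
  calc (D.comap π).map π ≤ (cmod X Y).map π := Subgroup.map_mono h1
    _ = ⊥ := QuotientGroup.map_mk'_self _

/-- a subgroup `Q` of the normal subgroup `M`, normal in `M`, that acts as a `p`-group on the chief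
factor acts trivially -/
theorem ChiefPair.le_cmod_of_normal_in_normal (h : ChiefPair S X Y) {M Q : Subgroup G} [M.Normal]
    (hQM : Q ≤ M) (hMQ : M ≤ Subgroup.normalizer (Q : Set G))
    (hQ : ∀ q ∈ Q, ∃ k : ℕ, q ^ p ^ k ∈ cmod X Y) : Q ≤ cmod X Y := by
  set π := QuotientGroup.mk' (cmod X Y) with hπ
  have hMn : (M.map π).Normal :=
    Subgroup.Normal.map inferInstance π (QuotientGroup.mk'_surjective _)
  have h1 : Q.map π ≤ M.map π := Subgroup.map_mono hQM
  have h2 : M.map π ≤ Subgroup.normalizer ((Q.map π : Subgroup (G ⧸ cmod X Y)) : Set _) :=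
    (Subgroup.map_mono hMQ).trans (Subgroup.le_normalizer_map π)
  have h3 : IsPGroup p (Q.map π) := by
    rintro ⟨_, q, hq, rfl⟩
    obtain ⟨k, hk⟩ := hQ q hq
    refine ⟨k, ?_⟩
    apply Subtype.ext
    simp only [Subgroup.coe_pow, Subgroup.coe_one]
    rw [← map_pow]
    have : q ^ p ^ k ∈ π.ker := by rw [QuotientGroup.ker_mk']; exact hk
    exact this
  have h4 := eq_bot_of_normal_in_normal h.hOp h1 h2 h3
  have h5 := (Subgroup.map_eq_bot_iff _).mp h4
  rwa [QuotientGroup.ker_mk'] at h5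

/-- if the normal closure `N` of the `p`-group `B` is a `p`-group modulo `N₀`, and `N₀` is centralized by
`N` in the action on the chief factor, then `B` acts trivially -/
theorem ChiefPair.le_cmod_of_central (h : ChiefPair S X Y) {N N₀ B : Subgroup G} [N.Normal]
    [N₀.Normal] (hcent : ⁅N, N₀⁆ ≤ cmod X Y) (hpp : ∀ n ∈ N, ∃ k : ℕ, n ^ p ^ k ∈ N₀) (hBN : B ≤ N)
    (hB : IsPGroup p B) : B ≤ cmod X Y := by
  set π := QuotientGroup.mk' (cmod X Y) with hπ
  have hNn : (N.map π).Normal :=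
    Subgroup.Normal.map inferInstance π (QuotientGroup.mk'_surjective _)
  have hN₀n : (N₀.map π).Normal :=
    Subgroup.Normal.map inferInstance π (QuotientGroup.mk'_surjective _)
  have h1 : N.map π ≤ Subgroup.centralizer ((N₀.map π : Subgroup (G ⧸ cmod X Y)) : Set _) := by
    rw [← Subgroup.commutator_eq_bot_iff_le_centralizer, ← Subgroup.map_commutator, eq_bot_iff]
    calc (⁅N, N₀⁆).map π ≤ (cmod X Y).map π := Subgroup.map_mono hcent
      _ = ⊥ := QuotientGroup.map_mk'_self _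
  have h2 : ∀ n ∈ N.map π, ∃ k : ℕ, n ^ p ^ k ∈ N₀.map π := by
    rintro _ ⟨n, hn, rfl⟩
    obtain ⟨k, hk⟩ := hpp n hn
    exact ⟨k, ⟨n ^ p ^ k, hk, map_pow π n _⟩⟩
  have h3 := eq_bot_of_central_ppow h.hOp h1 h2 (Subgroup.map_mono hBN) (hB.map π)
  have h4 := (Subgroup.map_eq_bot_iff _).mp h3
  rwa [QuotientGroup.ker_mk'] at h4

end bridge

end Cfsg.Agent.Lib.Helper41.KStable
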