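import Cfsg.Agent.Lib.Helper41.KStableA

/-!
# `p`-stability forces the members of the `K`-families into `O_p(G)`
-/

set_option autoImplicit false

namespace Cfsg.Agent.Lib.Helper41.KStable

open Cfsg Cfsg.Agent.Lib.Helper41 Cfsg.Agent.Lib.Helper16.KComm
open scoped commutatorElement

variable {G : Type*} [Group G]

/-- the consequence of `p`-stability of all sections that is used: for a section `P₀ / Y₀` normalized
by `H`, the elements of `H` acting quadratically lie in a normal subgroup `L` of `H` acting as a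
`p`-group -/
def QStab (p : ℕ) (G : Type*) [Group G] : Prop :=
  ∀ (H P₀ Y₀ : Subgroup G), Y₀ ≤ P₀ → P₀ ≤ H → IsPGroup p P₀ →
    H ≤ Subgroup.normalizer (P₀ : Set G) → H ≤ Subgroup.normalizer (Y₀ : Set G) →
    ∃ L : Subgroup G, L ≤ H ∧ H ≤ Subgroup.normalizer (L : Set G) ∧
      (∀ l ∈ L, ∃ k : ℕ, ⁅P₀, Subgroup.zpowers (l ^ p ^ k)⁆ ≤ Y₀) ∧
      ∀ g ∈ H, ⁅⁅P₀, Subgroup.zpowers g⁆, Subgroup.zpowers g⁆ ≤ Y₀ → g ∈ L

section exist

variable [Finite G] {p : ℕ} [Fact p.Prime]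

theorem commutator_ne_self_of_pgroup (S : Sylow p G) {X K : Subgroup G} (hXS : X ≤ (S : Subgroup G))
    (hKS : K ≤ (S : Subgroup G)) (hX : X ≠ ⊥) : ⁅X, K⁆ ≠ X := by
  intro h
  obtain ⟨c, hc⟩ := iter_eq_bot_of_pgroup (p := p) (T := (S : Subgroup G)) S.2 hXS hKS
  have : ∀ n, iterCommutator X K n = X := by
    intro n
    induction n with
    | zero => rfl
    | succ n ih =>
      show ⁅iterCommutator X K n, K⁆ = X
      rw [ih, h]
  rw [this c] at hc
  exact hX hc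

/-- the chief pair, inside the normal subgroup `A₀` of `O_p(G)` with `C_G(A₀) ≤ O_p(G)`, attached to a
`p`-subgroup `B` outside `O_p(G)` -/
theorem exists_chiefPair_in (S : Sylow p G) {A₀ : Subgroup G} [hA₀n : A₀.Normal]
    (hA₀T : A₀ ≤ pCore p G)
    (hcon : Subgroup.centralizer ((A₀ : Subgroup G) : Set G) ≤ pCore p G) {B : Subgroup G}
    (hBS : B ≤ (S : Subgroup G)) (hBT : ¬ B ≤ pCore p G) :
    ∃ (X Y : Subgroup G) (_ : X.Normal) (_ : Y.Normal), ChiefPair S X Y ∧ X ≤ A₀ ∧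
      Y ≤ Subgroup.centralizer (X : Set G) ∧
      pPrimeGen p (Subgroup.normalClosure (B : Set G)) ≤ Subgroup.centralizer (Y : Set G) ∧
      ⁅X, X⁆ ≤ Y ∧ ⁅X, pCore p G⁆ ≤ Y ∧ ¬ B ≤ cmod X Y := by
  have hp : p.Prime := Fact.out
  haveI hTn : (pCore p G).Normal := pCore_normal' p
  set T := pCore p G with hT
  have hTp : IsPGroup p T := Cfsg.Agent.Lib.Helper40.pCore_isPGroup' p G
  have hTS : T ≤ (S : Subgroup G) := Cfsg.Agent.Lib.Helper40.pCore_le_sylow' S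
  set N := Subgroup.normalClosure (B : Set G) with hN
  haveI hNn : N.Normal := Subgroup.normalClosure_normal
  set N₀ := pPrimeGen p N with hN₀
  have hBN : B ≤ N := Subgroup.le_normalClosure
  -- `N₀` does not centralize `A₀`
  have h1 : ¬ N₀ ≤ Subgroup.centralizer (A₀ : Set G) := by
    intro h
    have hN₀T : N₀ ≤ T := h.trans hcon
    have hNp : IsPGroup p N := by
      rintro ⟨n, hn⟩
      obtain ⟨k, hk⟩ := exists_pow_mem_pPrimeGen (p := p) N hn
      obtain ⟨j, hj⟩ := hTp ⟨n ^ p ^ k, hN₀T hk⟩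
      refine ⟨k + j, ?_⟩
      apply Subtype.ext
      have := congrArg Subtype.val hj
      simp only [Subgroup.coe_pow, Subgroup.coe_one] at this ⊢
      rw [pow_add, pow_mul]
      exact this
    exact hBT (hBN.trans (Cfsg.Agent.Lib.Helper40.le_pCore' hNn hNp))
  -- a minimal normal subgroup of `G` inside `T` not centralized by `N₀`
  obtain ⟨X, hXP, hXmin⟩ := WellFounded.has_min (measure (fun Z : Subgroup G => Nat.card Z)).wf
    {Z : Subgroup G | Z.Normal ∧ Z ≤ A₀ ∧ ¬ N₀ ≤ Subgroup.centralizer (Z : Set G)}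
    ⟨A₀, hA₀n, le_rfl, h1⟩
  obtain ⟨hXn, hXA₀, hXc⟩ := hXP
  have hXT : X ≤ T := hXA₀.trans hA₀T
  haveI := hXn
  have hXp : IsPGroup p X := hTp.to_le hXT
  have hprop : ∀ Z : Subgroup G, Z.Normal → Z ≤ X → Z ≠ X →
      N₀ ≤ Subgroup.centralizer (Z : Set G) := by
    intro Z hZn hZX hZne
    by_contra hZc
    exact hXmin Z ⟨hZn, hZX.trans hXA₀, hZc⟩ (card_lt_card_of_lt (lt_of_le_of_ne hZX hZne))
  set Y := sSup {Z : Subgroup G | Z.Normal ∧ Z ≤ X ∧ Z ≠ X} with hY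
  haveI hYn : Y.Normal := Subgroup.sSup_normal _ (fun _ h => h.1)
  have hYX : Y ≤ X := sSup_le (fun Z hZ => hZ.2.1)
  have hmaxY : ∀ Z : Subgroup G, Z.Normal → Z ≤ X → Z ≠ X → Z ≤ Y :=
    fun Z h1 h2 h3 => le_sSup ⟨h1, h2, h3⟩
  have hN₀Y : N₀ ≤ Subgroup.centralizer (Y : Set G) := by
    rw [Subgroup.le_centralizer_iff]
    exact sSup_le (fun Z hZ => Subgroup.le_centralizer_iff.mp (hprop Z hZ.1 hZ.2.1 hZ.2.2))
  have hne : Y ≠ X := fun h => hXc (h ▸ hN₀Y)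
  have hXbot : X ≠ ⊥ := by
    intro h
    apply hXc
    rw [h]
    intro n _
    rw [Subgroup.mem_centralizer_iff]
    intro x hx
    rw [SetLike.mem_coe, Subgroup.mem_bot] at hx
    rw [hx, one_mul, mul_one]
  -- `X = ⁅X, N₀⁆`
  have hXN₀ : ⁅X, N₀⁆ = X := by
    by_contra hne'
    have hn : (⁅X, N₀⁆).Normal := inferInstance
    have h2 := hprop _ hn (Subgroup.commutator_le_left X N₀) hne'
    have h3 : ⁅⁅X, N₀⁆, N₀⁆ = ⊥ := by
      rw [Subgroup.commutator_eq_bot_iff_le_centralizer]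
      exact Subgroup.le_centralizer_iff.mp h2
    exact hXc (pPrimeGen_le_centralizer hXp h3)
  have hYZ : Y ≤ Subgroup.centralizer (X : Set G) := by
    rw [← Subgroup.commutator_eq_bot_iff_le_centralizer, Subgroup.commutator_comm]
    have hN₀Y' : ⁅N₀, Y⁆ = ⊥ := Subgroup.commutator_eq_bot_iff_le_centralizer.mpr hN₀Y
    have h2 : ⁅⁅N₀, Y⁆, X⁆ = ⊥ := by rw [hN₀Y']; exact Subgroup.commutator_bot_left X
    have h3 : ⁅⁅Y, X⁆, N₀⁆ = ⊥ := by
      rw [eq_bot_iff]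
      calc ⁅⁅Y, X⁆, N₀⁆ ≤ ⁅Y, N₀⁆ := Subgroup.commutator_mono (Subgroup.commutator_le_left Y X) le_rfl
        _ = ⊥ := by rw [Subgroup.commutator_comm]; exact hN₀Y'
    have h4 := Subgroup.commutator_commutator_eq_bot_of_rotate h2 h3
    rwa [hXN₀] at h4
  have hXS : X ≤ (S : Subgroup G) := hXT.trans hTS
  have hXX : ⁅X, X⁆ ≤ Y :=
    hmaxY _ inferInstance (Subgroup.commutator_le_left X X)
      (commutator_ne_self_of_pgroup S hXS hXS hXbot)
  have hXTY : ⁅X, T⁆ ≤ Y :=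
    hmaxY _ inferInstance (Subgroup.commutator_le_left X T)
      (commutator_ne_self_of_pgroup S hXS hTS hXbot)
  refine ⟨X, Y, hXn, hYn, ⟨hXS, hYX, hne, hmaxY⟩, hXA₀, hYZ, hN₀Y, hXX, hXTY, ?_⟩
  intro hB
  have h2 : N ≤ cmod X Y := Subgroup.normalClosure_le_normal hB
  have h3 : ⁅N₀, X⁆ ≤ Y := (le_cmod_iff X Y N₀).mp ((pPrimeGen_le p N).trans h2)
  apply hne
  apply le_antisymm hYX
  rw [← hXN₀, Subgroup.commutator_comm]
  exact h3

/-- the chief pair attached to a `p`-subgroup `B` outside `O_p(G)` -/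
theorem exists_chiefPair (S : Sylow p G)
    (hcon : Subgroup.centralizer ((pCore p G : Subgroup G) : Set G) ≤ pCore p G) {B : Subgroup G}
    (hBS : B ≤ (S : Subgroup G)) (hBT : ¬ B ≤ pCore p G) :
    ∃ (X Y : Subgroup G) (_ : X.Normal) (_ : Y.Normal), ChiefPair S X Y ∧ X ≤ pCore p G ∧
      Y ≤ Subgroup.centralizer (X : Set G) ∧
      pPrimeGen p (Subgroup.normalClosure (B : Set G)) ≤ Subgroup.centralizer (Y : Set G) ∧
      ⁅X, X⁆ ≤ Y ∧ ⁅X, pCore p G⁆ ≤ Y ∧ ¬ B ≤ cmod X Y := by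
  haveI hTn : (pCore p G).Normal := pCore_normal' p
  exact exists_chiefPair_in S le_rfl hcon hBS hBT

end exist

section stab

variable [Finite G] {p : ℕ} [Fact p.Prime] {X Y : Subgroup G} [X.Normal] [Y.Normal]
  {S : Sylow p G}

theorem zpowers_le_cmod_iff {g : G} : Subgroup.zpowers g ≤ cmod X Y ↔ g ∈ cmod X Y :=
  Subgroup.zpowers_le

/-- quadratic elements act trivially on the chief factor -/
theorem ChiefPair.mem_cmod_of_quadratic (h : ChiefPair S X Y) (hst : QStab p G) {g : G}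
    (hg : ⁅⁅X, Subgroup.zpowers g⁆, Subgroup.zpowers g⁆ ≤ Y) : g ∈ cmod X Y := by
  obtain ⟨L, -, hLn, hLp, hL⟩ := hst ⊤ X Y h.hYX le_top (S.2.to_le h.hXS)
    (le_normalizer_of_normal _ X) (le_normalizer_of_normal _ Y)
  have hLn' : L.Normal := Subgroup.normalizer_eq_top_iff.mp (top_le_iff.mp hLn)
  have h1 : L ≤ cmod X Y := by
    apply h.le_cmod
    intro l hl
    obtain ⟨k, hk⟩ := hLp l hl
    refine ⟨k, ?_⟩
    rw [← zpowers_le_cmod_iff, le_cmod_iff, Subgroup.commutator_comm]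
    exact hk
  exact h1 (hL g (Subgroup.mem_top g) hg)

theorem ChiefPair.le_cmod_of_quadratic (h : ChiefPair S X Y) (hst : QStab p G) {A : Subgroup G}
    (hA : ⁅⁅X, A⁆, A⁆ ≤ Y) : A ≤ cmod X Y := by
  intro g hg
  apply h.mem_cmod_of_quadratic hst
  have hz : Subgroup.zpowers g ≤ A := by rwa [Subgroup.zpowers_le]
  exact (Subgroup.commutator_mono (Subgroup.commutator_mono le_rfl hz) hz).trans hA

end stab

section radical

/-- the elements of the class-two group `X` whose commutators with `X` lie in `K` -/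
def radK (X K : Subgroup G) (hcl : ⁅X, X⁆ ≤ Subgroup.centralizer (X : Set G)) : Subgroup G where
  carrier := {x | x ∈ X ∧ ∀ y ∈ X, ⁅x, y⁆ ∈ K}
  one_mem' := ⟨X.one_mem, fun y _ => by
    have : ⁅(1 : G), y⁆ = 1 := by simp [commutatorElement_def]
    rw [this]; exact K.one_mem⟩
  mul_mem' := by
    rintro x₁ x₂ ⟨h1, h1'⟩ ⟨h2, h2'⟩
    refine ⟨X.mul_mem h1 h2, fun y hy => ?_⟩
    have hc : ⁅x₂, y⁆ ∈ Subgroup.centralizer (X : Set G) :=
      hcl (Subgroup.commutator_mem_commutator h2 hy)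
    have hcomm : x₁ * ⁅x₂, y⁆ = ⁅x₂, y⁆ * x₁ := (Subgroup.mem_centralizer_iff.mp hc) x₁ h1
    have e : ⁅x₁ * x₂, y⁆ = (x₁ * ⁅x₂, y⁆) * x₁⁻¹ * ⁅x₁, y⁆ := by
      simp only [commutatorElement_def]; group
    rw [e, hcomm]
    have e2 : ⁅x₂, y⁆ * x₁ * x₁⁻¹ * ⁅x₁, y⁆ = ⁅x₂, y⁆ * ⁅x₁, y⁆ := by group
    rw [e2]
    exact K.mul_mem (h2' y hy) (h1' y hy)
  inv_mem' := by
    rintro x ⟨h1, h1'⟩
    refine ⟨X.inv_mem h1, fun y hy => ?_⟩
    have hc : ⁅x, y⁆ ∈ Subgroup.centralizer (X : Set G) :=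
      hcl (Subgroup.commutator_mem_commutator h1 hy)
    have hcomm : x * ⁅x, y⁆ = ⁅x, y⁆ * x := (Subgroup.mem_centralizer_iff.mp hc) x h1
    have e : ⁅x⁻¹, y⁆ = x⁻¹ * (⁅x, y⁆⁻¹ * x) := by
      simp only [commutatorElement_def]; group
    have hcomm' : ⁅x, y⁆⁻¹ * x = x * ⁅x, y⁆⁻¹ := by
      calc ⁅x, y⁆⁻¹ * x = ⁅x, y⁆⁻¹ * (x * ⁅x, y⁆) * ⁅x, y⁆⁻¹ := by group
        _ = ⁅x, y⁆⁻¹ * (⁅x, y⁆ * x) * ⁅x, y⁆⁻¹ := by rw [hcomm]
        _ = x * ⁅x, y⁆⁻¹ := by group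
    rw [e, hcomm']
    have e2 : x⁻¹ * (x * ⁅x, y⁆⁻¹) = ⁅x, y⁆⁻¹ := by group
    rw [e2]
    exact K.inv_mem (h1' y hy)

variable {X K : Subgroup G} {hcl : ⁅X, X⁆ ≤ Subgroup.centralizer (X : Set G)}

theorem mem_radK {x : G} : x ∈ radK X K hcl ↔ x ∈ X ∧ ∀ y ∈ X, ⁅x, y⁆ ∈ K := Iff.rfl

theorem radK_le : radK X K hcl ≤ X := fun _ h => h.1

theorem le_radK_of_central {Y : Subgroup G} (hYX : Y ≤ X)
    (hYZ : Y ≤ Subgroup.centralizer (X : Set G)) : Y ≤ radK X K hcl := by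
  intro y hy
  refine ⟨hYX hy, fun x hx => ?_⟩
  have h1 := (Subgroup.mem_centralizer_iff.mp (hYZ hy)) x hx
  have : ⁅y, x⁆ = 1 := by
    rw [commutatorElement_def]
    calc y * x * y⁻¹ * x⁻¹ = (x * y)⁻¹⁻¹ * y⁻¹ * x⁻¹ := by rw [h1]; group
      _ = 1 := by group
  rw [this]; exact K.one_mem

theorem commutator_radK_le : ⁅radK X K hcl, X⁆ ≤ K := by
  rw [Subgroup.commutator_le]
  intro x hx y hy
  exact hx.2 y hy

theorem commutator_le_of_radK_eq (h : radK X K hcl = X) : ⁅X, X⁆ ≤ K := by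
  have := commutator_radK_le (X := X) (K := K) (hcl := hcl)
  rwa [h] at this

theorem le_normalizer_radK [hXn : X.Normal] {M : Subgroup G}
    (hM : ∀ g ∈ M, ∀ k ∈ K, g * k * g⁻¹ ∈ K) :
    M ≤ Subgroup.normalizer ((radK X K hcl : Subgroup G) : Set G) := by
  apply le_normalizer_of_conj_mem
  intro g hg x hx
  refine ⟨hXn.conj_mem x hx.1 g, fun y hy => ?_⟩
  have hy' : g⁻¹ * y * g ∈ X := by
    have := hXn.conj_mem y hy g⁻¹
    simpa using this
  have e : ⁅g * x * g⁻¹, y⁆ = g * ⁅x, g⁻¹ * y * g⁆ * g⁻¹ := by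
    simp only [commutatorElement_def]; group
  rw [e]
  exact hM g hg _ (hx.2 _ hy')

/-- the central elements of `B` inside `X` lie in the radical of `⁅X, X⁆ ∩ C(B)` -/
theorem inf_center_le_radK [hXn : X.Normal] {B : Subgroup G}
    (hXB : X ≤ Subgroup.normalizer (B : Set G)) :
    X ⊓ (B ⊓ Subgroup.centralizer (B : Set G)) ≤
      radK X (⁅X, X⁆ ⊓ Subgroup.centralizer (B : Set G)) hcl := by
  rintro d ⟨hdX, hdB, hdc⟩
  have hdX : d ∈ X := hdX
  have hdB : d ∈ B := hdB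
  have hdc : d ∈ Subgroup.centralizer (B : Set G) := hdc
  refine ⟨hdX, fun y hy => ⟨Subgroup.commutator_mem_commutator hdX hy, ?_⟩⟩
  show ⁅d, y⁆ ∈ Subgroup.centralizer (B : Set G)
  rw [Subgroup.mem_centralizer_iff]
  intro b hb
  set w := b * y * b⁻¹ * y⁻¹ with hw
  have hwB : w ∈ B := by
    have h1 : y * b⁻¹ * y⁻¹ ∈ B := conj_mem_of_le_normalizer hXB hy (B.inv_mem hb)
    have e : w = b * (y * b⁻¹ * y⁻¹) := by rw [hw]; group
    rw [e]; exact B.mul_mem hb h1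
  have hwX : w ∈ X := X.mul_mem (hXn.conj_mem y hy b) (X.inv_mem hy)
  have hdb : b * d = d * b := (Subgroup.mem_centralizer_iff.mp hdc) b hb
  have hdw : w * d = d * w := (Subgroup.mem_centralizer_iff.mp hdc) w hwB
  have hcw : w * ⁅d, y⁆ = ⁅d, y⁆ * w :=
    (Subgroup.mem_centralizer_iff.mp (hcl (Subgroup.commutator_mem_commutator hdX hy))) w hwX
  -- `b ⁅d, y⁆ b⁻¹ = ⁅d, w y⁆ = w ⁅d, y⁆ w⁻¹ = ⁅d, y⁆`
  have e1 : b * ⁅d, y⁆ * b⁻¹ = ⁅b * d * b⁻¹, w * y⁆ := by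
    simp only [commutatorElement_def, hw]; group
  have e2 : b * d * b⁻¹ = d := by rw [hdb]; group
  have e3 : ⁅d, w * y⁆ = (d * w) * (y * d⁻¹ * y⁻¹) * w⁻¹ := by
    simp only [commutatorElement_def]; group
  have e4 : (w * d) * (y * d⁻¹ * y⁻¹) * w⁻¹ = w * ⁅d, y⁆ * w⁻¹ := by
    simp only [commutatorElement_def]; group
  have h5 : b * ⁅d, y⁆ * b⁻¹ = ⁅d, y⁆ := by
    rw [e1, e2, e3, ← hdw, e4, hcw]; group
  calc b * ⁅d, y⁆ = (b * ⁅d, y⁆ * b⁻¹) * b := by group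
    _ = ⁅d, y⁆ * b := by rw [h5]

end radical

section unipotent

theorem conj_pow_eq {H : Type*} [Group H] {r x : H} (hc : Commute (r * x * r⁻¹ * x⁻¹) r) (m : ℕ) :
    r ^ m * x * (r ^ m)⁻¹ = (r * x * r⁻¹ * x⁻¹) ^ m * x := by
  set c := r * x * r⁻¹ * x⁻¹ with hcdef
  induction m with
  | zero => simp
  | succ k ih =>
    have hck : c ^ k * r = r * c ^ k := (hc.pow_left k).eq
    have hck' : r * c ^ k * r⁻¹ = c ^ k := by rw [← hck]; group
    calc r ^ (k + 1) * x * (r ^ (k + 1))⁻¹ = r * (r ^ k * x * (r ^ k)⁻¹) * r⁻¹ := by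
          rw [pow_succ']; group
      _ = r * (c ^ k * x) * r⁻¹ := by rw [ih]
      _ = (r * c ^ k * r⁻¹) * (r * x * r⁻¹ * x⁻¹) * x := by group
      _ = c ^ k * c * x := by rw [hck']
      _ = c ^ (k + 1) * x := by rw [pow_succ]

variable [Finite G] {X Y XK : Subgroup G} [hXn : X.Normal] [hYn : Y.Normal]

/-- an element acting trivially on `X / X_K` and on `X_K / Y` acts on `X / Y` as an element of order
dividing `|X|` -/
theorem pow_card_mem_cmod {r : G} (h1 : ⁅X, Subgroup.zpowers r⁆ ≤ XK)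
    (h2 : ⁅XK, Subgroup.zpowers r⁆ ≤ Y) : r ^ Nat.card X ∈ cmod X Y := by
  unfold cmod
  rw [Subgroup.mem_comap, Subgroup.mem_centralizer_iff]
  rintro _ ⟨x, hx, rfl⟩
  set π := QuotientGroup.mk' Y with hπ
  set c := r * x * r⁻¹ * x⁻¹ with hc
  have hrz : r ∈ Subgroup.zpowers r := Subgroup.mem_zpowers r
  have hcXK : c ∈ XK := by
    apply h1
    have : c = ⁅x, r⁆⁻¹ := by rw [hc, commutatorElement_def]; group
    rw [this]
    exact Subgroup.inv_mem _ (Subgroup.commutator_mem_commutator hx hrz)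
  have hcX : c ∈ X := X.mul_mem (hXn.conj_mem x hx r) (X.inv_mem hx)
  have hcr : ⁅c, r⁆ ∈ Y := h2 (Subgroup.commutator_mem_commutator hcXK hrz)
  have hcomm : Commute (π r * π x * (π r)⁻¹ * (π x)⁻¹) (π r) := by
    have e : π r * π x * (π r)⁻¹ * (π x)⁻¹ = π c := by
      rw [hc]; simp only [map_mul, map_inv]
    rw [e]
    show π c * π r = π r * π c
    have h3 : π ⁅c, r⁆ = 1 := (QuotientGroup.eq_one_iff _).mpr hcr
    rw [commutatorElement_def] at h3
    simp only [map_mul, map_inv] at h3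
    calc π c * π r = (π c * π r * (π c)⁻¹ * (π r)⁻¹) * (π r * π c) := by group
      _ = π r * π c := by rw [h3, one_mul]
  have key := conj_pow_eq hcomm (Nat.card X)
  have e : π r * π x * (π r)⁻¹ * (π x)⁻¹ = π c := by
    rw [hc]; simp only [map_mul, map_inv]
  rw [e] at key
  have hc1 : c ^ Nat.card X = 1 := by
    have h3 : (⟨c, hcX⟩ : ↥X) ^ Nat.card ↥X = 1 := pow_card_eq_one'
    have h4 := congrArg Subtype.val h3
    rw [Subgroup.coe_pow, Subgroup.coe_one] at h4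
    exact h4
  rw [← map_pow π c, hc1, map_one, one_mul] at key
  rw [map_pow]
  calc π x * π r ^ Nat.card X = (π r ^ Nat.card X * π x * (π r ^ Nat.card X)⁻¹) * π r ^ Nat.card X := by
        rw [key]
    _ = π r ^ Nat.card X * π x := by group

end unipotent

section upper

variable [Finite G] {p : ℕ} [Fact p.Prime]

/-- **the upper case**: a member of an upper-star family relative to a subgroup `E` lies in `O_p(G)`,
if every normal class-two subgroup of `G` in `O_p(G)` either lies in `E` or has a "witness" -/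
theorem upper_le (S : Sylow p G)
    (hcon : Subgroup.centralizer ((pCore p G : Subgroup G) : Set G) ≤ pCore p G) (hst : QStab p G)
    {B E : Subgroup G} (hBS : B ≤ (S : Subgroup G))
    (hBE : ⁅B, E⁆ ≤ B ⊓ Subgroup.centralizer (B : Set G))
    (hdich : ∀ X : Subgroup G, X.Normal → X ≤ pCore p G → X ∈ classTwoSubgroups G →
      X ≤ E ∨ ∃ A₁ : Subgroup G, A₁ ∈ classTwoSubgroups G ∧
        X ≤ Subgroup.normalizer (A₁ : Set G) ∧ ⁅X, ⁅A₁, A₁⁆⁆ = ⊥ ∧
        ¬ ⁅X, A₁⁆ ≤ X ⊓ Subgroup.centralizer (X : Set G)) :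
    B ≤ pCore p G := by
  by_contra hBT
  obtain ⟨X, Y, hXn, hYn, hXY, hXT, hYZ, -, hXX, -, hBc⟩ := exists_chiefPair S hcon hBS hBT
  haveI := hXn
  haveI := hYn
  have hXcl : X ∈ classTwoSubgroups G := hXX.trans hYZ
  rcases hdich X hXn hXT hXcl with hXE | ⟨A₁, hA₁cl, hXA₁, hXA₁', hnot⟩
  · apply hBc
    apply hXY.le_cmod_of_quadratic hst
    have h1 : ⁅B, X⁆ ≤ Subgroup.centralizer (B : Set G) :=
      ((Subgroup.commutator_mono le_rfl hXE).trans hBE).trans inf_le_right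
    have h2 : ⁅⁅X, B⁆, B⁆ = ⊥ := by
      rw [Subgroup.commutator_eq_bot_iff_le_centralizer, Subgroup.commutator_comm]
      exact h1
    rw [h2]; exact bot_le
  · apply hnot
    have hZn : (X ⊓ Subgroup.centralizer (X : Set G)).Normal := inferInstance
    have hZY : X ⊓ Subgroup.centralizer (X : Set G) ≤ Y := by
      apply hXY.hmax _ hZn inf_le_left
      intro hZ
      apply hnot
      rw [hZ]
      exact Subgroup.commutator_le_left X A₁
    have h1 : ⁅X, A₁⁆ ≤ A₁ := by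
      rw [Subgroup.commutator_comm]
      exact commutator_le_left_of_normalizer hXA₁
    have h2 : ⁅⁅X, A₁⁆, A₁⁆ ≤ Y := by
      refine le_trans (le_inf ?_ ?_) hZY
      · exact (Subgroup.commutator_mono (Subgroup.commutator_le_left X A₁) le_rfl).trans
          (Subgroup.commutator_le_left X A₁)
      · have h3 : ⁅⁅X, A₁⁆, A₁⁆ ≤ ⁅A₁, A₁⁆ := Subgroup.commutator_mono h1 le_rfl
        refine h3.trans ?_
        rw [← Subgroup.commutator_eq_bot_iff_le_centralizer, Subgroup.commutator_comm]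
        exact hXA₁'
    have h4 : A₁ ≤ cmod X Y := hXY.le_cmod_of_quadratic hst h2
    have h5 : ⁅A₁, X⁆ ≤ Y := (le_cmod_iff X Y A₁).mp h4
    rw [Subgroup.commutator_comm]
    exact h5.trans (le_inf hXY.hYX hYZ)

end upper

section lower

variable [Finite G] {p : ℕ} [Fact p.Prime]

theorem le_normalizer_inf' {M A B : Subgroup G} (hA : M ≤ Subgroup.normalizer (A : Set G))
    (hB : M ≤ Subgroup.normalizer (B : Set G)) :
    M ≤ Subgroup.normalizer ((A ⊓ B : Subgroup G) : Set G) := by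
  apply le_normalizer_of_conj_mem
  intro x hx n hn
  exact ⟨conj_mem_of_le_normalizer hA hx hn.1, conj_mem_of_le_normalizer hB hx hn.2⟩

/-- **the lower case**: a member `B` of a lower-star family relative to `R` lies in `O_p(G)`, if `R`
contains the normal class-two subgroups `X` of `G` in `T = O_p(G)` with `⁅X, T⁆ ≤ Z(X)` -/
theorem lower_le (S : Sylow p G)
    (hcon : Subgroup.centralizer ((pCore p G : Subgroup G) : Set G) ≤ pCore p G) (hst : QStab p G)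
    {B R : Subgroup G} (hBS : B ≤ (S : Subgroup G)) (hBcl : B ∈ classTwoSubgroups G)
    (hRB : R ≤ Subgroup.normalizer (B : Set G))
    (hLS : ∀ A ∈ classTwoSubgroups G, A ≤ R → B ≤ Subgroup.normalizer (A : Set G) →
      ⁅B, ⁅A, A⁆⁆ = ⊥ → ⁅⁅B ⊓ Subgroup.centralizer (B : Set G), A⁆, A⁆ = ⊥ →
      ⁅B, A⁆ ≤ B ⊓ Subgroup.centralizer (B : Set G))
    (hR : ∀ X : Subgroup G, X.Normal → X ≤ pCore p G → X ∈ classTwoSubgroups G →
      ⁅X, pCore p G⁆ ≤ X ⊓ Subgroup.centralizer (X : Set G) → X ≤ R) :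
    B ≤ pCore p G := by
  by_contra hBT
  obtain ⟨X, Y, hXn, hYn, hXY, hXT, hYZ, hN₀Y, hXX, hXTY, hBc⟩ := exists_chiefPair S hcon hBS hBT
  haveI := hXn
  haveI := hYn
  set N := Subgroup.normalClosure (B : Set G) with hN
  haveI hNn : N.Normal := Subgroup.normalClosure_normal
  set N₀ := pPrimeGen p N with hN₀
  have hBp : IsPGroup p B := S.2.to_le hBS
  have hXp : IsPGroup p X := S.2.to_le hXY.hXS
  have hXcl : X ∈ classTwoSubgroups G := hXX.trans hYZ
  have hXR : X ≤ R := hR X hXn hXT hXcl (hXTY.trans (le_inf hXY.hYX hYZ))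
  have hXB : X ≤ Subgroup.normalizer (B : Set G) := hXR.trans hRB
  set ZB := B ⊓ Subgroup.centralizer (B : Set G) with hZB
  have hXBB : ⁅X, B⁆ ≤ B := by
    rw [Subgroup.commutator_comm]; exact commutator_le_left_of_normalizer hXB
  have hBZB : ⁅B, ZB⁆ = ⊥ := by
    rw [Subgroup.commutator_eq_bot_iff_le_centralizer]
    exact Subgroup.le_centralizer_iff.mp inf_le_right
  have hZBc : ZB ≤ cmod X Y := by
    apply hXY.le_cmod_of_quadratic hst
    have h1 : ⁅X, ZB⁆ ≤ B := (Subgroup.commutator_mono le_rfl inf_le_left).trans hXBB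
    have h2 : ⁅⁅X, ZB⁆, ZB⁆ ≤ ⁅B, ZB⁆ := Subgroup.commutator_mono h1 le_rfl
    rw [hBZB] at h2
    exact h2.trans bot_le
  have hZBX : ⁅⁅ZB, X⁆, X⁆ = ⊥ := by
    rw [Subgroup.commutator_eq_bot_iff_le_centralizer]
    exact ((le_cmod_iff X Y ZB).mp hZBc).trans hYZ
  have hquadB : ∀ A : Subgroup G, ⁅B, A⁆ ≤ ZB → ⁅⁅A, B⁆, B⁆ = ⊥ := by
    intro A hA
    rw [eq_bot_iff]
    calc ⁅⁅A, B⁆, B⁆ ≤ ⁅ZB, B⁆ :=
          Subgroup.commutator_mono (by rw [Subgroup.commutator_comm]; exact hA) le_rfl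
      _ = ⊥ := by rw [Subgroup.commutator_comm]; exact hBZB
  set K := ⁅X, X⁆ ⊓ Subgroup.centralizer (B : Set G) with hK
  set XK := radK X K hXcl with hXK
  have hXKX : XK ≤ X := radK_le
  have hYXK : Y ≤ XK := le_radK_of_central hXY.hYX hYZ
  have hKB : ∀ g ∈ B, ∀ k ∈ K, g * k * g⁻¹ ∈ K := by
    intro g hg k hk
    have h1 := (Subgroup.mem_centralizer_iff.mp hk.2) g hg
    have e : g * k * g⁻¹ = k := by rw [h1]; group
    rw [e]; exact hk
  have hKN₀ : ∀ g ∈ N₀, ∀ k ∈ K, g * k * g⁻¹ ∈ K := by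
    intro g hg k hk
    have hkY : k ∈ Y := hXX hk.1
    have h1 := (Subgroup.mem_centralizer_iff.mp (hN₀Y hg)) k hkY
    have e : g * k * g⁻¹ = k := by rw [← h1]; group
    rw [e]; exact hk
  have hKX : ∀ g ∈ X, ∀ k ∈ K, g * k * g⁻¹ ∈ K := by
    intro g hg k hk
    have h1 := (Subgroup.mem_centralizer_iff.mp (hXcl hk.1)) g hg
    have e : g * k * g⁻¹ = k := by rw [h1]; group
    rw [e]; exact hk
  set H := Subgroup.normalizer ((XK : Subgroup G) : Set G) with hH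
  have hBH : B ≤ H := le_normalizer_radK hKB
  have hN₀H : N₀ ≤ H := le_normalizer_radK hKN₀
  have hXH : X ≤ H := le_normalizer_radK hKX
  have hXKcl : XK ∈ classTwoSubgroups G :=
    (Subgroup.commutator_mono hXKX hXKX).trans (hXcl.trans (Subgroup.centralizer_le hXKX))
  have hBXK' : ⁅B, ⁅XK, XK⁆⁆ = ⊥ := by
    rw [Subgroup.commutator_eq_bot_iff_le_centralizer, Subgroup.le_centralizer_iff]
    exact ((Subgroup.commutator_mono le_rfl hXKX).trans commutator_radK_le).trans inf_le_right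
  have hZBXK : ⁅⁅ZB, XK⁆, XK⁆ = ⊥ :=
    eq_bot_iff.mpr ((Subgroup.commutator_mono (Subgroup.commutator_mono le_rfl hXKX) hXKX).trans
      hZBX.le)
  have h1 := hLS XK hXKcl (hXKX.trans hXR) hBH hBXK' hZBXK
  have hq2 : ⁅⁅XK, B⁆, B⁆ ≤ Y := by rw [hquadB XK h1]; exact bot_le
  have hq1 : ⁅⁅X, B⁆, B⁆ ≤ XK := by
    refine le_trans (le_inf ?_ ?_) (inf_center_le_radK hXB)
    · exact (Subgroup.commutator_mono (Subgroup.commutator_le_left X B) le_rfl).trans
        (Subgroup.commutator_le_left X B)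
    · have h2 : ⁅⁅X, B⁆, B⁆ ≤ ⁅B, B⁆ := Subgroup.commutator_mono hXBB le_rfl
      exact h2.trans (le_inf (Subgroup.commutator_le_self B) hBcl)
  obtain ⟨L₁, hL₁H, hHL₁, hL₁p, hL₁⟩ :=
    hst H X XK hXKX hXH hXp (le_normalizer_of_normal H X) le_rfl
  obtain ⟨L₂, hL₂H, hHL₂, hL₂p, hL₂⟩ :=
    hst H XK Y hYXK Subgroup.le_normalizer (hXp.to_le hXKX) le_rfl (le_normalizer_of_normal H Y)
  have hBL₁ : B ≤ L₁ := by
    intro g hg
    apply hL₁ g (hBH hg)
    have hz : Subgroup.zpowers g ≤ B := by rwa [Subgroup.zpowers_le]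
    exact (Subgroup.commutator_mono (Subgroup.commutator_mono le_rfl hz) hz).trans hq1
  have hBL₂ : B ≤ L₂ := by
    intro g hg
    apply hL₂ g (hBH hg)
    have hz : Subgroup.zpowers g ≤ B := by rwa [Subgroup.zpowers_le]
    exact (Subgroup.commutator_mono (Subgroup.commutator_mono le_rfl hz) hz).trans hq2
  set Q := N₀ ⊓ (L₁ ⊓ L₂) with hQ
  have hN₀Q : N₀ ≤ Subgroup.normalizer ((Q : Subgroup G) : Set G) :=
    le_normalizer_inf' Subgroup.le_normalizer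
      (le_normalizer_inf' (hN₀H.trans hHL₁) (hN₀H.trans hHL₂))
  have hQp : ∀ q ∈ Q, ∃ k : ℕ, q ^ p ^ k ∈ cmod X Y := by
    rintro q ⟨-, hq1', hq2'⟩
    obtain ⟨k₁, hk₁⟩ := hL₁p q hq1'
    obtain ⟨k₂, hk₂⟩ := hL₂p q hq2'
    set r := q ^ p ^ (k₁ + k₂) with hr
    have hr1 : Subgroup.zpowers r ≤ Subgroup.zpowers (q ^ p ^ k₁) := by
      rw [Subgroup.zpowers_le]
      have : r = (q ^ p ^ k₁) ^ p ^ k₂ := by rw [hr, ← pow_mul, ← pow_add]
      rw [this]; exact Subgroup.pow_mem _ (Subgroup.mem_zpowers _) _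
    have hr2 : Subgroup.zpowers r ≤ Subgroup.zpowers (q ^ p ^ k₂) := by
      rw [Subgroup.zpowers_le]
      have : r = (q ^ p ^ k₂) ^ p ^ k₁ := by rw [hr, ← pow_mul, ← pow_add, add_comm]
      rw [this]; exact Subgroup.pow_mem _ (Subgroup.mem_zpowers _) _
    have h2 : ⁅X, Subgroup.zpowers r⁆ ≤ XK := (Subgroup.commutator_mono le_rfl hr1).trans hk₁
    have h3 : ⁅XK, Subgroup.zpowers r⁆ ≤ Y := (Subgroup.commutator_mono le_rfl hr2).trans hk₂
    have h4 := pow_card_mem_cmod h2 h3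
    obtain ⟨e, he⟩ := IsPGroup.iff_card.mp hXp
    refine ⟨k₁ + k₂ + e, ?_⟩
    rw [pow_add, pow_mul, ← he]
    exact h4
  have hQc : Q ≤ cmod X Y := hXY.le_cmod_of_normal_in_normal (M := N₀) inf_le_left hN₀Q hQp
  have hcomm : ⁅N₀, B⁆ ≤ Q := by
    refine le_inf (Subgroup.commutator_le_left N₀ B) (le_inf ?_ ?_)
    · calc ⁅N₀, B⁆ ≤ ⁅N₀, L₁⁆ := Subgroup.commutator_mono le_rfl hBL₁
        _ ≤ L₁ := by
          rw [Subgroup.commutator_comm]
          exact commutator_le_left_of_normalizer (hN₀H.trans hHL₁)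
    · calc ⁅N₀, B⁆ ≤ ⁅N₀, L₂⁆ := Subgroup.commutator_mono le_rfl hBL₂
        _ ≤ L₂ := by
          rw [Subgroup.commutator_comm]
          exact commutator_le_left_of_normalizer (hN₀H.trans hHL₂)
  have hBN₀ : ⁅B, N₀⁆ ≤ cmod X Y := by
    rw [Subgroup.commutator_comm]; exact hcomm.trans hQc
  have hNN₀ : ⁅N, N₀⁆ ≤ cmod X Y := by
    rw [← le_cmod_iff]
    apply Subgroup.normalClosure_le_normal
    rw [SetLike.coe_subset_coe, le_cmod_iff]
    exact hBN₀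
  apply hBc
  exact hXY.le_cmod_of_central hNN₀ (fun n hn => exists_pow_mem_pPrimeGen N hn)
    Subgroup.le_normalClosure hBp

end lower

end Cfsg.Agent.Lib.Helper41.KStable
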