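import Mathlib
import Cfsg.Agent.Lib.Helper74.MinIdxDefs
import Cfsg.Agent.Lib.Helper18.MinIdxK6
import Cfsg.Agent.Lib.Helper59.MinIdxK12

/-!
# S2140 keystone K18 (helper41): case (A) `|G : H| = q^m` is impossible
-/

set_option autoImplicit false

namespace Cfsg.Agent.Lib.Helper41.MinIdx

open Matrix Cfsg.Agent.Lib.Helper74.MinIdx

variable {κ : Type*} [Fintype κ] [DecidableEq κ] {F : Type*} [Field F]

/-- Every element of `Qst v0` is of the form `blk 1 s`. -/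
theorem exists_blk_one_of_mem_Qst (t : SpecialLinearGroup (Unit ⊕ κ) F)
    (ht : t ∈ Qst (v0 : Unit ⊕ κ → F)) : ∃ s : κ → F, t = blk (1 : GL κ F) s := by
  obtain ⟨φ, h, rfl⟩ := ht
  refine ⟨fun j => φ (Sum.inr j), ?_⟩
  rw [Cfsg.Agent.Lib.Helper59.MinIdx.blk_one_eq_tv]
  have h0 : φ (Sum.inl ()) = 0 := by
    have : φ ⬝ᵥ (v0 : Unit ⊕ κ → F) = φ (Sum.inl ()) := by
      simp [dotProduct, v0]
    rw [← this, h]
  have hφ : φ = Sum.elim (fun _ => 0) (fun j => φ (Sum.inr j)) := by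
    funext i
    rcases i with i | i
    · cases i
      simpa using h0
    · rfl
  apply Subtype.ext
  simp only [coe_tv]
  rw [← hφ]

/-- K18: case (A) is impossible. -/
theorem K18_caseA [Fintype F] (hκ : 2 ≤ Fintype.card κ)
    (H : Subgroup (SpecialLinearGroup (Unit ⊕ κ) F))
    (hfix : ∀ g : SpecialLinearGroup (Unit ⊕ κ) F, IsTv g →
      Nat.card (MulAction.fixedBy (SpecialLinearGroup (Unit ⊕ κ) F ⧸ H) g) +
        Fintype.card F ^ Fintype.card κ = H.index)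
    (hcover : ∀ K : Subgroup (SpecialLinearGroup (Unit ⊕ κ) F),
      (∀ A : GL κ F, ∃ r : κ → F, blk A r ∈ K) → ∃ g ∈ K, IsTv g)
    (hidx : H.index = Fintype.card F ^ Fintype.card κ) : False := by
  classical
  haveI : Finite (SpecialLinearGroup (Unit ⊕ κ) F) :=
    Finite.of_injective (fun g : SpecialLinearGroup (Unit ⊕ κ) F =>
      (g : Matrix (Unit ⊕ κ) (Unit ⊕ κ) F)) (fun _ _ h => Subtype.ext h)
  -- Step 1: no transvection lies in `H`
  have hno : ∀ g : SpecialLinearGroup (Unit ⊕ κ) F, IsTv g → g ∉ H := by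
    intro g hg hgH
    have h1 := hfix g hg
    rw [hidx] at h1
    have h0 : Nat.card (MulAction.fixedBy (SpecialLinearGroup (Unit ⊕ κ) F ⧸ H) g) = 0 := by
      omega
    have hmem : ((1 : SpecialLinearGroup (Unit ⊕ κ) F) : SpecialLinearGroup (Unit ⊕ κ) F ⧸ H) ∈
        MulAction.fixedBy (SpecialLinearGroup (Unit ⊕ κ) F ⧸ H) g := by
      rw [MulAction.mem_fixedBy]
      show ((g * 1 : SpecialLinearGroup (Unit ⊕ κ) F) : SpecialLinearGroup (Unit ⊕ κ) F ⧸ H) = _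
      rw [mul_one, QuotientGroup.eq, mul_one]
      exact H.inv_mem hgH
    haveI : Nonempty (MulAction.fixedBy (SpecialLinearGroup (Unit ⊕ κ) F ⧸ H) g) := ⟨⟨_, hmem⟩⟩
    have := Nat.card_pos (α := MulAction.fixedBy (SpecialLinearGroup (Unit ⊕ κ) F ⧸ H) g)
    omega
  -- Step 2: `Q` is regular on the cosets
  have hv0 : (v0 : Unit ⊕ κ → F) ≠ 0 := Cfsg.Agent.Lib.Helper59.MinIdx.v0_ne_zero
  let f : Qst (v0 : Unit ⊕ κ → F) → SpecialLinearGroup (Unit ⊕ κ) F ⧸ H :=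
    fun t => ((t : SpecialLinearGroup (Unit ⊕ κ) F) : SpecialLinearGroup (Unit ⊕ κ) F ⧸ H)
  have hinj : Function.Injective f := by
    intro t t' htt'
    have h1 : (t : SpecialLinearGroup (Unit ⊕ κ) F)⁻¹ * (t' : SpecialLinearGroup (Unit ⊕ κ) F) ∈ H :=
      QuotientGroup.eq.1 htt'
    have h2 : (t : SpecialLinearGroup (Unit ⊕ κ) F)⁻¹ * (t' : SpecialLinearGroup (Unit ⊕ κ) F) ∈
        Qst (v0 : Unit ⊕ κ → F) := (Qst _).mul_mem ((Qst _).inv_mem t.2) t'.2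
    by_contra hne
    have h3 : (t : SpecialLinearGroup (Unit ⊕ κ) F)⁻¹ * (t' : SpecialLinearGroup (Unit ⊕ κ) F) ≠ 1 := by
      intro h
      apply hne
      apply Subtype.ext
      exact inv_mul_eq_one.1 h
    exact hno _ (Cfsg.Agent.Lib.Helper18.MinIdx.K6_isTv _ hv0 _ h2 h3) h1
  have hcardQ : Nat.card (Qst (v0 : Unit ⊕ κ → F)) = Fintype.card F ^ Fintype.card κ := by
    rw [Cfsg.Agent.Lib.Helper18.MinIdx.K6_card_Qst _ hv0]
    congr 1
    simp
  have hcardX : Nat.card (SpecialLinearGroup (Unit ⊕ κ) F ⧸ H) = Fintype.card F ^ Fintype.card κ := by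
    rw [← hidx]
    rfl
  have hbij : Function.Bijective f :=
    hinj.bijective_of_nat_card_le (by rw [hcardQ, hcardX])
  -- Step 3: `H` covers
  have hcov : ∀ A : GL κ F, ∃ r : κ → F, blk A r ∈ H := by
    intro A
    obtain ⟨t, ht⟩ := hbij.2 ((blk A 0 : SpecialLinearGroup (Unit ⊕ κ) F) :
      SpecialLinearGroup (Unit ⊕ κ) F ⧸ H)
    have h1 : (t : SpecialLinearGroup (Unit ⊕ κ) F)⁻¹ * blk A 0 ∈ H := QuotientGroup.eq.1 ht
    obtain ⟨s, hs⟩ := exists_blk_one_of_mem_Qst _ ((Qst _).inv_mem t.2)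
    rw [hs, Cfsg.Agent.Lib.Helper59.MinIdx.blk_mul_blk, one_mul] at h1
    exact ⟨_, h1⟩
  obtain ⟨g, hgH, hg⟩ := hcover H hcov
  exact hno g hg hgH

end Cfsg.Agent.Lib.Helper41.MinIdx
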