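import Cfsg.Agent.Lib.Helper41.Engine
import Cfsg.Agent.Lib.Helper03.PResidual

set_option autoImplicit false

namespace Cfsg.Agent.Lib.Helper41

open Cfsg

variable {G : Type*} [Group G] {p : ℕ}

/-- `X = O^p(X) T` for a Sylow `p`-subgroup `T` of `X` (`relIndex` form, inside the ambient group) -/
theorem exists_pResidual_mul_of_relIndex [Finite G] [Fact p.Prime] {T X : Subgroup G}
    (hTX : T ≤ X) (hT : IsPGroup p T) (hidx : ¬ p ∣ T.relIndex X) {x : G} (hx : x ∈ X) :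
    ∃ r ∈ (Cfsg.pResidual p ↥X).map X.subtype, ∃ t ∈ T, x = r * t := by
  have hT' : IsPGroup p (T.subgroupOf X) := hT.comap_subtype
  let T' : Sylow p X := hT'.toSylow hidx
  have htop := Cfsg.Agent.Lib.Helper03.sylow_sup_pResidual_eq_top T'
  haveI : (Cfsg.pResidual p ↥X).Normal := Cfsg.Agent.Lib.Helper03.pResidual_normal p ↥X
  have hmem : (⟨x, hx⟩ : ↥X) ∈ Cfsg.pResidual p ↥X ⊔ (T' : Subgroup ↥X) := by
    rw [sup_comm, htop]; trivial
  rw [← SetLike.mem_coe, Subgroup.normal_mul] at hmem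
  obtain ⟨r, hr, t, ht, hrt⟩ := hmem
  refine ⟨r, ⟨r, hr, rfl⟩, t, ?_, ?_⟩
  · have : t ∈ T.subgroupOf X := ht
    rwa [Subgroup.mem_subgroupOf] at this
  · have := congrArg Subtype.val hrt
    simpa using this.symm

/-- **Puig's refinement step**: let `R = S ∩ N` be a Sylow `p`-subgroup of `N` and `X ≤ N` be normalized
by `N`.  Then every `m ∈ N` is `x * n` with `x ∈ O^p(X)` and `n ∈ N ∩ N_G(S ∩ X)`. -/
theorem exists_pResidual_mul_normalizer [Finite G] [Fact p.Prime] {S N X : Subgroup G}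
    (hS : IsPGroup p S) (hidx : ¬ p ∣ (S ⊓ N).relIndex N) (hXN : X ≤ N)
    (hnorm : ∀ c n, c ∈ X → n ∈ N → n * c * n⁻¹ ∈ X) {m : G} (hm : m ∈ N) :
    ∃ x ∈ (Cfsg.pResidual p ↥X).map X.subtype, ∃ n ∈ N,
      n ∈ Subgroup.normalizer ((S ⊓ X : Subgroup G) : Set G) ∧ m = x * n := by
  have hSyl : ¬ p ∣ ((S ⊓ N) ⊓ X).relIndex X :=
    not_dvd_relIndex_inf_of_normal inf_le_right hS.to_inf_left hidx hXN hnorm
  have e : (S ⊓ N) ⊓ X = S ⊓ X := by
    rw [inf_assoc, inf_eq_right.mpr hXN]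
  rw [e] at hSyl
  set T := S ⊓ X with hT
  have hTp : IsPGroup p T := hS.to_inf_left
  have hTX : T ≤ X := inf_le_right
  have hmT : lc m T ≤ X := by
    intro y hy
    rw [mem_lc] at hy
    have h1 := hnorm _ m (hTX hy) hm
    have : y = m * (m⁻¹ * y * m) * m⁻¹ := by group
    rw [this]; exact h1
  obtain ⟨z, hzX, hz⟩ := exists_lc_le_of_relIndex hTX hTp hSyl (isPGroup_lc hTp) hmT
  have hn : z * m ∈ Subgroup.normalizer ((T : Subgroup G) : Set G) :=
    mem_normalizer_of_lc_le (by rw [lc_mul]; exact hz)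
  obtain ⟨r, hr, t, ht, hrt⟩ :=
    exists_pResidual_mul_of_relIndex hTX hTp hSyl (X.inv_mem hzX)
  refine ⟨r, hr, t * (z * m), ?_, ?_, ?_⟩
  · exact N.mul_mem (hXN (hTX ht)) (N.mul_mem (hXN hzX) hm)
  · exact Subgroup.mul_mem _ (Subgroup.le_normalizer ht) hn
  · calc m = z⁻¹ * (z * m) := by group
    _ = r * t * (z * m) := by rw [hrt]
    _ = r * (t * (z * m)) := by group

end Cfsg.Agent.Lib.Helper41
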