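import Cfsg.Agent.Lib.Helper98.Nd7
import Cfsg.Agent.Lib.Helper50.TypeCriteria
import Cfsg.Agent.Lib.Helper50.WittMain
import Cfsg.Agent.Lib.Helper50.GeoBridge
import Cfsg.Agent.Lib.Helper08.POmegaIso
import Cfsg.Agent.Lib.Helper49.OrthCount

/-!
# K-Os-U (helper98's S5996/S5995 pack): transport of an abstract odd-dimensional symmetric space with an
isometry of odd prime order to `Ω_(2d+1)` of the standard form `quadFormOdd d F`.
-/

set_option autoImplicit false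
set_option linter.unusedSectionVars false
set_option linter.unusedVariables false

namespace Cfsg.Agent.Lib.Helper41.Os

open Module Cfsg.Agent.Lib.Helper98.Elus Cfsg.Agent.Lib.Helper98.Sy

universe u
variable {F : Type u} [Field F]

section halfQ

variable {V : Type u} [AddCommGroup V] [Module F V]

/-- the quadratic form `v ↦ B v v / 2` -/
noncomputable def halfQ (B : LinearMap.BilinForm F V) : QuadraticForm F V :=
  (2⁻¹ : F) • LinearMap.BilinMap.toQuadraticMap B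

theorem halfQ_apply (B : LinearMap.BilinForm F V) (v : V) : halfQ B v = 2⁻¹ * B v v := by
  simp [halfQ]

theorem polar_halfQ (h2 : (2 : F) ≠ 0) (B : LinearMap.BilinForm F V)
    (hsymm : ∀ x y, B x y = B y x) (a b : V) : QuadraticMap.polar (halfQ B) a b = B a b := by
  unfold QuadraticMap.polar
  rw [halfQ_apply, halfQ_apply, halfQ_apply]
  simp only [map_add, LinearMap.add_apply]
  rw [hsymm b a]
  field_simp
  ring

end halfQ

section scale

/-- the scaling vector: `1` on the anisotropic coordinate and the `x`-coordinates, `c` on the `y`-coordinates -/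
def sVec (d : ℕ) (c : F) : Unit ⊕ (Fin d ⊕ Fin d) → F :=
  Sum.elim (fun _ => 1) (Sum.elim (fun _ => 1) (fun _ => c))

theorem sVec_ne_zero (d : ℕ) {c : F} (hc : c ≠ 0) (i : Unit ⊕ (Fin d ⊕ Fin d)) : sVec d c i ≠ 0 := by
  rcases i with i | i | i <;> simp [sVec, hc]

/-- rescaling of the `y`-coordinates -/
noncomputable def scaleY (d : ℕ) (c : F) (hc : c ≠ 0) :
    (Unit ⊕ (Fin d ⊕ Fin d) → F) ≃ₗ[F] (Unit ⊕ (Fin d ⊕ Fin d) → F) where
  toFun w i := sVec d c i * w i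
  invFun w i := (sVec d c i)⁻¹ * w i
  map_add' a b := by
    funext i
    simp [mul_add]
  map_smul' a b := by
    funext i
    simp [mul_left_comm]
  left_inv w := by
    funext i
    simp only
    rw [← mul_assoc, inv_mul_cancel₀ (sVec_ne_zero d hc i), one_mul]
  right_inv w := by
    funext i
    simp only
    rw [← mul_assoc, mul_inv_cancel₀ (sVec_ne_zero d hc i), one_mul]

theorem scaleY_apply (d : ℕ) (c : F) (hc : c ≠ 0) (w : Unit ⊕ (Fin d ⊕ Fin d) → F)
    (i : Unit ⊕ (Fin d ⊕ Fin d)) : scaleY d c hc w i = sVec d c i * w i := rfl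

theorem oddForm_scaleY (d : ℕ) (c : F) (hc : c ≠ 0) (w : Unit ⊕ (Fin d ⊕ Fin d) → F) :
    Cfsg.Agent.Lib.Helper50.oddForm d c (scaleY d c hc w) = c * Cfsg.quadFormOdd d F w := by
  simp only [Cfsg.Agent.Lib.Helper50.oddForm, Cfsg.quadFormOdd, scaleY_apply, sVec, Sum.elim_inl,
    Sum.elim_inr, one_mul, mul_add, Finset.mul_sum]
  congr 1
  apply Finset.sum_congr rfl
  intro i _
  ring

end scale

/-- **K-Os-U.** -/
theorem transport_odd [Fintype F] (h2 : (2 : F) ≠ 0) (p : ℕ) [Fact p.Prime] (hp : Odd p) (d : ℕ)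
    {V : Type u} [AddCommGroup V] [Module F V] [FiniteDimensional F V]
    (B : LinearMap.BilinForm F V) (hsymm : ∀ x y, B x y = B y x) (hnd : NonDeg B ⊤)
    (hV : finrank F V = 2 * d + 1) (u : V →ₗ[F] V) (hiso : Iso B u) (hu : u ^ p = 1)
    (hu1 : u ≠ 1) :
    ∃ x : GL (Unit ⊕ (Fin d ⊕ Fin d)) F, x ∈ Cfsg.Geo.omegaGL (Cfsg.quadFormOdd d F) ∧
      orderOf x = p ∧
      ∃ c : F, c ≠ 0 ∧ ∃ E : (Unit ⊕ (Fin d ⊕ Fin d) → F) ≃ₗ[F] V,
        (∀ w, E (Matrix.toLin' (x : Matrix (Unit ⊕ (Fin d ⊕ Fin d)) (Unit ⊕ (Fin d ⊕ Fin d)) F) w) =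
          u (E w)) ∧
        ∀ a b, B (E a) (E b) = c * QuadraticMap.polar (Cfsg.quadFormOdd d F) a b := by
  classical
  -- the quadratic form and its Witt type
  have hpol := polar_halfQ h2 B hsymm
  have hQND : Cfsg.Agent.Lib.Helper50.QND (halfQ B) := by
    intro v hv
    apply hnd v Submodule.mem_top
    intro w _
    rw [← hpol]
    exact hv w
  obtain ⟨c, hc0, φ, hφ⟩ : ∃ c : F, c ≠ 0 ∧ Cfsg.Agent.Lib.Helper50.IsOddType (halfQ B) d c := by
    rcases Cfsg.Agent.Lib.Helper50.witt_type (2 * d + 1) (halfQ B) hV hQND with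
      ⟨m, hm, -⟩ | ⟨m, ζ, hm, -, -⟩ | ⟨m, c, hm, hc, hodd⟩
    · omega
    · omega
    · have hmd : m = d := by omega
      subst hmd
      exact ⟨c, hc, hodd⟩
  -- the coordinate system
  set E : (Unit ⊕ (Fin d ⊕ Fin d) → F) ≃ₗ[F] V := (scaleY d c hc0).trans φ.symm with hE
  have hQE : ∀ w, halfQ B (E w) = c * Cfsg.quadFormOdd d F w := by
    intro w
    rw [hE, LinearEquiv.trans_apply, ← hφ, LinearEquiv.apply_symm_apply, oddForm_scaleY]
  have hBE : ∀ a b, B (E a) (E b) = c * QuadraticMap.polar (Cfsg.quadFormOdd d F) a b := by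
    intro a b
    rw [← hpol]
    unfold QuadraticMap.polar
    rw [← map_add, hQE, hQE, hQE]
    ring
  -- the matrix
  set Φ : Module.End F V ≃+* Matrix (Unit ⊕ (Fin d ⊕ Fin d)) (Unit ⊕ (Fin d ⊕ Fin d)) F :=
    (E.symm.conjRingEquiv).trans (LinearMap.toMatrixAlgEquiv' (R := F)).toRingEquiv with hΦ
  have hΦapp : ∀ (f : Module.End F V) (w : Unit ⊕ (Fin d ⊕ Fin d) → F),
      Matrix.toLin' (Φ f) w = E.symm (f (E w)) := by
    intro f w
    rw [hΦ]
    simp [LinearMap.toMatrixAlgEquiv', Matrix.toLin'_toMatrix']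
  have hpm : p - 1 + 1 = p := Nat.sub_add_cancel (Fact.out : p.Prime).one_le
  have huu : u * u ^ (p - 1) = 1 := by rw [← pow_succ', hpm, hu]
  have huu' : u ^ (p - 1) * u = 1 := by rw [← pow_succ, hpm, hu]
  set x : GL (Unit ⊕ (Fin d ⊕ Fin d)) F :=
    ⟨Φ u, Φ (u ^ (p - 1)), by rw [← map_mul, huu, map_one], by rw [← map_mul, huu', map_one]⟩ with hx
  have hxval : (x : Matrix (Unit ⊕ (Fin d ⊕ Fin d)) (Unit ⊕ (Fin d ⊕ Fin d)) F) = Φ u := rfl
  have hxp : x ^ p = 1 := by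
    apply Units.ext
    rw [Units.val_pow_eq_pow_val, hxval, ← map_pow, hu, map_one, Units.val_one]
  have hx1 : x ≠ 1 := by
    intro h
    apply hu1
    apply Φ.injective
    rw [map_one, ← hxval, h, Units.val_one]
  have hinter : ∀ w, E (Matrix.toLin' (x : Matrix (Unit ⊕ (Fin d ⊕ Fin d))
      (Unit ⊕ (Fin d ⊕ Fin d)) F) w) = u (E w) := by
    intro w
    rw [hxval, hΦapp, LinearEquiv.apply_symm_apply]
  have hxiso : x ∈ Cfsg.isometryGroup F (Cfsg.quadFormOdd d F) := by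
    intro w _
    show Cfsg.quadFormOdd d F
      ((x : Matrix (Unit ⊕ (Fin d ⊕ Fin d)) (Unit ⊕ (Fin d ⊕ Fin d)) F).mulVec w) =
        Cfsg.quadFormOdd d F w
    have h1 : (x : Matrix (Unit ⊕ (Fin d ⊕ Fin d)) (Unit ⊕ (Fin d ⊕ Fin d)) F).mulVec w =
        Matrix.toLin' (x : Matrix (Unit ⊕ (Fin d ⊕ Fin d)) (Unit ⊕ (Fin d ⊕ Fin d)) F) w :=
      (Matrix.toLin'_apply _ _).symm
    rw [h1]
    apply mul_left_cancel₀ hc0
    rw [← hQE, ← hQE, hinter, halfQ_apply, halfQ_apply, hiso]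
  -- `x` is a square of an isometry
  set g : ↥(Cfsg.isometryGroup F (Cfsg.quadFormOdd d F)) := ⟨x, hxiso⟩ with hg
  have hgp : g ^ p = 1 := by
    apply Subtype.ext
    rw [SubgroupClass.coe_pow, Subgroup.coe_one]
    exact hxp
  obtain ⟨k, hk⟩ := hp
  have hsq : g ^ (k + 1) * g ^ (k + 1) = g := by
    rw [← pow_add]
    have : k + 1 + (k + 1) = p + 1 := by omega
    rw [this, pow_succ, hgp, one_mul]
  have hN := Cfsg.Agent.Lib.Helper49.QOdd_nondegenerate (F := F) d h2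
  have hOm : g ∈ Cfsg.Omega F (Cfsg.quadFormOdd d F) := by
    have h3 : g ^ (k + 1) * g ^ (k + 1) ∈ Cfsg.Omega F (Cfsg.quadFormOdd d F) :=
      Cfsg.Agent.Lib.Helper08.sq_mem_Omega h2 (Cfsg.Agent.Lib.Helper50.QOdd d F) hN (g ^ (k + 1))
    rw [hsq] at h3
    exact h3
  refine ⟨x, ?_, orderOf_eq_prime hxp hx1, c, hc0, E, hinter, hBE⟩
  exact (Cfsg.Agent.Lib.Helper50.mem_omegaGL_iff _ _).mpr ⟨hxiso, hOm⟩

end Cfsg.Agent.Lib.Helper41.Os
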