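import Cfsg.Agent.Lib.Helper41.Alperin
import Cfsg.Agent.Lib.Helper41.WellPlaced

set_option autoImplicit false

namespace Cfsg.Agent.Lib.Helper41

open Cfsg

variable {G : Type*} [Group G]

/-- a chain of conjugations `(T, x)`, `x ∈ N_G(T)`, the pairs taken from the set `𝓟`, starting at `A` -/
def PChain (𝓟 : Set (Subgroup G × G)) : Set G → List (Subgroup G × G) → Prop
  | _, [] => True
  | A, (T, x) :: L => (T, x) ∈ 𝓟 ∧ x ∈ Subgroup.normalizer (T : Set G) ∧ A ⊆ T ∧
      PChain 𝓟 (rconj x A) L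

theorem pchain_mono {𝓟 : Set (Subgroup G × G)} {A B : Set G} (hBA : B ⊆ A) :
    ∀ {L : List (Subgroup G × G)}, PChain 𝓟 A L → PChain 𝓟 B L := by
  intro L
  induction L generalizing A B with
  | nil => intro _; trivial
  | cons a L ih =>
    obtain ⟨T, x⟩ := a
    rintro ⟨h1, h2, h3, h4⟩
    exact ⟨h1, h2, hBA.trans h3, ih (rconj_mono hBA) h4⟩

theorem pchain_mono_set {𝓟 𝓟' : Set (Subgroup G × G)} (h : 𝓟 ⊆ 𝓟') {A : Set G} :
    ∀ {L : List (Subgroup G × G)}, PChain 𝓟 A L → PChain 𝓟' A L := by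
  intro L
  induction L generalizing A with
  | nil => intro _; trivial
  | cons a L ih =>
    obtain ⟨T, x⟩ := a
    rintro ⟨h1, h2, h3, h4⟩
    exact ⟨h h1, h2, h3, ih h4⟩

theorem pchain_append {𝓟 : Set (Subgroup G × G)} {A : Set G} {L₁ L₂ : List (Subgroup G × G)} :
    PChain 𝓟 A (L₁ ++ L₂) ↔ PChain 𝓟 A L₁ ∧ PChain 𝓟 (rconj (L₁.map Prod.snd).prod A) L₂ := by
  induction L₁ generalizing A with
  | nil => simp [PChain]
  | cons a L ih =>
    obtain ⟨T, x⟩ := a
    simp only [List.cons_append, PChain, List.map_cons, List.prod_cons, ih, rconj_mul]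
    tauto

theorem PChain.toChain {𝓟 : Set (Subgroup G × G)} {𝓕 : Set (Subgroup G)}
    (h : ∀ q ∈ 𝓟, q.1 ∈ 𝓕) {A : Set G} :
    ∀ {L : List (Subgroup G × G)}, PChain 𝓟 A L → Chain 𝓕 A L := by
  intro L
  induction L generalizing A with
  | nil => intro _; trivial
  | cons a L ih =>
    obtain ⟨T, x⟩ := a
    rintro ⟨h1, h2, h3, h4⟩
    exact ⟨h _ h1, h2, h3, ih h4⟩

/-- `g` is reached from `A` by a chain with pairs in `𝓟` -/
def PReach (𝓟 : Set (Subgroup G × G)) (A : Set G) (g : G) : Prop :=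
  ∃ L : List (Subgroup G × G), PChain 𝓟 A L ∧ (L.map Prod.snd).prod = g

theorem PReach.refl (𝓟 : Set (Subgroup G × G)) (A : Set G) : PReach 𝓟 A 1 :=
  ⟨[], trivial, by simp⟩

theorem PReach.single {𝓟 : Set (Subgroup G × G)} {A : Set G} {T : Subgroup G} {x : G}
    (hT : (T, x) ∈ 𝓟) (hx : x ∈ Subgroup.normalizer (T : Set G)) (hA : A ⊆ T) : PReach 𝓟 A x :=
  ⟨[(T, x)], ⟨hT, hx, hA, trivial⟩, by simp⟩

theorem PReach.mono {𝓟 : Set (Subgroup G × G)} {A B : Set G} {g : G} (hBA : B ⊆ A)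
    (h : PReach 𝓟 A g) : PReach 𝓟 B g := by
  obtain ⟨L, hL, hg⟩ := h
  exact ⟨L, pchain_mono hBA hL, hg⟩

theorem PReach.mono_set {𝓟 𝓟' : Set (Subgroup G × G)} (h𝓟 : 𝓟 ⊆ 𝓟') {A : Set G} {g : G}
    (h : PReach 𝓟 A g) : PReach 𝓟' A g := by
  obtain ⟨L, hL, hg⟩ := h
  exact ⟨L, pchain_mono_set h𝓟 hL, hg⟩

theorem PReach.toReach {𝓟 : Set (Subgroup G × G)} {𝓕 : Set (Subgroup G)}
    (h𝓟 : ∀ q ∈ 𝓟, q.1 ∈ 𝓕) {A : Set G} {g : G} (h : PReach 𝓟 A g) : Reach 𝓕 A g := by
  obtain ⟨L, hL, hg⟩ := h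
  exact ⟨L, hL.toChain h𝓟, hg⟩

theorem PReach.trans {𝓟 : Set (Subgroup G × G)} {A : Set G} {g h : G} (h₁ : PReach 𝓟 A g)
    (h₂ : PReach 𝓟 (rconj g A) h) : PReach 𝓟 A (g * h) := by
  obtain ⟨L₁, hL₁, rfl⟩ := h₁
  obtain ⟨L₂, hL₂, rfl⟩ := h₂
  exact ⟨L₁ ++ L₂, pchain_append.mpr ⟨hL₁, hL₂⟩, by simp⟩

theorem PReach.symm {𝓟 : Set (Subgroup G × G)} (hinv : ∀ T x, (T, x) ∈ 𝓟 → (T, x⁻¹) ∈ 𝓟)
    {A : Set G} {g : G} (h : PReach 𝓟 A g) : PReach 𝓟 (rconj g A) g⁻¹ := by
  obtain ⟨L, hL, rfl⟩ := h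
  induction L generalizing A with
  | nil => simpa using PReach.refl 𝓟 A
  | cons a L ih =>
    obtain ⟨T, x⟩ := a
    obtain ⟨h1, h2, h3, h4⟩ := hL
    have r1 := ih h4
    have r2 : PReach 𝓟 (rconj x A) x⁻¹ :=
      PReach.single (hinv _ _ h1) (Subgroup.inv_mem _ h2) (rconj_subset_of_mem_normalizer h2 h3)
    simp only [List.map_cons, List.prod_cons, mul_inv_rev, rconj_mul]
    refine PReach.trans r1 ?_
    rw [rconj_inv_rconj]
    exact r2

/-- a subgroup normalized by `g` is carried to itself -/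
theorem PReach.trans_normalizer {𝓟 : Set (Subgroup G × G)} {U : Subgroup G} {g h : G}
    (hg : g ∈ Subgroup.normalizer (U : Set G)) (h₁ : PReach 𝓟 (U : Set G) g)
    (h₂ : PReach 𝓟 (U : Set G) h) : PReach 𝓟 (U : Set G) (g * h) := by
  refine PReach.trans h₁ ?_
  rw [rconj_eq_of_mem_normalizer hg]
  exact h₂

theorem PReach.symm_normalizer {𝓟 : Set (Subgroup G × G)}
    (hinv : ∀ T x, (T, x) ∈ 𝓟 → (T, x⁻¹) ∈ 𝓟) {U : Subgroup G} {g : G}
    (hg : g ∈ Subgroup.normalizer (U : Set G)) (h₁ : PReach 𝓟 (U : Set G) g) :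
    PReach 𝓟 (U : Set G) g⁻¹ := by
  have := h₁.symm hinv
  rwa [rconj_eq_of_mem_normalizer hg] at this

/-- control along a chain, pairwise form -/
theorem pchain_control {𝓟 : Set (Subgroup G × G)} {K : Subgroup G}
    (hstep : ∀ T x, (T, x) ∈ 𝓟 → x ∈ Subgroup.normalizer (T : Set G) →
      ∃ y ∈ K, ∀ t ∈ T, y⁻¹ * t * y = x⁻¹ * t * x)
    {A : Set G} {L : List (Subgroup G × G)} (hL : PChain 𝓟 A L) :
    ∃ y ∈ K, ∀ a ∈ A, y⁻¹ * a * y = ((L.map Prod.snd).prod)⁻¹ * a * (L.map Prod.snd).prod := by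
  induction L generalizing A with
  | nil => exact ⟨1, K.one_mem, fun a _ => by simp⟩
  | cons b L ih =>
    obtain ⟨T, x⟩ := b
    obtain ⟨h1, h2, h3, h4⟩ := hL
    obtain ⟨y, hy, hyt⟩ := hstep T x h1 h2
    obtain ⟨z, hz, hza⟩ := ih h4
    refine ⟨y * z, K.mul_mem hy hz, fun a ha => ?_⟩
    have e1 := hyt a (h3 ha)
    have e2 := hza (x⁻¹ * a * x) ⟨a, ha, rfl⟩
    simp only [List.map_cons, List.prod_cons]
    calc (y * z)⁻¹ * a * (y * z) = z⁻¹ * (y⁻¹ * a * y) * z := by group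
    _ = z⁻¹ * (x⁻¹ * a * x) * z := by rw [e1]
    _ = _ := by rw [e2]; group

/-- commutators along a chain, pairwise form -/
theorem pchain_transfer {𝓟 : Set (Subgroup G × G)} {K : Subgroup G}
    (hstep : ∀ T x, (T, x) ∈ 𝓟 → x ∈ Subgroup.normalizer (T : Set G) →
      ∀ t ∈ T, t⁻¹ * (x⁻¹ * t * x) ∈ K)
    {A : Set G} {L : List (Subgroup G × G)} (hL : PChain 𝓟 A L) :
    ∀ a ∈ A, a⁻¹ * (((L.map Prod.snd).prod)⁻¹ * a * (L.map Prod.snd).prod) ∈ K := by
  induction L generalizing A with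
  | nil => intro a _; simp
  | cons b L ih =>
    obtain ⟨T, x⟩ := b
    obtain ⟨h1, h2, h3, h4⟩ := hL
    intro a ha
    have e1 := hstep T x h1 h2 a (h3 ha)
    have e2 := ih h4 (x⁻¹ * a * x) ⟨a, ha, rfl⟩
    simp only [List.map_cons, List.prod_cons]
    have : a⁻¹ * ((x * (L.map Prod.snd).prod)⁻¹ * a * (x * (L.map Prod.snd).prod)) =
        (a⁻¹ * (x⁻¹ * a * x)) * ((x⁻¹ * a * x)⁻¹ *
          (((L.map Prod.snd).prod)⁻¹ * (x⁻¹ * a * x) * (L.map Prod.snd).prod)) := by group
    rw [this]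
    exact K.mul_mem e1 e2

theorem isConjugacyFunctor_id (p : ℕ) : IsConjugacyFunctor (G := G) p id :=
  fun _ _ => ⟨le_rfl, fun h => h, fun _ => rfl⟩

/-- every subgroup of a Sylow `p`-subgroup `S` has a conjugate in `S` whose normalizer in `S` is a
Sylow `p`-subgroup of its normalizer -/
theorem exists_fullyNormalized_lc [Finite G] {p : ℕ} [Fact p.Prime] (S : Sylow p G)
    {T : Subgroup G} (hTS : T ≤ (S : Subgroup G)) :
    ∃ g : G, lc g T ≤ (S : Subgroup G) ∧
      ¬ p ∣ ((S : Subgroup G) ⊓ Subgroup.normalizer ((lc g T : Subgroup G) : Set G)).relIndex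
        (Subgroup.normalizer ((lc g T : Subgroup G) : Set G)) := by
  obtain ⟨g, hg⟩ := exists_wellPlaced_lc (isConjugacyFunctor_id p) S hTS
  exact ⟨g, hg.1, hg.2 0⟩

theorem sylow_fullyNormalized [Finite G] {p : ℕ} [Fact p.Prime] (S : Sylow p G) :
    ¬ p ∣ ((S : Subgroup G) ⊓ Subgroup.normalizer (((S : Subgroup G) : Subgroup G) : Set G)).relIndex
        (Subgroup.normalizer (((S : Subgroup G) : Subgroup G) : Set G)) := by
  rw [inf_eq_left.mpr Subgroup.le_normalizer]
  intro h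
  apply S.not_dvd_index
  rw [← Subgroup.relIndex_mul_index (Subgroup.le_normalizer (H := (S : Subgroup G)))]
  exact dvd_mul_of_dvd_left h _

/-- Alperin's theorem, general form: the conjugations by elements of the normalizer of a fully normalized
subgroup `U` may be replaced by any chains realizing them (which may be built from the theorem for larger
subgroups). -/
theorem alperin_preach [Finite G] {p : ℕ} [Fact p.Prime] (S : Sylow p G)
    (𝓟 : Set (Subgroup G × G)) (hinv : ∀ T x, (T, x) ∈ 𝓟 → (T, x⁻¹) ∈ 𝓟)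
    (hmid : ∀ U : Subgroup G, U ≤ (S : Subgroup G) →
      ¬ p ∣ ((S : Subgroup G) ⊓ Subgroup.normalizer ((U : Subgroup G) : Set G)).relIndex
        (Subgroup.normalizer ((U : Subgroup G) : Set G)) →
      (∀ T : Subgroup G, T ≤ (S : Subgroup G) → Nat.card U < Nat.card T →
        ∀ g : G, lc g⁻¹ T ≤ (S : Subgroup G) → PReach 𝓟 (T : Set G) g) →
      ∀ m ∈ Subgroup.normalizer ((U : Subgroup G) : Set G), PReach 𝓟 (U : Set G) m) :
    ∀ T : Subgroup G, T ≤ (S : Subgroup G) → ∀ g : G, lc g⁻¹ T ≤ (S : Subgroup G) →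
      PReach 𝓟 (T : Set G) g := by
  have key : ∀ n : ℕ, ∀ T : Subgroup G, T ≤ (S : Subgroup G) →
      Nat.card (S : Subgroup G) ≤ Nat.card T + n → ∀ g : G, lc g⁻¹ T ≤ (S : Subgroup G) →
      PReach 𝓟 (T : Set G) g := by
    intro n
    induction n with
    | zero =>
      intro T hTS hcard g hg
      have : T = S := Subgroup.eq_of_le_of_card_ge hTS (by simpa using hcard)
      subst this
      apply hmid _ le_rfl (sylow_fullyNormalized S)
      · intro T' hT'S hlt
        exact absurd (Subgroup.card_le_of_le hT'S) (not_le.mpr hlt)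
      · have := mem_normalizer_of_lc_le hg
        simpa using Subgroup.inv_mem _ this
    | succ n ih =>
      intro T hTS hcard g hg
      have ih' : ∀ T' : Subgroup G, T' ≤ (S : Subgroup G) → Nat.card T < Nat.card T' →
          ∀ g : G, lc g⁻¹ T' ≤ (S : Subgroup G) → PReach 𝓟 (T' : Set G) g := by
        intro T' hT'S hlt g hg
        exact ih T' hT'S (by omega) g hg
      obtain ⟨c, hUS, hidx⟩ := exists_fullyNormalized_lc S hTS
      set U := lc c T with hU
      have hc : lc c T = U := rfl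
      have hcardU : Nat.card U = Nat.card T := card_lc _ _
      by_cases hTeq : T = S
      · subst hTeq
        apply hmid _ le_rfl (sylow_fullyNormalized S)
        · intro T' hT'S hlt
          exact absurd (Subgroup.card_le_of_le hT'S) (not_le.mpr hlt)
        · have := mem_normalizer_of_lc_le hg
          simpa using Subgroup.inv_mem _ this
      · have stepA : ∀ T' : Subgroup G, T' ≤ (S : Subgroup G) → Nat.card T' = Nat.card T →
            ∀ c : G, lc c T' = U → ∃ k : G, lc k⁻¹ T' = U ∧ PReach 𝓟 (T' : Set G) k := by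
          intro T' hT'S hcardT' c hc
          have hT'ne : T' ≠ S := by
            intro h'
            apply hTeq
            apply Subgroup.eq_of_le_of_card_ge hTS
            rw [← hcardT', h']
          set T₁ := (S : Subgroup G) ⊓ Subgroup.normalizer (T' : Set G) with hT₁
          have hlt : T' < T₁ := lt_inf_normalizer_of_ne S.2 hT'S hT'ne
          have hT₁p : IsPGroup p T₁ := S.2.to_inf_left
          have hQN : lc c T₁ ≤ Subgroup.normalizer ((U : Subgroup G) : Set G) := by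
            rw [← hc, normalizer_lc]
            exact lc_mono inf_le_right
          obtain ⟨y, hyN, hy⟩ := exists_lc_le_of_relIndex (p := p)
            (H := Subgroup.normalizer ((U : Subgroup G) : Set G))
            (P := (S : Subgroup G) ⊓ Subgroup.normalizer ((U : Subgroup G) : Set G))
            inf_le_right S.2.to_inf_left hidx (isPGroup_lc hT₁p) hQN
          refine ⟨(y * c)⁻¹, ?_, ?_⟩
          · rw [inv_inv, lc_mul, hc]
            exact mem_normalizer_iff_lc.mp hyN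
          · have hcard₁ : Nat.card T < Nat.card T₁ := by
              have := card_lt_card_of_lt hlt
              omega
            have hr : PReach 𝓟 (T₁ : Set G) (y * c)⁻¹ := by
              apply ih' T₁ inf_le_left hcard₁
              rw [inv_inv, lc_mul]
              exact hy.trans inf_le_left
            exact hr.mono (by exact_mod_cast hlt.le)
        obtain ⟨k, hk1, hk2⟩ := stepA T hTS rfl c hc
        obtain ⟨k', hk'1, hk'2⟩ := stepA (lc g⁻¹ T) hg (card_lc _ _) (c * g)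
          (by rw [lc_mul, lc_lc_inv])
        have hkU : lc k U = T := by rw [← hk1]; simp
        have hm : k⁻¹ * g * k' ∈ Subgroup.normalizer ((U : Subgroup G) : Set G) := by
          have : (k⁻¹ * g * k')⁻¹ ∈ Subgroup.normalizer ((U : Subgroup G) : Set G) := by
            rw [mem_normalizer_iff_lc]
            have e : (k⁻¹ * g * k')⁻¹ = k'⁻¹ * (g⁻¹ * k) := by group
            rw [e, lc_mul, lc_mul, hkU, hk'1]
          simpa using Subgroup.inv_mem _ this
        have r1 : PReach 𝓟 (T : Set G) k := hk2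
        have e1 : rconj k (T : Set G) = U := by rw [rconj_coe, hk1]
        have r2 : PReach 𝓟 (rconj k (T : Set G)) (k⁻¹ * g * k') := by
          rw [e1]
          apply hmid U hUS hidx ?_ _ hm
          intro T' hT'S hlt
          exact ih' T' hT'S (by omega)
        have r3 : PReach 𝓟 (rconj (k⁻¹ * g * k') (rconj k (T : Set G))) k'⁻¹ := by
          rw [e1, rconj_eq_of_mem_normalizer hm]
          have := hk'2.symm hinv
          rwa [rconj_coe, hk'1] at this
        have r3' : PReach 𝓟 (rconj (k * (k⁻¹ * g * k')) (T : Set G)) k'⁻¹ := by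
          rw [rconj_mul]; exact r3
        have := (r1.trans r2).trans r3'
        have e : k * (k⁻¹ * g * k') * k'⁻¹ = g := by group
        rwa [e] at this
  intro T hTS g hg
  exact key (Nat.card (S : Subgroup G)) T hTS (Nat.le_add_left _ _) g hg

theorem preach_set {S : Subgroup G} {𝓟 : Set (Subgroup G × G)}
    (h : ∀ T : Subgroup G, T ≤ S → ∀ g : G, lc g⁻¹ T ≤ S → PReach 𝓟 (T : Set G) g)
    {A : Set G} {g : G} (hAS : A ⊆ S) (hAg : rconj g A ⊆ S) : PReach 𝓟 A g := by
  have hcl : Subgroup.closure A ≤ S := (Subgroup.closure_le S).mpr hAS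
  have hcl' : lc g⁻¹ (Subgroup.closure A) ≤ S := by
    rw [lc_le_iff, inv_inv, Subgroup.closure_le]
    intro a ha
    rw [SetLike.mem_coe, mem_lc]
    exact hAg ⟨a, ha, rfl⟩
  exact (h _ hcl g hcl').mono (Subgroup.subset_closure (k := A))

end Cfsg.Agent.Lib.Helper41
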