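import Mathlib
import Cfsg.Agent.Lib.Helper53.QdSylow
import Cfsg.Agent.Lib.Helper41.Sections
import Cfsg.Agent.S2763

/-!
# No characteristic `p`-functor controls strong fusion in a group isomorphic to `Qd(p)`
-/

set_option autoImplicit false
universe u
open Cfsg
open Cfsg.Agent.Lib.Helper53

namespace Cfsg.Agent.Lib.Helper41.QdK

/-- the translation subgroup of `Qd` is self-centralizing -/
theorem centralizer_ker_qlin_le {F : Type*} [Field F] :
    Subgroup.centralizer (((qlin (F := F)).ker : Subgroup ↥(Cfsg.qdOver F)) : Set ↥(Cfsg.qdOver F)) ≤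
      (qlin (F := F)).ker := by
  intro M hM
  rw [MonoidHom.mem_ker]
  apply sl2_eq_one_of_smul
  intro u
  have h1 : qtr u ∈ (qlin (F := F)).ker := by rw [MonoidHom.mem_ker, qlin_qtr]
  have h2 := Subgroup.mem_centralizer_iff.mp hM (qtr u) h1
  have h3 : M * qtr u * M⁻¹ = qtr u := by rw [← h2]; group
  rw [conj_qtr] at h3
  exact qtr_injective h3

theorem ker_qlin_ne_bot {F : Type*} [Field F] :
    ((qlin (F := F)).ker : Subgroup ↥(Cfsg.qdOver F)) ≠ ⊥ := by
  intro h
  have h1 : qtr (![1, 0] : Fin 2 → F) ∈ (qlin (F := F)).ker := by rw [MonoidHom.mem_ker, qlin_qtr]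
  rw [h, Subgroup.mem_bot, ← qtr_zero] at h1
  have h2 := congrFun (qtr_injective h1) 0
  simp at h2

/-- a normal `p`-subgroup lies in every Sylow `p`-subgroup -/
theorem normal_le_sylow {X : Type*} [Group X] {p : ℕ} [Fact p.Prime] {N : Subgroup X} [N.Normal]
    (hN : IsPGroup p N) (T : Sylow p X) : N ≤ (T : Subgroup X) := by
  have h1 : IsPGroup p (N ⊔ (T : Subgroup X) : Subgroup X) := hN.to_sup_of_normal_left T.2
  have h2 := T.is_maximal' h1 le_sup_right
  rw [← h2]
  exact le_sup_left

/-- abstract form: a normal self-centralizing `p`-subgroup forces the controlling normalizer to be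
everything. -/
theorem normalizer_eq_top_of_controls {X : Type*} [Group X] {p : ℕ} [Fact p.Prime]
    {N : Subgroup X} [N.Normal] (hN : IsPGroup p N)
    (hc : Subgroup.centralizer (N : Set X) ≤ N) (T : Sylow p X) (U : Subgroup X)
    (hTU : (T : Subgroup X) ≤ Subgroup.normalizer (U : Set X))
    (hctl : Cfsg.ControlsStrongFusion p U) : Subgroup.normalizer (U : Set X) = ⊤ := by
  obtain ⟨T', -, h⟩ := hctl
  have hNT' : N ≤ (T' : Subgroup X) := normal_le_sylow hN T'
  have hNT : N ≤ (T : Subgroup X) := normal_le_sylow hN T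
  rw [eq_top_iff]
  intro g _
  obtain ⟨-, h2⟩ := h (N : Set X) hNT'
  obtain ⟨x, hx, hxa⟩ := h2 g (by
    rintro _ ⟨a, ha, rfl⟩
    exact hNT' (‹N.Normal›.conj_mem a ha g))
  have h3 : x⁻¹ * g ∈ Subgroup.centralizer (N : Set X) := by
    rw [Subgroup.mem_centralizer_iff]
    intro a ha
    have := hxa a ha
    have e : x⁻¹ * g * a = x⁻¹ * (g * a * g⁻¹) * g := by group
    rw [e, this]; group
  have h4 : x⁻¹ * g ∈ Subgroup.normalizer (U : Set X) := hTU (hNT (hc h3))
  have : g = x * (x⁻¹ * g) := by group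
  rw [this]
  exact Subgroup.mul_mem _ hx h4

/-- No isomorphism-invariant `p`-group functor controls strong fusion in a group isomorphic to
`Qd(p)`. -/
theorem not_controls_of_equiv_qd {X : Type u} [Group X] [Finite X] {p : ℕ} [Fact p.Prime]
    (W : ∀ (Q : Type u) [Group Q], Subgroup Q) (hW : Cfsg.IsCharPFunctor.{u} p W)
    (e : X ≃* ↥(Cfsg.qd p)) (T : Sylow p X) :
    ¬ Cfsg.ControlsStrongFusion p (Cfsg.inducedFunctor (G := X) W (T : Subgroup X)) := by
  intro hctl
  have e' : X ≃* ↥(Cfsg.qdOver (ZMod p)) := e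
  -- the normal self-centralizing `p`-subgroup
  set N : Subgroup X := ((qlin (F := ZMod p)).ker).comap e'.toMonoidHom with hNdef
  haveI hNn : N.Normal := Subgroup.Normal.comap inferInstance _
  have hNp : IsPGroup p N :=
    (ker_qlin_isPGroup (F := ZMod p) (p := p)).comap_of_injective e'.toMonoidHom e'.injective
  have hNc : Subgroup.centralizer (N : Set X) ≤ N := by
    intro x hx
    rw [hNdef, Subgroup.mem_comap]
    apply centralizer_ker_qlin_le
    rw [Subgroup.mem_centralizer_iff]
    intro y hy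
    have hy' : e'.symm y ∈ N := by
      rw [hNdef, Subgroup.mem_comap]
      simpa using hy
    have := Subgroup.mem_centralizer_iff.mp hx _ hy'
    have h2 := congrArg e' this
    simpa using h2
  have hNne : N ≠ ⊥ := by
    intro h
    apply ker_qlin_ne_bot (F := ZMod p)
    rw [eq_bot_iff]
    intro y hy
    have hy' : e'.symm y ∈ N := by
      rw [hNdef, Subgroup.mem_comap]
      simpa using hy
    rw [h, Subgroup.mem_bot] at hy'
    have := congrArg e' hy'
    simpa using this
  have hTp : IsPGroup p (T : Subgroup X) := T.2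
  have hTU := (Subgroup.le_normalizer).trans (le_normalizer_inducedFunctor W hW (T : Subgroup X) hTp)
  have htop := normalizer_eq_top_of_controls hNp hNc T _ hTU hctl
  -- transport to `Qd(p)`
  have hTne : Nontrivial ↥(T : Subgroup X) := by
    rw [Subgroup.nontrivial_iff_ne_bot]
    intro h
    apply hNne
    rw [eq_bot_iff, ← h]
    exact normal_le_sylow hNp T
  set S : Sylow p ↥(Cfsg.qd p) := T.mapSurjective (f := e.toMonoidHom) e.surjective with hS
  obtain ⟨eT, heT⟩ : ∃ eT : ↥(T : Subgroup X) ≃* ↥(S : Subgroup ↥(Cfsg.qd p)),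
      ∀ x, ((eT x : ↥(S : Subgroup ↥(Cfsg.qd p))) : ↥(Cfsg.qd p)) = e x :=
    ⟨e.subgroupMap (T : Subgroup X), fun x => rfl⟩
  have hU'char : (W ↥(T : Subgroup X)).Characteristic := by
    rw [Subgroup.characteristic_iff_map_eq]
    intro φ
    exact hW.2 _ _ hTp φ
  have hU'ne : W ↥(T : Subgroup X) ≠ ⊥ := hW.1 _ hTp hTne
  have hU''ne : (W ↥(T : Subgroup X)).map eT.toMonoidHom ≠ ⊥ := by
    intro h
    apply hU'ne
    exact (Subgroup.map_eq_bot_iff_of_injective _ eT.injective).mp h
  have hU''char : ((W ↥(T : Subgroup X)).map eT.toMonoidHom).Characteristic := by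
    rw [Subgroup.characteristic_iff_map_eq]
    intro ψ
    have hα := (Subgroup.characteristic_iff_map_eq.mp hU'char) ((eT.trans ψ).trans eT.symm)
    conv_rhs => rw [← hα]
    rw [Subgroup.map_map, Subgroup.map_map]
    congr 1
    ext x
    simp
  obtain ⟨h1, h2⟩ := Cfsg.Agent.S2763.result S _ hU''ne hU''char
  apply h2
  rw [← h1]
  have hmap : ((W ↥(T : Subgroup X)).map eT.toMonoidHom).map (S : Subgroup ↥(Cfsg.qd p)).subtype =
      (Cfsg.inducedFunctor (G := X) W (T : Subgroup X)).map e.toMonoidHom := by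
    unfold Cfsg.inducedFunctor
    rw [Subgroup.map_map, Subgroup.map_map]
    congr 1
    exact MonoidHom.ext fun x => heT x
  rw [hmap, ← Subgroup.map_equiv_normalizer_eq, htop, ← MonoidHom.range_eq_map]
  exact MonoidHom.range_eq_top.mpr e.surjective

end Cfsg.Agent.Lib.Helper41.QdK
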