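import Mathlib
import Cfsg.Agent.Lib.Helper48.RSpDefs2

set_option autoImplicit false
set_option linter.unusedVariables false

/-!
# Leaf P3 of the pack K-RSp (S2281): the base of the induction in characteristic `2`, `n ≥ 3`

All matrices are written as coefficient tuples
`p3G e0 e1 e2 a00 a01 a11 a02 a12 a22 = ∑ a_ab (e_a e_bᵀ + e_b e_aᵀ)`; the two conjugations act on tuples
(`p3G_conjU`, `p3G_conjL`, characteristic `2`).
-/

namespace Cfsg.Agent.Lib.Helper41.RSp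

open Matrix Cfsg.Agent.Lib.Helper48.RSp Cfsg.Agent.Lib.Helper18

section tuples

variable {m : ℕ} {F : Type*} [Field F]

/-- the symmetric matrix with coefficient tuple `(a00, a01, a11, a02, a12, a22)` on `e0, e1, e2` -/
def p3G (e0 e1 e2 : Fin (m + 2) → F) (a00 a01 a11 a02 a12 a22 : F) : SM m F :=
  a00 • vecMulVec e0 e0 + a01 • (vecMulVec e0 e1 + vecMulVec e1 e0) + a11 • vecMulVec e1 e1
    + a02 • (vecMulVec e0 e2 + vecMulVec e2 e0) + a12 • (vecMulVec e1 e2 + vecMulVec e2 e1)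
    + a22 • vecMulVec e2 e2

theorem p3_conj (M : SM m F) (v w : Fin (m + 2) → F) :
    M * vecMulVec v w * Mᵀ = vecMulVec (M *ᵥ v) (M *ᵥ w) := by
  rw [Matrix.mul_vecMulVec, Matrix.vecMulVec_mul, Matrix.vecMul_transpose]

theorem p3G_eq {e0 e1 e2 : Fin (m + 2) → F} {a00 a01 a11 a02 a12 a22 b00 b01 b11 b02 b12 b22 : F}
    (h00 : a00 = b00) (h01 : a01 = b01) (h11 : a11 = b11) (h02 : a02 = b02) (h12 : a12 = b12)
    (h22 : a22 = b22) :
    p3G e0 e1 e2 a00 a01 a11 a02 a12 a22 = p3G e0 e1 e2 b00 b01 b11 b02 b12 b22 := by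
  subst h00 h01 h11 h02 h12 h22
  rfl

theorem p3G_sub (e0 e1 e2 : Fin (m + 2) → F) (a00 a01 a11 a02 a12 a22 b00 b01 b11 b02 b12 b22 : F) :
    p3G e0 e1 e2 a00 a01 a11 a02 a12 a22 - p3G e0 e1 e2 b00 b01 b11 b02 b12 b22
      = p3G e0 e1 e2 (a00 - b00) (a01 - b01) (a11 - b11) (a02 - b02) (a12 - b12) (a22 - b22) := by
  unfold p3G
  module

theorem p3G_add (e0 e1 e2 : Fin (m + 2) → F) (a00 a01 a11 a02 a12 a22 b00 b01 b11 b02 b12 b22 : F) :
    p3G e0 e1 e2 a00 a01 a11 a02 a12 a22 + p3G e0 e1 e2 b00 b01 b11 b02 b12 b22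
      = p3G e0 e1 e2 (a00 + b00) (a01 + b01) (a11 + b11) (a02 + b02) (a12 + b12) (a22 + b22) := by
  unfold p3G
  module

theorem p3G_zero (e0 e1 e2 : Fin (m + 2) → F) : p3G e0 e1 e2 0 0 0 0 0 0 = 0 := by
  unfold p3G
  simp

theorem p3G_transpose (e0 e1 e2 : Fin (m + 2) → F) (a00 a01 a11 a02 a12 a22 : F) :
    (p3G e0 e1 e2 a00 a01 a11 a02 a12 a22)ᵀ = p3G e0 e1 e2 a00 a01 a11 a02 a12 a22 := by
  ext i j
  simp only [p3G, Matrix.transpose_apply, Matrix.add_apply, Matrix.smul_apply, vecMulVec_apply,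
    smul_eq_mul]
  ring

/-- conjugation by a matrix acting like `Uup` on `e0, e1, e2`, characteristic `2` -/
theorem p3G_conjU (h2 : (2 : F) = 0) (M : SM m F) (e0 e1 e2 : Fin (m + 2) → F)
    (h0 : M *ᵥ e0 = e0) (h1 : M *ᵥ e1 = e1 + e0) (h2' : M *ᵥ e2 = e2 + e1)
    (a00 a01 a11 a02 a12 a22 : F) :
    M * p3G e0 e1 e2 a00 a01 a11 a02 a12 a22 * Mᵀ
      = p3G e0 e1 e2 (a00 + a11) (a01 + a11 + a02 + a12) (a11 + a22) (a02 + a12) (a12 + a22) a22 := by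
  have h4 : (4 : F) = 0 := by linear_combination 2 * h2
  unfold p3G
  simp only [Matrix.mul_add, Matrix.add_mul, Matrix.mul_smul, Matrix.smul_mul, p3_conj, h0, h1, h2']
  ext i j
  simp only [Matrix.add_apply, Matrix.smul_apply, vecMulVec_apply, Pi.add_apply, smul_eq_mul]
  rw [← sub_eq_zero]
  ring_nf
  simp [h2, h4]

/-- conjugation by a matrix acting like `Lbi δ` on `e0, e1`, characteristic `2` -/
theorem p3G_conjL (h2 : (2 : F) = 0) (M : SM m F) (e0 e1 e2 : Fin (m + 2) → F) (d0 d1 : F)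
    (h0 : M *ᵥ e0 = e0 + d0 • e1) (h1 : M *ᵥ e1 = e1 + d1 • e2)
    (a00 a01 a11 : F) :
    M * p3G e0 e1 e2 a00 a01 a11 0 0 0 * Mᵀ
      = p3G e0 e1 e2 a00 (a01 + d0 * a00) (a11 + d0 ^ 2 * a00) (d1 * a01)
          (d0 * d1 * a01 + d1 * a11) (d1 ^ 2 * a11) := by
  have h4 : (4 : F) = 0 := by linear_combination 2 * h2
  unfold p3G
  simp only [Matrix.mul_add, Matrix.add_mul, Matrix.mul_smul, Matrix.smul_mul, p3_conj, h0, h1,
    zero_smul, add_zero, Matrix.mul_zero, Matrix.zero_mul]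
  ext i j
  simp only [Matrix.add_apply, Matrix.smul_apply, vecMulVec_apply, Pi.add_apply, Pi.smul_apply,
    smul_eq_mul]
  rw [← sub_eq_zero]
  ring_nf
  simp [h2, h4]

theorem p3_mem_of_eq (X : AddSubgroup (SM m F)) {e0 e1 e2 : Fin (m + 2) → F}
    {a00 a01 a11 a02 a12 a22 b00 b01 b11 b02 b12 b22 : F}
    (h : p3G e0 e1 e2 b00 b01 b11 b02 b12 b22 ∈ X)
    (h00 : a00 = b00) (h01 : a01 = b01) (h11 : a11 = b11) (h02 : a02 = b02) (h12 : a12 = b12)
    (h22 : a22 = b22) : p3G e0 e1 e2 a00 a01 a11 a02 a12 a22 ∈ X := by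
  subst h00 h01 h11 h02 h12 h22
  exact h

end tuples

section vectors

variable {m : ℕ} {F : Type*} [Field F]

/-- the basis vector `e_j` -/
def p3e (j : Fin (m + 2)) : Fin (m + 2) → F := Pi.single j 1

theorem p3_Uup_apply (i j : Fin (m + 2)) :
    Uup m F i j = (if i = j then 1 else 0) + (if i.val + 1 = j.val then 1 else 0) := by
  show (1 + Nup m F) i j = _
  rw [Matrix.add_apply, Matrix.one_apply]
  rfl

theorem p3_U0 : Uup m F *ᵥ (p3e 0 : Fin (m + 2) → F) = p3e 0 := by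
  ext i
  simp only [p3e, Matrix.mulVec_single_one, Matrix.col_apply, Pi.single_apply, p3_Uup_apply]
  have h0 : ((0 : Fin (m + 2)) : ℕ) = 0 := rfl
  simp only [Fin.ext_iff, h0]
  split_ifs <;> simp_all

theorem p3_U1 : Uup m F *ᵥ (p3e 1 : Fin (m + 2) → F) = p3e 1 + p3e 0 := by
  ext i
  simp only [p3e, Matrix.mulVec_single_one, Matrix.col_apply, Pi.single_apply, Pi.add_apply,
    p3_Uup_apply]
  have h1 : ((1 : Fin (m + 2)) : ℕ) = 1 := Fin.val_one m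
  have h0 : ((0 : Fin (m + 2)) : ℕ) = 0 := rfl
  simp only [Fin.ext_iff, h1, h0]
  split_ifs <;> simp_all

theorem p3_U2 (hm : 1 ≤ m) :
    Uup m F *ᵥ (p3e ⟨2, by omega⟩ : Fin (m + 2) → F) = p3e ⟨2, by omega⟩ + p3e 1 := by
  ext i
  simp only [p3e, Matrix.mulVec_single_one, Matrix.col_apply, Pi.single_apply, Pi.add_apply,
    p3_Uup_apply]
  have h1 : ((1 : Fin (m + 2)) : ℕ) = 1 := Fin.val_one m
  simp only [Fin.ext_iff, h1]
  split_ifs <;> simp_all <;> omega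

theorem p3_L0 (δ : Fin (m + 2) → F) :
    Lbi m δ *ᵥ (p3e 0 : Fin (m + 2) → F) = p3e 0 + δ 0 • p3e 1 := by
  ext i
  simp only [p3e, Matrix.mulVec_single_one, Matrix.col_apply, Pi.single_apply, Pi.add_apply,
    Pi.smul_apply, smul_eq_mul, Lbi]
  have h1 : ((1 : Fin (m + 2)) : ℕ) = 1 := Fin.val_one m
  have h0 : ((0 : Fin (m + 2)) : ℕ) = 0 := rfl
  simp only [Fin.ext_iff, h1, h0]
  split_ifs <;> simp_all <;> omega

theorem p3_L1 (hm : 1 ≤ m) (δ : Fin (m + 2) → F) :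
    Lbi m δ *ᵥ (p3e 1 : Fin (m + 2) → F) = p3e 1 + δ 1 • p3e ⟨2, by omega⟩ := by
  ext i
  simp only [p3e, Matrix.mulVec_single_one, Matrix.col_apply, Pi.single_apply, Pi.add_apply,
    Pi.smul_apply, smul_eq_mul, Lbi]
  have h1 : ((1 : Fin (m + 2)) : ℕ) = 1 := Fin.val_one m
  simp only [Fin.ext_iff, h1]
  split_ifs <;> simp_all <;> omega

theorem p3_e0_last (hm : 1 ≤ m) : (p3e 0 : Fin (m + 2) → F) (Fin.last (m + 1)) = 0 := by
  have h0 : ((0 : Fin (m + 2)) : ℕ) = 0 := rfl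
  simp only [p3e, Pi.single_apply, Fin.ext_iff, Fin.val_last, h0]
  rw [if_neg (by omega)]

theorem p3_e1_last (hm : 1 ≤ m) : (p3e 1 : Fin (m + 2) → F) (Fin.last (m + 1)) = 0 := by
  have h1 : ((1 : Fin (m + 2)) : ℕ) = 1 := Fin.val_one m
  simp only [p3e, Pi.single_apply, Fin.ext_iff, Fin.val_last, h1]
  rw [if_neg (by omega)]

end vectors

/-- LEAF P3 of K-RSp: the base of the induction, characteristic `2`, `n ≥ 3` -/
theorem sym_base_even {m : ℕ} (hm : 1 ≤ m) {F : Type*} [Field F] (X : AddSubgroup (SM m F))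
    (δ : Fin (m + 2) → F) (hδ : ∀ j, δ j ≠ 0)
    (hU : ∀ S ∈ X, Uup m F * S * (Uup m F)ᵀ ∈ X)
    (hL : ∀ S ∈ X, Sᵀ = S → (∀ j, S (Fin.last (m + 1)) j = 0) → Lbi m δ * S * (Lbi m δ)ᵀ ∈ X)
    (h2 : (2 : F) = 0) (l : F) (hl0 : l ≠ 0) (hl : l • E00 m F ∈ X)
    (hgenM : ∀ x : F, x ≠ 0 → ∃ k : ℕ, x = (δ 0 * δ 1) ^ k)
    (hgenL : ∀ x : F, x ≠ 0 → ∃ k : ℕ, x = (δ 0 ^ 2) ^ k) :
    SymLE m 1 ⊆ (X : Set (SM m F)) := by
  -- the three basis vectors, made opaque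
  obtain ⟨e0, he0⟩ : ∃ e0 : Fin (m + 2) → F, e0 = p3e 0 := ⟨_, rfl⟩
  obtain ⟨e1, he1⟩ : ∃ e1 : Fin (m + 2) → F, e1 = p3e 1 := ⟨_, rfl⟩
  obtain ⟨e2, he2⟩ : ∃ e2 : Fin (m + 2) → F, e2 = p3e ⟨2, by omega⟩ := ⟨_, rfl⟩
  have hU0 : Uup m F *ᵥ e0 = e0 := by rw [he0]; exact p3_U0
  have hU1 : Uup m F *ᵥ e1 = e1 + e0 := by rw [he0, he1]; exact p3_U1
  have hU2 : Uup m F *ᵥ e2 = e2 + e1 := by rw [he1, he2]; exact p3_U2 hm
  have hL0 : Lbi m δ *ᵥ e0 = e0 + δ 0 • e1 := by rw [he0, he1]; exact p3_L0 δ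
  have hL1 : Lbi m δ *ᵥ e1 = e1 + δ 1 • e2 := by rw [he1, he2]; exact p3_L1 hm δ
  have h0l : e0 (Fin.last (m + 1)) = 0 := by rw [he0]; exact p3_e0_last hm
  have h1l : e1 (Fin.last (m + 1)) = 0 := by rw [he1]; exact p3_e1_last hm
  have hd0 : δ 0 ≠ 0 := hδ 0
  have hd1 : δ 1 ≠ 0 := hδ 1
  -- the operator `Δ = (U · Uᵀ) - 1` on tuples
  have hΔ : ∀ a00 a01 a11 a02 a12 a22 : F, p3G e0 e1 e2 a00 a01 a11 a02 a12 a22 ∈ X →
      p3G e0 e1 e2 a11 (a11 + a02 + a12) a22 a12 a22 0 ∈ X := by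
    intro a00 a01 a11 a02 a12 a22 h
    have h1 := hU _ h
    rw [p3G_conjU h2 (Uup m F) e0 e1 e2 hU0 hU1 hU2] at h1
    have h3 := X.sub_mem h1 h
    rw [p3G_sub] at h3
    exact p3_mem_of_eq X h3 (by ring) (by ring) (by ring) (by ring) (by ring) (by ring)
  -- the operator `(L · Lᵀ) - 1` on tuples supported on `{0,1}`
  have hΛ : ∀ a00 a01 a11 : F, p3G e0 e1 e2 a00 a01 a11 0 0 0 ∈ X →
      p3G e0 e1 e2 0 (δ 0 * a00) (δ 0 ^ 2 * a00) (δ 1 * a01) (δ 0 * δ 1 * a01 + δ 1 * a11)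
        (δ 1 ^ 2 * a11) ∈ X := by
    intro a00 a01 a11 h
    have hr : ∀ j, p3G e0 e1 e2 a00 a01 a11 0 0 0 (Fin.last (m + 1)) j = 0 := by
      intro j
      simp [p3G, vecMulVec_apply, h0l, h1l]
    have h1 := hL _ h (p3G_transpose _ _ _ _ _ _ _ _ _) hr
    rw [p3G_conjL h2 (Lbi m δ) e0 e1 e2 (δ 0) (δ 1) hL0 hL1] at h1
    have h3 := X.sub_mem h1 h
    rw [p3G_sub] at h3
    exact p3_mem_of_eq X h3 (by ring) (by ring) (by ring) (by ring) (by ring) (by ring)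
  -- `y₃`
  have hy3 : ∀ lam : F, p3G e0 e1 e2 lam 0 0 0 0 0 ∈ X →
      p3G e0 e1 e2 (δ 0 ^ 2 * lam) (δ 0 ^ 2 * lam) 0 0 0 0 ∈ X := by
    intro lam h
    have y1 := hΛ _ _ _ h
    have y3 := hΔ _ _ _ _ _ _ y1
    exact p3_mem_of_eq X y3 (by ring) (by ring) (by ring) (by ring) (by ring) (by ring)
  -- `Λ → M`
  have hK1 : ∀ lam : F, p3G e0 e1 e2 lam 0 0 0 0 0 ∈ X →
      p3G e0 e1 e2 0 (δ 0 ^ 3 * δ 1 * lam) 0 0 0 0 ∈ X := by
    intro lam h
    have y3 := hy3 lam h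
    have y4 := hΛ _ _ _ y3
    have y5 := hΔ _ _ _ _ _ _ y4
    have y6 := hΔ _ _ _ _ _ _ y5
    exact p3_mem_of_eq X y6 (by ring) (by ring) (by ring) (by ring) (by ring) (by ring)
  -- `M` is closed under `× δ₀ δ₁`
  have hK2 : ∀ mu : F, p3G e0 e1 e2 0 mu 0 0 0 0 ∈ X →
      p3G e0 e1 e2 0 (δ 0 * δ 1 * mu) 0 0 0 0 ∈ X := by
    intro mu h
    have z1 := hΛ _ _ _ h
    have z2 := hΔ _ _ _ _ _ _ z1
    have z3 := hΔ _ _ _ _ _ _ z2
    exact p3_mem_of_eq X z3 (by ring) (by ring) (by ring) (by ring) (by ring) (by ring)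
  -- the start
  have hstart : p3G e0 e1 e2 l 0 0 0 0 0 ∈ X := by
    have : p3G e0 e1 e2 l 0 0 0 0 0 = l • E00 m F := by
      unfold p3G E00
      rw [he0, p3e, Matrix.single_eq_single_vecMulVec_single]
      simp
    rw [this]
    exact hl
  -- `M = F`
  have hM : ∀ mu : F, p3G e0 e1 e2 0 mu 0 0 0 0 ∈ X := by
    have hpow : ∀ k : ℕ, p3G e0 e1 e2 0 ((δ 0 * δ 1) ^ k * (δ 0 ^ 3 * δ 1 * l)) 0 0 0 0 ∈ X := by
      intro k
      induction k with
      | zero => exact p3_mem_of_eq X (hK1 l hstart) rfl (by ring) rfl rfl rfl rfl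
      | succ k ih => exact p3_mem_of_eq X (hK2 _ ih) rfl (by ring) rfl rfl rfl rfl
    intro mu
    by_cases hmu : mu = 0
    · rw [hmu, p3G_zero]
      exact X.zero_mem
    · have hne : δ 0 ^ 3 * δ 1 * l ≠ 0 := mul_ne_zero (mul_ne_zero (pow_ne_zero 3 hd0) hd1) hl0
      obtain ⟨k, hk⟩ := hgenM (mu / (δ 0 ^ 3 * δ 1 * l)) (div_ne_zero hmu hne)
      refine p3_mem_of_eq X (hpow k) rfl ?_ rfl rfl rfl rfl
      rw [← hk]
      field_simp
  -- `Λ` is closed under `× δ₀²`, hence `Λ = F`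
  have hK3 : ∀ lam : F, p3G e0 e1 e2 lam 0 0 0 0 0 ∈ X →
      p3G e0 e1 e2 (δ 0 ^ 2 * lam) 0 0 0 0 0 ∈ X := by
    intro lam h
    have h3 := X.sub_mem (hy3 lam h) (hM (δ 0 ^ 2 * lam))
    rw [p3G_sub] at h3
    exact p3_mem_of_eq X h3 (by ring) (by ring) (by ring) (by ring) (by ring) (by ring)
  have hLam : ∀ lam : F, p3G e0 e1 e2 lam 0 0 0 0 0 ∈ X := by
    have hpow : ∀ k : ℕ, p3G e0 e1 e2 ((δ 0 ^ 2) ^ k * l) 0 0 0 0 0 ∈ X := by
      intro k
      induction k with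
      | zero => exact p3_mem_of_eq X hstart (by ring) rfl rfl rfl rfl rfl
      | succ k ih => exact p3_mem_of_eq X (hK3 _ ih) (by ring) rfl rfl rfl rfl rfl
    intro lam
    by_cases hlam : lam = 0
    · rw [hlam, p3G_zero]
      exact X.zero_mem
    · obtain ⟨k, hk⟩ := hgenL (lam / l) (div_ne_zero hlam hl0)
      refine p3_mem_of_eq X (hpow k) ?_ rfl rfl rfl rfl rfl
      rw [← hk]
      field_simp
  -- `F E₁₁ ⊆ X`
  have hE11 : ∀ nu : F, p3G e0 e1 e2 0 0 nu 0 0 0 ∈ X := by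
    intro nu
    have y1 := hΛ _ _ _ (hLam (nu / δ 0 ^ 2))
    have h3 := X.sub_mem y1 (hM (δ 0 * (nu / δ 0 ^ 2)))
    rw [p3G_sub] at h3
    refine p3_mem_of_eq X h3 (by ring) (by ring) ?_ (by ring) (by ring) (by ring)
    field_simp
    ring
  -- assembly
  intro S hS
  obtain ⟨hsym, hsupp⟩ := hS
  have hdec : S = p3G e0 e1 e2 (S 0 0) (S 0 1) (S 1 1) 0 0 0 := by
    have h1v : ((1 : Fin (m + 2)) : ℕ) = 1 := Fin.val_one m
    have h0v : ((0 : Fin (m + 2)) : ℕ) = 0 := rfl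
    have h10 : S 1 0 = S 0 1 := by
      have := congrFun (congrFun hsym 0) 1
      rwa [Matrix.transpose_apply] at this
    ext i j
    simp only [p3G, Matrix.add_apply, Matrix.smul_apply, vecMulVec_apply, smul_eq_mul, he0, he1,
      p3e, Pi.single_apply, zero_mul, add_zero]
    by_cases hi0 : i = 0
    · by_cases hj0 : j = 0
      · subst hi0 hj0
        simp
      · by_cases hj1 : j = 1
        · subst hi0 hj1
          simp
        · have : 1 < j.val := by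
            have := Fin.val_ne_of_ne hj0
            have := Fin.val_ne_of_ne hj1
            omega
          rw [hsupp i j (Or.inr this)]
          simp [hj0, hj1]
    · by_cases hi1 : i = 1
      · by_cases hj0 : j = 0
        · subst hi1 hj0
          simp [h10]
        · by_cases hj1 : j = 1
          · subst hi1 hj1
            simp
          · have : 1 < j.val := by
              have := Fin.val_ne_of_ne hj0
              have := Fin.val_ne_of_ne hj1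
              omega
            rw [hsupp i j (Or.inr this)]
            simp [hj0, hj1]
      · have : 1 < i.val := by
          have := Fin.val_ne_of_ne hi0
          have := Fin.val_ne_of_ne hi1
          omega
        rw [hsupp i j (Or.inl this)]
        simp [hi0, hi1]
  have h3 := X.add_mem (X.add_mem (hLam (S 0 0)) (hM (S 0 1))) (hE11 (S 1 1))
  rw [p3G_add, p3G_add] at h3
  show S ∈ X
  rw [hdec]
  exact p3_mem_of_eq X h3 (by ring) (by ring) (by ring) (by ring) (by ring) (by ring)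

end Cfsg.Agent.Lib.Helper41.RSp
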