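import Mathlib
import Cfsg.Agent.Lib.Helper73.RUDefs
import Cfsg.Agent.Lib.Helper73.RUHub

/-!
# Pack K-RU4 (S2279), leaf B `tv_mem` (parallel hand, helper41).
-/

set_option autoImplicit false

namespace Cfsg.Agent.Lib.Helper41.RU4x

open Matrix Cfsg.Agent.Lib.Helper73.RU

section defs
variable (m : ℕ) (F : Type*) [Field F]

/-- the index `last - 1` -/
def pen : Fin (m + 3) := ⟨m + 1, by omega⟩

/-- `v = g a g⁻¹ = a + l E_{last,1} - l E_{last-1,0}` -/
def v4 (l : F) : Matrix (Fin (m + 3)) (Fin (m + 3)) F :=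
  aMat m F + Matrix.single (Fin.last (m + 2)) 1 l - Matrix.single (pen m) 0 l

/-- `c₁ = a e_last = e_last + e_{last-1}` -/
def c1 : Fin (m + 3) → F := Pi.single (Fin.last (m + 2)) 1 + Pi.single (pen m) 1

/-- `φ₋₁ = e_0ᵀ a = e_0 + e_1` -/
def f1 : Fin (m + 3) → F := Pi.single 0 1 + Pi.single 1 1

/-- alternating column with last entry `1` -/
def cm : Fin (m + 3) → F := fun i => (-1) ^ (m + 2 - i.val)

/-- `e_last` -/
def c0 : Fin (m + 3) → F := Pi.single (Fin.last (m + 2)) 1

/-- alternating row with first entry `1` -/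
def p1 : Fin (m + 3) → F := fun i => (-1) ^ i.val

/-- `e_0` -/
def e0 : Fin (m + 3) → F := Pi.single 0 1

/-- the rows `φ₋₁, φ₀, φ₁` -/
def Pm : Matrix (Fin 3) (Fin (m + 3)) F := Matrix.of ![f1 m F, e0 m F, p1 m F]

/-- the columns `c₋₁, c₀, c₁` -/
def Cm : Matrix (Fin (m + 3)) (Fin 3) F := (Matrix.of ![cm m F, c0 m F, c1 m F])ᵀ

/-- `1 + C X P` -/
def emb (X : Matrix (Fin 3) (Fin 3) F) : Matrix (Fin (m + 3)) (Fin (m + 3)) F :=
  1 + Cm m F * X * Pm m F

end defs

section small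
variable {F : Type*} [Field F]

def Kmat (ε ν : F) : Matrix (Fin 3) (Fin 3) F := !![0, 0, 0; ε, 0, 0; ν, ε, 0]
def X1 (l : F) : Matrix (Fin 3) (Fin 3) F := !![l, 0, 0; 0, -l, 0; 0, 0, 0]
def X0 (l : F) : Matrix (Fin 3) (Fin 3) F := !![0, 0, 0; 0, l, 0; 0, 0, -l]
def Yx (l ε ν : F) : Matrix (Fin 3) (Fin 3) F :=
  !![0, 0, 0; -(l ^ 2 * ε), 0, 0; l ^ 2 * ν + l ^ 3, -(l ^ 2 * ε), 0]
def Tx (l : F) : Matrix (Fin 3) (Fin 3) F := !![0, 0, 0; 0, 0, 0; l ^ 3, 0, 0]

def circ (K X Y : Matrix (Fin 3) (Fin 3) F) : Matrix (Fin 3) (Fin 3) F := X + Y + X * K * Y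

theorem circ_id1 (l ε ν : F) (hε : ε = 1 ∨ ε = -1) :
    circ (Kmat ε ν) (X1 l) (X0 l)
      = circ (Kmat ε ν) (circ (Kmat ε ν) (Yx l ε ν) (X0 l)) (X1 l) := by
  rcases hε with rfl | rfl <;>
  · ext i j
    fin_cases i <;> fin_cases j <;>
      simp [circ, Kmat, X1, X0, Yx, Matrix.mul_apply, Fin.sum_univ_three] <;> ring

theorem circ_id2 (l ε ν : F) (hε : ε = 1 ∨ ε = -1) :
    circ (Kmat ε ν) (X1 l) (Yx l ε ν)
      = circ (Kmat ε ν) (circ (Kmat ε ν) (Tx l) (Yx l ε ν)) (X1 l) := by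
  rcases hε with rfl | rfl <;>
  · ext i j
    fin_cases i <;> fin_cases j <;>
      simp [circ, Kmat, X1, Tx, Yx, Matrix.mul_apply, Fin.sum_univ_three] <;> ring

end small

section vectors
variable (m : ℕ) (F : Type*) [Field F]

theorem aMat_mulVec_apply (v : Fin (m + 3) → F) (i : Fin (m + 3)) :
    (aMat m F *ᵥ v) i = v i + (if h : i.val + 1 < m + 3 then v ⟨i.val + 1, h⟩ else 0) := by
  unfold aMat
  simp only [mulVec, dotProduct, of_apply]
  have hsplit : ∀ j : Fin (m + 3), (if i = j ∨ i.val + 1 = j.val then (1 : F) else 0) * v j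
      = (if i = j then v j else 0) + (if i.val + 1 = j.val then v j else 0) := by
    intro j
    by_cases h1 : i = j
    · subst h1
      simp
    · by_cases h2 : i.val + 1 = j.val
      · simp [h1, h2]
      · simp [h1, h2]
  simp_rw [hsplit]
  rw [Finset.sum_add_distrib, Finset.sum_ite_eq, if_pos (Finset.mem_univ _)]
  congr 1
  split_ifs with h
  · rw [Finset.sum_eq_single (⟨i.val + 1, h⟩ : Fin (m + 3))]
    · simp
    · intro b _ hb
      rw [if_neg]
      intro hh
      apply hb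
      ext
      simp [hh]
    · intro hh
      exact absurd (Finset.mem_univ _) hh
  · apply Finset.sum_eq_zero
    intro j _
    rw [if_neg]
    have := j.2
    omega

theorem vecMul_aMat_apply (w : Fin (m + 3) → F) (j : Fin (m + 3)) :
    (w ᵥ* aMat m F) j = w j + (if h : 1 ≤ j.val then w ⟨j.val - 1, by omega⟩ else 0) := by
  unfold aMat
  simp only [vecMul, dotProduct, of_apply]
  have hsplit : ∀ i : Fin (m + 3), w i * (if i = j ∨ i.val + 1 = j.val then (1 : F) else 0)
      = (if i = j then w i else 0) + (if i.val + 1 = j.val then w i else 0) := by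
    intro i
    by_cases h1 : i = j
    · subst h1
      simp
    · by_cases h2 : i.val + 1 = j.val
      · simp [h1, h2]
      · simp [h1, h2]
  simp_rw [hsplit]
  rw [Finset.sum_add_distrib, Finset.sum_ite_eq', if_pos (Finset.mem_univ _)]
  congr 1
  split_ifs with h
  · rw [Finset.sum_eq_single (⟨j.val - 1, by omega⟩ : Fin (m + 3))]
    · rw [if_pos]
      simp only
      omega
    · intro b _ hb
      rw [if_neg]
      intro hh
      apply hb
      ext
      simp only
      omega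
    · intro hh
      exact absurd (Finset.mem_univ _) hh
  · apply Finset.sum_eq_zero
    intro i _
    rw [if_neg]
    omega

theorem aMat_cm : aMat m F *ᵥ cm m F = c0 m F := by
  ext i
  rw [aMat_mulVec_apply]
  unfold cm c0
  split_ifs with h
  · have hne : i ≠ Fin.last (m + 2) := by
      intro hh
      rw [hh] at h
      simp at h
    rw [Pi.single_eq_of_ne hne]
    simp only
    have : m + 2 - i.val = (m + 2 - (i.val + 1)) + 1 := by omega
    rw [this, pow_succ]
    ring
  · have hi : i = Fin.last (m + 2) := by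
      ext
      simp only [Fin.val_last]
      have := i.2
      omega
    rw [hi]
    simp

theorem aMat_c0 : aMat m F *ᵥ c0 m F = c1 m F := by
  ext i
  rw [aMat_mulVec_apply]
  unfold c0 c1 pen
  simp only [Pi.add_apply, Pi.single_apply]
  split_ifs with h1 h2 h3 h4 h5 h6 <;>
    simp_all [Fin.ext_iff] <;> omega

theorem p1_aMat : p1 m F ᵥ* aMat m F = e0 m F := by
  ext j
  rw [vecMul_aMat_apply]
  unfold p1 e0
  split_ifs with h
  · have hne : j ≠ 0 := by
      intro hh
      rw [hh] at h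
      simp at h
    rw [Pi.single_eq_of_ne hne]
    simp only
    have : j.val = (j.val - 1) + 1 := by omega
    nth_rewrite 1 [this]
    rw [pow_succ]
    ring
  · have hj : j = 0 := by
      ext
      simp only [Fin.val_zero]
      omega
    rw [hj]
    simp

theorem e0_aMat : e0 m F ᵥ* aMat m F = f1 m F := by
  unfold e0
  ext j
  rw [single_vecMul, one_smul]
  unfold f1 aMat
  simp only [Matrix.row, of_apply, Pi.add_apply, Pi.single_apply]
  by_cases h0 : j = 0
  · subst h0
    simp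
  · by_cases h1 : j = 1
    · subst h1
      simp
    · have h4 : ¬ ((0 : Fin (m + 3)) = j) := fun h => h0 h.symm
      have h5 : ¬ ((0 : Fin (m + 3)).val + 1 = j.val) := by
        intro h
        apply h1
        ext
        simpa using h.symm
      rw [if_neg (by tauto), if_neg h0, if_neg h1, add_zero]

theorem f1_dot (v : Fin (m + 3) → F) : f1 m F ⬝ᵥ v = v 0 + v 1 := by
  unfold f1
  rw [add_dotProduct, single_dotProduct, single_dotProduct, one_mul, one_mul]

theorem e0_dot (v : Fin (m + 3) → F) : e0 m F ⬝ᵥ v = v 0 := by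
  unfold e0
  rw [single_dotProduct, one_mul]

theorem dot_c0 (w : Fin (m + 3) → F) : w ⬝ᵥ c0 m F = w (Fin.last (m + 2)) := by
  unfold c0
  rw [dotProduct_single, mul_one]

theorem dot_c1 (w : Fin (m + 3) → F) : w ⬝ᵥ c1 m F = w (Fin.last (m + 2)) + w (pen m) := by
  unfold c1
  rw [dotProduct_add, dotProduct_single, dotProduct_single, mul_one, mul_one]

end vectors

section main
variable {m : ℕ} {F : Type*} [Field F]

theorem PC (hm : 1 ≤ m) :
    Pm m F * Cm m F = Kmat ((-1 : F) ^ (m + 2)) (p1 m F ⬝ᵥ cm m F) := by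
  have h01 : (0 : Fin (m + 3)) ≠ Fin.last (m + 2) := by
    intro h
    have := congrArg Fin.val h
    simp at this
  have h11 : (1 : Fin (m + 3)) ≠ Fin.last (m + 2) := by
    intro h
    have := congrArg Fin.val h
    simp at this
  have h0p : (0 : Fin (m + 3)) ≠ pen m := by
    intro h
    have := congrArg Fin.val h
    simp [pen] at this
  have h1p : (1 : Fin (m + 3)) ≠ pen m := by
    intro h
    have := congrArg Fin.val h
    simp [pen] at this
    omega
  have a1 : f1 m F ⬝ᵥ cm m F = 0 := by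
    rw [f1_dot]
    unfold cm
    simp only [Fin.val_zero, Fin.val_one, Nat.sub_zero]
    have : m + 2 = (m + 2 - 1) + 1 := by omega
    nth_rewrite 1 [this]
    rw [pow_succ]
    ring
  have a2 : f1 m F ⬝ᵥ c0 m F = 0 := by
    rw [dot_c0]
    unfold f1
    simp [Pi.single_eq_of_ne h01.symm, Pi.single_eq_of_ne h11.symm]
  have a3 : f1 m F ⬝ᵥ c1 m F = 0 := by
    rw [dot_c1]
    unfold f1
    simp [Pi.single_eq_of_ne h01.symm, Pi.single_eq_of_ne h11.symm,
      Pi.single_eq_of_ne h0p.symm, Pi.single_eq_of_ne h1p.symm]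
  have b1 : e0 m F ⬝ᵥ cm m F = (-1) ^ (m + 2) := by
    rw [e0_dot]
    unfold cm
    simp
  have b2 : e0 m F ⬝ᵥ c0 m F = 0 := by
    rw [dot_c0]
    unfold e0
    simp [Pi.single_eq_of_ne h01.symm]
  have b3 : e0 m F ⬝ᵥ c1 m F = 0 := by
    rw [dot_c1]
    unfold e0
    simp [Pi.single_eq_of_ne h01.symm, Pi.single_eq_of_ne h0p.symm]
  have d2 : p1 m F ⬝ᵥ c0 m F = (-1) ^ (m + 2) := by
    rw [dot_c0]
    unfold p1
    simp
  have d3 : p1 m F ⬝ᵥ c1 m F = 0 := by
    rw [dot_c1]
    unfold p1 pen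
    simp only [Fin.val_last]
    rw [pow_succ]
    ring
  ext a b
  have hab : (Pm m F * Cm m F) a b
      = (![f1 m F, e0 m F, p1 m F] a) ⬝ᵥ (![cm m F, c0 m F, c1 m F] b) := rfl
  rw [hab]
  fin_cases a <;> fin_cases b <;> simp [Kmat, a1, a2, a3, b1, b2, b3, d2, d3]

theorem emb_mul (K : Matrix (Fin 3) (Fin 3) F) (hPC : Pm m F * Cm m F = K)
    (X Y : Matrix (Fin 3) (Fin 3) F) :
    emb m F X * emb m F Y = emb m F (circ K X Y) := by
  unfold emb circ
  have h : Cm m F * X * Pm m F * (Cm m F * Y * Pm m F) = Cm m F * (X * K * Y) * Pm m F := by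
    rw [← hPC]
    simp only [Matrix.mul_assoc]
  rw [Matrix.mul_add, Matrix.add_mul, Matrix.add_mul, Matrix.one_mul, Matrix.mul_one,
    Matrix.one_mul, h, Matrix.mul_add, Matrix.mul_add, Matrix.add_mul, Matrix.add_mul]
  abel

theorem emb_X1 (l : F) :
    emb m F (X1 l) = 1 + l • (vecMulVec (cm m F) (f1 m F) - vecMulVec (c0 m F) (e0 m F)) := by
  unfold emb
  congr 1
  ext i j
  simp [Matrix.mul_apply, Fin.sum_univ_three, Cm, Pm, X1, vecMulVec_apply]
  ring

theorem emb_X0 (l : F) :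
    emb m F (X0 l) = 1 + l • (vecMulVec (c0 m F) (e0 m F) - vecMulVec (c1 m F) (p1 m F)) := by
  unfold emb
  congr 1
  ext i j
  simp [Matrix.mul_apply, Fin.sum_univ_three, Cm, Pm, X0, vecMulVec_apply]
  ring

theorem emb_Tx (l : F) : emb m F (Tx l) = tvm (l ^ 3 • c1 m F) (f1 m F) := by
  unfold emb tvm
  congr 1
  ext i j
  simp [Matrix.mul_apply, Fin.sum_univ_three, Cm, Pm, Tx, vecMulVec_apply]
  exact Or.inl (mul_comm _ _)

theorem rhs_eq (l : F) :
    aMat m F + l • (vecMulVec (c0 m F) (f1 m F) - vecMulVec (c1 m F) (e0 m F)) = v4 m F l := by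
  unfold v4 c0 c1 f1 e0
  rw [vecMulVec_add, add_vecMulVec]
  have h1 : Matrix.single (Fin.last (m + 2)) (1 : Fin (m + 3)) l
      = l • vecMulVec (Pi.single (Fin.last (m + 2)) (1 : F)) (Pi.single (1 : Fin (m + 3)) (1 : F)) := by
    rw [← single_eq_single_vecMulVec_single, Matrix.smul_single, smul_eq_mul, mul_one]
  have h2 : Matrix.single (pen m) (0 : Fin (m + 3)) l
      = l • vecMulVec (Pi.single (pen m) (1 : F)) (Pi.single (0 : Fin (m + 3)) (1 : F)) := by
    rw [← single_eq_single_vecMulVec_single, Matrix.smul_single, smul_eq_mul, mul_one]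
  rw [h1, h2]
  simp only [smul_add, smul_sub]
  abel

theorem aMat_mul_emb_X1 (l : F) : aMat m F * emb m F (X1 l) = v4 m F l := by
  rw [emb_X1, Matrix.mul_add, Matrix.mul_one, Matrix.mul_smul, Matrix.mul_sub, mul_vecMulVec,
    mul_vecMulVec, aMat_cm, aMat_c0, rhs_eq]

theorem emb_X0_mul_aMat (l : F) : emb m F (X0 l) * aMat m F = v4 m F l := by
  rw [emb_X0, Matrix.add_mul, Matrix.one_mul, Matrix.smul_mul, Matrix.sub_mul, vecMulVec_mul,
    vecMulVec_mul, e0_aMat, p1_aMat, rhs_eq]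

theorem tv_mem {m : ℕ} {F : Type*} [Field F] (hm : 1 ≤ m)
    {G : Subgroup (SpecialLinearGroup (Fin (m + 3)) F)} (l : F)
    (ha : InG G (aMat m F)) (hv : InG G (v4 m F l)) :
    InG G (tvm (l ^ 3 • c1 m F) (f1 m F)) := by
  set ε : F := (-1 : F) ^ (m + 2) with hεdef
  set ν : F := p1 m F ⬝ᵥ cm m F with hνdef
  have hε : ε = 1 ∨ ε = -1 := neg_one_pow_eq_or F (m + 2)
  have hPC : Pm m F * Cm m F = Kmat ε ν := PC hm
  have hD1 : InG G (emb m F (X1 l)) := by
    refine inG_of_mul_left ha ?_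
    rw [aMat_mul_emb_X1]
    exact hv
  have hD0 : InG G (emb m F (X0 l)) := by
    refine inG_of_mul_right ha ?_
    rw [emb_X0_mul_aMat]
    exact hv
  have hY : InG G (emb m F (Yx l ε ν)) := by
    have h1 : InG G (emb m F (X1 l) * emb m F (X0 l)) := inG_mul hD1 hD0
    have h2 : emb m F (X1 l) * emb m F (X0 l)
        = emb m F (Yx l ε ν) * emb m F (X0 l) * emb m F (X1 l) := by
      rw [emb_mul _ hPC, emb_mul _ hPC, emb_mul _ hPC, circ_id1 l ε ν hε]
    rw [h2] at h1
    exact inG_of_mul_right hD0 (inG_of_mul_right hD1 h1)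
  have hT : InG G (emb m F (Tx l)) := by
    have h1 : InG G (emb m F (X1 l) * emb m F (Yx l ε ν)) := inG_mul hD1 hY
    have h2 : emb m F (X1 l) * emb m F (Yx l ε ν)
        = emb m F (Tx l) * emb m F (Yx l ε ν) * emb m F (X1 l) := by
      rw [emb_mul _ hPC, emb_mul _ hPC, emb_mul _ hPC, circ_id2 l ε ν hε]
    rw [h2] at h1
    exact inG_of_mul_right hY (inG_of_mul_right hD1 h1)
  rw [emb_Tx] at hT
  exact hT

end main

end Cfsg.Agent.Lib.Helper41.RU4x
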