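import Cfsg.Agent.Lib.Helper41.Engine
import Cfsg.Agent.Lib.Helper41.WVTransfer
import Cfsg.Agent.Lib.Helper40.Cores
import Cfsg.Prelude.Def_Local

set_option autoImplicit false

namespace Cfsg.Agent.Lib.Helper41

open Cfsg

variable {G : Type*} [Group G] {p : ℕ}

/-- `O_{p'}(N)` for a subgroup `N` of `G`, as a subgroup of `G` -/
def relPPrimeCore (p : ℕ) (N : Subgroup G) : Subgroup G := (pPrimeCore p ↥N).map N.subtype

/-- `O_{p',p}(N)` for a subgroup `N` of `G`, as a subgroup of `G` -/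
def relPPrimePCore (p : ℕ) (N : Subgroup G) : Subgroup G := (pPrimePCore p ↥N).map N.subtype

theorem relPPrimeCore_le_relPPrimePCore (N : Subgroup G) :
    relPPrimeCore p N ≤ relPPrimePCore p N :=
  Subgroup.map_mono (Cfsg.Agent.Lib.Helper40.pPrimeCore_le_pPrimePCore p ↥N)

theorem relPPrimePCore_le (N : Subgroup G) : relPPrimePCore p N ≤ N :=
  Subgroup.map_subtype_le _

theorem relPPrimeCore_le (N : Subgroup G) : relPPrimeCore p N ≤ N :=
  Subgroup.map_subtype_le _

/-- the image in `G` of a normal subgroup of `N` is normalized by `N` -/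
theorem lc_map_subtype_of_normal [Finite G] {N : Subgroup G} (X : Subgroup N) [X.Normal] {n : G}
    (hn : n ∈ N) : lc n (X.map N.subtype) = X.map N.subtype := by
  apply lc_eq_of_le_of_finite
  intro x hx
  rw [mem_lc] at hx
  obtain ⟨x', hx', hxx⟩ := hx
  have h1 : (⟨n, hn⟩ : N) * x' * (⟨n, hn⟩ : N)⁻¹ ∈ X := Subgroup.Normal.conj_mem inferInstance _ hx' _
  refine ⟨_, h1, ?_⟩
  simp only [Subgroup.subtype_apply, Subgroup.coe_mul, Subgroup.coe_inv] at hxx ⊢
  rw [hxx]; group

theorem lc_relPPrimeCore [Finite G] {N : Subgroup G} {n : G} (hn : n ∈ N) :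
    lc n (relPPrimeCore p N) = relPPrimeCore p N := by
  haveI : (pPrimeCore p ↥N).Normal :=
    @Subgroup.normal_of_characteristic _ _ _ (Cfsg.Agent.Lib.Helper40.pPrimeCore_characteristic p ↥N)
  exact lc_map_subtype_of_normal _ hn

theorem lc_relPPrimePCore [Finite G] {N : Subgroup G} {n : G} (hn : n ∈ N) :
    lc n (relPPrimePCore p N) = relPPrimePCore p N :=
  lc_map_subtype_of_normal _ hn

theorem card_relPPrimeCore_coprime [Finite G] (N : Subgroup G) :
    (Nat.card (relPPrimeCore p N)).Coprime p := by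
  unfold relPPrimeCore
  rw [Subgroup.card_map_of_injective N.subtype_injective]
  exact Cfsg.Agent.Lib.Helper40.pPrimeCore_card_coprime' p ↥N

/-- a `p'`-subgroup of `N` normalized by `N` lies in `O_{p'}(N)` -/
theorem le_relPPrimeCore [Finite G] {N X : Subgroup G} (hXN : X ≤ N)
    (hnorm : ∀ x n, x ∈ X → n ∈ N → n * x * n⁻¹ ∈ X) (hcard : (Nat.card X).Coprime p) :
    X ≤ relPPrimeCore p N := by
  have hn : (X.subgroupOf N).Normal := (Subgroup.normal_subgroupOf_iff hXN).mpr hnorm
  have hc : (Nat.card (X.subgroupOf N)).Coprime p := by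
    rw [Nat.card_congr (Subgroup.subgroupOfEquivOfLe hXN).toEquiv]
    exact hcard
  have := Cfsg.Agent.Lib.Helper40.le_pPrimeCore' _ hn hc
  have h2 := Subgroup.map_mono (f := N.subtype) this
  rw [Subgroup.subgroupOf_map_subtype, inf_eq_left.mpr hXN] at h2
  exact h2

/-- `O_{p',p}(N) ≤ R O_{p'}(N)` for a Sylow `p`-subgroup `R` of `N` -/
theorem relPPrimePCore_le_sup [Finite G] [Fact p.Prime] {N R : Subgroup G} (hRN : R ≤ N)
    (hR : IsPGroup p R) (hidx : ¬ p ∣ R.relIndex N) :
    relPPrimePCore p N ≤ R ⊔ relPPrimeCore p N := by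
  have hR' : IsPGroup p (R.subgroupOf N) := hR.comap_subtype
  let R' : Sylow p N := hR'.toSylow hidx
  have h := Cfsg.Agent.Lib.Helper40.pPrimePCore_le_sylow_sup R'
  have h2 := Subgroup.map_mono (f := N.subtype) h
  rw [Subgroup.map_sup] at h2
  have e : ((R' : Subgroup N)).map N.subtype = R := by
    show (R.subgroupOf N).map N.subtype = R
    rw [Subgroup.subgroupOf_map_subtype, inf_eq_left.mpr hRN]
  rw [e] at h2
  exact h2

/-- a `p`-subgroup of `N` normalized by `N` lies in `O_{p',p}(N)` -/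
theorem le_relPPrimePCore [Finite G] {N D : Subgroup G} (hDN : D ≤ N)
    (hnorm : ∀ x n, x ∈ D → n ∈ N → n * x * n⁻¹ ∈ D) (hD : IsPGroup p D) :
    D ≤ relPPrimePCore p N := by
  haveI hn : (D.subgroupOf N).Normal := (Subgroup.normal_subgroupOf_iff hDN).mpr hnorm
  haveI : (pPrimeCore p ↥N).Normal :=
    @Subgroup.normal_of_characteristic _ _ _ (Cfsg.Agent.Lib.Helper40.pPrimeCore_characteristic p ↥N)
  have hD' : IsPGroup p (D.subgroupOf N) := hD.comap_subtype
  have h1 : (D.subgroupOf N).map (QuotientGroup.mk' (pPrimeCore p ↥N)) ≤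
      pCore p (↥N ⧸ pPrimeCore p ↥N) :=
    Cfsg.Agent.Lib.Helper40.le_pCore'
      (Subgroup.Normal.map hn _ (QuotientGroup.mk'_surjective _)) (hD'.map _)
  have h2 : D.subgroupOf N ≤ pPrimePCore p ↥N := by
    unfold pPrimePCore
    exact Subgroup.map_le_iff_le_comap.mp h1
  have h3 := Subgroup.map_mono (f := N.subtype) h2
  rw [Subgroup.subgroupOf_map_subtype, inf_eq_left.mpr hDN] at h3
  exact h3

end Cfsg.Agent.Lib.Helper41
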