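import Mathlib
import Cfsg.Prelude.Def_Characters
import Cfsg.Agent.Lib.Helper84.Clifford
import Cfsg.Agent.Lib.Helper83.Abelian
import Cfsg.Agent.Lib.Helper83.Quotient
import Cfsg.Agent.Lib.Helper83.Linear
import Cfsg.Agent.Lib.Helper83.Decompose
import Cfsg.Agent.Lib.Helper17.FeitCore

/-!
# K-S4751-A (Part I): Clifford + counting
-/

set_option autoImplicit false

namespace Cfsg.Agent.Lib.Helper41.S4751

open Cfsg Cfsg.Agent.Lib.Helper84 Cfsg.Agent.Lib.Helper83
open scoped ComplexConjugate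

universe u

/-- the arithmetic core: `n t e² = (t e)² + n - 1`, `1 ≤ t ≤ n - 1`, `1 ≤ e` forces `e = 1` and `t = 1 ∨ t = n - 1`. -/
theorem partI_arith (n t e : ℕ) (ht1 : 1 ≤ t) (htn : t + 1 ≤ n) (he : 1 ≤ e)
    (h : n * (t * e ^ 2) = (t * e) ^ 2 + n - 1) : e = 1 ∧ (t = 1 ∨ t + 1 = n) := by
  obtain ⟨k, rfl⟩ : ∃ k, n = t + 1 + k := ⟨n - (t + 1), by omega⟩
  obtain ⟨s, rfl⟩ : ∃ s, t = s + 1 := ⟨t - 1, by omega⟩
  obtain ⟨c, rfl⟩ : ∃ c, e = c + 1 := ⟨e - 1, by omega⟩
  have h' : (s + 1 + 1 + k) * ((s + 1) * (c + 1) ^ 2) + 1 = ((s + 1) * (c + 1)) ^ 2 + (s + 1 + 1 + k) := by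
    have : 1 ≤ ((s + 1) * (c + 1)) ^ 2 + (s + 1 + 1 + k) := by omega
    omega
  -- expand: `(s+1)(c+1)^2 (k+1) = s + 1 + k`, i.e. `(c^2+2c)(s+1)(k+1) + s k = 0`
  have h2 : (c ^ 2 + 2 * c) * ((s + 1) * (k + 1)) + s * k = 0 := by nlinarith
  have hc : c = 0 := by
    by_contra hc
    have : 1 ≤ c := Nat.one_le_iff_ne_zero.mpr hc
    have : 1 ≤ (c ^ 2 + 2 * c) * ((s + 1) * (k + 1)) := by
      have h3 : 1 ≤ c ^ 2 + 2 * c := by nlinarith
      have h4 : 1 ≤ (s + 1) * (k + 1) := by nlinarith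
      nlinarith
    omega
  subst hc
  have hsk : s * k = 0 := by simpa using h2
  refine ⟨rfl, ?_⟩
  rcases Nat.mul_eq_zero.mp hsk with h0 | h0
  · left; omega
  · right; omega

theorem partI {G : Type u} [Group G] [Fintype G] (p : ℕ) [Fact p.Prime] (N : Subgroup G) [N.Normal]
    [Fintype N] (hNp : IsPGroup p N) (hN1 : N ≠ ⊥) {χ : G → ℂ} (hχ : IsIrrCharacter G χ)
    (hfaith : ∀ g : G, χ g = χ 1 → g = 1) (hnl : χ 1 ≠ 1)
    (hnorm : ∀ x ∈ N, x ≠ 1 → ‖χ x‖ = 1) :
    χ 1 = (Nat.card N : ℂ) - 1 ∧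
    (∀ θ : N → ℂ, IsIrrCharacter N θ → θ 1 = 1) ∧
    (∀ θ : N → ℂ, IsIrrCharacter N θ → θ ≠ (fun _ => 1) →
      classInner (fun n : N => χ n) θ = 1) := by
  classical
  haveI : Fintype (IrrCharacter N) := Fintype.ofFinite _
  have hχc : IsCharacter G χ := isCharacter_of_irr hχ
  have hcf : IsClassFunction G χ := char_isClassFunction hχc
  set ψ : N → ℂ := fun n : N => χ n with hψ
  have hψc : IsCharacter N ψ := isCharacter_restrict N hχc
  set n := Nat.card N with hn
  set d := charDegree χ with hd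
  have hd1 : (d : ℂ) = χ 1 := charDegree_cast hχc
  have hdpos : 0 < d := irr_charDegree_pos ⟨χ, hχ⟩
  have hnpos : 0 < n := Nat.card_pos
  let m : IrrCharacter N → ℕ := fun θ => irrMult ψ θ
  let deg : IrrCharacter N → ℕ := fun θ => charDegree (θ : N → ℂ)
  have hmc : ∀ θ : IrrCharacter N, (m θ : ℂ) = classInner ψ (θ : N → ℂ) := fun θ => irrMult_cast hψc θ
  have hdegc : ∀ θ : IrrCharacter N, (deg θ : ℂ) = (θ : N → ℂ) 1 :=
    fun θ => charDegree_cast (IrrCharacter_isCharacter θ)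
  have hdegpos : ∀ θ : IrrCharacter N, 0 < deg θ := fun θ => irr_charDegree_pos θ
  -- (F3) degree equation
  have hF3 : d = ∑ θ : IrrCharacter N, m θ * deg θ := by
    have h1 := congrFun (char_eq_sum_irrMult hψc) 1
    have h2 : (d : ℂ) = ((∑ θ : IrrCharacter N, m θ * deg θ : ℕ) : ℂ) := by
      rw [hd1]
      show ψ 1 = _
      rw [h1, Finset.sum_apply]
      push_cast
      refine Finset.sum_congr rfl fun θ _ => ?_
      rw [Pi.smul_apply, smul_eq_mul, hdegc θ]
    exact_mod_cast h2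
  -- (F4) norm equation
  have hF4 : n * ∑ θ : IrrCharacter N, m θ ^ 2 = d ^ 2 + n - 1 := by
    have h1 := Cfsg.Agent.Lib.Helper17.FeitCore.norm_eq_sum_sq hψc
    have h2 : classInner ψ ψ = (n : ℂ)⁻¹ * ((d : ℂ) ^ 2 + ((n : ℂ) - 1)) := by
      rw [classInner, ← hn]
      congr 1
      have h3 : ∀ x : N, ψ x * conj (ψ x) = if x = 1 then (d : ℂ) ^ 2 else 1 := by
        intro x
        by_cases hx : x = 1
        · rw [if_pos hx, hx]
          show χ ((1 : N) : G) * conj (χ ((1 : N) : G)) = _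
          rw [Subgroup.coe_one, ← hd1, Complex.conj_natCast, sq]
        · rw [if_neg hx, Complex.mul_conj, Complex.normSq_eq_norm_sq]
          have : ‖ψ x‖ = 1 := hnorm x x.2 (fun h => hx (Subtype.ext h))
          rw [this]; simp
      rw [Finset.sum_congr rfl (fun x _ => h3 x), Finset.sum_ite, Finset.sum_const, Finset.sum_const]
      have h4 : (Finset.univ.filter fun x : N => x = 1) = {1} := by
        ext x; simp
      have h5 : (Finset.univ.filter fun x : N => ¬ x = 1).card = n - 1 := by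
        have h6 := Finset.card_filter_add_card_filter_not (s := (Finset.univ : Finset N))
          (fun x : N => x = 1)
        rw [h4, Finset.card_singleton, Finset.card_univ, ← Nat.card_eq_fintype_card] at h6
        omega
      rw [h4, h5, Finset.card_singleton]
      simp only [one_smul, nsmul_eq_mul, mul_one]
      rw [Nat.cast_sub hnpos, Nat.cast_one]
    rw [h2] at h1
    have hn0 : (n : ℂ) ≠ 0 := Nat.cast_ne_zero.mpr hnpos.ne'
    have h3 : (d : ℂ) ^ 2 + ((n : ℂ) - 1) = (n : ℂ) * ((∑ θ : IrrCharacter N, m θ ^ 2 : ℕ) : ℂ) := by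
      have h1' : ((∑ ψ_1 : IrrCharacter N, irrMult ψ ψ_1 ^ 2 : ℕ) : ℂ) =
          ((∑ θ : IrrCharacter N, m θ ^ 2 : ℕ) : ℂ) := rfl
      rw [← h1', ← h1]
      field_simp
    have h4 : ((d ^ 2 + n - 1 : ℕ) : ℂ) = ((n * ∑ θ : IrrCharacter N, m θ ^ 2 : ℕ) : ℂ) := by
      rw [Nat.cast_sub (by omega), Nat.cast_add, Nat.cast_pow, Nat.cast_mul, Nat.cast_one]
      rw [← h3]; ring
    exact_mod_cast h4.symm
  -- (F5) the trivial character does not occur
  let triv : IrrCharacter N := ⟨fun _ => 1, isIrrCharacter_one⟩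
  obtain ⟨x₀, hx₀N, hx₀1⟩ : ∃ x ∈ N, x ≠ 1 := by
    by_contra hcon
    push Not at hcon
    exact hN1 ((Subgroup.eq_bot_iff_forall N).mpr hcon)
  have hF5 : m triv = 0 := by
    have h1 := irr_sum_normal_eq_zero ⟨χ, hχ⟩ N ⟨x₀, hx₀N, fun h => hx₀1 (hfaith x₀ h)⟩
    have h2 : classInner ψ (triv : N → ℂ) = 0 := by
      rw [classInner]
      have : ∑ g : N, ψ g * conj ((triv : N → ℂ) g) = ∑ g : N, χ g := by
        refine Finset.sum_congr rfl fun g _ => ?_
        show ψ g * conj (1 : ℂ) = _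
        rw [map_one, mul_one]
      rw [this, h1, mul_zero]
    have h3 := hmc triv
    rw [h2] at h3
    exact_mod_cast h3
  -- (F6) Clifford
  have hF6 : ∀ θ θ' : IrrCharacter N, m θ ≠ 0 → m θ' ≠ 0 → m θ' = m θ ∧ deg θ' = deg θ := by
    intro θ θ' h1 h2
    have h1' : classInner (fun n : N => χ n) (θ : N → ℂ) ≠ 0 := by
      rw [← hmc θ]; exact_mod_cast h1
    have h2' : classInner (fun n : N => χ n) (θ' : N → ℂ) ≠ 0 := by
      rw [← hmc θ']; exact_mod_cast h2
    obtain ⟨g, hg⟩ := clifford_exists_conj N hχ θ.2 θ'.2 h1' h2'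
    constructor
    · have h3 := classInner_restrict_conjFun N hcf g (θ : N → ℂ)
      rw [hg] at h3
      have h4 : (m θ' : ℂ) = (m θ : ℂ) := by rw [hmc, hmc]; exact h3
      exact_mod_cast h4
    · have h3 : (θ' : N → ℂ) 1 = (θ : N → ℂ) 1 := by
        rw [← hg, conjFun_apply]
        exact congrArg _ (Subtype.ext (by simp))
      have h4 : (deg θ' : ℂ) = (deg θ : ℂ) := by rw [hdegc, hdegc]; exact h3
      exact_mod_cast h4
  -- the support
  set T : Finset (IrrCharacter N) := Finset.univ.filter (fun θ => m θ ≠ 0) with hT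
  have hTne : T.Nonempty := by
    by_contra hcon
    rw [Finset.not_nonempty_iff_eq_empty] at hcon
    have : ∀ θ : IrrCharacter N, m θ = 0 := by
      intro θ
      by_contra h
      have : θ ∈ T := by rw [hT, Finset.mem_filter]; exact ⟨Finset.mem_univ _, h⟩
      rw [hcon] at this
      exact absurd this (Finset.notMem_empty _)
    rw [hF3] at hdpos
    simp [this] at hdpos
  obtain ⟨θ₀, hθ₀⟩ := hTne
  have hθ₀m : m θ₀ ≠ 0 := (Finset.mem_filter.mp hθ₀).2
  set e := m θ₀ with he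
  set f := deg θ₀ with hf
  have hTm : ∀ θ ∈ T, m θ = e ∧ deg θ = f := fun θ hθ =>
    hF6 θ₀ θ hθ₀m (Finset.mem_filter.mp hθ).2
  have hnT : ∀ θ : IrrCharacter N, θ ∉ T → m θ = 0 := by
    intro θ hθ
    by_contra h
    exact hθ (by rw [hT, Finset.mem_filter]; exact ⟨Finset.mem_univ _, h⟩)
  set t := T.card with ht
  have hd_eq : d = t * (e * f) := by
    rw [hF3, ← Finset.sum_subset (Finset.subset_univ T) (fun θ _ hθ => by rw [hnT θ hθ, zero_mul]),
      Finset.sum_congr rfl (fun θ hθ => by rw [(hTm θ hθ).1, (hTm θ hθ).2]), Finset.sum_const,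
      smul_eq_mul]
  have hsq_eq : ∑ θ : IrrCharacter N, m θ ^ 2 = t * e ^ 2 := by
    rw [← Finset.sum_subset (Finset.subset_univ T)
      (fun θ _ hθ => by rw [hnT θ hθ]; simp),
      Finset.sum_congr rfl (fun θ hθ => by rw [(hTm θ hθ).1]), Finset.sum_const, smul_eq_mul]
  rw [hsq_eq, hd_eq] at hF4
  have hepos : 1 ≤ e := Nat.one_le_iff_ne_zero.mpr hθ₀m
  have htpos : 1 ≤ t := Finset.card_pos.mpr ⟨θ₀, hθ₀⟩
  have hfpos : 1 ≤ f := hdegpos θ₀
  -- (F7) `f = 1`
  have hf1 : f = 1 := by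
    have hfn : f ∣ n := irr_charDegree_dvd_card θ₀
    have h1 : f ∣ (t * (e * f)) ^ 2 + n := by
      refine Dvd.dvd.add ?_ hfn
      have h0 : f ∣ t * (e * f) := ⟨t * e, by ring⟩
      exact dvd_pow h0 two_ne_zero
    have h2 : (t * (e * f)) ^ 2 + n - 1 + 1 = (t * (e * f)) ^ 2 + n := by omega
    have h3 : f ∣ (t * (e * f)) ^ 2 + n - 1 := by
      rw [← hF4]
      exact Dvd.dvd.mul_right hfn _
    have h4 : f ∣ 1 := by
      have := (Nat.dvd_add_right h3).mp (h2 ▸ h1)
      exact this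
    exact Nat.dvd_one.mp h4
  rw [hf1, mul_one] at hF4 hd_eq
  -- count of irreducible characters
  have hsumdeg : ∑ θ : IrrCharacter N, deg θ ^ 2 = n := sum_charDegree_sq
  have htn : t + 1 ≤ n := by
    have h1 : triv ∉ T := by
      rw [hT, Finset.mem_filter]
      rintro ⟨-, h⟩
      exact h hF5
    have h2 : (insert triv T).card = t + 1 := Finset.card_insert_of_notMem h1
    have h3 : ∑ θ ∈ insert triv T, deg θ ^ 2 ≤ ∑ θ : IrrCharacter N, deg θ ^ 2 :=
      Finset.sum_le_sum_of_subset (Finset.subset_univ _)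
    have h4 : (insert triv T).card ≤ ∑ θ ∈ insert triv T, deg θ ^ 2 := by
      rw [Finset.card_eq_sum_ones]
      refine Finset.sum_le_sum fun θ _ => ?_
      have := hdegpos θ
      nlinarith
    omega
  obtain ⟨he1, ht'⟩ := partI_arith n t e htpos htn hepos hF4
  have hd_ne : d ≠ 1 := by
    intro h
    apply hnl
    rw [← hd1, h, Nat.cast_one]
  have htn' : t + 1 = n := by
    rcases ht' with h | h
    · exfalso
      rw [h, he1] at hd_eq
      exact hd_ne (by simpa using hd_eq)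
    · exact h
  have hd_final : d + 1 = n := by rw [hd_eq, he1, mul_one]; exact htn'
  -- every irreducible character of `N` lies in `insert triv T`
  have hall : ∀ θ : IrrCharacter N, θ = triv ∨ θ ∈ T := by
    intro θ
    by_contra hcon
    push Not at hcon
    have h1 : triv ∉ T := by
      rw [hT, Finset.mem_filter]
      rintro ⟨-, h⟩
      exact h hF5
    have h2 : θ ∉ insert triv T := by
      rw [Finset.mem_insert]
      push Not
      exact hcon
    have h3 : (insert θ (insert triv T)).card = t + 2 := by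
      rw [Finset.card_insert_of_notMem h2, Finset.card_insert_of_notMem h1]
    have h4 : ∑ θ ∈ insert θ (insert triv T), deg θ ^ 2 ≤ ∑ θ : IrrCharacter N, deg θ ^ 2 :=
      Finset.sum_le_sum_of_subset (Finset.subset_univ _)
    have h5 : (insert θ (insert triv T)).card ≤ ∑ θ ∈ insert θ (insert triv T), deg θ ^ 2 := by
      rw [Finset.card_eq_sum_ones]
      refine Finset.sum_le_sum fun θ _ => ?_
      have := hdegpos θ
      nlinarith
    omega
  refine ⟨?_, ?_, ?_⟩
  · rw [← hd1]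
    have : (n : ℂ) = (d : ℂ) + 1 := by exact_mod_cast hd_final.symm
    rw [this]; ring
  · intro θ hθ
    rcases hall ⟨θ, hθ⟩ with h | h
    · have := congrArg (fun z : IrrCharacter N => (z : N → ℂ) 1) h
      simpa using this
    · have h1 := (hTm _ h).2
      rw [hf1] at h1
      have h2 := hdegc ⟨θ, hθ⟩
      rw [show deg ⟨θ, hθ⟩ = 1 from h1] at h2
      simpa using h2.symm
  · intro θ hθ hne
    rcases hall ⟨θ, hθ⟩ with h | h
    · exfalso
      apply hne
      exact congrArg (fun z : IrrCharacter N => (z : N → ℂ)) h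
    · have h1 := (hTm _ h).1
      rw [he1] at h1
      have h2 := hmc ⟨θ, hθ⟩
      rw [h1] at h2
      simpa using h2.symm

end Cfsg.Agent.Lib.Helper41.S4751
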