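import Cfsg.Agent.Lib.Helper41.ChainGen

set_option autoImplicit false

namespace Cfsg.Agent.Lib.Helper41

open Cfsg

/-- a `ReflTransGen` path as a function on `Fin (n + 1)` -/
theorem exists_fin_chain_of_reflTransGen {α : Type*} {r : α → α → Prop} {a b : α}
    (h : Relation.ReflTransGen r a b) :
    ∃ (n : ℕ) (c : Fin (n + 1) → α), c 0 = a ∧ c (Fin.last n) = b ∧
      ∀ i : Fin n, r (c i.castSucc) (c i.succ) := by
  induction h using Relation.ReflTransGen.head_induction_on with
  | refl => exact ⟨0, fun _ => b, rfl, rfl, fun i => i.elim0⟩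
  | @head a' c' hab _ ih =>
    obtain ⟨n, c, h0, hl, hs⟩ := ih
    refine ⟨n + 1, (Fin.cons a' c : Fin (n + 2) → α), rfl, ?_, ?_⟩
    · rw [← Fin.succ_last]; simp only [Fin.cons_succ]; exact hl
    · intro i
      refine Fin.cases ?_ (fun j => ?_) i
      · have e1 : (Fin.cons a' c : Fin (n + 2) → α) (Fin.castSucc (0 : Fin (n+1))) = a' := by
          simp
        have e2 : (Fin.cons a' c : Fin (n + 2) → α) (Fin.succ (0 : Fin (n+1))) = c' := by
          simp [h0]
        rw [e1, e2]; exact hab
      · have e1 : (Fin.cons a' c : Fin (n + 2) → α) (Fin.castSucc j.succ) = c j.castSucc := by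
          rw [← Fin.succ_castSucc]; simp only [Fin.cons_succ]
        have e2 : (Fin.cons a' c : Fin (n + 2) → α) (Fin.succ j.succ) = c j.succ := by
          simp only [Fin.cons_succ]
        rw [e1, e2]; exact hs j

variable {G : Type*} [Group G] {p : ℕ}

/-- two Sylow subgroups are adjacent if they are distinct and meet nontrivially -/
def SylAdj (S T : Sylow p G) : Prop := S ≠ T ∧ (S : Subgroup G) ⊓ (T : Subgroup G) ≠ ⊥

/-- connectivity in the Sylow graph -/
def SylConn (S T : Sylow p G) : Prop := Relation.ReflTransGen (SylAdj (p := p) (G := G)) S T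

theorem SylAdj.symm {S T : Sylow p G} (h : SylAdj S T) : SylAdj T S :=
  ⟨h.1.symm, by rw [inf_comm]; exact h.2⟩

theorem SylConn.refl (S : Sylow p G) : SylConn S S := Relation.ReflTransGen.refl

theorem SylConn.symm {S T : Sylow p G} (h : SylConn S T) : SylConn T S := by
  induction h with
  | refl => exact Relation.ReflTransGen.refl
  | tail _ h2 ih => exact Relation.ReflTransGen.head h2.symm ih

theorem SylConn.trans {S T U : Sylow p G} (h₁ : SylConn S T) (h₂ : SylConn T U) : SylConn S U :=
  Relation.ReflTransGen.trans h₁ h₂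

theorem sylConn_of_inf_ne_bot {S T : Sylow p G} (h : (S : Subgroup G) ⊓ (T : Subgroup G) ≠ ⊥) :
    SylConn S T := by
  by_cases hST : S = T
  · rw [hST]; exact SylConn.refl T
  · exact Relation.ReflTransGen.single ⟨hST, h⟩

theorem coe_smul_sylow (g : G) (S : Sylow p G) :
    ((g • S : Sylow p G) : Subgroup G) = lc g (S : Subgroup G) := by
  rw [lc_eq_smul]; rfl

theorem SylAdj.smul (g : G) {S T : Sylow p G} (h : SylAdj S T) : SylAdj (g • S) (g • T) := by
  refine ⟨fun heq => h.1 ?_, ?_⟩
  · have := congrArg (fun X => g⁻¹ • X) heq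
    simpa using this
  · rw [coe_smul_sylow, coe_smul_sylow, ← lc_inf, Ne, lc_eq_bot_iff]
    exact h.2

theorem SylConn.smul (g : G) {S T : Sylow p G} (h : SylConn S T) : SylConn (g • S) (g • T) :=
  Relation.ReflTransGen.lift (fun X => g • X) (fun _ _ h => SylAdj.smul g h) _ _ h

/-- chain-connectedness in terms of `SylConn` -/
theorem isSylowChainConnected_of_sylConn (h : ∀ S T : Sylow p G, SylConn S T) :
    Cfsg.IsSylowChainConnected p G := by
  intro S T
  by_cases hST : S = T
  · subst hST
    exact ⟨0, fun _ => S, rfl, rfl, fun _ => inf_le_left, fun i => i.elim0⟩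
  by_cases hne : (S : Subgroup G) ⊓ (T : Subgroup G) = ⊥
  · obtain ⟨n, c, h0, hl, hs⟩ := exists_fin_chain_of_reflTransGen (h S T)
    refine ⟨n, c, h0, hl, fun i => ?_, fun i => hs i⟩
    rw [hne]; exact bot_le
  · refine ⟨1, ![S, T], rfl, rfl, ?_, ?_⟩
    · intro i
      fin_cases i
      · exact inf_le_left
      · exact inf_le_right
    · intro i
      fin_cases i
      exact ⟨hST, hne⟩

section main

variable [Finite G] [Fact p.Prime]

/-- the stabilizer of the connected component of `S` in the Sylow graph -/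
def sylConnSubgroup (S : Sylow p G) : Subgroup G where
  carrier := {g | SylConn S (g • S)}
  one_mem' := by
    show SylConn S ((1 : G) • S)
    rw [one_smul]; exact SylConn.refl S
  mul_mem' := by
    intro a b ha hb
    show SylConn S ((a * b) • S)
    rw [mul_smul]
    exact SylConn.trans ha (SylConn.smul a hb)
  inv_mem' := by
    intro a ha
    show SylConn S (a⁻¹ • S)
    have := SylConn.smul a⁻¹ ha
    rw [inv_smul_smul] at this
    exact this.symm

theorem mem_sylConnSubgroup {S : Sylow p G} {g : G} :
    g ∈ sylConnSubgroup S ↔ SylConn S (g • S) := Iff.rfl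

theorem normalizer_le_sylConnSubgroup (S : Sylow p G) {D : Subgroup G}
    (hDS : D ≤ (S : Subgroup G)) (hD : D ≠ ⊥) :
    Subgroup.normalizer (D : Set G) ≤ sylConnSubgroup S := by
  intro g hg
  rw [mem_sylConnSubgroup]
  apply sylConn_of_inf_ne_bot
  intro hbot
  apply hD
  rw [eq_bot_iff, ← hbot, coe_smul_sylow]
  refine le_inf hDS ?_
  have : lc g D = D := mem_normalizer_iff_lc.mp hg
  rw [← this]
  exact lc_mono hDS

theorem normalizer_sylow_le_sylConnSubgroup (S : Sylow p G) :
    Subgroup.normalizer ((S : Subgroup G) : Set G) ≤ sylConnSubgroup S := by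
  intro g hg
  rw [mem_sylConnSubgroup]
  have : g • S = S := Sylow.smul_eq_iff_mem_normalizer.mpr hg
  rw [this]; exact SylConn.refl S

/-- **disconnected Sylow graph ⇒ a "strongly `p`-embedded" subgroup**: a proper subgroup containing the
normalizers of all nontrivial subgroups of `S`. -/
theorem exists_ne_top_of_not_isSylowChainConnected (h : ¬ Cfsg.IsSylowChainConnected p G)
    (S : Sylow p G) :
    ∃ M : Subgroup G, M ≠ ⊤ ∧ Subgroup.normalizer ((S : Subgroup G) : Set G) ≤ M ∧
      ∀ D : Subgroup G, D ≤ (S : Subgroup G) → D ≠ ⊥ → Subgroup.normalizer (D : Set G) ≤ M := by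
  refine ⟨sylConnSubgroup S, ?_, normalizer_sylow_le_sylConnSubgroup S,
    fun D hDS hD => normalizer_le_sylConnSubgroup S hDS hD⟩
  intro htop
  apply h
  apply isSylowChainConnected_of_sylConn
  intro A B
  obtain ⟨a, rfl⟩ := MulAction.exists_smul_eq G S A
  obtain ⟨b, rfl⟩ := MulAction.exists_smul_eq G S B
  have ha : SylConn S (a • S) := mem_sylConnSubgroup.mp (by rw [htop]; trivial)
  have hb : SylConn S (b • S) := mem_sylConnSubgroup.mp (by rw [htop]; trivial)
  exact ha.symm.trans hb

end main

end Cfsg.Agent.Lib.Helper41
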