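import Cfsg.Agent.Lib.Helper41.SEmbA
import Cfsg.Agent.Lib.Helper55.CoprimeGen

set_option autoImplicit false

namespace Cfsg.Agent.Lib.Helper41

open Cfsg

variable {G : Type*} [Group G] {p : ℕ}

/-- two commuting elements of order `p`, the second not a power of the first, generate an elementary
abelian subgroup of order at least `p ^ 2` -/
theorem closure_pair_elemAb [Finite G] [Fact p.Prime] {a x : G}
    (ha : orderOf a = p) (hx : orderOf x = p) (hcomm : a * x = x * a)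
    (hx_not : x ∉ Subgroup.zpowers a) :
    (∀ u ∈ Subgroup.closure ({a, x} : Set G), ∀ v ∈ Subgroup.closure ({a, x} : Set G),
        u * v = v * u) ∧
      (∀ u ∈ Subgroup.closure ({a, x} : Set G), u ^ p = 1) ∧
      p ^ 2 ≤ Nat.card (Subgroup.closure ({a, x} : Set G)) := by
  have hp : p.Prime := Fact.out
  have hap : a ^ p = 1 := by rw [← ha]; exact pow_orderOf_eq_one a
  have hxp : x ^ p = 1 := by rw [← hx]; exact pow_orderOf_eq_one x
  set A := Subgroup.closure ({a, x} : Set G) with hA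
  have hAcomm : IsMulCommutative A := by
    apply Subgroup.isMulCommutative_closure
    intro u hu v hv
    rcases hu with rfl | rfl <;> rcases hv with rfl | rfl
    · rfl
    · exact hcomm
    · exact hcomm.symm
    · rfl
  have hAc : ∀ u ∈ A, ∀ v ∈ A, u * v = v * u := fun u hu v hv =>
    congrArg Subtype.val (hAcomm.is_comm.comm ⟨u, hu⟩ ⟨v, hv⟩)
  have hAexp : ∀ b ∈ A, b ^ p = 1 := by
    intro b hb
    induction hb using Subgroup.closure_induction with
    | mem u hu =>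
      rcases hu with rfl | rfl
      · exact hap
      · exact hxp
    | one => exact one_pow p
    | mul u v hu hv ihu ihv =>
      have : Commute u v := hAc u hu v hv
      rw [this.mul_pow, ihu, ihv, one_mul]
    | inv u hu ihu => rw [inv_pow, ihu, inv_one]
  refine ⟨hAc, hAexp, ?_⟩
  have haA : a ∈ A := Subgroup.subset_closure (by simp)
  have hxA : x ∈ A := Subgroup.subset_closure (by simp)
  have hAp : IsPGroup p A := by
    intro g
    refine ⟨1, ?_⟩
    rw [pow_one]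
    exact Subtype.ext (hAexp g.1 g.2)
  obtain ⟨k, hk⟩ := IsPGroup.iff_card.mp hAp
  have hle : Subgroup.zpowers a ≤ A := Subgroup.zpowers_le.mpr haA
  have hlt : Nat.card (Subgroup.zpowers a) < Nat.card A := by
    by_contra hge
    push Not at hge
    have := Subgroup.eq_of_le_of_card_ge hle hge
    apply hx_not
    rw [this]; exact hxA
  rw [Nat.card_zpowers, ha, hk] at hlt
  rw [hk]
  apply Nat.pow_le_pow_right hp.pos
  by_contra hk2
  push Not at hk2
  have : p ^ k ≤ p ^ 1 := Nat.pow_le_pow_right hp.pos (by omega)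
  rw [pow_one] at this
  omega

section main

variable [Finite G] [Fact p.Prime]

/-- hypotheses on a "strongly `p`-embedded" subgroup `M` relative to the Sylow subgroup `S` -/
structure SEmb (S : Sylow p G) (M : Subgroup G) : Prop where
  normS : Subgroup.normalizer ((S : Subgroup G) : Set G) ≤ M
  normD : ∀ D : Subgroup G, D ≤ (S : Subgroup G) → D ≠ ⊥ → Subgroup.normalizer (D : Set G) ≤ M

variable {S : Sylow p G} {M : Subgroup G}

theorem SEmb.sylow_le (h : SEmb S M) : (S : Subgroup G) ≤ M :=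
  Subgroup.le_normalizer.trans h.normS

/-- fusion control, first form -/
theorem SEmb.mem_of_conj_mem_sylow (h : SEmb S M) {d g : G} (hd : d ∈ (S : Subgroup G))
    (hd1 : d ≠ 1) (hg : g * d * g⁻¹ ∈ (S : Subgroup G)) : g ∈ M := by
  apply mem_of_inf_lc_ne_bot S M h.normD
  intro hbot
  have h1 : g * d * g⁻¹ ∈ (S : Subgroup G) ⊓ lc g (S : Subgroup G) :=
    Subgroup.mem_inf.mpr ⟨hg, conj_mem_lc hd⟩
  rw [hbot, Subgroup.mem_bot] at h1
  apply hd1
  have : d = g⁻¹ * (g * d * g⁻¹) * g := by group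
  rw [this, h1]; group

/-- fusion control, second form -/
theorem SEmb.mem_of_conj_mem (h : SEmb S M) {d g : G} (hd : d ∈ (S : Subgroup G))
    (hd1 : d ≠ 1) (hg : g * d * g⁻¹ ∈ M) : g ∈ M := by
  have hSM := h.sylow_le
  have hidx : ¬ p ∣ (S : Subgroup G).relIndex M := by
    intro hdiv
    apply S.not_dvd_index
    exact hdiv.trans (Subgroup.relIndex_dvd_index_of_le hSM)
  have hQ : IsPGroup p (lc g (Subgroup.zpowers d)) := by
    apply isPGroup_lc
    exact S.2.to_le (Subgroup.zpowers_le.mpr hd)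
  have hQM : lc g (Subgroup.zpowers d) ≤ M := by
    intro x hx
    rw [mem_lc] at hx
    obtain ⟨k, hk⟩ := Subgroup.mem_zpowers_iff.mp hx
    have : x = (g * d * g⁻¹) ^ k := by
      have e : (g * d * g⁻¹) ^ k = g * d ^ k * g⁻¹ := by
        rw [← conj_zpow]
      rw [e, hk]; group
    rw [this]
    exact M.zpow_mem hg k
  obtain ⟨m, hmM, hm⟩ := exists_lc_le_of_relIndex (p := p) hSM S.2 hidx hQ hQM
  have h2 : (m * g) * d * (m * g)⁻¹ ∈ (S : Subgroup G) := by
    apply hm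
    rw [← lc_mul]
    exact conj_mem_lc (Subgroup.mem_zpowers d)
  have h3 := h.mem_of_conj_mem_sylow hd hd1 h2
  have : g = m⁻¹ * (m * g) := by group
  rw [this]
  exact M.mul_mem (M.inv_mem hmM) h3

/-- an element of order `p` of `S ∩ Y` when `p ∣ |Y|`, `Y` normal -/
theorem exists_orderOf_eq_of_dvd_card (S : Sylow p G) {Y : Subgroup G} [hY : Y.Normal]
    (h : p ∣ Nat.card Y) : ∃ d : G, d ∈ (S : Subgroup G) ∧ d ∈ Y ∧ orderOf d = p := by
  obtain ⟨y, hy⟩ := exists_prime_orderOf_dvd_card' (G := Y) p h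
  have hyo : orderOf (y : G) = p := by rw [Subgroup.orderOf_coe]; exact hy
  have hQ : IsPGroup p (Subgroup.zpowers (y : G)) := by
    rw [IsPGroup.iff_card, Nat.card_zpowers, hyo]
    exact ⟨1, (pow_one p).symm⟩
  obtain ⟨g, hg⟩ := exists_lc_le_sylow S hQ
  refine ⟨g * y * g⁻¹, hg (conj_mem_lc (Subgroup.mem_zpowers _)), hY.conj_mem _ y.2 g, ?_⟩
  rw [← hyo]
  have := MulEquiv.orderOf_eq (MulAut.conj g) (y : G)
  simpa [MulAut.conj_apply] using this

/-- **key lemma**: in a group with a "strongly `p`-embedded" subgroup, the intersection of two normal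
subgroups of order divisible by `p` has order divisible by `p` -/
theorem SEmb.dvd_card_inf (h : SEmb S M) (hMtop : M ≠ ⊤) {Y₁ Y₂ : Subgroup G} [h₁n : Y₁.Normal]
    [h₂n : Y₂.Normal] (h₁ : p ∣ Nat.card Y₁) (h₂ : p ∣ Nat.card Y₂) :
    p ∣ Nat.card (Y₁ ⊓ Y₂ : Subgroup G) := by
  have hp : p.Prime := Fact.out
  by_contra hW
  set W := Y₁ ⊓ Y₂ with hWdef
  have hWn : W.Normal := inferInstance
  have hWc : (Nat.card W).Coprime p := ((Nat.Prime.coprime_iff_not_dvd hp).mpr hW).symm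
  obtain ⟨d₁, hd₁S, hd₁Y, hd₁o⟩ := exists_orderOf_eq_of_dvd_card S h₁
  obtain ⟨d₂, hd₂S, hd₂Y, hd₂o⟩ := exists_orderOf_eq_of_dvd_card S h₂
  have hd₁1 : d₁ ≠ 1 := by
    intro h1; rw [h1, orderOf_one] at hd₁o; exact hp.one_lt.ne hd₁o
  have hd₂1 : d₂ ≠ 1 := by
    intro h1; rw [h1, orderOf_one] at hd₂o; exact hp.one_lt.ne hd₂o
  -- `W ∩ S = 1`
  have hWS : ∀ x : G, x ∈ W → x ∈ (S : Subgroup G) → x = 1 := by
    intro x hxW hxS
    have h1 : (W ⊓ (S : Subgroup G)) = ⊥ := by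
      apply Subgroup.inf_eq_bot_of_coprime
      obtain ⟨n, hn⟩ := IsPGroup.iff_card.mp S.2
      rw [hn]
      exact Nat.Coprime.pow_right n hWc
    have : x ∈ W ⊓ (S : Subgroup G) := Subgroup.mem_inf.mpr ⟨hxW, hxS⟩
    rw [h1] at this
    exact Subgroup.mem_bot.mp this
  -- commutators of `Y₁` and `Y₂` lie in `W`
  have hcommW : ∀ a ∈ Y₁, ∀ b ∈ Y₂, a * b * a⁻¹ * b⁻¹ ∈ W := by
    intro a ha b hb
    refine Subgroup.mem_inf.mpr ⟨?_, ?_⟩
    · have : a * b * a⁻¹ * b⁻¹ = a * (b * a⁻¹ * b⁻¹) := by group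
      rw [this]
      exact Y₁.mul_mem ha (h₁n.conj_mem _ (Y₁.inv_mem ha) b)
    · exact Y₂.mul_mem (h₂n.conj_mem _ hb a) (Y₂.inv_mem hb)
  have hcomm : d₁ * d₂ = d₂ * d₁ := by
    have h1 := hcommW d₁ hd₁Y d₂ hd₂Y
    have h2 : d₁ * d₂ * d₁⁻¹ * d₂⁻¹ ∈ (S : Subgroup G) :=
      Subgroup.mul_mem _ (Subgroup.mul_mem _ (Subgroup.mul_mem _ hd₁S hd₂S)
        (Subgroup.inv_mem _ hd₁S)) (Subgroup.inv_mem _ hd₂S)
    have h3 := hWS _ h1 h2
    calc d₁ * d₂ = (d₁ * d₂ * d₁⁻¹ * d₂⁻¹) * (d₂ * d₁) := by group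
    _ = d₂ * d₁ := by rw [h3, one_mul]
  have hnot : d₂ ∉ Subgroup.zpowers d₁ := by
    intro hmem
    have hd₂Y₁ : d₂ ∈ Y₁ := (Subgroup.zpowers_le.mpr hd₁Y) hmem
    exact hd₂1 (hWS d₂ (Subgroup.mem_inf.mpr ⟨hd₂Y₁, hd₂Y⟩) hd₂S)
  obtain ⟨hAc, hAp, hA2⟩ := closure_pair_elemAb hd₁o hd₂o hcomm hnot
  set A := Subgroup.closure ({d₁, d₂} : Set G) with hA
  have hAS : A ≤ (S : Subgroup G) := by
    rw [hA, Subgroup.closure_le]
    intro x hx
    rcases hx with rfl | rfl
    · exact hd₁S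
    · exact hd₂S
  have hSM := h.sylow_le
  -- `W ≤ M` by coprime generation
  have hWM : W ≤ M := by
    refine Cfsg.Agent.Lib.Helper55.le_of_centralizers_le (p := p) hAc hAp hA2 hWc ?_
      (hAS.trans hSM) ?_
    · intro a _
      rw [Subgroup.mem_normalizer_iff]
      intro x
      constructor
      · intro hx; exact hWn.conj_mem x hx a
      · intro hx
        have := hWn.conj_mem _ hx a⁻¹
        simpa [mul_assoc] using this
    · intro a haA ha1
      refine inf_le_right.trans ?_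
      refine le_trans ?_ (h.normD (Subgroup.zpowers a) (Subgroup.zpowers_le.mpr (hAS haA)) ?_)
      · intro c hc
        rw [Subgroup.mem_normalizer_iff]
        have hca : c * a = a * c := by
          have := Subgroup.mem_centralizer_iff.mp hc a (Set.mem_singleton a)
          exact this.symm
        intro x
        have hcx : ∀ y ∈ Subgroup.zpowers a, c * y * c⁻¹ = y := by
          intro y hy
          obtain ⟨k, rfl⟩ := Subgroup.mem_zpowers_iff.mp hy
          have : Commute c (a ^ k) := (show Commute c a from hca).zpow_right k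
          rw [this.eq, mul_inv_cancel_right]
        constructor
        · intro hx; rw [hcx x hx]; exact hx
        · intro hx
          have h5 := hcx _ hx
          have h6 : c * x * c⁻¹ = x := by
            have : c * (c * x * c⁻¹) * c⁻¹ = c * x * c⁻¹ := h5
            have e : x = c⁻¹ * (c * x * c⁻¹) * c := by group
            rw [e]
            calc c * (c⁻¹ * (c * x * c⁻¹) * c) * c⁻¹ = c * x * c⁻¹ := by group
            _ = c⁻¹ * (c * (c * x * c⁻¹) * c⁻¹) * c := by group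
            _ = c⁻¹ * (c * x * c⁻¹) * c := by rw [this]
          rw [← h6]; exact hx
      · intro hbot
        apply ha1
        have : a ∈ Subgroup.zpowers a := Subgroup.mem_zpowers a
        rw [hbot] at this
        exact Subgroup.mem_bot.mp this
  -- `Y₂ ≤ M`
  have hY₂M : Y₂ ≤ M := by
    intro y hy
    apply h.mem_of_conj_mem hd₁S hd₁1
    have h1 : y * d₁ * y⁻¹ * d₁⁻¹ ∈ W := by
      have := hcommW (d₁) hd₁Y y⁻¹ (Y₂.inv_mem hy)
      -- `[d₁, y⁻¹] = d₁ y⁻¹ d₁⁻¹ y`; conjugate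
      have h2 := hWn.conj_mem _ this y
      have h3 := W.inv_mem h2
      have e : (y * (d₁ * y⁻¹ * d₁⁻¹ * y⁻¹⁻¹) * y⁻¹)⁻¹ = d₁ * y * d₁⁻¹ * y⁻¹ := by group
      rw [e] at h3
      have h4 := hWn.conj_mem _ h3 d₁⁻¹
      have h5 := W.inv_mem h4
      have e2 : (d₁⁻¹ * (d₁ * y * d₁⁻¹ * y⁻¹) * d₁⁻¹⁻¹)⁻¹ = d₁⁻¹ * y * d₁ * y⁻¹ := by group
      rw [e2] at h5
      have h6 := hWn.conj_mem _ h5 d₁
      have e3 : d₁ * (d₁⁻¹ * y * d₁ * y⁻¹) * d₁⁻¹ = y * d₁ * y⁻¹ * d₁⁻¹ := by group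
      rw [e3] at h6
      exact h6
    have : y * d₁ * y⁻¹ = (y * d₁ * y⁻¹ * d₁⁻¹) * d₁ := by group
    rw [this]
    exact M.mul_mem (hWM h1) (hSM hd₁S)
  -- `M = ⊤`
  apply hMtop
  rw [eq_top_iff]
  intro g _
  apply h.mem_of_conj_mem hd₂S hd₂1
  exact hY₂M (h₂n.conj_mem _ hd₂Y g)

end main

end Cfsg.Agent.Lib.Helper41
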