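import Cfsg.Agent.Lib.Helper41.SEmbB

set_option autoImplicit false

namespace Cfsg.Agent.Lib.Helper41

open Cfsg

variable {G : Type*} [Group G] {p : ℕ}

/-- **the least normal subgroup of order divisible by `p`** in a group whose Sylow graph is
disconnected -/
theorem exists_least_normal_of_not_isSylowChainConnected [Finite G] [Fact p.Prime]
    (hconn : ¬ Cfsg.IsSylowChainConnected p G) :
    ∃ X : Subgroup G, X.Normal ∧ p ∣ Nat.card X ∧
      ∀ Y : Subgroup G, Y.Normal → p ∣ Nat.card Y → X ≤ Y := by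
  classical
  obtain ⟨S⟩ : Nonempty (Sylow p G) := inferInstance
  obtain ⟨M, hMtop, hS, hM⟩ := exists_ne_top_of_not_isSylowChainConnected hconn S
  have hse : SEmb S M := ⟨hS, hM⟩
  have hSne : (S : Subgroup G) ≠ ⊥ := by
    intro hbot
    apply hMtop
    rw [eq_top_iff]
    refine le_trans ?_ hS
    rw [hbot]
    intro g _
    rw [Subgroup.mem_normalizer_iff]
    intro x
    simp only [Subgroup.mem_bot]
    constructor
    · intro hx; rw [hx]; group
    · intro hx
      have : x = g⁻¹ * (g * x * g⁻¹) * g := by group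
      rw [this, hx]; group
  have hpG : p ∣ Nat.card G := by
    obtain ⟨x, hx⟩ := (Subgroup.ne_bot_iff_exists_ne_one).mp hSne
    obtain ⟨k, hk⟩ := S.2 x
    have h1 : orderOf x ∣ p ^ k := orderOf_dvd_of_pow_eq_one hk
    have h2 : orderOf x ≠ 1 := by
      rw [Ne, orderOf_eq_one_iff]; exact hx
    obtain ⟨j, _, hj⟩ := (Nat.dvd_prime_pow Fact.out).mp h1
    have hj0 : j ≠ 0 := by
      intro h0; rw [h0, pow_zero] at hj; exact h2 hj
    have h3 : p ∣ orderOf x := by rw [hj]; exact dvd_pow_self p hj0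
    have h4 : orderOf x ∣ Nat.card G := by
      have := orderOf_dvd_natCard (x : G)
      rwa [Subgroup.orderOf_coe] at this
    exact h3.trans h4
  let 𝒮 : Set (Subgroup G) := {Y | Y.Normal ∧ p ∣ Nat.card Y}
  have hne : 𝒮.Nonempty :=
    ⟨⊤, inferInstance, by rw [Subgroup.card_top]; exact hpG⟩
  obtain ⟨X, hX, hmin⟩ :=
    WellFounded.has_min (measure (fun N : Subgroup G => Nat.card N)).wf 𝒮 hne
  refine ⟨X, hX.1, hX.2, ?_⟩
  intro Y hYn hYp
  have hXn : X.Normal := hX.1
  have h1 : p ∣ Nat.card (X ⊓ Y : Subgroup G) := hse.dvd_card_inf hMtop hX.2 hYp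
  have h2 : (X ⊓ Y : Subgroup G) ∈ 𝒮 := ⟨inferInstance, h1⟩
  have h3 := hmin _ h2
  have h4 : Nat.card X ≤ Nat.card (X ⊓ Y : Subgroup G) := by
    by_contra hlt
    push Not at hlt
    exact h3 hlt
  have h5 : X ⊓ Y = X := Subgroup.eq_of_le_of_card_ge inf_le_left h4
  rw [← h5]; exact inf_le_right

/-- **isolated case of the Alperin–Goldschmidt mid step**: if the Sylow graph of `N_G(H)/H` is
disconnected, there is a least normal subgroup `X` of `N_G(H)` containing `H` with `p ∣ |X : H|`. -/
theorem exists_least_normal_over [Finite G] [Fact p.Prime] (H : Subgroup G)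
    (hconn : ¬ Cfsg.IsSylowChainConnected p
      (↥(Subgroup.normalizer (H : Set G)) ⧸ H.subgroupOf (Subgroup.normalizer (H : Set G)))) :
    ∃ X : Subgroup G, H ≤ X ∧ X ≤ Subgroup.normalizer (H : Set G) ∧
      (X.subgroupOf (Subgroup.normalizer (H : Set G))).Normal ∧ p ∣ H.relIndex X ∧
      ∀ Y : Subgroup G, H ≤ Y → Y ≤ Subgroup.normalizer (H : Set G) →
        (Y.subgroupOf (Subgroup.normalizer (H : Set G))).Normal → p ∣ H.relIndex Y → X ≤ Y := by
  set N := Subgroup.normalizer (H : Set G) with hN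
  set H' := H.subgroupOf N with hH'
  set π := QuotientGroup.mk' H' with hπ
  have hπs : Function.Surjective π := QuotientGroup.mk'_surjective H'
  have hker : π.ker = H' := QuotientGroup.ker_mk' H'
  have hHN : H ≤ N := Subgroup.le_normalizer
  -- cardinality of the image
  have hcard : ∀ Y : Subgroup G, H ≤ Y → Y ≤ N →
      Nat.card ((Y.subgroupOf N).map π) = H.relIndex Y := by
    intro Y hHY hYN
    rw [← Subgroup.relIndex_ker, hker, hH', Subgroup.relIndex_subgroupOf hYN]
  obtain ⟨Xb, hXbn, hXbp, hXbmin⟩ := exists_least_normal_of_not_isSylowChainConnected hconn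
  set X' : Subgroup ↥N := Xb.comap π with hX'
  have hH'X' : H' ≤ X' := by
    rw [← hker]; exact Subgroup.ker_le_comap π Xb
  set X : Subgroup G := X'.map N.subtype with hX
  have hXN : X ≤ N := Subgroup.map_subtype_le _
  have hXsub : X.subgroupOf N = X' :=
    Subgroup.comap_map_eq_self_of_injective N.subtype_injective _
  have hHX : H ≤ X := by
    intro h hh
    exact ⟨⟨h, hHN hh⟩, hH'X' (by simpa [hH', Subgroup.mem_subgroupOf] using hh), rfl⟩
  have hXmap : (X.subgroupOf N).map π = Xb := by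
    rw [hXsub, hX', Subgroup.map_comap_eq_self_of_surjective hπs]
  refine ⟨X, hHX, hXN, ?_, ?_, ?_⟩
  · rw [hXsub, hX']
    exact hXbn.comap π
  · rw [← hcard X hHX hXN, hXmap]; exact hXbp
  · intro Y hHY hYN hYn hYp
    have h1 : ((Y.subgroupOf N).map π).Normal := hYn.map π hπs
    have h2 : p ∣ Nat.card ((Y.subgroupOf N).map π) := by rw [hcard Y hHY hYN]; exact hYp
    have h3 : Xb ≤ (Y.subgroupOf N).map π := hXbmin _ h1 h2
    have h4 : X' ≤ Y.subgroupOf N := by
      have := Subgroup.comap_mono (f := π) h3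
      rw [Subgroup.comap_map_eq, hker] at this
      have hle : H' ≤ Y.subgroupOf N := Subgroup.comap_mono hHY
      rwa [sup_eq_left.mpr hle] at this
    rintro _ ⟨x, hx, rfl⟩
    have := h4 hx
    rwa [Subgroup.mem_subgroupOf] at this

end Cfsg.Agent.Lib.Helper41
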