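import Mathlib
import Cfsg.Prelude.Def_GeometricClasses
import Cfsg.Agent.Lib.Helper95.Transvection

/-!
# K-SLMax-N3: `SL_n` (n ≥ 3) does not normalise a field subalgebra of degree ≥ 2
-/

set_option autoImplicit false

namespace Cfsg.Agent.Lib.Helper41.SLMax

open Cfsg Cfsg.Geo Cfsg.Agent.Lib.Helper95
open scoped Matrix MatrixGroups

variable {F : Type*} [Field F] {n : ℕ}

/-- a matrix for which every vector is an eigenvector is scalar. -/
theorem n3_scalar_of_forall_mem_span (k : Matrix (Fin n) (Fin n) F)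
    (h : ∀ v : Fin n → F, k *ᵥ v ∈ Submodule.span F {v}) : ∃ c : F, k = c • (1 : Matrix (Fin n) (Fin n) F) := by
  classical
  rcases Nat.eq_zero_or_pos n with hn | hn
  · subst hn
    exact ⟨0, by ext i; exact i.elim0⟩
  -- eigenvalue on each basis vector
  have hc : ∀ v : Fin n → F, ∃ c : F, k *ᵥ v = c • v := by
    intro v
    obtain ⟨c, hc⟩ := Submodule.mem_span_singleton.mp (h v)
    exact ⟨c, hc.symm⟩
  choose c hcv using hc
  have hcol : ∀ i a : Fin n, k a i = c (Pi.single i 1) * (if a = i then 1 else 0) := by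
    intro i a
    have := congrFun (hcv (Pi.single i 1)) a
    simpa [Matrix.mulVec_single_one, Pi.single_apply] using this
  have hoff : ∀ i a : Fin n, a ≠ i → k a i = 0 := by
    intro i a hai
    rw [hcol i a, if_neg hai, mul_zero]
  have hdiag : ∀ i : Fin n, k i i = c (Pi.single i 1) := by
    intro i
    rw [hcol i i, if_pos rfl, mul_one]
  have heq : ∀ i j : Fin n, k i i = k j j := by
    intro i j
    by_cases hij : i = j
    · rw [hij]
    have h1 := hcv (Pi.single i 1 + Pi.single j 1)
    have hi := congrFun h1 i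
    have hj := congrFun h1 j
    rw [Matrix.mulVec_add] at hi hj
    simp only [Matrix.mulVec_single_one, Pi.add_apply, Pi.smul_apply, Pi.single_apply, smul_eq_mul,
      Matrix.col_apply] at hi hj
    rw [hoff j i hij] at hi
    rw [hoff i j (Ne.symm hij)] at hj
    simp [hij] at hi
    simp [Ne.symm hij] at hj
    rw [hi, hj]
  refine ⟨k ⟨0, hn⟩ ⟨0, hn⟩, ?_⟩
  ext a i
  by_cases hai : a = i
  · subst hai
    simp [heq a ⟨0, hn⟩]
  · rw [hoff i a hai]
    simp [Matrix.one_apply_ne hai]

/-- a subalgebra all of whose elements are scalar has finrank at most one. -/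
theorem n3_exists_not_scalar {r : ℕ} (hr : 2 ≤ r) (K : Subalgebra F (Matrix (Fin n) (Fin n) F))
    (hK : Module.finrank F K = r) :
    ∃ k ∈ K, ¬ ∃ c : F, k = c • (1 : Matrix (Fin n) (Fin n) F) := by
  by_contra hcon
  push Not at hcon
  have hle : Subalgebra.toSubmodule K ≤ Submodule.span F {(1 : Matrix (Fin n) (Fin n) F)} := by
    intro x hx
    obtain ⟨c, hc⟩ := hcon x hx
    rw [hc]
    exact Submodule.smul_mem _ _ (Submodule.mem_span_singleton_self _)
  have h1 : Module.finrank F (Subalgebra.toSubmodule K) ≤ 1 :=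
    (Submodule.finrank_mono hle).trans ((finrank_span_le_card ({(1 : Matrix (Fin n) (Fin n) F)} : Set _)).trans (by simp))
  have h2 : Module.finrank F (Subalgebra.toSubmodule K) = r := hK
  omega

theorem sl_not_le_subalgebraNormalizer [Fintype F] (hn : 3 ≤ n) {r : ℕ} (hr : 2 ≤ r)
    (K : Subalgebra F (Matrix (Fin n) (Fin n) F)) (hK : IsFieldSubalgebra r K) :
    ¬ specialLinear (Fin n) F ≤ subalgebraNormalizer K := by
  classical
  intro hSL
  obtain ⟨k, hkK, hks⟩ := n3_exists_not_scalar hr K hK.finrank_eq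
  -- a vector that is not an eigenvector
  obtain ⟨v, hv⟩ : ∃ v : Fin n → F, k *ᵥ v ∉ Submodule.span F {v} := by
    by_contra hcon
    push Not at hcon
    exact hks (n3_scalar_of_forall_mem_span k hcon)
  have hv0 : v ≠ 0 := by
    rintro rfl
    apply hv
    rw [Matrix.mulVec_zero]
    exact Submodule.zero_mem _
  obtain ⟨φ, hφS, hφk⟩ := exists_dotProduct_separating (Submodule.span F {v}) (k *ᵥ v) hv
  have hφv : φ ⬝ᵥ v = 0 := hφS v (Submodule.mem_span_singleton_self v)
  have htN := hSL (tvGL_mem_specialLinear φ v hφv)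
  have hmem : tvMat φ v * k * tvMat φ (-v) ∈ K := (htN k).mp hkK
  set D : Matrix (Fin n) (Fin n) F := tvMat φ v * k * tvMat φ (-v) - k with hD
  have hDK : D ∈ K := K.sub_mem hmem hkK
  -- the action of `D`
  have hDx : ∀ x : Fin n → F, D *ᵥ x = (-(φ ⬝ᵥ x)) • (k *ᵥ v) + (φ ⬝ᵥ (k *ᵥ x) - φ ⬝ᵥ x) • v := by
    intro x
    rw [hD, Matrix.sub_mulVec, ← Matrix.mulVec_mulVec, ← Matrix.mulVec_mulVec, tvMat_mulVec φ (-v) x,
      Matrix.mulVec_add, Matrix.mulVec_smul, Matrix.mulVec_neg, tvMat_mulVec, dotProduct_add,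
      dotProduct_smul, dotProduct_neg, hφk]
    simp only [smul_eq_mul, mul_neg, mul_one, smul_neg, neg_smul, add_smul, sub_smul]
    abel
  have hDv : D *ᵥ v = v := by
    rw [hDx v, hφv, hφk]
    simp
  have hD0 : D ≠ 0 := by
    intro h0
    rw [h0, Matrix.zero_mulVec] at hDv
    exact hv0 hDv.symm
  obtain ⟨y, -, hy⟩ := hK.inv D hDK hD0
  -- every vector lies in the span of `v` and `k v`
  have htop : (⊤ : Submodule F (Fin n → F)) ≤ Submodule.span F {v, k *ᵥ v} := by
    intro x _
    have hx : x = D *ᵥ (y *ᵥ x) := by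
      rw [Matrix.mulVec_mulVec, hy, Matrix.one_mulVec]
    rw [hx, hDx]
    refine Submodule.add_mem _ (Submodule.smul_mem _ _ (Submodule.subset_span ?_))
      (Submodule.smul_mem _ _ (Submodule.subset_span ?_))
    · exact Set.mem_insert_of_mem _ rfl
    · exact Set.mem_insert _ _
  have h1 : Module.finrank F (⊤ : Submodule F (Fin n → F)) ≤
      Module.finrank F (Submodule.span F ({v, k *ᵥ v} : Set (Fin n → F))) := Submodule.finrank_mono htop
  have h2 : Module.finrank F (Submodule.span F ({v, k *ᵥ v} : Set (Fin n → F))) ≤ 2 := by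
    have := finrank_span_finset_le_card (R := F) ({v, k *ᵥ v} : Finset (Fin n → F))
    have hc : ({v, k *ᵥ v} : Finset (Fin n → F)).card ≤ 2 := Finset.card_le_two
    have hcoe : ((({v, k *ᵥ v} : Finset (Fin n → F)) : Set (Fin n → F))) = {v, k *ᵥ v} := by
      simp
    rw [hcoe] at this
    unfold Set.finrank at this
    omega
  rw [finrank_top, Module.finrank_fin_fun] at h1
  omega

end Cfsg.Agent.Lib.Helper41.SLMax
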