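import Mathlib
import Cfsg.Agent.Lib.Helper07.PSLnD

set_option autoImplicit false

namespace Cfsg.Agent.Lib.Helper41.SLn

open Matrix Cfsg.Agent.Lib.Helper07

variable {n : ℕ} {F : Type*} [Field F]

/-- the strictly upper positions where `u` is nonzero -/
noncomputable def usupp (u : SpecialLinearGroup (Fin n) F) : Finset (Fin n × Fin n) :=
  open Classical in
  Finset.univ.filter (fun q : Fin n × Fin n =>
    q.1 < q.2 ∧ (u : Matrix (Fin n) (Fin n) F) q.1 q.2 ≠ 0)

theorem mem_usupp {u : SpecialLinearGroup (Fin n) F} {q : Fin n × Fin n} :
    q ∈ usupp u ↔ q.1 < q.2 ∧ (u : Matrix (Fin n) (Fin n) F) q.1 q.2 ≠ 0 := by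
  classical
  simp [usupp]

theorem UT_closure_aux : ∀ (k : ℕ) (u : SpecialLinearGroup (Fin n) F), u ∈ UT n F →
    (usupp u).card = k →
    u ∈ Subgroup.closure
      {A : SpecialLinearGroup (Fin n) F | ∃ i j : Fin n, i < j ∧ ∃ t : F, A = xe i j t} := by
  classical
  intro k
  induction k using Nat.strong_induction_on with
  | _ k ih =>
    intro u hu hk
    obtain ⟨hlow, hdiag⟩ := mem_UT.mp hu
    by_cases hne : (usupp u).Nonempty
    · obtain ⟨q, hq, hmax⟩ := Finset.exists_max_image (usupp u) (fun q => q.1) hne
      obtain ⟨i, j⟩ := q
      obtain ⟨hij, huij⟩ := mem_usupp.mp hq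
      simp only at hij huij hmax
      -- row `j` of `u` is the row of the identity
      have hrow : ∀ b : Fin n, (u : Matrix (Fin n) (Fin n) F) j b = if b = j then 1 else 0 := by
        intro b
        rcases lt_trichotomy b j with h | h | h
        · rw [if_neg h.ne, hlow j b h]
        · rw [if_pos h, h, hdiag]
        · rw [if_neg h.ne']
          by_contra hnz
          have hmem : (j, b) ∈ usupp u := mem_usupp.mpr ⟨h, hnz⟩
          have := hmax (j, b) hmem
          simp only at this
          exact absurd hij (not_lt.mpr this)
      set c : F := -(u : Matrix (Fin n) (Fin n) F) i j with hc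
      set v : SpecialLinearGroup (Fin n) F := xe i j c * u with hv
      have hvUT : v ∈ UT n F := (UT n F).mul_mem (xe_mem_UT hij c) hu
      have hventry : ∀ a b : Fin n, (v : Matrix (Fin n) (Fin n) F) a b =
          (u : Matrix (Fin n) (Fin n) F) a b + if a = i ∧ b = j then c else 0 := by
        intro a b
        rw [hv, Matrix.SpecialLinearGroup.coe_mul, xe_val hij.ne, Matrix.add_mul, Matrix.one_mul,
          Matrix.add_apply]
        congr 1
        rw [Matrix.mul_apply]
        by_cases ha : a = i
        · subst ha
          rw [Finset.sum_eq_single j]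
          · rw [Matrix.single_apply_same, hrow b]
            by_cases hb : b = j
            · simp [hb]
            · simp [hb]
          · intro l _ hl
            rw [Matrix.single_apply, if_neg (fun h => hl h.2.symm), zero_mul]
          · intro h; exact absurd (Finset.mem_univ j) h
        · rw [Finset.sum_eq_zero]
          · simp [ha]
          · intro l _
            rw [Matrix.single_apply, if_neg (fun h => ha h.1.symm), zero_mul]
      have hsupp : usupp v = (usupp u).erase (i, j) := by
        ext ⟨a, b⟩
        rw [Finset.mem_erase, mem_usupp, mem_usupp, hventry]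
        simp only
        by_cases hab : a = i ∧ b = j
        · obtain ⟨rfl, rfl⟩ := hab
          simp [hc]
        · rw [if_neg hab, add_zero]
          have : (a, b) ≠ (i, j) := by
            intro h
            apply hab
            exact ⟨congrArg Prod.fst h, congrArg Prod.snd h⟩
          simp [this]
      have hcard : (usupp v).card < k := by
        rw [hsupp, Finset.card_erase_of_mem hq, hk]
        have : 0 < (usupp u).card := Finset.card_pos.mpr hne
        omega
      have hvcl := ih _ hcard v hvUT rfl
      have hxe : xe i j c ∈ Subgroup.closure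
          {A : SpecialLinearGroup (Fin n) F | ∃ i j : Fin n, i < j ∧ ∃ t : F, A = xe i j t} :=
        Subgroup.subset_closure ⟨i, j, hij, c, rfl⟩
      have : u = (xe i j c)⁻¹ * v := by rw [hv]; group
      rw [this]
      exact Subgroup.mul_mem _ (Subgroup.inv_mem _ hxe) hvcl
    · rw [Finset.not_nonempty_iff_eq_empty] at hne
      have : u = 1 := by
        apply sl_ext
        ext a b
        rw [Matrix.SpecialLinearGroup.coe_one]
        rcases lt_trichotomy b a with h | h | h
        · rw [hlow a b h, Matrix.one_apply_ne h.ne']
        · rw [h, hdiag, Matrix.one_apply_eq]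
        · rw [Matrix.one_apply_ne h.ne]
          by_contra hnz
          have hmem : (a, b) ∈ usupp u := mem_usupp.mpr ⟨h, hnz⟩
          rw [hne] at hmem
          exact absurd hmem (Finset.notMem_empty _)
      rw [this]
      exact Subgroup.one_mem _

/-- **K-S5163-A**: the unitriangular group is generated by the elementary matrices `x_ij(t)`, `i < j`. -/
theorem UT_le_closure_xe :
    UT n F ≤ Subgroup.closure
      {A : SpecialLinearGroup (Fin n) F | ∃ i j : Fin n, i < j ∧ ∃ t : F, A = xe i j t} := by
  intro u hu
  exact UT_closure_aux _ u hu rfl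

end Cfsg.Agent.Lib.Helper41.SLn
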