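import Mathlib
import Cfsg.Agent.Lib.Helper07.PSLnD

set_option autoImplicit false

namespace Cfsg.Agent.Lib.Helper41.SLn

open Matrix Cfsg.Agent.Lib.Helper07

variable {n : ℕ} {F : Type*} [Field F]

/-- entries of the conjugate `g x_ij(1) g⁻¹` -/
theorem conj_xe_one_apply (g : SpecialLinearGroup (Fin n) F) {i j : Fin n} (hij : i ≠ j)
    (r s : Fin n) :
    ((g * xe i j 1 * g⁻¹ : SpecialLinearGroup (Fin n) F) : Matrix (Fin n) (Fin n) F) r s =
      (1 : Matrix (Fin n) (Fin n) F) r s +
        (g : Matrix (Fin n) (Fin n) F) r i * ((g⁻¹ : SpecialLinearGroup (Fin n) F) :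
          Matrix (Fin n) (Fin n) F) j s := by
  have h0 : (eb j : Fin n → F) ⬝ᵥ ((1 : F) • eb i) = 0 := by
    rw [dotProduct_smul, eb_dot_eb_of_ne hij.symm, smul_zero]
  have hgg' : (g⁻¹).val * g.val = 1 := by
    rw [← Matrix.SpecialLinearGroup.coe_mul, inv_mul_cancel]; rfl
  have h' : ((eb j : Fin n → F) ᵥ* (g⁻¹).val) ⬝ᵥ (g.val *ᵥ ((1 : F) • eb i)) = 0 := by
    rw [dotProduct_mulVec, vecMul_vecMul, hgg', vecMul_one, h0]
  unfold xe
  rw [tv_conj g h0, tv_val h']
  unfold tvM
  rw [Matrix.add_apply, vecMulVec_apply]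
  congr 1
  congr 1
  · rw [one_smul]
    unfold eb
    rw [Matrix.mulVec_single_one]
    rfl
  · unfold eb
    rw [Matrix.single_one_vecMul]
    rfl

/-- **K-S5163-B**: an element of `SL_n` conjugating the unitriangular group into itself is upper
triangular. -/
theorem upper_of_conj_mem_UT (g : SpecialLinearGroup (Fin n) F)
    (h : ∀ u ∈ UT n F, g * u * g⁻¹ ∈ UT n F) :
    ∀ r i : Fin n, i < r → (g : Matrix (Fin n) (Fin n) F) r i = 0 := by
  classical
  intro r i hir
  by_contra hne
  set M : Matrix (Fin n) (Fin n) F := ((g⁻¹ : SpecialLinearGroup (Fin n) F) :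
    Matrix (Fin n) (Fin n) F) with hM
  -- `g r i * M j s = 0` for `i < j`, `s ≤ r`
  have hz : ∀ j s : Fin n, i < j → s ≤ r → M j s = 0 := by
    intro j s hij hsr
    have hmem := h _ (xe_mem_UT hij (1 : F))
    obtain ⟨hlow, hdiag⟩ := mem_UT.mp hmem
    have hprod : (g : Matrix (Fin n) (Fin n) F) r i * M j s = 0 := by
      rcases lt_or_eq_of_le hsr with hlt | heq
      · have := hlow r s hlt
        rw [conj_xe_one_apply g hij.ne, Matrix.one_apply_ne hlt.ne', zero_add] at this
        exact this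
      · have := hdiag r
        rw [conj_xe_one_apply g hij.ne, Matrix.one_apply_eq] at this
        rw [heq]
        exact add_eq_left.mp this
    rcases mul_eq_zero.mp hprod with h1 | h1
    · exact absurd h1 hne
    · exact h1
  have hdet : M.det = 1 := (g⁻¹).2
  have hblock := Matrix.twoBlockTriangular_det M (fun k => k ≤ i)
    (by
      intro j hj s hs
      exact hz j s (not_le.mp hj) (hs.trans hir.le))
  have hzero : (toSquareBlockProp M fun k => ¬ k ≤ i).det = 0 := by
    apply Matrix.det_eq_zero_of_column_eq_zero ⟨r, not_le.mpr hir⟩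
    intro j
    exact hz j.1 r (not_le.mp j.2) le_rfl
  rw [hzero, mul_zero] at hblock
  rw [hblock] at hdet
  exact zero_ne_one hdet

end Cfsg.Agent.Lib.Helper41.SLn
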