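import Cfsg.Agent.Lib.Helper41.SchmidtPLDefs
import Cfsg.Agent.Lib.Helper74.SPLSA1
import Cfsg.Agent.Lib.Helper87.SPLSA2
import Cfsg.Agent.Lib.Helper79.SPLSA3a
import Cfsg.Agent.Lib.Helper12.SPLSA3b
import Cfsg.Agent.Lib.Helper19.SPLSA3c
import Cfsg.Agent.Lib.Helper12.SPLSA4a
import Cfsg.Agent.Lib.Helper26.SPLSA4b
import Cfsg.Agent.Lib.Helper01.SPLSA4c
import Cfsg.Agent.Lib.Helper19.SPLSA4d
import Cfsg.Agent.Lib.Helper93.SPLISO
import Cfsg.Agent.Lib.Helper93.SPLISOQ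
import Cfsg.Agent.Lib.Helper19.SPLG1
import Cfsg.Agent.Lib.Helper19.SPLG2
import Cfsg.Agent.Lib.Helper19.SPLG4
import Cfsg.Agent.Lib.Helper87.SPLM2
import Cfsg.Agent.Lib.Helper87.SPLM3a
import Cfsg.Agent.Lib.Helper64.SPLM3b
import Cfsg.Agent.Lib.Helper26.SPLG3a
import Cfsg.Agent.Lib.Helper19.SPLG3b
import Cfsg.Agent.Lib.Helper26.SPLG3c
import Cfsg.Agent.Lib.Helper67.PLen3
import Cfsg.Agent.Lib.Helper81.PSolvable
import Cfsg.Agent.Lib.Helper81.Cores
import Cfsg.Agent.Lib.Helper02.HHDual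
import Cfsg.Agent.Lib.Helper32.HHBridge
import Cfsg.Agent.Lib.Helper53.PReduced2

/-!
# S4394: the main argument (glue), helper41
-/

set_option autoImplicit false

namespace Cfsg.Agent.Lib.Helper41.SchmidtPL

open Cfsg
open Cfsg.Agent.Lib.Helper32.HHBridge
open scoped commutatorElement

universe u

/-- if `⁅x, g⁆` commutes with `x` then `⁅x ^ n, g⁆ = ⁅x, g⁆ ^ n` -/
theorem commElem_pow_left {G : Type*} [Group G] (x g : G)
    (hc : ⁅x, g⁆ * x = x * ⁅x, g⁆) (n : ℕ) : ⁅x ^ n, g⁆ = ⁅x, g⁆ ^ n := by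
  induction n with
  | zero => simp [commutatorElement_def]
  | succ n ih =>
    have h1 : ⁅x ^ (n + 1), g⁆ = x * ⁅x ^ n, g⁆ * x⁻¹ * ⁅x, g⁆ := by
      simp only [commutatorElement_def, pow_succ']
      group
    rw [h1, ih]
    have h2 : x * ⁅x, g⁆ ^ n * x⁻¹ = ⁅x, g⁆ ^ n := by
      have : Commute x ⁅x, g⁆ := hc.symm
      have h3 := (this.pow_right n).eq
      rw [h3, mul_inv_cancel_right]
    rw [h2, ← pow_succ]

/-- in a group of Schmidt type, `p`-th powers are central -/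
theorem SchmidtIn.pow_mem_zIn {W : Type*} [Group W] {p : ℕ} {Q : Subgroup W} (h : SchmidtIn p Q)
    {x : W} (hx : x ∈ Q) : x ^ p ∈ zIn Q := by
  rw [mem_zIn]
  refine ⟨Q.pow_mem hx p, fun g hg => ?_⟩
  have hz : ⁅x, g⁆ ∈ zIn Q := h.class2 x hx g hg
  have hc : ⁅x, g⁆ * x = x * ⁅x, g⁆ := ((mem_zIn.1 hz).2 x hx).symm
  have h1 : ⁅x ^ p, g⁆ = 1 := by
    rw [commElem_pow_left x g hc p, h.expZ _ hz]
  rw [commutatorElement_def] at h1
  -- x^p g (x^p)⁻¹ g⁻¹ = 1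
  have h2 : x ^ p * g = g * x ^ p := by
    have := congrArg (fun t => t * g * x ^ p) h1
    simpa [mul_assoc] using this
  exact h2.symm

/-- **the main argument**: the counterexample situation `WCtx` is contradictory -/
theorem wctx_false {W : Type u} [Group W] [Finite W] {p : ℕ} [hp : Fact p.Prime]
    (hHH : ∀ (M : Type u) [AddCommGroup M] [Module (ZMod p) M] [FiniteDimensional (ZMod p) M]
      [Nontrivial M], HHBStmt p (ZMod p) M)
    (hW : IsPSolvable p W) (Q : Sylow p W) (h : WCtx p (Q : Subgroup W)) : False := by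
  classical
  have hpp : p.Prime := hp.out
  obtain ⟨hZY, hYH, hYcH, hYexp⟩ := Cfsg.Agent.Lib.Helper19.SPL.yOf_facts h
  have hC := Cfsg.Agent.Lib.Helper19.SPL.centralizer_yOf_le h ⟨hZY, hYH, hYcH, hYexp⟩
  have hS := h.schm
  set Q0 : Subgroup W := (Q : Subgroup W) with hQ0
  set H : Subgroup W := pCore p W with hH
  set Y : Subgroup W := yOf Q0 with hYdef
  haveI hYn : Y.Normal := by
    rw [hYdef]; unfold yOf; exact Subgroup.normalClosure_normal
  have hYQ : Y ≤ Q0 := hYH.trans h.le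
  have hZQ : zIn Q0 ≤ Q0 := fun z hz => (mem_zIn.1 hz).1
  -- the action
  let ψ : W →* MulAut ↥Y := MulAut.conjNormal
  have hψ : ∀ (g : W) (y : ↥Y), ((ψ g y : ↥Y) : W) = g * y * g⁻¹ := fun g y =>
    MulAut.conjNormal_apply g y
  have hker : ψ.ker = Subgroup.centralizer (Y : Set W) := by
    ext g
    rw [MonoidHom.mem_ker, Subgroup.mem_centralizer_iff]
    constructor
    · intro hg y hy
      have h1 : ((ψ g ⟨y, hy⟩ : ↥Y) : W) = y := by rw [hg]; rfl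
      rw [hψ] at h1
      calc y * g = (g * y * g⁻¹) * g := by rw [h1]
        _ = g * y := by group
    · intro hg
      ext y
      rw [hψ]
      have h1 := hg y.1 y.2
      show g * (y : W) * g⁻¹ = y
      rw [← h1]; group
  have hmemker : ∀ g : W, g ∈ ψ.ker ↔ ∀ y ∈ Y, g * y = y * g := by
    intro g
    rw [hker, Subgroup.mem_centralizer_iff]
    exact ⟨fun hg y hy => (hg y hy).symm, fun hg y hy => (hg y hy).symm⟩
  let φ : (W ⧸ ψ.ker) →* MulAut ↥Y := QuotientGroup.kerLift ψ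
  have hφ : Function.Injective φ := QuotientGroup.kerLift_injective ψ
  let π : W →* (W ⧸ ψ.ker) := QuotientGroup.mk' ψ.ker
  have hπs : Function.Surjective π := QuotientGroup.mk'_surjective _
  have hφπ : ∀ g : W, φ (π g) = ψ g := fun g => QuotientGroup.kerLift_mk ψ g
  have hπker : π.ker = ψ.ker := QuotientGroup.ker_mk' _
  have hΓsol : IsPSolvable p (W ⧸ ψ.ker) := Cfsg.Agent.Lib.Helper81.IsPSolvable.quotient hpp hW _
  -- the image of `Q`
  set A : Subgroup (W ⧸ ψ.ker) := Q0.map π with hA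
  have hAsyl : ((Q.mapSurjective hπs : Sylow p (W ⧸ ψ.ker)) : Subgroup (W ⧸ ψ.ker)) = A :=
    Sylow.coe_mapSurjective hπs Q
  -- `O_p(Γ) = 1`
  have hΓOp : pCore p (W ⧸ ψ.ker) = ⊥ := by
    have hB'A : pCore p (W ⧸ ψ.ker) ≤ A := by
      rw [← hAsyl]
      exact Cfsg.Agent.Lib.Helper53.pCore_le_sylow _
    haveI hB'n : (pCore p (W ⧸ ψ.ker)).Normal := Cfsg.Agent.Lib.Helper81.pCore_normal p
    have hBn : ((pCore p (W ⧸ ψ.ker)).comap π).Normal := inferInstance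
    have hBle : (pCore p (W ⧸ ψ.ker)).comap π ≤ Q0 ⊔ Subgroup.centralizer (yOf Q0 : Set W) := by
      calc (pCore p (W ⧸ ψ.ker)).comap π ≤ A.comap π := Subgroup.comap_mono hB'A
        _ = Q0 ⊔ π.ker := Subgroup.comap_map_eq π Q0
        _ = Q0 ⊔ Subgroup.centralizer (yOf Q0 : Set W) := by rw [hπker, hker]
    have hB := Cfsg.Agent.Lib.Helper19.SPL.normal_le_centralizer_yOf _ hBn hBle
    rw [← Subgroup.map_comap_eq_self_of_surjective hπs (pCore p (W ⧸ ψ.ker))]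
    rw [eq_bot_iff]
    rintro _ ⟨b, hb, rfl⟩
    rw [Subgroup.mem_bot]
    have : b ∈ π.ker := by rw [hπker, hker]; exact hB hb
    exact this
  -- the centre of `Q` inside `↥Y`
  set Z' : Subgroup ↥Y := (zIn Q0).subgroupOf Y with hZ'
  have hmemZ' : ∀ y : ↥Y, y ∈ Z' ↔ (y : W) ∈ zIn Q0 := fun y => Subgroup.mem_subgroupOf
  have hZker : zIn Q0 ≤ ψ.ker := by
    intro z hz
    rw [hmemker]
    intro y hy
    exact ((mem_zIn.1 hz).2 y (hYQ hy)).symm
  have hfix : ∀ a ∈ A, ∀ z ∈ Z', φ a z = z := by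
    rintro _ ⟨q, hq, rfl⟩ z hz
    rw [hφπ]
    apply Subtype.ext
    rw [hψ]
    have h1 := (mem_zIn.1 ((hmemZ' z).1 hz)).2 q hq
    rw [h1]; group
  have hcomm : ∀ a ∈ A, ∀ y : ↥Y, φ a y * y⁻¹ ∈ Z' := by
    rintro _ ⟨q, hq, rfl⟩ y
    rw [hφπ, hmemZ']
    have h1 : ((ψ q y * y⁻¹ : ↥Y) : W) = ⁅q, (y : W)⁆ := by
      rw [Subgroup.coe_mul, hψ, Subgroup.coe_inv, commutatorElement_def]
    rw [h1]
    exact hS.class2 q hq y (hYQ y.2)
  have hdich : ∀ V : Subgroup ↥Y, (∀ a ∈ A, ∀ v ∈ V, φ a v ∈ V) → V ≤ Z' ∨ Z' ≤ V := by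
    intro V hV
    by_cases hVZ : V ≤ Z'
    · exact Or.inl hVZ
    right
    obtain ⟨v, hvV, hvZ⟩ := SetLike.not_le_iff_exists.1 hVZ
    intro z hz
    have hvZ' : (v : W) ∉ zIn Q0 := fun hc => hvZ ((hmemZ' v).2 hc)
    obtain ⟨g, hg, hgz⟩ := hS.camina v (hYQ v.2) hvZ' z ((hmemZ' z).1 hz)
    have h1 : φ (π g) v ∈ V := hV _ ⟨g, hg, rfl⟩ v hvV
    have h2 : v * (φ (π g) v)⁻¹ ∈ V := V.mul_mem hvV (V.inv_mem h1)
    have h3 : v * (φ (π g) v)⁻¹ = z := by
      apply Subtype.ext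
      rw [Subgroup.coe_mul, Subgroup.coe_inv, hφπ, hψ, ← hgz, commutatorElement_def]
      group
    rwa [h3] at h2
  have hZ1 : Z' ≠ ⊥ := by
    obtain ⟨x, hx, y, hy, hxy⟩ := hS.nonab
    have hc : ⁅x, y⁆ ∈ zIn Q0 := hS.class2 x hx y hy
    have hc1 : ⁅x, y⁆ ≠ 1 := by
      intro h1
      apply hxy
      rw [commutatorElement_def] at h1
      have := congrArg (fun t => t * y * x) h1
      simpa [mul_assoc] using this
    intro hbot
    have h2 : (⟨⁅x, y⁆, hZY hc⟩ : ↥Y) ∈ Z' := (hmemZ' _).2 hc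
    rw [hbot, Subgroup.mem_bot] at h2
    exact hc1 (congrArg Subtype.val h2)
  have hQH : (∀ g ∈ Q0, ∀ y ∈ Y, g * y = y * g) → False := by
    intro hall
    exact h.lt (fun g hg => hC g hg (hall g hg))
  have hZtop : Z' ≠ ⊤ := by
    intro htop
    apply hQH
    intro g hg y hy
    have h1 : (⟨y, hy⟩ : ↥Y) ∈ Z' := by rw [htop]; trivial
    exact (mem_zIn.1 ((hmemZ' _).1 h1)).2 g hg
  have hYc : ∀ x y : ↥Y, x * y = y * x := by
    intro x y
    apply Subtype.ext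
    rw [Subgroup.coe_mul, Subgroup.coe_mul]
    exact hYcH x.1 x.2 y.1 (hYH y.2)
  have hexpY' : ∀ y : ↥Y, y ^ p = 1 := by
    intro y
    apply Subtype.ext
    rw [Subgroup.coe_pow, Subgroup.coe_one]
    exact hYexp y.1 y.2
  have hAab : ∀ a ∈ A, ∀ b ∈ A, a * b = b * a := by
    rintro _ ⟨q, hq, rfl⟩ _ ⟨q', hq', rfl⟩
    rw [← map_mul, ← map_mul]
    show ((q * q' : W) : W ⧸ ψ.ker) = ((q' * q : W) : W ⧸ ψ.ker)
    rw [QuotientGroup.eq]
    apply hZker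
    have h1 : (q * q')⁻¹ * (q' * q) = ⁅q'⁻¹, q⁻¹⁆ := by
      rw [commutatorElement_def]; group
    rw [h1]
    exact hS.class2 _ (Q0.inv_mem hq') _ (Q0.inv_mem hq)
  have hAexp : ∀ a ∈ A, a ^ p = 1 := by
    rintro _ ⟨q, hq, rfl⟩
    rw [← map_pow]
    show ((q ^ p : W) : W ⧸ ψ.ker) = 1
    rw [QuotientGroup.eq_one_iff]
    exact hZker (hS.pow_mem_zIn hq)
  have hπ1 : ∀ g ∈ Q0, π g = 1 → g ∈ H := by
    intro g hg h1
    have h2 : g ∈ ψ.ker := by
      rw [← hπker]; exact h1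
    exact hC g hg ((hmemker g).1 h2)
  have hA1 : A ≠ ⊥ := by
    intro hbot
    apply h.lt
    intro g hg
    apply hπ1 g hg
    have h1 : π g ∈ A := ⟨g, hg, rfl⟩
    rwa [hbot, Subgroup.mem_bot] at h1
  have hT := Cfsg.Agent.Lib.Helper02.HHDual.centralizer_pPrimeCore_le hΓsol hΓOp
  -- the module lemma: `|A| = p`
  have hM2 : ∀ T0 : Subgroup (W ⧸ ψ.ker), (Nat.card T0).Coprime p → T0 ≠ ⊥ →
      (∀ a ∈ A, ∀ t ∈ T0, a * t * a⁻¹ ∈ T0) → ∀ y : ↥Y, (∀ t ∈ T0, φ t y = y) → y = 1 :=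
    fun T0 hT0 hT01 hAT0 =>
      Cfsg.Agent.Lib.Helper87.SPL.module_fixed_trivial p φ hφ hYc hexpY' A Z' hZ1 hZtop hdich T0 hT0 hT01 hAT0
  obtain ⟨T1, ht1, ht2, ht3, ht4, ht5⟩ :=
    Cfsg.Agent.Lib.Helper87.SPL.exists_min_faithful p φ hφ A hAexp hA1 hT Z' hfix hcomm hM2
  have hcardA : Nat.card A = p :=
    Cfsg.Agent.Lib.Helper64.SPL.card_eq_of_min_faithful p A hAab hAexp hA1 T1 ht1 ht2 ht3 ht4 ht5
  have hidx : Nat.card Q0 = p * Nat.card H := by
    have h1 := Cfsg.Agent.Lib.Helper93.SPL.card_map_mul_card_inf_ker π Q0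
    have hinf : Q0 ⊓ π.ker = H := by
      rw [hπker]
      apply le_antisymm
      · rintro g ⟨hgQ, hgk⟩
        exact hC g hgQ ((hmemker g).1 hgk)
      · intro g hg
        exact ⟨h.le hg, (hmemker g).2 (fun y hy => (hYcH y hy g hg).symm)⟩
    rw [hinf, ← hA, hcardA] at h1
    exact h1.symm
  -- Hall–Higman: `p ≤ 3`
  have hp3 : p ≤ 3 := by
    obtain ⟨q0, hq0Q, hq0H⟩ := SetLike.not_le_iff_exists.1 h.lt
    have hxA : π q0 ∈ A := ⟨q0, hq0Q, rfl⟩
    have hx1 : π q0 ≠ 1 := fun h1 => hq0H (hπ1 q0 hq0Q h1)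
    have hAp : IsPGroup p A := Q.2.map π
    obtain ⟨n, hn⟩ : ∃ n, orderOf (π q0) = p ^ n := by
      obtain ⟨k, hk⟩ := (IsPGroup.iff_orderOf.1 hAp) ⟨π q0, hxA⟩
      exact ⟨k, by rw [← hk, Subgroup.orderOf_mk]⟩
    have hn1 : 1 ≤ n := by
      rcases Nat.eq_zero_or_pos n with h0 | h0
      · exfalso
        rw [h0, pow_zero, orderOf_eq_one_iff] at hn
        exact hx1 hn
      · exact h0
    haveI : Nontrivial ↥Y := by
      obtain ⟨z, hz1⟩ := (Subgroup.ne_bot_iff_exists_ne_one).1 hZ1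
      exact ⟨⟨z.1, 1, fun hc => hz1 (Subtype.ext hc)⟩⟩
    have hr' : ∀ v : ↥Y, (fun w => φ (π q0) w * w⁻¹)^[2] v = 1 := by
      intro v
      simp only [Function.iterate_succ, Function.iterate_zero, Function.comp, id]
      rw [hfix _ hxA _ (hcomm _ hxA v), mul_inv_cancel]
    have hle : p ≤ p ^ n := by
      calc p = p ^ 1 := (pow_one p).symm
        _ ≤ p ^ n := Nat.pow_le_pow_right hpp.pos hn1
    rcases hhb_group' hHH hYc hexpY' hΓsol hΓOp φ hφ (π q0) n hn 2 hr' with h1 | h1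
    · omega
    · obtain ⟨n₀, q, m, hn₀, hn₀n, _, _, _, hle2⟩ := h1
      have h2 : 1 ≤ p ^ (n - n₀) := Nat.one_le_pow _ _ hpp.pos
      have h3 : p ^ n₀ - 1 ≤ 2 := by
        calc p ^ n₀ - 1 = 1 * (p ^ n₀ - 1) := (one_mul _).symm
          _ ≤ p ^ (n - n₀) * (p ^ n₀ - 1) := Nat.mul_le_mul_right _ h2
          _ ≤ 2 := hle2
      have h4 : p ≤ p ^ n₀ := by
        calc p = p ^ 1 := (pow_one p).symm
          _ ≤ p ^ n₀ := Nat.pow_le_pow_right hpp.pos hn₀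
      omega
  -- the endgame
  have hZcard := Cfsg.Agent.Lib.Helper26.SPL.card_zIn_eq h ⟨hZY, hYH, hYcH, hYexp⟩ hC hidx
  have hab := Cfsg.Agent.Lib.Helper19.SPL.pCore_comm h hC hZcard
  obtain ⟨hcube, y, hyH, hyZ, hyp⟩ := Cfsg.Agent.Lib.Helper26.SPL.card_cube h ⟨hZY, hYH, hYcH, hYexp⟩ hC hidx hZcard hab
  obtain ⟨hne3, htwo⟩ := hS.small hcube
  have h2le := hpp.two_le
  have hp2 : p = 2 := by omega
  have := htwo hp2 y (h.le hyH) hyZ
  rw [hp2] at hyp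
  exact this hyp

/-- **structure part**: the normal Sylow subgroup of a minimal non-nilpotent group is abelian or of
Schmidt type -/
theorem schmidt_dichotomy {X : Type*} [Group X] [Finite X] (p : ℕ) [Fact p.Prime]
    (hX : Cfsg.IsMinimalNonNilpotent X) (P : Sylow p X) (hPn : (P : Subgroup X).Normal)
    (hP1 : (P : Subgroup X) ≠ ⊥) :
    (∀ x ∈ (P : Subgroup X), ∀ y ∈ (P : Subgroup X), x * y = y * x) ∨
      SchmidtIn p (P : Subgroup X) := by
  obtain ⟨r, K, hD⟩ := Cfsg.Agent.Lib.Helper74.SPL.exists_opData p hX P hPn hP1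
  by_cases hab : ∀ x ∈ (P : Subgroup X), ∀ y ∈ (P : Subgroup X), x * y = y * x
  · exact Or.inl hab
  right
  have hnab : ∃ x ∈ (P : Subgroup X), ∃ y ∈ (P : Subgroup X), x * y ≠ y * x := by
    push Not at hab
    exact hab
  obtain ⟨hfix, hcl⟩ := Cfsg.Agent.Lib.Helper87.SPL.opData_center hD hnab
  have hZD := Cfsg.Agent.Lib.Helper79.SPL.zIn_le_commutator hD hnab hfix hcl
  have hcam := Cfsg.Agent.Lib.Helper12.SPL.opData_camina hD hfix hcl hZD
  have hexp := Cfsg.Agent.Lib.Helper19.SPL.expZ_of_camina hD.hP hnab hcl hcam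
  refine ⟨hnab, hcl, hcam, hexp, ?_⟩
  intro hcard
  have hZc := Cfsg.Agent.Lib.Helper19.SPL.card_zIn_of_card_cube hnab hcard
  have hr2 := Cfsg.Agent.Lib.Helper12.SPL.opData_r_ne_two hD hnab hfix hcl
  have hdvd := Cfsg.Agent.Lib.Helper26.SPL.opData_r_dvd hD hfix
  rw [hcard, hZc] at hdvd
  have hrp := hD.hrp
  have hr := hD.hr
  constructor
  · intro hp3
    rw [hp3] at hdvd hrp
    have h24 : r ∣ 24 := by simpa using hdvd
    have hle := Nat.le_of_dvd (by norm_num) h24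
    interval_cases r <;> first | omega | (exfalso; revert hr; decide) | (exfalso; revert h24; decide)
  · intro hp2
    subst hp2
    have h6 : r ∣ 6 := by simpa using hdvd
    have hle := Nat.le_of_dvd (by norm_num) h6
    have hr3 : r = 3 := by
      interval_cases r <;> first | omega | (exfalso; revert hr; decide) | (exfalso; revert h6; decide)
    subst hr3
    exact Cfsg.Agent.Lib.Helper01.SPL.opData_two hD hnab hfix hcl (by simpa using hcard)
      (by simpa using hZc)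

/-- **S4394**, conditional on the statement of Hall–Higman's Theorem B -/
theorem pLengthLE_one_of_schmidt {G : Type u} {X : Type*} [Group G] [Finite G] [Group X] [Finite X]
    (p : ℕ) [hp : Fact p.Prime]
    (hHH : ∀ (M : Type u) [AddCommGroup M] [Module (ZMod p) M] [FiniteDimensional (ZMod p) M]
      [Nontrivial M], HHBStmt p (ZMod p) M)
    (hX : Cfsg.IsMinimalNonNilpotent X) (P : Sylow p X) (hPn : (P : Subgroup X).Normal)
    (hP1 : (P : Subgroup X) ≠ ⊥) (hG : Cfsg.IsPSolvable p G) (Q : Sylow p G)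
    (hQ : Nonempty (↥(Q : Subgroup G) ≃* ↥(P : Subgroup X))) : Cfsg.PLengthLE p 1 G := by
  classical
  have hpp : p.Prime := hp.out
  obtain ⟨e0⟩ := hQ
  haveI hN₀ : (pPrimeCore p G).Normal := Cfsg.Agent.Lib.Helper81.pPrimeCore_normal p
  have hXs : IsPSolvable p (G ⧸ pPrimeCore p G) :=
    Cfsg.Agent.Lib.Helper81.IsPSolvable.quotient hpp hG _
  have hO : pPrimeCore p (G ⧸ pPrimeCore p G) = ⊥ :=
    Cfsg.Agent.Lib.Helper81.pPrimeCore_quotient_eq_bot p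
  have hcent := Cfsg.Agent.Lib.Helper81.centralizer_pCore_le hXs hO
  have hπs : Function.Surjective (QuotientGroup.mk' (pPrimeCore p G)) :=
    QuotientGroup.mk'_surjective _
  set Q' : Sylow p (G ⧸ pPrimeCore p G) := Q.mapSurjective hπs with hQ'
  have hQ'coe : (Q' : Subgroup (G ⧸ pPrimeCore p G)) =
      (Q : Subgroup G).map (QuotientGroup.mk' (pPrimeCore p G)) := Sylow.coe_mapSurjective hπs Q
  obtain ⟨e1⟩ := Cfsg.Agent.Lib.Helper93.SPL.nonempty_mulEquiv_map_mk (pPrimeCore p G)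
    (Cfsg.Agent.Lib.Helper81.card_pPrimeCore_coprime p) (Q : Subgroup G) Q.2
  have e2 : ↥((Q : Subgroup G).map (QuotientGroup.mk' (pPrimeCore p G))) ≃*
      ↥(Q' : Subgroup (G ⧸ pPrimeCore p G)) := MulEquiv.subgroupCongr hQ'coe.symm
  have e : ↥(P : Subgroup X) ≃* ↥(Q' : Subgroup (G ⧸ pPrimeCore p G)) :=
    (e0.symm.trans e1).trans e2
  have hHQ : pCore p (G ⧸ pPrimeCore p G) ≤ (Q' : Subgroup (G ⧸ pPrimeCore p G)) :=
    Cfsg.Agent.Lib.Helper53.pCore_le_sylow Q'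
  -- the key claim
  have hkey : (Q' : Subgroup (G ⧸ pPrimeCore p G)) ≤ pCore p (G ⧸ pPrimeCore p G) := by
    rcases schmidt_dichotomy p hX P hPn hP1 with hab | hS
    · -- abelian case
      have hab' : ∀ x ∈ (Q' : Subgroup (G ⧸ pPrimeCore p G)),
          ∀ y ∈ (Q' : Subgroup (G ⧸ pPrimeCore p G)), x * y = y * x := by
        intro x hx y hy
        have h1 : e.symm ⟨x, hx⟩ * e.symm ⟨y, hy⟩ = e.symm ⟨y, hy⟩ * e.symm ⟨x, hx⟩ :=
          Subtype.ext (hab _ (e.symm ⟨x, hx⟩).2 _ (e.symm ⟨y, hy⟩).2)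
        rw [← map_mul, ← map_mul] at h1
        exact congrArg Subtype.val (e.symm.injective h1)
      intro x hx
      apply hcent
      rw [Subgroup.mem_centralizer_iff]
      intro y hy
      exact hab' y (hHQ hy) x hx
    · -- Schmidt type
      have hS' : SchmidtIn p (Q' : Subgroup (G ⧸ pPrimeCore p G)) :=
        Cfsg.Agent.Lib.Helper93.SPL.schmidtIn_of_mulEquiv e hS
      by_contra hlt
      exact wctx_false hHH hXs Q' ⟨Q'.2, hHQ, hcent, hS', hlt⟩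
  have heq : pCore p (G ⧸ pPrimeCore p G) = (Q' : Subgroup (G ⧸ pPrimeCore p G)) :=
    le_antisymm hHQ hkey
  have hnd : ¬ p ∣ Nat.card ((G ⧸ pPrimeCore p G) ⧸ pCore p (G ⧸ pPrimeCore p G)) := by
    rw [← Subgroup.index_eq_card, heq]
    exact Q'.not_dvd_index
  have h3 : PLengthLE p 0 ((G ⧸ pPrimeCore p G) ⧸ pCore p (G ⧸ pPrimeCore p G)) :=
    Cfsg.Agent.Lib.Helper67.pLengthLE_zero_of_coprime p
      ((Nat.Prime.coprime_iff_not_dvd hpp).mpr hnd).symm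
  have h4 : PLengthLE p 1 ↥(pCore p (G ⧸ pPrimeCore p G)) :=
    Cfsg.Agent.Lib.Helper67.pLengthLE_one_of_isPGroup p (Cfsg.Agent.Lib.Helper81.isPGroup_pCore p)
  haveI : (pCore p (G ⧸ pPrimeCore p G)).Normal := Cfsg.Agent.Lib.Helper81.pCore_normal p
  have h5 : PLengthLE p (1 + 0) (G ⧸ pPrimeCore p G) :=
    Cfsg.Agent.Lib.Helper67.pLengthLE_add p _ 1 0 h4 h3
  have h0 : PLengthLE p 0 ↥(pPrimeCore p G) :=
    Cfsg.Agent.Lib.Helper67.pLengthLE_zero_of_coprime p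
      (Cfsg.Agent.Lib.Helper81.card_pPrimeCore_coprime p)
  have h6 := Cfsg.Agent.Lib.Helper67.pLengthLE_add p (pPrimeCore p G) 0 (1 + 0) h0 h5
  simpa using h6

end Cfsg.Agent.Lib.Helper41.SchmidtPL
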