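import Cfsg.Agent.Lib.Helper41.SecLemmas

set_option autoImplicit false

namespace Cfsg.Agent.Lib.Helper41

open Cfsg

variable {G : Type*} [Group G]

/-- a version of `exists_mem_conj_eq_of_centralize` for a subgroup `U` of `N_G(T)` containing `C_G(T)` -/
theorem exists_mem_conj_eq_of_centralize_sub [Finite G] {p : ℕ} [Fact p.Prime] {S T U : Subgroup G}
    (hUN : U ≤ Subgroup.normalizer (T : Set G)) (hCU : Subgroup.centralizer (T : Set G) ≤ U)
    (hidx : ¬ p ∣ (S ⊓ U).relIndex U)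
    (hcent : ∀ g ∈ U, (orderOf g).Coprime p → g ∈ Subgroup.centralizer (T : Set G))
    {x : G} (hx : x ∈ U) :
    ∃ y ∈ S ⊓ U, ∀ t ∈ T, y⁻¹ * t * y = x⁻¹ * t * x := by
  have hp : p.Prime := Fact.out
  set N := Subgroup.normalizer (T : Set G) with hN
  set C := Subgroup.centralizer (T : Set G) with hC
  set R := S ⊓ U with hR
  -- `U / C` is a `p`-group
  have hCn : (C.subgroupOf U).Normal := by
    constructor
    intro c hc n
    rw [Subgroup.mem_subgroupOf] at hc ⊢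
    have := conj_mem_centralizer (hUN n.2) hc
    simpa using this
  have hquot : IsPGroup p (U ⧸ C.subgroupOf U) := by
    intro x
    obtain ⟨m, rfl⟩ := QuotientGroup.mk_surjective x
    obtain ⟨k, r, hr, hn⟩ := Nat.exists_eq_pow_mul_and_not_dvd (orderOf_pos (m : G)).ne' p hp.ne_one
    refine ⟨k, ?_⟩
    rw [← QuotientGroup.mk_pow, QuotientGroup.eq_one_iff, Subgroup.mem_subgroupOf]
    have h1 : ((m : G) ^ p ^ k) ^ r = 1 := by rw [← pow_mul, ← hn, pow_orderOf_eq_one]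
    have hdvd := orderOf_dvd_of_pow_eq_one h1
    have hcop : (orderOf ((m : G) ^ p ^ k)).Coprime p :=
      Nat.Coprime.coprime_dvd_left hdvd ((Nat.Prime.coprime_iff_not_dvd hp).mpr hr).symm
    have hmem : (m : G) ^ p ^ k ∈ U := U.pow_mem m.2 _
    simpa using hcent _ hmem hcop
  obtain ⟨j, hj⟩ := IsPGroup.iff_card.mp hquot
  have hj' : C.relIndex U = p ^ j := by
    rw [Subgroup.relIndex, Subgroup.index_eq_card]; exact hj
  have hH : C ⊔ R ≤ U := sup_le hCU inf_le_right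
  have h1 : (C ⊔ R).relIndex U ∣ p ^ j := by
    rw [← hj']; exact Subgroup.relIndex_dvd_of_le_left U le_sup_left
  have h2 : (C ⊔ R).relIndex U ∣ R.relIndex U := Subgroup.relIndex_dvd_of_le_left U le_sup_right
  have h3 : Nat.Coprime ((C ⊔ R).relIndex U) (p ^ j) := by
    apply Nat.Coprime.pow_right
    apply Nat.Coprime.coprime_dvd_left h2
    exact ((Nat.Prime.coprime_iff_not_dvd hp).mpr hidx).symm
  have h4 : (C ⊔ R).relIndex U = 1 := Nat.Coprime.eq_one_of_dvd h3 h1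
  have h5 : U ≤ C ⊔ R := Subgroup.relIndex_eq_one.mp h4
  have hx' : x ∈ C ⊔ R := h5 hx
  rw [Subgroup.sup_eq_closure] at hx'
  have hCN : C ≤ N := Subgroup.centralizer_le_normalizer (T : Set G)
  have key : ∀ z ∈ Subgroup.closure ((C : Set G) ∪ (R : Set G)),
      z ∈ N ∧ ∃ y ∈ R, ∀ t ∈ T, y⁻¹ * t * y = z⁻¹ * t * z := by
    intro z hz
    induction hz using Subgroup.closure_induction with
    | mem u hu =>
      rcases hu with hu | hu
      · refine ⟨hCN hu, 1, R.one_mem, fun t ht => ?_⟩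
        have := (Subgroup.mem_centralizer_iff.mp hu) t ht
        calc (1 : G)⁻¹ * t * 1 = t := by group
        _ = u⁻¹ * (u * t) := by group
        _ = u⁻¹ * (t * u) := by rw [this]
        _ = u⁻¹ * t * u := by group
      · exact ⟨hUN hu.2, u, hu, fun _ _ => rfl⟩
    | one => exact ⟨N.one_mem, 1, R.one_mem, fun _ _ => rfl⟩
    | mul a b _ _ iha ihb =>
      obtain ⟨haN, y₁, hy₁, h₁⟩ := iha
      obtain ⟨hbN, y₂, hy₂, h₂⟩ := ihb
      refine ⟨N.mul_mem haN hbN, y₁ * y₂, R.mul_mem hy₁ hy₂, fun t ht => ?_⟩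
      have ht' : y₁⁻¹ * t * y₁ ∈ T := by
        have hy₁N : y₁⁻¹ ∈ N := N.inv_mem (hUN hy₁.2)
        have := (Subgroup.mem_normalizer_iff.mp hy₁N t).mp ht
        simpa using this
      calc (y₁ * y₂)⁻¹ * t * (y₁ * y₂) = y₂⁻¹ * (y₁⁻¹ * t * y₁) * y₂ := by group
      _ = b⁻¹ * (y₁⁻¹ * t * y₁) * b := h₂ _ ht'
      _ = b⁻¹ * (a⁻¹ * t * a) * b := by rw [h₁ t ht]
      _ = (a * b)⁻¹ * t * (a * b) := by group
    | inv a _ iha =>
      obtain ⟨haN, y, hy, h⟩ := iha
      refine ⟨N.inv_mem haN, y⁻¹, R.inv_mem hy, fun t ht => ?_⟩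
      have ht' : a * t * a⁻¹ ∈ T := (Subgroup.mem_normalizer_iff.mp haN t).mp ht
      have := h _ ht'
      have e : a⁻¹ * (a * t * a⁻¹) * a = t := by group
      rw [e] at this
      calc y⁻¹⁻¹ * t * y⁻¹ = y * t * y⁻¹ := by group
      _ = y * (y⁻¹ * (a * t * a⁻¹) * y) * y⁻¹ := by rw [this]
      _ = a⁻¹⁻¹ * t * a⁻¹ := by group
  exact (key x hx').2

/-- the elements normalizing `B` that act trivially on `B` modulo the normal subgroup `P` -/
def trivMod (P B : Subgroup G) [hP : P.Normal] : Subgroup G where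
  carrier := {g | g ∈ Subgroup.normalizer (B : Set G) ∧ ∀ b ∈ B, g⁻¹ * b * g * b⁻¹ ∈ P}
  one_mem' := ⟨Subgroup.one_mem _, fun b _ => by simpa using P.one_mem⟩
  mul_mem' := by
    rintro g h ⟨hgN, hg⟩ ⟨hhN, hh⟩
    refine ⟨Subgroup.mul_mem _ hgN hhN, fun b hb => ?_⟩
    have h1 : (g * h)⁻¹ * b * (g * h) * b⁻¹ =
        (h⁻¹ * (g⁻¹ * b * g * b⁻¹) * h⁻¹⁻¹) * (h⁻¹ * b * h * b⁻¹) := by group
    rw [h1]
    exact P.mul_mem (hP.conj_mem _ (hg b hb) h⁻¹) (hh b hb)
  inv_mem' := by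
    rintro g ⟨hgN, hg⟩
    refine ⟨Subgroup.inv_mem _ hgN, fun b hb => ?_⟩
    have hb' : g * b * g⁻¹ ∈ B := (Subgroup.mem_normalizer_iff.mp hgN b).mp hb
    have h1 := hg _ hb'
    have h2 : g⁻¹ * (g * b * g⁻¹) * g * (g * b * g⁻¹)⁻¹ = (g⁻¹⁻¹ * b * g⁻¹ * b⁻¹)⁻¹ := by group
    rw [h2] at h1
    simpa using P.inv_mem h1

theorem mem_trivMod {P B : Subgroup G} [P.Normal] {g : G} :
    g ∈ trivMod P B ↔ g ∈ Subgroup.normalizer (B : Set G) ∧ ∀ b ∈ B, g⁻¹ * b * g * b⁻¹ ∈ P :=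
  Iff.rfl

theorem trivMod_le_normalizer (P B : Subgroup G) [P.Normal] :
    trivMod P B ≤ Subgroup.normalizer (B : Set G) := fun _ h => h.1

theorem centralizer_le_trivMod (P B : Subgroup G) [P.Normal] :
    Subgroup.centralizer (B : Set G) ≤ trivMod P B := by
  intro g hg
  refine ⟨Subgroup.centralizer_le_normalizer _ hg, fun b hb => ?_⟩
  have := (Subgroup.mem_centralizer_iff.mp hg) b hb
  have e : g⁻¹ * b * g * b⁻¹ = 1 := by
    calc g⁻¹ * b * g * b⁻¹ = g⁻¹ * (b * g) * b⁻¹ := by group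
      _ = g⁻¹ * (g * b) * b⁻¹ := by rw [this]
      _ = 1 := by group
  rw [e]; exact P.one_mem

theorem trivMod_conj_mem {P B : Subgroup G} [hP : P.Normal] {g n : G} (hg : g ∈ trivMod P B)
    (hn : n ∈ Subgroup.normalizer (B : Set G)) : n * g * n⁻¹ ∈ trivMod P B := by
  obtain ⟨hgN, hg⟩ := hg
  refine ⟨Subgroup.mul_mem _ (Subgroup.mul_mem _ hn hgN) (Subgroup.inv_mem _ hn), fun b hb => ?_⟩
  have hb' : n⁻¹ * b * n ∈ B := by
    have := (Subgroup.mem_normalizer_iff.mp (Subgroup.inv_mem _ hn) b).mp hb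
    simpa using this
  have h1 := hg _ hb'
  have e : (n * g * n⁻¹)⁻¹ * b * (n * g * n⁻¹) * b⁻¹ =
      n * (g⁻¹ * (n⁻¹ * b * n) * g * (n⁻¹ * b * n)⁻¹) * n⁻¹ := by group
  rw [e]
  exact hP.conj_mem _ h1 n

/-- elements of `trivMod P B` of order prime to `p` centralize `B`, if `G = C_G(P) S` with `S` a `p`-group -/
theorem mem_centralizer_of_mem_trivMod_of_coprime [Finite G] {p : ℕ} [Fact p.Prime] {P B S : Subgroup G}
    [hP : P.Normal] (hPp : IsPGroup p P) (hSp : IsPGroup p S)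
    (hX : Subgroup.centralizer (P : Set G) ⊔ S = ⊤) {g : G} (hg : g ∈ trivMod P B)
    (hcop : (orderOf g).Coprime p) : g ∈ Subgroup.centralizer (B : Set G) := by
  have hp : p.Prime := Fact.out
  haveI : (Subgroup.centralizer (P : Set G)).Normal := Subgroup.normal_centralizer
  have hSC : S ≤ Subgroup.normalizer ((Subgroup.centralizer (P : Set G) : Subgroup G) : Set G) := by
    rw [Subgroup.normalizer_eq_top]; exact le_top
  have hgtop : g ∈ Subgroup.centralizer (P : Set G) ⊔ S := by rw [hX]; trivial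
  obtain ⟨c, hc, s, hs, hgcs⟩ := (mem_sup_of_le_normalizer hSC).mp hgtop
  -- `g` acts on `P` as `s`
  have hact : ∀ u ∈ P, g⁻¹ * u * g = s⁻¹ * u * s := by
    intro u hu
    have := (Subgroup.mem_centralizer_iff.mp hc) u hu
    rw [hgcs]
    calc (c * s)⁻¹ * u * (c * s) = s⁻¹ * (c⁻¹ * (u * c)) * s := by group
      _ = s⁻¹ * (c⁻¹ * (c * u)) * s := by rw [this]
      _ = s⁻¹ * u * s := by group
  have hactk : ∀ k : ℕ, ∀ u ∈ P, (g ^ k)⁻¹ * u * g ^ k = (s ^ k)⁻¹ * u * s ^ k := by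
    intro k
    induction k with
    | zero => intro u _; simp
    | succ k ih =>
      intro u hu
      have hu' : g⁻¹ * u * g ∈ P := by
        have := hP.conj_mem u hu g⁻¹
        simpa using this
      calc (g ^ (k + 1))⁻¹ * u * g ^ (k + 1) = (g ^ k)⁻¹ * (g⁻¹ * u * g) * g ^ k := by
            rw [pow_succ']; group
        _ = (s ^ k)⁻¹ * (g⁻¹ * u * g) * s ^ k := ih _ hu'
        _ = (s ^ k)⁻¹ * (s⁻¹ * u * s) * s ^ k := by rw [hact u hu]
        _ = (s ^ (k + 1))⁻¹ * u * s ^ (k + 1) := by rw [pow_succ']; group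
  obtain ⟨a, ha⟩ := hSp ⟨s, hs⟩
  have ha' : s ^ p ^ a = 1 := by
    have := congrArg Subtype.val ha
    simpa using this
  -- `g ^ (p ^ a)` centralizes `P`, hence so does `g`
  have hgq : ∀ u ∈ P, (g ^ p ^ a)⁻¹ * u * g ^ p ^ a = u := by
    intro u hu
    rw [hactk _ u hu, ha']; simp
  have hcop' : (p ^ a).Coprime (orderOf g) := (Nat.Coprime.pow_right a hcop).symm
  obtain ⟨m, hm⟩ := exists_pow_eq_self_of_coprime hcop'
  have hgP : ∀ u ∈ P, g⁻¹ * u * g = u := by
    have hpow : ∀ j : ℕ, ∀ u ∈ P, ((g ^ p ^ a) ^ j)⁻¹ * u * (g ^ p ^ a) ^ j = u := by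
      intro j
      induction j with
      | zero => intro u _; simp
      | succ j ih =>
        intro u hu
        calc ((g ^ p ^ a) ^ (j + 1))⁻¹ * u * (g ^ p ^ a) ^ (j + 1)
            = ((g ^ p ^ a) ^ j)⁻¹ * ((g ^ p ^ a)⁻¹ * u * g ^ p ^ a) * (g ^ p ^ a) ^ j := by
              rw [pow_succ']; group
          _ = ((g ^ p ^ a) ^ j)⁻¹ * u * (g ^ p ^ a) ^ j := by rw [hgq u hu]
          _ = u := ih u hu
    intro u hu
    have := hpow m u hu
    rwa [hm] at this
  -- now `g⁻¹ b g = u_b b` with `u_b ∈ P` centralized by `g`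
  rw [Subgroup.mem_centralizer_iff]
  intro b hb
  set ub := g⁻¹ * b * g * b⁻¹ with hub
  have hubP : ub ∈ P := hg.2 b hb
  have hconj : g⁻¹ * b * g = ub * b := by rw [hub]; group
  have hk : ∀ k : ℕ, (g ^ k)⁻¹ * b * g ^ k = ub ^ k * b := by
    intro k
    induction k with
    | zero => simp
    | succ k ih =>
      have hubk : g⁻¹ * (ub ^ k) * g = ub ^ k := hgP _ (P.pow_mem hubP k)
      calc (g ^ (k + 1))⁻¹ * b * g ^ (k + 1) = g⁻¹ * ((g ^ k)⁻¹ * b * g ^ k) * g := by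
            rw [pow_succ]; group
        _ = g⁻¹ * (ub ^ k * b) * g := by rw [ih]
        _ = (g⁻¹ * ub ^ k * g) * (g⁻¹ * b * g) := by group
        _ = ub ^ k * (ub * b) := by rw [hubk, hconj]
        _ = ub ^ (k + 1) * b := by rw [pow_succ]; group
  have h1 := hk (orderOf g)
  rw [pow_orderOf_eq_one] at h1
  have h2 : ub ^ orderOf g = 1 := by
    have : b = ub ^ orderOf g * b := by simpa using h1
    have := congrArg (fun t => t * b⁻¹) this
    simpa using this.symm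
  obtain ⟨a', ha'⟩ := hPp ⟨ub, hubP⟩
  have ha'' : ub ^ p ^ a' = 1 := by
    have := congrArg Subtype.val ha'
    simpa using this
  have h3 : orderOf ub ∣ orderOf g := orderOf_dvd_of_pow_eq_one h2
  have h4 : orderOf ub ∣ p ^ a' := orderOf_dvd_of_pow_eq_one ha''
  have h5 : orderOf ub = 1 := Nat.eq_one_of_dvd_coprimes (Nat.Coprime.pow_right a' hcop) h3 h4
  have h6 : ub = 1 := orderOf_eq_one_iff.mp h5
  rw [h6, one_mul] at hconj
  calc b * g = g * (g⁻¹ * b * g) := by group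
    _ = g * b := by rw [hconj]

/-- **Key lemma**: if `X = C_X(P) S`, `B ≥ P` is fully normalized in `S` and `g` normalizes `B` acting trivially
on `B / P`, then `g` acts on `B` as an element of `S`. -/
theorem exists_mem_sylow_conj_eq_of_trivMod [Finite G] {p : ℕ} [Fact p.Prime] {P B S : Subgroup G}
    [hP : P.Normal] (hPp : IsPGroup p P) (hSp : IsPGroup p S)
    (hX : Subgroup.centralizer (P : Set G) ⊔ S = ⊤)
    (hfn : ¬ p ∣ (S ⊓ Subgroup.normalizer (B : Set G)).relIndex (Subgroup.normalizer (B : Set G)))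
    {g : G} (hg : g ∈ trivMod P B) :
    ∃ s ∈ S, ∀ b ∈ B, s⁻¹ * b * s = g⁻¹ * b * g := by
  have hidx : ¬ p ∣ (S ⊓ trivMod P B).relIndex (trivMod P B) := by
    have h1 := not_dvd_relIndex_inf_of_normal (p := p) (N := Subgroup.normalizer (B : Set G))
      (R := S ⊓ Subgroup.normalizer (B : Set G)) (C := trivMod P B) inf_le_right hSp.to_inf_left hfn
      (trivMod_le_normalizer P B) (fun c n hc hn => trivMod_conj_mem hc hn)
    have e : S ⊓ Subgroup.normalizer (B : Set G) ⊓ trivMod P B = S ⊓ trivMod P B := by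
      rw [inf_assoc, inf_eq_right.mpr (trivMod_le_normalizer P B)]
    rwa [e] at h1
  obtain ⟨y, hy, hyb⟩ := exists_mem_conj_eq_of_centralize_sub (p := p) (S := S) (T := B)
    (U := trivMod P B) (trivMod_le_normalizer P B) (centralizer_le_trivMod P B) hidx
    (fun g' hg' hcop => mem_centralizer_of_mem_trivMod_of_coprime hPp hSp hX hg' hcop) hg
  exact ⟨y, hy.1, hyb⟩

end Cfsg.Agent.Lib.Helper41
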