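import Cfsg.Agent.Lib.Helper41.SecTransferMain
import Cfsg.Agent.Lib.Helper41.SecLemmas3

set_option autoImplicit false

namespace Cfsg.Agent.Lib.Helper41

open Cfsg

universe u

section generic

variable {G : Type*} [Group G] {p : ℕ}

theorem stepSet_mono {𝓦 : Set (Subgroup G → Subgroup G)} {H H' M : Subgroup G} (h : H ≤ H') :
    stepSet 𝓦 H M ⊆ stepSet 𝓦 H' M := by
  rintro y ⟨W, hW, hy⟩
  exact ⟨W, hW, ⟨h hy.1, hy.2⟩⟩

/-- `FCtrlAt` for the whole group gives `FamilyControlsStrongFusionIn` -/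
theorem controls_of_fctrlAt [Finite G] [Fact p.Prime] {𝓦 : Set (Subgroup G → Subgroup G)}
    (S : Sylow p G) (h : FCtrlAt 𝓦 ⊤ (S : Subgroup G)) : FamilyControlsStrongFusionIn p 𝓦 ⊤ := by
  refine ⟨S, le_top, S.2, sylow_relIndex_top S, fun A g _ hA hgA => ?_⟩
  have hA' : rconj g⁻¹ A ⊆ ((S : Subgroup G) : Set G) := by
    rw [← image_conj_eq_rconj]; exact hgA
  obtain ⟨L, hL, hag⟩ := h A g⁻¹ trivial hA hA'
  obtain ⟨n, c, hc0, hcs, hcM, hcl⟩ := fin_of_fchain stepSet_inv L A hL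
  refine ⟨n, c, hc0, fun i => hcs i, fun i => ?_, fun a ha => ?_⟩
  · rw [image_conj_eq_rconj]; exact hcM i
  · rw [hcl]
    simpa using hag a ha

theorem image_rconj {Y : Type*} [Group Y] (f : G →* Y) (y : G) (A : Set G) :
    f '' (rconj y A) = rconj (f y) (f '' A) := by
  ext z
  constructor
  · rintro ⟨_, ⟨a, ha, rfl⟩, rfl⟩
    exact ⟨f a, ⟨a, ha, rfl⟩, by simp⟩
  · rintro ⟨_, ⟨a, ha, rfl⟩, rfl⟩
    exact ⟨y⁻¹ * a * y, ⟨a, ha, rfl⟩, by simp⟩

/-- lifting chains along a homomorphism -/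
theorem fchain_lift {Y : Type*} [Group Y] (f : G →* Y) {Kbar : Set Y} {K : Set G} {S : Subgroup G}
    {Sbar : Subgroup Y}
    (hstep : ∀ ybar ∈ Kbar, ∀ A : Set G, A ⊆ S → rconj ybar (f '' A) ⊆ Sbar →
      ∃ y ∈ K, f y = ybar ∧ rconj y A ⊆ S) :
    ∀ (Lbar : List Y) (A : Set G), A ⊆ S → FChain Kbar Sbar (f '' A) Lbar →
      ∃ L : List G, L.map f = Lbar ∧ FChain K S A L := by
  intro Lbar
  induction Lbar with
  | nil => intro A hA _; exact ⟨[], rfl, hA⟩
  | cons ybar Lbar ih =>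
    intro A hA hch
    obtain ⟨h1, h2, h3⟩ := hch
    obtain ⟨y, hyK, hy, hyA⟩ := hstep ybar h2 A hA h3.subset
    rw [← hy, ← image_rconj] at h3
    obtain ⟨L, hL1, hL2⟩ := ih (rconj y A) hyA h3
    exact ⟨y :: L, by rw [List.map_cons, hy, hL1], ⟨hA, hyK, hL2⟩⟩

/-- control of strong fusion splits along the Frattini factorization -/
theorem fctrlAt_of_split [Finite G] [Fact p.Prime] {𝓦 : Set (Subgroup G → Subgroup G)}
    (S : Sylow p G) {P : Subgroup G} [P.Normal] (hPS : P ≤ (S : Subgroup G))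
    (h₁ : FCtrlAt 𝓦 (Subgroup.normalizer
      (((S : Subgroup G) ⊓ (P ⊔ Subgroup.centralizer (P : Set G)) : Subgroup G) : Set G)) (S : Subgroup G))
    (h₂ : FCtrlAt 𝓦 (Subgroup.centralizer (P : Set G) ⊔ (S : Subgroup G)) (S : Subgroup G)) :
    FCtrlAt 𝓦 ⊤ (S : Subgroup G) := by
  intro A x _ hA hxA
  refine engine_set (R := fun A x => FReach (stepSet 𝓦 ⊤ (S : Subgroup G)) (S : Subgroup G) A x)
    (fun hBA h => h.mono hBA) ?_ hA hxA
  intro T hT u hu
  obtain ⟨n, hn, c, hc, hunc, hnT⟩ := exists_split S hPS hT hu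
  have r1 := h₁ (T : Set G) n hn hT (by rw [rconj_coe]; exact hnT)
  have hcT : rconj c (rconj n (T : Set G)) ⊆ ((S : Subgroup G) : Set G) := by
    rw [← rconj_mul, ← hunc, rconj_coe]; exact hu
  have r2 := h₂ (rconj n (T : Set G)) c (Subgroup.mem_sup_left hc)
    (by rw [rconj_coe]; exact hnT) hcT
  have r1' := r1.weaken (stepSet_mono (𝓦 := 𝓦) (M := (S : Subgroup G)) le_top) le_rfl
  have r2' := r2.weaken (stepSet_mono (𝓦 := 𝓦) (M := (S : Subgroup G)) le_top) le_rfl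
  rw [hunc]
  exact r1'.trans r2'

/-- **the case `X = C_X(P) S`** -/
theorem freach_of_mod [Finite G] [Fact p.Prime] (S : Sylow p G) {P : Subgroup G} [hP : P.Normal]
    (hPS : P ≤ (S : Subgroup G))
    (hX : Subgroup.centralizer (P : Set G) ⊔ (S : Subgroup G) = ⊤) {K : Set G}
    (hKinv : ∀ y ∈ K, y⁻¹ ∈ K)
    (hS : ∀ s ∈ (S : Subgroup G), ∀ B : Set G, B ⊆ (S : Subgroup G) → FReach K (S : Subgroup G) B s)
    (hmod : ∀ B : Subgroup G, P ≤ B → B ≤ (S : Subgroup G) → ∀ x : G, lc x⁻¹ B ≤ (S : Subgroup G) →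
      ∃ y, FReach K (S : Subgroup G) (B : Set G) y ∧
        ∀ b ∈ B, (y⁻¹ * b * y)⁻¹ * (x⁻¹ * b * x) ∈ P)
    (A : Set G) (x : G) (hA : A ⊆ (S : Subgroup G)) (hxA : rconj x A ⊆ (S : Subgroup G)) :
    FReach K (S : Subgroup G) A x := by
  have hSp : IsPGroup p (S : Subgroup G) := S.2
  have hPp : IsPGroup p P := hSp.to_le hPS
  -- the case of a fully normalized target
  have FN : ∀ B : Subgroup G, P ≤ B → B ≤ (S : Subgroup G) → ∀ x : G, lc x⁻¹ B ≤ (S : Subgroup G) →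
      ¬ p ∣ ((S : Subgroup G) ⊓ Subgroup.normalizer ((lc x⁻¹ B : Subgroup G) : Set G)).relIndex
        (Subgroup.normalizer ((lc x⁻¹ B : Subgroup G) : Set G)) →
      FReach K (S : Subgroup G) (B : Set G) x := by
    intro B hPB hBS x hx hfn
    obtain ⟨y, hy, hmodxy⟩ := hmod B hPB hBS x hx
    have hPy : P ≤ lc y⁻¹ B := by
      calc P = lc y⁻¹ P := (lc_eq_of_normal _ P).symm
        _ ≤ lc y⁻¹ B := lc_mono hPB
    have hle : lc x⁻¹ B ≤ lc y⁻¹ B := by
      intro z hz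
      rw [mem_lc, inv_inv] at hz
      have h1 := hmodxy _ hz
      have e : x⁻¹ * (x * z * x⁻¹) * x = z := by group
      rw [e] at h1
      have h2 : y⁻¹ * (x * z * x⁻¹) * y ∈ lc y⁻¹ B := by
        rw [mem_lc, inv_inv]
        have e2 : y * (y⁻¹ * (x * z * x⁻¹) * y) * y⁻¹ = x * z * x⁻¹ := by group
        rw [e2]; exact hz
      have e3 : z = (y⁻¹ * (x * z * x⁻¹) * y) * ((y⁻¹ * (x * z * x⁻¹) * y)⁻¹ * z) := by group
      rw [e3]
      exact Subgroup.mul_mem _ h2 (hPy h1)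
    have heq : lc x⁻¹ B = lc y⁻¹ B := by
      apply Subgroup.eq_of_le_of_card_ge hle
      rw [card_lc, card_lc]
    set g := y⁻¹ * x with hg
    have hgmem : g ∈ trivMod P (lc x⁻¹ B) := by
      refine ⟨?_, ?_⟩
      · have h1 : g⁻¹ ∈ Subgroup.normalizer ((lc x⁻¹ B : Subgroup G) : Set G) := by
          rw [mem_normalizer_iff_lc]
          nth_rewrite 1 [heq]
          rw [← lc_mul]
          congr 1
          rw [hg]; group
        simpa using Subgroup.inv_mem _ h1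
      · intro b' hb'
        rw [heq, mem_lc, inv_inv] at hb'
        have h1 := hmodxy _ hb'
        have e : g⁻¹ * b' * g * b'⁻¹ =
            (y⁻¹ * (y * b' * y⁻¹) * y) * ((y⁻¹ * (y * b' * y⁻¹) * y)⁻¹ * (x⁻¹ * (y * b' * y⁻¹) * x)) *
              (y⁻¹ * (y * b' * y⁻¹) * y)⁻¹ := by
          rw [hg]; group
        rw [e]
        exact hP.conj_mem _ h1 _
    obtain ⟨s, hs, hsb⟩ := exists_mem_sylow_conj_eq_of_trivMod hPp hSp hX hfn hgmem
    have r1 : FReach K (S : Subgroup G) (rconj y (B : Set G)) s := hS s hs _ hy.subset_final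
    have r2 := hy.trans r1
    refine r2.congr ?_
    intro b hb
    have hb' : y⁻¹ * b * y ∈ lc x⁻¹ B := by
      rw [heq, mem_lc, inv_inv]
      have e2 : y * (y⁻¹ * b * y) * y⁻¹ = b := by group
      rw [e2]; exact hb
    have := hsb _ hb'
    calc (y * s)⁻¹ * b * (y * s) = s⁻¹ * (y⁻¹ * b * y) * s := by group
      _ = g⁻¹ * (y⁻¹ * b * y) * g := this
      _ = x⁻¹ * b * x := by rw [hg]; group
  -- the general case
  refine engine_set (R := fun A x => FReach K (S : Subgroup G) A x)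
    (fun hBA h => h.mono hBA) ?_ hA hxA
  intro T hT x hx
  set B := T ⊔ P with hB
  have hBS : B ≤ (S : Subgroup G) := sup_le hT hPS
  have hxB : lc x⁻¹ B ≤ (S : Subgroup G) := by
    rw [hB]
    have : lc x⁻¹ (T ⊔ P) = lc x⁻¹ T ⊔ lc x⁻¹ P := Subgroup.map_sup _ _ _
    rw [this, lc_eq_of_normal x⁻¹ P]
    exact sup_le hx hPS
  have hPxB : P ≤ lc x⁻¹ B := by
    calc P = lc x⁻¹ P := (lc_eq_of_normal _ P).symm
      _ ≤ lc x⁻¹ B := lc_mono le_sup_right
  obtain ⟨c, hc1, hc2, -⟩ := exists_fullyNormalized_lc' S hxB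
  have e1 : lc (x * c⁻¹)⁻¹ B = lc c (lc x⁻¹ B) := by
    rw [← lc_mul]; congr 1; group
  have r1 : FReach K (S : Subgroup G) (B : Set G) (x * c⁻¹) := by
    apply FN B le_sup_right hBS (x * c⁻¹)
    · rw [e1]; exact hc1
    · rw [e1]; exact hc2
  have r2 : FReach K (S : Subgroup G) ((lc x⁻¹ B : Subgroup G) : Set G) c⁻¹ := by
    apply FN (lc x⁻¹ B) hPxB hxB c⁻¹
    · rw [inv_inv]; exact hc1
    · rw [inv_inv]; exact hc2
  have r3 := r2.symm hKinv
  rw [inv_inv] at r3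
  have e2 : rconj c⁻¹ ((lc x⁻¹ B : Subgroup G) : Set G) = rconj (x * c⁻¹) (B : Set G) := by
    conv_rhs => rw [rconj_mul, rconj_coe]
  rw [e2] at r3
  have r4 := r1.trans r3
  have e3 : x * c⁻¹ * c = x := by group
  rw [e3] at r4
  exact r4.mono (by intro t ht; exact (le_sup_left : T ≤ B) ht)

end generic

end Cfsg.Agent.Lib.Helper41
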