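import Cfsg.Agent.Lib.Helper41.SecLemmas
import Mathlib.GroupTheory.Transfer
import Mathlib.GroupTheory.Abelianization.Defs

set_option autoImplicit false

namespace Cfsg.Agent.Lib.Helper41

open Cfsg

section transfer

variable {G : Type*} [Group G] {A : Type*} [CommGroup A]

/-- The transfer of `ϕ : H →* A`, evaluated at an element of a normal subgroup `N ≤ H` of `G` on
which `ϕ` is invariant under conjugation by `G`, is the `[G:H]`-th power of `ϕ`
(same statement as `Helper20.transfer_apply_of_mem_normal`, reproved here to keep imports light). -/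
theorem transfer_apply_of_mem_normal' (H : Subgroup G) [H.FiniteIndex] (N : Subgroup G)
    [hN : N.Normal] (hNH : N ≤ H) (ϕ : H →* A)
    (hinv : ∀ (g : G) (x y : H), (x : G) ∈ N → (y : G) = g⁻¹ * x * g → ϕ y = ϕ x)
    (n : G) (hn : n ∈ N) : MonoidHom.transfer ϕ n = ϕ ⟨n, hNH hn⟩ ^ H.index := by
  classical
  let T : H.LeftTransversal := default
  let _ := H.fintypeQuotientOfFiniteIndex
  rw [MonoidHom.transfer_def ϕ T n]
  unfold Subgroup.leftTransversals.diff
  simp only
  have hfix : ∀ q : G ⧸ H, n⁻¹ • q = q := by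
    intro q
    induction q using QuotientGroup.induction_on with
    | H x =>
      rw [MulAction.Quotient.smul_mk, QuotientGroup.eq]
      apply hNH
      have := hN.conj_mem n hn x⁻¹
      simpa [mul_assoc] using this
  rw [Finset.prod_congr rfl (fun q _ => hinv (T.2.leftQuotientEquiv q : G) ⟨n, hNH hn⟩ _ hn ?_)]
  · rw [Finset.prod_const, Finset.card_univ, Subgroup.index_eq_card, Nat.card_eq_fintype_card]
  · simp only
    rw [Subgroup.smul_apply_eq_smul_apply_inv_smul, hfix, smul_eq_mul, mul_assoc]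

end transfer

variable {X : Type*} [Group X] {p : ℕ}

/-- if `X = C_X(P) S` for a normal `p`-subgroup `P` of the Sylow `p`-subgroup `S`, then
`P ∩ X' ≤ S'` -/
theorem inf_commutator_le_of_sup_centralizer [Finite X] [Fact p.Prime] (S : Sylow p X)
    {P : Subgroup X} [P.Normal] (hPS : P ≤ (S : Subgroup X))
    (hX : Subgroup.centralizer (P : Set X) ⊔ (S : Subgroup X) = ⊤) :
    P ⊓ commutator X ≤ ⁅(S : Subgroup X), (S : Subgroup X)⁆ := by
  have hp : p.Prime := Fact.out
  rintro z ⟨hzP, hzC⟩
  let φ : (S : Subgroup X) →* Abelianization (S : Subgroup X) := Abelianization.of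
  have hSC : (S : Subgroup X) ≤ Subgroup.normalizer
      ((Subgroup.centralizer (P : Set X) : Subgroup X) : Set X) := by
    haveI : (Subgroup.centralizer (P : Set X)).Normal := Subgroup.normal_centralizer
    rw [Subgroup.normalizer_eq_top]; exact le_top
  have hinv : ∀ (g : X) (x y : (S : Subgroup X)), (x : X) ∈ P → (y : X) = g⁻¹ * x * g →
      φ y = φ x := by
    intro g x y hx hy
    have hg : g ∈ Subgroup.centralizer (P : Set X) ⊔ (S : Subgroup X) := by rw [hX]; trivial
    obtain ⟨c, hc, s, hs, hgcs⟩ := (mem_sup_of_le_normalizer hSC).mp hg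
    have hcx : c⁻¹ * (x : X) * c = x := by
      have := (Subgroup.mem_centralizer_iff.mp hc) (x : X) hx
      calc c⁻¹ * (x : X) * c = c⁻¹ * ((x : X) * c) := by group
        _ = c⁻¹ * (c * (x : X)) := by rw [this]
        _ = x := by group
    have hy' : y = (⟨s, hs⟩ : (S : Subgroup X))⁻¹ * x * ⟨s, hs⟩ := by
      apply Subtype.ext
      simp only [Subgroup.coe_mul, Subgroup.coe_inv]
      rw [hy, hgcs]
      calc (c * s)⁻¹ * (x : X) * (c * s) = s⁻¹ * (c⁻¹ * (x : X) * c) * s := by group
        _ = s⁻¹ * (x : X) * s := by rw [hcx]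
    rw [hy', map_mul, map_mul, map_inv]
    rw [mul_comm, ← mul_assoc, mul_inv_cancel, one_mul]
  have h1 := transfer_apply_of_mem_normal' (S : Subgroup X) P hPS φ hinv z hzP
  have h2 : MonoidHom.transfer φ z = 1 :=
    Abelianization.commutator_subset_ker (MonoidHom.transfer φ) hzC
  rw [h2] at h1
  set w : (S : Subgroup X) := ⟨z, hPS hzP⟩ with hw
  have h3 : w ^ (S : Subgroup X).index ∈ commutator (S : Subgroup X) := by
    rw [← Abelianization.ker_of, MonoidHom.mem_ker, map_pow]
    exact h1.symm
  obtain ⟨k, hk⟩ := (S.2 w)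
  have hcop : ((S : Subgroup X).index).Coprime (orderOf w) := by
    have h4 : orderOf w ∣ p ^ k := orderOf_dvd_of_pow_eq_one hk
    have h5 : ((S : Subgroup X).index).Coprime (p ^ k) :=
      Nat.Coprime.pow_right k
        ((Nat.Coprime.symm ((Nat.Prime.coprime_iff_not_dvd hp).mpr S.not_dvd_index)))
    exact Nat.Coprime.coprime_dvd_right h4 h5
  obtain ⟨m, hm⟩ := exists_pow_eq_self_of_coprime hcop
  have h6 : w ∈ commutator (S : Subgroup X) := by
    rw [← hm]; exact pow_mem h3 m
  rw [← Subgroup.map_subtype_commutator]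
  exact ⟨w, h6, rfl⟩

end Cfsg.Agent.Lib.Helper41
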