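import Cfsg.Agent.Lib.Helper41.SecTransport
import Cfsg.Agent.Lib.Helper41.SecLemmas2

set_option autoImplicit false

namespace Cfsg.Agent.Lib.Helper41

open Cfsg
open scoped commutatorElement

universe u

section generic

variable {G : Type*} [Group G] {p : ℕ}

theorem ftransAt_le_famD {𝓦 : Set (Subgroup G → Subgroup G)} {H S : Subgroup G}
    (h : FTransAt 𝓦 H S) : S ⊓ ⁅H, H⁆ ≤ famD 𝓦 S := by
  rw [h]
  unfold famD
  refine iSup₂_mono (fun W _ => ?_)
  exact inf_le_inf_left _ (Subgroup.commutator_mono (inf_le_inf_right _ le_top)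
    (inf_le_inf_right _ le_top))

theorem ftransAt_top_of_le {𝓦 : Set (Subgroup G → Subgroup G)} {S : Subgroup G}
    (h : S ⊓ ⁅(⊤ : Subgroup G), ⊤⁆ ≤ famD 𝓦 S) : FTransAt 𝓦 ⊤ S := by
  apply le_antisymm h
  refine iSup₂_le (fun W _ => ?_)
  exact inf_le_inf_left _ (Subgroup.commutator_mono inf_le_left inf_le_left)

theorem map_top_of_surjective' {Y : Type*} [Group Y] (f : G →* Y) (hf : Function.Surjective f) :
    (⊤ : Subgroup G).map f = ⊤ := by
  rw [← MonoidHom.range_eq_map]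
  exact MonoidHom.range_eq_top.mpr hf

/-- the focal subgroup splits along the Frattini factorization -/
theorem inf_commutator_le_of_split [Finite G] [Fact p.Prime] (S : Sylow p G) {P : Subgroup G}
    [P.Normal] (hPS : P ≤ (S : Subgroup G)) :
    (S : Subgroup G) ⊓ ⁅(⊤ : Subgroup G), ⊤⁆ ≤
      ((S : Subgroup G) ⊓ ⁅Subgroup.normalizer
          (((S : Subgroup G) ⊓ (P ⊔ Subgroup.centralizer (P : Set G)) : Subgroup G) : Set G),
        Subgroup.normalizer
          (((S : Subgroup G) ⊓ (P ⊔ Subgroup.centralizer (P : Set G)) : Subgroup G) : Set G)⁆) ⊔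
      ((S : Subgroup G) ⊓ ⁅Subgroup.centralizer (P : Set G) ⊔ (S : Subgroup G),
        Subgroup.centralizer (P : Set G) ⊔ (S : Subgroup G)⁆) := by
  set C := Subgroup.centralizer (P : Set G) with hC
  set G₁ := Subgroup.normalizer (((S : Subgroup G) ⊓ (P ⊔ C) : Subgroup G) : Set G) with hG₁
  haveI hCn : C.Normal := Subgroup.normal_centralizer
  have hSG₁ : (S : Subgroup G) ≤ G₁ := le_normalizer_inf_of_normal _ (P ⊔ C)
  apply relative_focal (p := p) le_top S.2 (sylow_relIndex_top S)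
  intro x hx u _ hxu
  have hux : u * x * u⁻¹ ∈ (S : Subgroup G) := by
    have h1 : x⁻¹ * ⁅x, u⁆ ∈ (S : Subgroup G) := Subgroup.mul_mem _ (Subgroup.inv_mem _ hx) hxu
    have h2 : x⁻¹ * ⁅x, u⁆ = (u * x * u⁻¹)⁻¹ := by rw [commutatorElement_def]; group
    rw [h2] at h1
    simpa using Subgroup.inv_mem _ h1
  have hB : Subgroup.zpowers x ≤ (S : Subgroup G) := by
    rw [Subgroup.zpowers_le]; exact hx
  have hu : lc (u⁻¹)⁻¹ (Subgroup.zpowers x) ≤ (S : Subgroup G) := by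
    rw [inv_inv]
    intro y hy
    rw [mem_lc] at hy
    obtain ⟨k, hk⟩ := Subgroup.mem_zpowers_iff.mp hy
    have : y = (u * x * u⁻¹) ^ k := by
      rw [conj_zpow, hk]; group
    rw [this]
    exact Subgroup.zpow_mem _ hux k
  obtain ⟨n, hn, c, hc, hunc, hnB⟩ := exists_split S hPS hB hu
  have hx₁ : n⁻¹ * x * n ∈ (S : Subgroup G) := by
    apply hnB
    rw [mem_lc]
    have : n⁻¹⁻¹ * (n⁻¹ * x * n) * n⁻¹ = x := by group
    rw [this]
    exact Subgroup.mem_zpowers x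
  have hu' : u = c⁻¹ * n⁻¹ := by
    have : u = (u⁻¹)⁻¹ := by simp
    rw [this, hunc]; group
  have e : ⁅x, u⁆ = ⁅x, n⁻¹⁆ * ⁅n⁻¹ * x * n, c⁻¹⁆ := by
    rw [hu']; simp only [commutatorElement_def]; group
  have h1 : ⁅x, n⁻¹⁆ ∈ (S : Subgroup G) := by
    have : ⁅x, n⁻¹⁆ = x * (n⁻¹ * x * n)⁻¹ := by simp only [commutatorElement_def]; group
    rw [this]
    exact Subgroup.mul_mem _ hx (Subgroup.inv_mem _ hx₁)
  have h2 : ⁅n⁻¹ * x * n, c⁻¹⁆ ∈ (S : Subgroup G) := by
    have : ⁅n⁻¹ * x * n, c⁻¹⁆ = ⁅x, n⁻¹⁆⁻¹ * ⁅x, u⁆ := by rw [e]; group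
    rw [this]
    exact Subgroup.mul_mem _ (Subgroup.inv_mem _ h1) hxu
  rw [e]
  refine Subgroup.mul_mem _ (Subgroup.mem_sup_left ⟨h1, ?_⟩) (Subgroup.mem_sup_right ⟨h2, ?_⟩)
  · exact Subgroup.commutator_mem_commutator (hSG₁ hx) (G₁.inv_mem hn)
  · exact Subgroup.commutator_mem_commutator (Subgroup.mem_sup_right hx₁)
      (Subgroup.mem_sup_left (C.inv_mem hc))

end generic

section quot

variable {X : Type u} [Group X] [Finite X] {p : ℕ} [Fact p.Prime]
  {𝓦 : Set (∀ (Q : Type u) [Group Q], Subgroup Q)}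

theorem not_dvd_relIndex_map_top (S : Sylow p X) {Y : Type u} [Group Y] (f : X →* Y)
    (hf : Function.Surjective f) : ¬ p ∣ ((S : Subgroup X).map f).relIndex ⊤ := by
  rw [Subgroup.relIndex_top_right]
  intro h
  exact S.not_dvd_index (h.trans (Subgroup.index_map_dvd _ hf))

/-- control of transfer lifts from the quotient by a normal `p'`-subgroup -/
theorem ftransAt_of_quotient_coprime (h𝓦 : ∀ W ∈ 𝓦, IsCharPFunctor.{u} p W) (S : Sylow p X)
    (K : Subgroup X) [K.Normal] (hK : (Nat.card K).Coprime p) (hgood : GoodT p 𝓦 (X ⧸ K)) :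
    FTransAt (indFam 𝓦 X) ⊤ (S : Subgroup X) := by
  have hp : p.Prime := Fact.out
  apply ftransAt_top_of_le
  set f := QuotientGroup.mk' K with hf
  have hfs : Function.Surjective f := QuotientGroup.mk'_surjective K
  have hSK : (S : Subgroup X) ⊓ K = ⊥ :=
    Cfsg.Agent.Lib.Helper40.isPGroup_inf_coprime_eq_bot _ _ S.2 hK
  have hinj : ∀ t ∈ (S : Subgroup X), f t = 1 → t = 1 := by
    intro t ht h1
    have h2 : t ∈ K := (QuotientGroup.eq_one_iff t).mp h1
    have : t ∈ (S : Subgroup X) ⊓ K := ⟨ht, h2⟩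
    rw [hSK] at this
    exact Subgroup.mem_bot.mp this
  have hFT := ftransAt_of_controls (isConjugacyFunctor_indFam h𝓦 (X ⧸ K)) hgood
    (M := (S : Subgroup X).map f) le_top (S.2.map f) (not_dvd_relIndex_map_top S f hfs)
  set D := famD (indFam 𝓦 X) (S : Subgroup X) with hD
  have hDS : D ≤ (S : Subgroup X) := by
    rw [hD]; unfold famD
    exact iSup₂_le (fun _ _ => inf_le_left)
  have hterm : ∀ W' ∈ indFam 𝓦 (X ⧸ K), (S : Subgroup X).map f ⊓
      ⁅(⊤ : Subgroup (X ⧸ K)) ⊓ Subgroup.normalizer ((W' ((S : Subgroup X).map f) : Subgroup (X ⧸ K)) :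
          Set (X ⧸ K)),
        (⊤ : Subgroup (X ⧸ K)) ⊓ Subgroup.normalizer ((W' ((S : Subgroup X).map f) :
          Subgroup (X ⧸ K)) : Set (X ⧸ K))⁆ ≤ D.map f := by
    rintro _ ⟨W, hW, rfl⟩
    simp only
    set E := inducedFunctor (G := X) W (S : Subgroup X) with hE
    have hEmap : inducedFunctor (G := X ⧸ K) W ((S : Subgroup X).map f) = E.map f :=
      inducedFunctor_map_injOn W (h𝓦 W hW) f _ S.2 hinj
    rw [hEmap]
    set N := (⊤ : Subgroup X) ⊓ Subgroup.normalizer (E : Set X) with hN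
    have hEp : IsPGroup p E := S.2.to_le (inducedFunctor_le W _)
    have hNbar : (⊤ : Subgroup (X ⧸ K)) ⊓ Subgroup.normalizer ((E.map f : Subgroup (X ⧸ K)) :
        Set (X ⧸ K)) ≤ N.map f := by
      rintro ybar ⟨-, hy⟩
      obtain ⟨y, hyN, rfl⟩ := exists_lift_normalizer_of_coprime K hK hEp ybar hy
      exact ⟨y, ⟨trivial, hyN⟩, rfl⟩
    rintro ybar ⟨⟨s, hs, rfl⟩, hy2⟩
    have hy3 : f s ∈ ⁅N, N⁆.map f := by
      rw [Subgroup.map_commutator]
      exact Subgroup.commutator_mono hNbar hNbar hy2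
    obtain ⟨n', hn', hn's⟩ := hy3
    have hSN : (S : Subgroup X) ≤ N := by
      refine le_inf le_top ?_
      exact Subgroup.le_normalizer.trans (le_normalizer_inducedFunctor W (h𝓦 W hW) _ S.2)
    have hNN : ⁅N, N⁆ ≤ N := Subgroup.commutator_le.mpr (fun a ha b hb => by
      rw [commutatorElement_def]
      exact N.mul_mem (N.mul_mem (N.mul_mem ha hb) (N.inv_mem ha)) (N.inv_mem hb))
    set k := n'⁻¹ * s with hk
    have hkK : k ∈ K := by
      rw [← QuotientGroup.eq_one_iff, hk]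
      show f (n'⁻¹ * s) = 1
      rw [map_mul, map_inv, hn's, inv_mul_cancel]
    have hkN : k ∈ N := N.mul_mem (N.inv_mem (hNN hn')) (hSN hs)
    have hkm : k ^ Nat.card K = 1 := by
      have h0 : (⟨k, hkK⟩ : ↥K) ^ Nat.card ↥K = 1 := pow_card_eq_one'
      have h00 := congrArg Subtype.val h0
      rw [Subgroup.coe_pow] at h00
      exact h00
    have hcop : (Nat.card K).Coprime (orderOf s) := by
      obtain ⟨a, ha⟩ := S.2 ⟨s, hs⟩
      have ha' : s ^ p ^ a = 1 := by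
        have := congrArg Subtype.val ha
        simpa using this
      exact Nat.Coprime.coprime_dvd_right (orderOf_dvd_of_pow_eq_one ha') (hK.pow_right a)
    have hsN' : s ∈ ⁅N, N⁆ := mem_commutator_of_mul_coprime hn' hkN (by rw [hk]; group) hkm hcop
    refine ⟨s, ?_, rfl⟩
    have hle : (S : Subgroup X) ⊓ ⁅N, N⁆ ≤ D := by
      rw [hD]; unfold famD
      exact le_biSup (f := fun (W' : Subgroup X → Subgroup X) =>
        (S : Subgroup X) ⊓ ⁅(⊤ : Subgroup X) ⊓ Subgroup.normalizer ((W' (S : Subgroup X) : Subgroup X) :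
          Set X), (⊤ : Subgroup X) ⊓ Subgroup.normalizer ((W' (S : Subgroup X) : Subgroup X) : Set X)⁆)
        (⟨W, hW, rfl⟩ : inducedFunctor (G := X) W ∈ indFam 𝓦 X)
    exact hle ⟨hs, hsN'⟩
  intro z hz
  have h1 : f z ∈ (S : Subgroup X).map f ⊓ ⁅(⊤ : Subgroup (X ⧸ K)), ⊤⁆ := by
    refine ⟨⟨z, hz.1, rfl⟩, ?_⟩
    rw [← map_top_of_surjective' f hfs, ← Subgroup.map_commutator]
    exact ⟨z, hz.2, rfl⟩
  rw [hFT] at h1
  have h2 : f z ∈ D.map f := (iSup₂_le hterm) h1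
  obtain ⟨d, hd, hdz⟩ := h2
  have h3 : d⁻¹ * z ∈ (S : Subgroup X) ⊓ K := by
    have h4 : f (d⁻¹ * z) = 1 := by rw [map_mul, map_inv, hdz, inv_mul_cancel]
    exact ⟨Subgroup.mul_mem _ (Subgroup.inv_mem _ (hDS hd)) hz.1, (QuotientGroup.eq_one_iff _).mp h4⟩
  rw [hSK, Subgroup.mem_bot] at h3
  have : z = d := by
    have := congrArg (fun t => d * t) h3
    simpa using this
  rw [this]; exact hd

/-- control of transfer in the quotient by a normal `p`-subgroup `P`, together with control in the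
preimages `M_W` of the normalizers of the `W(S/P)`, gives `S ∩ X' ≤ D P` -/
theorem inf_commutator_le_sup_of_quotient (h𝓦 : ∀ W ∈ 𝓦, IsCharPFunctor.{u} p W) (S : Sylow p X)
    (P : Subgroup X) [P.Normal] (hPS : P ≤ (S : Subgroup X)) (hgood : GoodT p 𝓦 (X ⧸ P))
    (D : Subgroup X)
    (hM : ∀ W ∈ 𝓦, (S : Subgroup X) ⊓
      ⁅Subgroup.normalizer (((inducedFunctor (G := X ⧸ P) W
          ((S : Subgroup X).map (QuotientGroup.mk' P))).comap (QuotientGroup.mk' P) : Subgroup X) : Set X),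
        Subgroup.normalizer (((inducedFunctor (G := X ⧸ P) W
          ((S : Subgroup X).map (QuotientGroup.mk' P))).comap (QuotientGroup.mk' P) : Subgroup X) : Set X)⁆
        ≤ D) :
    (S : Subgroup X) ⊓ ⁅(⊤ : Subgroup X), ⊤⁆ ≤ D ⊔ P := by
  set f := QuotientGroup.mk' P with hf
  have hfs : Function.Surjective f := QuotientGroup.mk'_surjective P
  have hFT := ftransAt_of_controls (isConjugacyFunctor_indFam h𝓦 (X ⧸ P)) hgood
    (M := (S : Subgroup X).map f) le_top (S.2.map f) (not_dvd_relIndex_map_top S f hfs)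
  have hterm : ∀ W' ∈ indFam 𝓦 (X ⧸ P), (S : Subgroup X).map f ⊓
      ⁅(⊤ : Subgroup (X ⧸ P)) ⊓ Subgroup.normalizer ((W' ((S : Subgroup X).map f) : Subgroup (X ⧸ P)) :
          Set (X ⧸ P)),
        (⊤ : Subgroup (X ⧸ P)) ⊓ Subgroup.normalizer ((W' ((S : Subgroup X).map f) :
          Subgroup (X ⧸ P)) : Set (X ⧸ P))⁆ ≤ D.map f := by
    rintro _ ⟨W, hW, rfl⟩
    simp only
    set Ebar := inducedFunctor (G := X ⧸ P) W ((S : Subgroup X).map f) with hEbar
    set M := Subgroup.normalizer ((Ebar.comap f : Subgroup X) : Set X) with hMdef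
    have hMmap : (⊤ : Subgroup (X ⧸ P)) ⊓ Subgroup.normalizer ((Ebar : Subgroup (X ⧸ P)) : Set (X ⧸ P))
        = M.map f := by
      rw [top_inf_eq, hMdef, ← Subgroup.comap_normalizer_eq_of_surjective _ hfs,
        Subgroup.map_comap_eq_self_of_surjective hfs]
    rw [hMmap, ← Subgroup.map_commutator]
    rintro ybar ⟨⟨s, hs, rfl⟩, ⟨m', hm', hm's⟩⟩
    have hu : m'⁻¹ * s ∈ P := by
      rw [← QuotientGroup.eq_one_iff]
      show f (m'⁻¹ * s) = 1
      rw [map_mul, map_inv, hm's, inv_mul_cancel]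
    have hm'S : m' ∈ (S : Subgroup X) := by
      have : m' = s * (m'⁻¹ * s)⁻¹ := by group
      rw [this]
      exact Subgroup.mul_mem _ hs (Subgroup.inv_mem _ (hPS hu))
    exact ⟨m', hM W hW ⟨hm'S, hm'⟩, hm's⟩
  intro z hz
  have h1 : f z ∈ (S : Subgroup X).map f ⊓ ⁅(⊤ : Subgroup (X ⧸ P)), ⊤⁆ := by
    refine ⟨⟨z, hz.1, rfl⟩, ?_⟩
    rw [← map_top_of_surjective' f hfs, ← Subgroup.map_commutator]
    exact ⟨z, hz.2, rfl⟩
  rw [hFT] at h1
  have h2 : f z ∈ D.map f := (iSup₂_le hterm) h1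
  obtain ⟨d, hd, hdz⟩ := h2
  have h3 : d⁻¹ * z ∈ P := by
    rw [← QuotientGroup.eq_one_iff]
    show f (d⁻¹ * z) = 1
    rw [map_mul, map_inv, hdz, inv_mul_cancel]
  have : z = d * (d⁻¹ * z) := by group
  rw [this]
  exact Subgroup.mul_mem _ (Subgroup.mem_sup_left hd) (Subgroup.mem_sup_right h3)

end quot

end Cfsg.Agent.Lib.Helper41
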