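import Cfsg.Agent.Lib.Helper41.Sections
import Cfsg.Agent.Lib.Helper41.Frobenius
import Cfsg.Agent.Lib.Helper41.WV
import Cfsg.Agent.Lib.Helper42.PResidual

set_option autoImplicit false

namespace Cfsg.Agent.Lib.Helper41

open Cfsg

universe u

section aux

variable {X : Type*} [Group X] {p : ℕ}

/-- lifting an element of order prime to `p` of a quotient to an element of order prime to `p` -/
theorem exists_coprime_lift [Finite X] [Fact p.Prime] (M : Subgroup X) [M.Normal] (g : X)
    (h : (orderOf (QuotientGroup.mk' M g)).Coprime p) :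
    ∃ k : ℕ, (orderOf (g ^ k)).Coprime p ∧ QuotientGroup.mk' M (g ^ k) = QuotientGroup.mk' M g := by
  have hp : p.Prime := Fact.out
  have hpos : orderOf g ≠ 0 := (orderOf_pos g).ne'
  obtain ⟨a, m, hm, hxm⟩ := Nat.exists_eq_pow_mul_and_not_dvd hpos p hp.ne_one
  have hc : (p ^ a).Coprime (orderOf (QuotientGroup.mk' M g)) := Nat.Coprime.pow_left a h.symm
  obtain ⟨c, hc'⟩ := exists_pow_eq_self_of_coprime hc
  refine ⟨p ^ a * c, ?_, ?_⟩
  · rw [pow_mul]
    have h1 : orderOf (g ^ p ^ a) = m := by
      rw [orderOf_pow, hxm, Nat.gcd_eq_right (Dvd.intro _ rfl)]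
      rw [Nat.mul_div_cancel_left _ (pow_pos hp.pos a)]
    have h2 : orderOf ((g ^ p ^ a) ^ c) ∣ m := by
      rw [← h1]; exact orderOf_pow_dvd c
    exact Nat.Coprime.coprime_dvd_left h2 ((Nat.Prime.coprime_iff_not_dvd hp).mpr hm).symm
  · rw [pow_mul, map_pow, map_pow]
    exact hc'

theorem map_commutator_mk' (N : Subgroup X) [N.Normal] :
    (commutator X).map (QuotientGroup.mk' N) = commutator (X ⧸ N) := by
  rw [commutator_def, commutator_def, Subgroup.map_commutator]
  have : (⊤ : Subgroup X).map (QuotientGroup.mk' N) = ⊤ := by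
    rw [← MonoidHom.range_eq_map]
    exact MonoidHom.range_eq_top.mpr (QuotientGroup.mk'_surjective N)
  rw [this]

/-- elements of order prime to `p` normalizing `T` centralize it -/
def PAut (p : ℕ) (T : Subgroup X) : Prop :=
  ∀ g ∈ Subgroup.normalizer (T : Set X), (orderOf g).Coprime p → g ∈ Subgroup.centralizer (T : Set X)

theorem PAut.conj {T : Subgroup X} (h : PAut p T) (x : X) : PAut p (lc x T) := by
  intro g hg hcop
  rw [normalizer_lc, mem_lc] at hg
  have h1 : orderOf (x⁻¹ * g * x) = orderOf g := by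
    have := Cfsg.Agent.Lib.Helper42.orderOf_conj_eq x⁻¹ g
    rwa [inv_inv] at this
  have h2 := h _ hg (h1 ▸ hcop)
  rw [centralizer_lc, mem_lc]
  exact h2

theorem not_le_commutator_of_normal_sylow [Finite X] [Fact p.Prime] (T : Subgroup X) [T.Normal]
    (hTp : IsPGroup p T) (hidx : ¬ p ∣ T.index) (hne : T ≠ ⊥)
    (hN : ∀ g : X, (orderOf g).Coprime p → g ∈ Subgroup.centralizer (T : Set X)) :
    ¬ T ≤ commutator X := by
  intro hle
  have hp : p.Prime := Fact.out
  let P : Sylow p X := hTp.toSylow hidx
  have hPT : (P : Subgroup X) = T := rfl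
  have hfc : FrobCond p X := by
    intro Q hQ g _ hcop
    have hQT : Q ≤ T := by
      obtain ⟨Q', hQ'⟩ := hQ.exists_le_sylow
      obtain ⟨x, hx⟩ := MulAction.exists_smul_eq X P Q'
      have h1 : (Q' : Subgroup X) = T := by
        rw [← hx, Sylow.coe_subgroup_smul, hPT]
        exact Subgroup.normal_iff_map_conj_eq.mp inferInstance x
      rw [← h1]; exact hQ'
    exact Subgroup.centralizer_le hQT (hN g hcop)
  obtain ⟨N, hNn, hc⟩ := (Cfsg.Agent.Lib.Helper03.hasNormalPComplement_iff P).mp
    (hasNormalPComplement_iff_frobCond.mpr hfc)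
  rw [hPT] at hc
  haveI := hNn
  -- the quotient `X ⧸ N` is a nontrivial `p`-group
  have hcard : Nat.card (X ⧸ N) = Nat.card T := by
    rw [← Subgroup.index_eq_card]
    exact hc.symm.index_eq_card
  obtain ⟨k, hk⟩ := IsPGroup.exists_card_eq hTp
  have hpg : IsPGroup p (X ⧸ N) := IsPGroup.of_card (hcard.trans hk)
  haveI : Nontrivial (X ⧸ N) := by
    rw [← Finite.one_lt_card_iff_nontrivial, hcard]
    exact (Subgroup.one_lt_card_iff_ne_bot T).mpr hne
  haveI : Group.IsNilpotent (X ⧸ N) := hpg.isNilpotent
  have hlt := IsSolvable.commutator_lt_top_of_nontrivial (X ⧸ N)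
  apply hlt.ne
  -- but `T` maps onto the quotient and lies in the commutator subgroup
  have hsup : N ⊔ T = ⊤ := hc.sup_eq_top
  have h1 : T.map (QuotientGroup.mk' N) = ⊤ := by
    have h2 : (N ⊔ T).map (QuotientGroup.mk' N) = ⊤ := by
      rw [hsup, ← MonoidHom.range_eq_map]
      exact MonoidHom.range_eq_top.mpr (QuotientGroup.mk'_surjective N)
    rw [Subgroup.map_sup] at h2
    have h3 : N.map (QuotientGroup.mk' N) = ⊥ := by
      rw [Subgroup.map_eq_bot_iff, QuotientGroup.ker_mk']
    rwa [h3, bot_sup_eq] at h2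
  have h4 : (commutator X).map (QuotientGroup.mk' N) = commutator (X ⧸ N) := by
    rw [commutator_def, commutator_def, Subgroup.map_commutator]
    have : (⊤ : Subgroup X).map (QuotientGroup.mk' N) = ⊤ := by
      rw [← MonoidHom.range_eq_map]
      exact MonoidHom.range_eq_top.mpr (QuotientGroup.mk'_surjective N)
    rw [this]
  rw [← h4, eq_top_iff, ← h1]
  exact Subgroup.map_mono hle

end aux

section main

variable {p : ℕ} [Fact p.Prime] (W : ∀ (Q : Type u) [Group Q], Subgroup Q)

theorem sec_claim (hW : IsCharPFunctor.{u} p W) : ∀ (n : ℕ) (X : Type u) [Group X] [Finite X],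
    Nat.card X ≤ n → SecCtl p W X → ∀ T : Subgroup X, IsPGroup p T → ¬ p ∣ T.index → T ≠ ⊥ →
      PAut p T → ¬ T ≤ commutator X := by
  intro n
  induction n with
  | zero =>
    intro X _ _ hcard
    have := Nat.card_pos (α := X)
    omega
  | succ n ih =>
    intro X _ _ hcard hsec T hTp hidx hne hpa hle
    obtain ⟨T₀, -, hT₀p, hidx₀, heq⟩ := hsec.top W hW
    rw [Subgroup.relIndex_top_right] at hidx₀
    simp only [top_inf_eq] at heq
    obtain ⟨x, hx⟩ : ∃ x : X, T₀ = lc x T := by
      obtain ⟨x, hx⟩ := MulAction.exists_smul_eq X (hTp.toSylow hidx) (hT₀p.toSylow hidx₀)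
      refine ⟨x, ?_⟩
      have := congrArg (fun P : Sylow p X => (P : Subgroup X)) hx
      simp only [Sylow.coe_subgroup_smul] at this
      exact this.symm
    have hne₀ : T₀ ≠ ⊥ := by
      rw [hx]; exact fun h => hne (lc_eq_bot_iff.mp h)
    have hpa₀ : PAut p T₀ := hx ▸ hpa.conj x
    have hle₀ : T₀ ≤ commutator X := by
      rw [hx]
      intro y hy
      rw [mem_lc] at hy
      have h1 := hle hy
      have h2 : (commutator X).Normal := inferInstance
      have h3 := h2.conj_mem _ h1 x
      have e : x * (x⁻¹ * y * x) * x⁻¹ = y := by group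
      rwa [e] at h3
    clear hx hle hpa hne hidx hTp T
    set Nw := Subgroup.normalizer ((inducedFunctor W T₀ : Subgroup X) : Set X) with hNw
    have hTN : T₀ ≤ Nw :=
      Subgroup.le_normalizer.trans (le_normalizer_inducedFunctor W hW T₀ hT₀p)
    have hT₀N' : T₀ ≤ ⁅Nw, Nw⁆ := by
      have h1 : T₀ ⊓ ⁅(⊤ : Subgroup X), ⊤⁆ = T₀ := inf_eq_left.mpr (by rw [← commutator_def]; exact hle₀)
      rw [h1] at heq
      exact inf_eq_left.mp heq.symm
    by_cases hNtop : Nw = ⊤
    · haveI hMn : (inducedFunctor W T₀).Normal := Subgroup.normalizer_eq_top_iff.mp hNtop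
      set M := inducedFunctor W T₀ with hM
      have hMne : M ≠ ⊥ := inducedFunctor_ne_bot W hW T₀ hT₀p hne₀
      have hMT : M ≤ T₀ := inducedFunctor_le W T₀
      by_cases hTb : T₀.map (QuotientGroup.mk' M) = ⊥
      · have h1 : T₀ ≤ M := by
          have := (Subgroup.map_eq_bot_iff _).mp hTb
          rwa [QuotientGroup.ker_mk'] at this
        have hTM : T₀ = M := le_antisymm h1 hMT
        haveI : T₀.Normal := hTM ▸ hMn
        exact not_le_commutator_of_normal_sylow T₀ hT₀p hidx₀ hne₀
          (fun g hg => hpa₀ g (by rw [Subgroup.normalizer_eq_top]; trivial) hg) hle₀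
      · have hcardlt : Nat.card (X ⧸ M) < Nat.card X := by
          have h1 := Subgroup.card_eq_card_quotient_mul_card_subgroup M
          have h2 : 1 < Nat.card M := (Subgroup.one_lt_card_iff_ne_bot M).mpr hMne
          have h3 : 0 < Nat.card (X ⧸ M) := Nat.card_pos
          nlinarith
        refine ih (X ⧸ M) (by omega) (hsec.quotient W hW M) (T₀.map (QuotientGroup.mk' M))
          (hT₀p.map _) ?_ hTb ?_ ?_
        · intro hdvd
          exact hidx₀ (dvd_trans hdvd (Subgroup.index_map_dvd T₀ (QuotientGroup.mk'_surjective M)))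
        · intro gbar hgbar hcop
          obtain ⟨g, rfl⟩ := QuotientGroup.mk'_surjective M gbar
          obtain ⟨k, hk1, hk2⟩ := exists_coprime_lift M g hcop
          have hgN : g ∈ Subgroup.normalizer (T₀ : Set X) := by
            have h1 : g ∈ (Subgroup.normalizer ((T₀.map (QuotientGroup.mk' M) : Subgroup (X ⧸ M)) :
                Set (X ⧸ M))).comap (QuotientGroup.mk' M) := hgbar
            rw [Subgroup.comap_normalizer_eq_of_surjective _ (QuotientGroup.mk'_surjective M),
              Subgroup.comap_map_eq, QuotientGroup.ker_mk', sup_of_le_left hMT] at h1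
            exact h1
          have h2 := hpa₀ _ (Subgroup.pow_mem _ hgN k) hk1
          rw [← hk2]
          rw [Subgroup.mem_centralizer_iff]
          rintro _ ⟨y, hy, rfl⟩
          have h3 := (Subgroup.mem_centralizer_iff.mp h2) y hy
          rw [← map_mul, ← map_mul, h3]
        · rw [← map_commutator_mk']
          exact Subgroup.map_mono hle₀
    · have hcardlt : Nat.card Nw < Nat.card X := by
        refine lt_of_le_of_ne (Subgroup.card_le_card_group Nw) ?_
        intro h
        exact hNtop ((Subgroup.card_eq_iff_eq_top Nw).mp h)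
      refine ih ↥Nw (by omega) (hsec.subgroup W hW Nw) (T₀.subgroupOf Nw)
        hT₀p.comap_subtype ?_ ?_ ?_ ?_
      · intro hdvd
        apply hidx₀
        rw [← Subgroup.relIndex_mul_index hTN]
        exact dvd_mul_of_dvd_left hdvd _
      · intro h
        apply hne₀
        rw [Subgroup.subgroupOf_eq_bot] at h
        exact (disjoint_of_le_iff_left_eq_bot hTN).mp h
      · intro g hg hcop
        have hgN : (g : X) ∈ Subgroup.normalizer (T₀ : Set X) := by
          rw [Subgroup.mem_normalizer_iff] at hg ⊢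
          intro y
          constructor
          · intro hy
            have := (hg ⟨y, hTN hy⟩).mp (Subgroup.mem_subgroupOf.mpr hy)
            exact Subgroup.mem_subgroupOf.mp this
          · intro hy
            have hyN : y ∈ Nw := by
              have h1 := Nw.mul_mem (Nw.mul_mem (Nw.inv_mem g.2) (hTN hy)) g.2
              have e : (g : X)⁻¹ * ((g : X) * y * (g : X)⁻¹) * (g : X) = y := by group
              rwa [e] at h1
            have := (hg ⟨y, hyN⟩).mpr (Subgroup.mem_subgroupOf.mpr hy)
            exact Subgroup.mem_subgroupOf.mp this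
        have h2 := hpa₀ _ hgN (by rwa [Subgroup.orderOf_coe])
        rw [Subgroup.mem_centralizer_iff]
        intro y hy
        have h3 := (Subgroup.mem_centralizer_iff.mp h2) (y : X) (Subgroup.mem_subgroupOf.mp hy)
        exact Subtype.ext h3
      · intro t ht
        have h1 : (t : X) ∈ ⁅Nw, Nw⁆ := hT₀N' (Subgroup.mem_subgroupOf.mp ht)
        rw [← Subgroup.map_subtype_commutator] at h1
        obtain ⟨c, hc, hct⟩ := h1
        have : c = t := Subtype.ext hct
        rwa [← this]

end main

end Cfsg.Agent.Lib.Helper41
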