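import Mathlib
import Cfsg.Prelude.Def_GeometricClasses
import Cfsg.Agent.Lib.Helper61.AschDefs
import Cfsg.Agent.Lib.Helper43.SpAschDefs
import Cfsg.Agent.Lib.Helper43.SpAschDefs2
import Cfsg.Agent.Lib.Helper43.AltForm
import Cfsg.Agent.Lib.Helper20.SympEmbed
import Cfsg.Agent.Lib.Helper04.AschE3

/-!
# K-SpAsch-Ec: a tensor-power Gram matrix with alternating factors gives the tensor-wreath class
-/

set_option autoImplicit false

namespace Cfsg.Agent.Lib.Helper41.SpAsch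

open Cfsg Cfsg.Geo Cfsg.Agent.Lib.Helper61.Asch Cfsg.Agent.Lib.Helper43.SpAsch
open scoped Matrix Kronecker MatrixGroups

section Congr

variable {F : Type*} [Field F] {m : ℕ}

/-- a skew-symmetric matrix in characteristic not two gives an alternating form -/
theorem ec_isAlt_of_skew (h2 : (2 : F) ≠ 0) (A : Matrix (Fin m) (Fin m) F) (hAt : Aᵀ = -A) :
    (Matrix.toBilin' A).IsAlt := by
  intro v
  rw [Matrix.toBilin'_apply']
  have h1 : v ⬝ᵥ (A *ᵥ v) = -(v ⬝ᵥ (A *ᵥ v)) := by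
    conv_lhs => rw [dotProduct_comm, ← Matrix.vecMul_transpose, ← Matrix.dotProduct_mulVec, hAt,
      Matrix.neg_mulVec, dotProduct_neg]
  have h3 : (2 : F) * (v ⬝ᵥ (A *ᵥ v)) = 0 := by
    rw [two_mul]
    nth_rewrite 1 [h1]
    ring
  rcases mul_eq_zero.mp h3 with h | h
  · exact absurd h h2
  · exact h

/-- two invertible skew-symmetric matrices of the same size are congruent (characteristic not two) -/
theorem ec_exists_congr_of_skew (h2 : (2 : F) ≠ 0) (A A' : Matrix (Fin m) (Fin m) F)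
    (hA : IsUnit A) (hA' : IsUnit A') (hAt : Aᵀ = -A) (hA't : A'ᵀ = -A') :
    ∃ C : GL (Fin m) F, (C : Matrix (Fin m) (Fin m) F)ᵀ * A * (C : Matrix (Fin m) (Fin m) F) = A' := by
  classical
  have hdet : A.det ≠ 0 := ((Matrix.isUnit_iff_isUnit_det _).mp hA).ne_zero
  have hdet' : A'.det ≠ 0 := ((Matrix.isUnit_iff_isUnit_det _).mp hA').ne_zero
  have hnd : (Matrix.toBilin' A).Nondegenerate :=
    LinearMap.BilinForm.nondegenerate_toBilin'_of_det_ne_zero' A hdet
  have hnd' : (Matrix.toBilin' A').Nondegenerate :=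
    LinearMap.BilinForm.nondegenerate_toBilin'_of_det_ne_zero' A' hdet'
  have halt := ec_isAlt_of_skew h2 A hAt
  have halt' := ec_isAlt_of_skew h2 A' hA't
  have hev := Cfsg.Agent.Lib.Helper43.even_finrank_of_isAlt_nondegenerate _ halt hnd
  rw [Module.finrank_fin_fun] at hev
  obtain ⟨m', hm'⟩ := hev
  have hfr : Module.finrank F (Fin m → F) = 2 * m' := by
    rw [Module.finrank_fin_fun]; omega
  obtain ⟨b, hb⟩ := Cfsg.Agent.Lib.Helper20.exists_symplectic_basis _ halt hnd m' hfr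
  obtain ⟨b', hb'⟩ := Cfsg.Agent.Lib.Helper20.exists_symplectic_basis _ halt' hnd' m' hfr
  obtain ⟨S, hS⟩ : ∃ S : Matrix (Fin m) (Fin m' ⊕ Fin m') F, S = (Pi.basisFun F (Fin m)).toMatrix b :=
    ⟨_, rfl⟩
  obtain ⟨T, hT⟩ : ∃ T : Matrix (Fin m' ⊕ Fin m') (Fin m) F, T = b.toMatrix (Pi.basisFun F (Fin m)) :=
    ⟨_, rfl⟩
  obtain ⟨S', hS'⟩ : ∃ S' : Matrix (Fin m) (Fin m' ⊕ Fin m') F,
      S' = (Pi.basisFun F (Fin m)).toMatrix b' := ⟨_, rfl⟩
  obtain ⟨T', hT'⟩ : ∃ T' : Matrix (Fin m' ⊕ Fin m') (Fin m) F,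
      T' = b'.toMatrix (Pi.basisFun F (Fin m)) := ⟨_, rfl⟩
  have hST : S * T = 1 := by rw [hS, hT]; exact Module.Basis.toMatrix_mul_toMatrix_flip _ _
  have hTS : T * S = 1 := by rw [hS, hT]; exact Module.Basis.toMatrix_mul_toMatrix_flip _ _
  have hST' : S' * T' = 1 := by rw [hS', hT']; exact Module.Basis.toMatrix_mul_toMatrix_flip _ _
  have hTS' : T' * S' = 1 := by rw [hS', hT']; exact Module.Basis.toMatrix_mul_toMatrix_flip _ _
  have hJ : Sᵀ * A * S = Matrix.J (Fin m') F := by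
    have := LinearMap.BilinForm.toMatrix_mul_basis_toMatrix (Pi.basisFun F (Fin m)) b (Matrix.toBilin' A)
    rw [LinearMap.BilinForm.toMatrix_basisFun, LinearMap.BilinForm.toMatrix'_toBilin', hb, ← hS] at this
    exact this
  have hJ' : S'ᵀ * A' * S' = Matrix.J (Fin m') F := by
    have := LinearMap.BilinForm.toMatrix_mul_basis_toMatrix (Pi.basisFun F (Fin m)) b' (Matrix.toBilin' A')
    rw [LinearMap.BilinForm.toMatrix_basisFun, LinearMap.BilinForm.toMatrix'_toBilin', hb', ← hS'] at this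
    exact this
  have h1 : (S * T') * (S' * T) = 1 := by
    calc (S * T') * (S' * T) = S * (T' * S') * T := by simp only [Matrix.mul_assoc]
      _ = 1 := by rw [hTS', Matrix.mul_one, hST]
  have h1' : (S' * T) * (S * T') = 1 := by
    calc (S' * T) * (S * T') = S' * (T * S) * T' := by simp only [Matrix.mul_assoc]
      _ = 1 := by rw [hTS, Matrix.mul_one, hST']
  refine ⟨⟨S * T', S' * T, h1, h1'⟩, ?_⟩
  show (S * T')ᵀ * A * (S * T') = A'
  calc (S * T')ᵀ * A * (S * T') = T'ᵀ * (Sᵀ * A * S) * T' := by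
        rw [Matrix.transpose_mul]; simp only [Matrix.mul_assoc]
    _ = T'ᵀ * (S'ᵀ * A' * S') * T' := by rw [hJ, hJ']
    _ = (S' * T')ᵀ * A' * (S' * T') := by
        rw [Matrix.transpose_mul]; simp only [Matrix.mul_assoc]
    _ = A' := by rw [hST', Matrix.transpose_one, Matrix.one_mul, Matrix.mul_one]

end Congr


section Main

variable {F : Type*} [Field F] [Fintype F] {n : ℕ}

local notation "V" => (Fin n → F)
local notation "Mat" => Matrix (Fin n) (Fin n) F
local notation "Z" => scalars (Fin n) F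

theorem ec_two_ne_zero (hF : Odd (Fintype.card F)) : (2 : F) ≠ 0 := by
  intro h
  have h2 : ringChar F = 2 := by
    have hdvd : ringChar F ∣ 2 := by
      apply ringChar.dvd
      exact_mod_cast h
    rcases (Nat.dvd_prime Nat.prime_two).1 hdvd with h1 | h1
    · exact absurd h1 (CharP.ringChar_ne_one)
    · exact h1
  have := FiniteField.even_card_of_char_two h2
  rcases hF with ⟨k, hk⟩
  omega

/-- the form with a given skew invertible Gram matrix is symplectic -/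
theorem ec_isSymplecticForm (h2 : (2 : F) ≠ 0) {m : ℕ} (A : Matrix (Fin m) (Fin m) F) (hA : IsUnit A)
    (hAt : Aᵀ = -A) : IsSymplecticForm (fun x y : Fin m → F => Matrix.toBilin' A x y) := by
  have hdet : A.det ≠ 0 := ((Matrix.isUnit_iff_isUnit_det _).mp hA).ne_zero
  have hnd : (Matrix.toBilin' A).Nondegenerate :=
    LinearMap.BilinForm.nondegenerate_toBilin'_of_det_ne_zero' A hdet
  have halt := ec_isAlt_of_skew h2 A hAt
  refine ⟨⟨?_, ?_, ?_, ?_⟩, ?_, ?_, ?_⟩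
  · intro x y v
    simp only [map_add, LinearMap.add_apply]
  · intro c x v
    simp only [map_smul, LinearMap.smul_apply, smul_eq_mul]
  · intro v x y
    simp only [map_add]
  · intro c v x
    simp only [map_smul, smul_eq_mul]
  · intro v w
    exact (halt.neg_eq w v).symm
  · intro v
    exact halt v
  · intro v hv
    constructor
    · by_contra hcon
      push Not at hcon
      exact hv (hnd.2 v hcon)
    · by_contra hcon
      push Not at hcon
      exact hv (hnd.1 v hcon)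

theorem ec_gramMatrix_toBilin' {m : ℕ} (A : Matrix (Fin m) (Fin m) F) :
    gramMatrix (fun x y : Fin m → F => Matrix.toBilin' A x y) = A := by
  ext a b
  unfold gramMatrix
  simp only [Matrix.toBilin'_single]

theorem ec_sum_eq_dotProduct {κ : Type} [Fintype κ] (M : Matrix κ κ F) (x y : κ → F) :
    ∑ a, ∑ b, x a * M a b * y b = x ⬝ᵥ (M *ᵥ y) := by
  simp only [dotProduct, Matrix.mulVec, Finset.mul_sum, mul_assoc]

theorem ec_reindex_mulVec {m t : ℕ} (e : Fin n ≃ (Fin t → Fin m))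
    (W : Matrix (Fin t → Fin m) (Fin t → Fin m) F) (x : (Fin t → Fin m) → F) :
    (Matrix.reindex e.symm e.symm W) *ᵥ (x ∘ e) = (W *ᵥ x) ∘ e := by
  funext i
  simp only [Matrix.mulVec, dotProduct, Matrix.reindex_apply, Matrix.submatrix_apply, Function.comp_apply,
    Equiv.symm_symm]
  rw [← Equiv.sum_comp e]

/-- **K-SpAsch-Ec**. -/
theorem sgeom_wreath_of_alternating {f : V → V → F} (hf : IsSymplecticForm f) (hq : Odd (Fintype.card F))
    (K : Subgroup (GL (Fin n) F)) (m t : ℕ) (hm : 0 < m) (ht : Odd t) (ht3 : 3 ≤ t)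
    (hex : ¬ (Fintype.card F = 3 ∧ m = 2)) (e : Fin n ≃ (Fin t → Fin m)) (P : GL (Fin n) F)
    (G : Fin t → Matrix (Fin m) (Fin m) F) (c : F) (hc : c ≠ 0) (hG : ∀ i, IsUnit (G i))
    (hGalt : ∀ i, (G i)ᵀ = -G i) (hform : IsPowerForm f m t e P c G)
    (hK : K ≤ tensorWreathSubgroup m t e P) : SGeom f K := by
  classical
  have h2 : (2 : F) ≠ 0 := ec_two_ne_zero hq
  obtain ⟨G₀, hG₀⟩ : ∃ G₀ : Matrix (Fin m) (Fin m) F, G₀ = G ⟨0, by omega⟩ := ⟨_, rfl⟩
  have hG₀u : IsUnit G₀ := by rw [hG₀]; exact hG _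
  have hG₀t : G₀ᵀ = -G₀ := by rw [hG₀]; exact hGalt _
  have hC : ∀ i, ∃ C : GL (Fin m) F,
      (C : Matrix (Fin m) (Fin m) F)ᵀ * G i * (C : Matrix (Fin m) (Fin m) F) = G₀ :=
    fun i => ec_exists_congr_of_skew h2 (G i) G₀ (hG i) hG₀u (hGalt i) hG₀t
  choose C hCG using hC
  obtain ⟨w, hw⟩ : ∃ w : GL (Fin t → Fin m) F, w = Cfsg.Agent.Lib.Helper04.Asch.ptGL C := ⟨_, rfl⟩
  have hwmem : w ∈ tensorWreathStandard m t F := by
    rw [hw]
    exact Subgroup.subset_closure (Or.inl (Cfsg.Agent.Lib.Helper04.Asch.ptGL_isPureTensor C))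
  obtain ⟨P', hP'⟩ : ∃ P' : GL (Fin n) F, P' = P * glReindex e.symm w := ⟨_, rfl⟩
  have hK' : K ≤ tensorWreathSubgroup m t e P' := by
    intro k hk
    obtain ⟨k1, hk1, rfl⟩ := Subgroup.mem_map.mp (hK hk)
    obtain ⟨s, hs, rfl⟩ := Subgroup.mem_map.mp hk1
    refine Subgroup.mem_map.mpr ⟨glReindex e.symm (w⁻¹ * s * w),
      Subgroup.mem_map.mpr ⟨w⁻¹ * s * w, ?_, rfl⟩, ?_⟩
    · exact Subgroup.mul_mem _ (Subgroup.mul_mem _ (Subgroup.inv_mem _ hwmem) hs) hwmem
    · show P' * glReindex e.symm (w⁻¹ * s * w) * P'⁻¹ = P * glReindex e.symm s * P⁻¹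
      rw [hP', map_mul, map_mul, map_inv]
      group
  obtain ⟨f₁, hf₁⟩ : ∃ f₁ : (Fin m → F) → (Fin m → F) → F,
      f₁ = fun x y => Matrix.toBilin' G₀ x y := ⟨_, rfl⟩
  have hf₁s : IsSymplecticForm f₁ := by rw [hf₁]; exact ec_isSymplecticForm h2 G₀ hG₀u hG₀t
  have hgram : gramMatrix f₁ = G₀ := by rw [hf₁]; exact ec_gramMatrix_toBilin' G₀
  have hP'val : (P' : Mat) = (P : Mat) * Matrix.reindex e.symm e.symm
      (w : Matrix (Fin t → Fin m) (Fin t → Fin m) F) := by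
    rw [hP', Units.val_mul]
    rfl
  have hT : IsTensorPowerFormStructure id f f₁ e P' := by
    refine ⟨c, hc, ?_⟩
    intro x y
    rw [hP'val, ← Matrix.mulVec_mulVec, ← Matrix.mulVec_mulVec, ec_reindex_mulVec, ec_reindex_mulVec,
      hform, hgram]
    congr 1
    have e1 : ∀ x' y' : (Fin t → Fin m) → F,
        ∑ a, ∑ b, x' a * (∏ i, G i (a i) (b i)) * y' b =
          x' ⬝ᵥ (Cfsg.Agent.Lib.Helper04.Asch.PT G *ᵥ y') := fun x' y' =>
      ec_sum_eq_dotProduct (Cfsg.Agent.Lib.Helper04.Asch.PT G) x' y'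
    have e2 : ∑ a, ∑ b, x a * (∏ i : Fin t, G₀ (a i) (b i)) * id (y b) =
          x ⬝ᵥ (Cfsg.Agent.Lib.Helper04.Asch.PT (fun _ : Fin t => G₀) *ᵥ y) :=
      ec_sum_eq_dotProduct (Cfsg.Agent.Lib.Helper04.Asch.PT (fun _ : Fin t => G₀)) x y
    rw [e1, e2]
    have hwv : (w : Matrix (Fin t → Fin m) (Fin t → Fin m) F) =
        Cfsg.Agent.Lib.Helper04.Asch.PT (fun i => (C i : Matrix (Fin m) (Fin m) F)) := by
      rw [hw]; rfl
    have hcong : (w : Matrix (Fin t → Fin m) (Fin t → Fin m) F)ᵀ * Cfsg.Agent.Lib.Helper04.Asch.PT G *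
        (w : Matrix (Fin t → Fin m) (Fin t → Fin m) F) =
        Cfsg.Agent.Lib.Helper04.Asch.PT (fun _ : Fin t => G₀) := by
      have htr : (Cfsg.Agent.Lib.Helper04.Asch.PT (fun i => (C i : Matrix (Fin m) (Fin m) F)))ᵀ =
          Cfsg.Agent.Lib.Helper04.Asch.PT (fun i => (C i : Matrix (Fin m) (Fin m) F)ᵀ) := by
        ext u v
        rw [Matrix.transpose_apply, Cfsg.Agent.Lib.Helper04.Asch.PT_apply,
          Cfsg.Agent.Lib.Helper04.Asch.PT_apply]
        rfl
      rw [hwv, htr, Cfsg.Agent.Lib.Helper04.Asch.PT_mul, Cfsg.Agent.Lib.Helper04.Asch.PT_mul]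
      congr 1
      funext i
      exact hCG i
    rw [← hcong, ← Matrix.mulVec_mulVec, ← Matrix.mulVec_mulVec]
    conv_rhs => rw [Matrix.dotProduct_mulVec, Matrix.vecMul_transpose]
  exact SGeom.wreath hq m t e P' f₁ ht ht3 hex hf₁s hT hK'

end Main

end Cfsg.Agent.Lib.Helper41.SpAsch
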