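import Mathlib

/-!
# K-SpT-K1 (keystone 598004): a matrix with `M ^ r = l • 1`, `l ≠ 0`, `r ≠ 0` in an algebraically
closed field is diagonalisable.
-/

set_option autoImplicit false

namespace Cfsg.Agent.Lib.Helper41.SpT

open Matrix Polynomial

/-- A semisimple endomorphism of a finite-dimensional space over an algebraically closed field has a
basis of eigenvectors, indexed by `Fin n` when the space is `Fin n → K`. -/
theorem exists_eigenbasis_of_pow_scalar {K : Type*} [Field K] [IsAlgClosed K] {n : ℕ} (r : ℕ)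
    (hr : (r : K) ≠ 0) (M : Matrix (Fin n) (Fin n) K) (l : K) (hl : l ≠ 0)
    (hM : M ^ r = l • (1 : Matrix (Fin n) (Fin n) K)) :
    ∃ (e : Module.Basis (Fin n) K (Fin n → K)) (μ : Fin n → K), ∀ i, M *ᵥ e i = μ i • e i := by
  classical
  set f : Module.End K (Fin n → K) := Matrix.toLin' M with hf
  have hsep : (X ^ r - C l : K[X]).Separable := Polynomial.separable_X_pow_sub_C l hr hl
  have haev : Polynomial.aeval f (X ^ r - C l : K[X]) = 0 := by
    rw [map_sub, map_pow, Polynomial.aeval_X, Polynomial.aeval_C, hf, ← Matrix.toLin'_pow, hM]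
    rw [map_smul, Matrix.toLin'_one, Algebra.algebraMap_eq_smul_one]
    exact sub_self _
  have hss : f.IsSemisimple :=
    Module.End.isSemisimple_of_squarefree_aeval_eq_zero hsep.squarefree haev
  have heig : ∀ μ, f.maxGenEigenspace μ = f.eigenspace μ := fun μ =>
    hss.isFinitelySemisimple.maxGenEigenspace_eq_eigenspace μ
  have htop : ⨆ μ, f.eigenspace μ = ⊤ := by
    have := Module.End.iSup_maxGenEigenspace_eq_top f
    simpa only [heig] using this
  -- the set of eigenvectors spans
  set S : Set (Fin n → K) := {v | ∃ μ : K, f v = μ • v} with hS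
  have hspan : Submodule.span K S = ⊤ := by
    rw [eq_top_iff, ← htop]
    refine iSup_le fun μ => ?_
    intro v hv
    exact Submodule.subset_span ⟨μ, Module.End.mem_eigenspace_iff.1 hv⟩
  obtain ⟨b, hbS, hbspan, hbli⟩ := exists_linearIndependent K S
  have hbtop : ⊤ ≤ Submodule.span K (Set.range (Subtype.val : b → (Fin n → K))) := by
    rw [Subtype.range_coe, hbspan, hspan]
  let B : Module.Basis b K (Fin n → K) := Module.Basis.mk hbli hbtop
  let σ : b ≃ Fin n := B.indexEquiv (Pi.basisFun K (Fin n))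
  let e : Module.Basis (Fin n) K (Fin n → K) := B.reindex σ
  have he : ∀ i, ∃ μ : K, f (e i) = μ • e i := by
    intro i
    have h1 : e i = ((σ.symm i : b) : Fin n → K) := by
      simp only [e, Module.Basis.reindex_apply, B, Module.Basis.mk_apply]
    rw [h1]
    exact hbS (σ.symm i).2
  choose μ hμ using he
  refine ⟨e, μ, fun i => ?_⟩
  have := hμ i
  rwa [hf, Matrix.toLin'_apply] at this

theorem exists_diag_of_pow_scalar {K : Type*} [Field K] [IsAlgClosed K] {n : ℕ} (r : ℕ) (hr : (r : K) ≠ 0)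
    (M : Matrix (Fin n) (Fin n) K) (l : K) (hl : l ≠ 0)
    (hM : M ^ r = l • (1 : Matrix (Fin n) (Fin n) K)) :
    ∃ (P : GL (Fin n) K) (dd : Fin n → K),
      M = (P : Matrix (Fin n) (Fin n) K) * Matrix.diagonal dd * ((P⁻¹ : GL (Fin n) K) : Matrix (Fin n) (Fin n) K) := by
  classical
  obtain ⟨e, μ, he⟩ := exists_eigenbasis_of_pow_scalar r hr M l hl hM
  set P0 : Matrix (Fin n) (Fin n) K := (Pi.basisFun K (Fin n)).toMatrix e with hP0
  set Q0 : Matrix (Fin n) (Fin n) K := e.toMatrix (Pi.basisFun K (Fin n)) with hQ0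
  have hPQ : P0 * Q0 = 1 := Module.Basis.toMatrix_mul_toMatrix_flip _ _
  have hQP : Q0 * P0 = 1 := Module.Basis.toMatrix_mul_toMatrix_flip _ _
  have hentry : ∀ i j, P0 i j = e j i := by
    intro i j
    simp [hP0, Module.Basis.toMatrix_apply]
  have hMP : M * P0 = P0 * Matrix.diagonal μ := by
    ext i j
    rw [Matrix.mul_diagonal, hentry]
    have h1 : (M * P0) i j = (M *ᵥ e j) i := by
      simp only [Matrix.mul_apply, Matrix.mulVec, dotProduct, hentry]
    rw [h1, he j, Pi.smul_apply, smul_eq_mul, mul_comm]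
  refine ⟨⟨P0, Q0, hPQ, hQP⟩, μ, ?_⟩
  change M = P0 * Matrix.diagonal μ * Q0
  rw [← hMP, Matrix.mul_assoc, hPQ, Matrix.mul_one]

end Cfsg.Agent.Lib.Helper41.SpT
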