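import Mathlib
import Cfsg.Prelude.Def_Local
import Cfsg.Agent.Lib.Helper06.SylAlt.Defs

/-!
# K-SylAlt-P3: permutations centralizing a set of 3-cycles covering all but ≤ 2 points commute
-/

set_option autoImplicit false

namespace Cfsg.Agent.Lib.Helper41.SylAlt

open Equiv Equiv.Perm

variable {α : Type*} [Fintype α] [DecidableEq α]

/-- two permutations commuting with a cycle `t` commute at every point of the support of `t` -/
theorem p3_comm_at_of_cycle {t g h : Perm α} (ht : t.IsCycle) (hg : g * t = t * g)
    (hh : h * t = t * h) {x : α} (hx : t x ≠ x) : g (h x) = h (g x) := by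
  have hgc : Commute g t := hg
  have hhc : Commute h t := hh
  have hgx : t (g x) ≠ g x := by
    have : t (g x) = g (t x) := by
      have := congrArg (fun f : Perm α => f x) hg
      simpa [Perm.mul_apply] using this.symm
    rw [this]
    exact fun h' => hx (g.injective h')
  have hhx : t (h x) ≠ h x := by
    have : t (h x) = h (t x) := by
      have := congrArg (fun f : Perm α => f x) hh
      simpa [Perm.mul_apply] using this.symm
    rw [this]
    exact fun h' => hx (h.injective h')
  obtain ⟨i, hi⟩ := ht.exists_zpow_eq hx hgx
  obtain ⟨j, hj⟩ := ht.exists_zpow_eq hx hhx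
  have hgj : g ((t ^ j) x) = (t ^ j) (g x) := by
    have := congrArg (fun f : Perm α => f x) (hgc.zpow_right j).eq
    simpa [Perm.mul_apply] using this
  have hhi : h ((t ^ i) x) = (t ^ i) (h x) := by
    have := congrArg (fun f : Perm α => f x) (hhc.zpow_right i).eq
    simpa [Perm.mul_apply] using this
  rw [← hj, hgj, ← hi, hhi, ← hj, ← Perm.mul_apply, ← Perm.mul_apply, ← zpow_add, ← zpow_add, add_comm]

/-- **K-SylAlt-P3.** If the supports of a set `T` of 3-cycles cover all but at most two points, any two
permutations centralizing `T` commute. -/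
theorem commute_of_centralize_cover (T : Set (Perm α)) (hT : ∀ t ∈ T, t.IsThreeCycle)
    (U : Finset α) (hU : ∀ x ∈ U, ∃ t ∈ T, x ∈ t.support) (hcard : Fintype.card α ≤ U.card + 2)
    (g h : Perm α) (hg : ∀ t ∈ T, g * t = t * g) (hh : ∀ t ∈ T, h * t = t * h) : g * h = h * g := by
  classical
  -- the uncovered points
  set N : Finset α := Finset.univ.filter (fun x => ∀ t ∈ T, t x = x) with hN
  have hNU : N ⊆ Finset.univ \ U := by
    intro x hx
    rw [hN, Finset.mem_filter] at hx
    rw [Finset.mem_sdiff]
    refine ⟨Finset.mem_univ _, fun hxU => ?_⟩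
    obtain ⟨t, ht, hxt⟩ := hU x hxU
    rw [Perm.mem_support] at hxt
    exact hxt (hx.2 t ht)
  have hN2 : N.card ≤ 2 := by
    refine (Finset.card_le_card hNU).trans ?_
    rw [Finset.card_sdiff_of_subset (Finset.subset_univ U), Finset.card_univ]
    omega
  have hmemN : ∀ x, x ∈ N ↔ ∀ t ∈ T, t x = x := by
    intro x; rw [hN, Finset.mem_filter]; simp
  -- permutations centralizing `T` preserve `N`
  have hpres : ∀ k : Perm α, (∀ t ∈ T, k * t = t * k) → ∀ x ∈ N, k x ∈ N := by
    intro k hk x hx
    rw [hmemN] at hx ⊢
    intro t ht
    have := congrArg (fun f : Perm α => f x) (hk t ht)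
    simp only [Perm.mul_apply] at this
    rw [hx t ht] at this
    exact this.symm
  have h3 : ∀ a ∈ N, ∀ b ∈ N, ∀ c ∈ N, a = b ∨ a = c ∨ b = c := by
    intro a ha b hb c hc
    by_contra hne
    push_neg at hne
    have : 2 < N.card := Finset.two_lt_card.mpr ⟨a, ha, b, hb, c, hc, hne.1, hne.2.1, hne.2.2⟩
    omega
  ext x
  simp only [Perm.mul_apply]
  by_cases hxN : x ∈ N
  · have hgxN := hpres g hg x hxN
    have hhxN := hpres h hh x hxN
    by_cases hgx : g x = x
    · by_cases hhx : h x = x
      · rw [hgx, hhx, hgx]
      · -- `g` fixes `h x`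
        have hgy : g (h x) ∈ N := hpres g hg _ hhxN
        rcases h3 x hxN (h x) hhxN (g (h x)) hgy with h1 | h1 | h1
        · exact absurd h1.symm hhx
        · exfalso
          have : g (h x) = g x := by rw [← h1, hgx]
          exact hhx (g.injective this)
        · rw [← h1, hgx]
    · by_cases hhx : h x = x
      · have hhy : h (g x) ∈ N := hpres h hh _ hgxN
        rcases h3 x hxN (g x) hgxN (h (g x)) hhy with h1 | h1 | h1
        · exact absurd h1.symm hgx
        · exfalso
          have : h (g x) = h x := by rw [← h1, hhx]
          exact hgx (h.injective this)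
        · rw [hhx, ← h1]
      · -- `g x = h x`
        have hyz : g x = h x := by
          rcases h3 x hxN (g x) hgxN (h x) hhxN with h1 | h1 | h1
          · exact absurd h1.symm hgx
          · exact absurd h1.symm hhx
          · exact h1
        have hgy : g (g x) ∈ N := hpres g hg _ hgxN
        have hhy : h (g x) ∈ N := hpres h hh _ hgxN
        have e1 : g (g x) = x := by
          rcases h3 x hxN (g x) hgxN (g (g x)) hgy with h1 | h1 | h1
          · exact absurd h1.symm hgx
          · exact h1.symm
          · exfalso; exact hgx (g.injective h1.symm)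
        have e2 : h (g x) = x := by
          rcases h3 x hxN (g x) hgxN (h (g x)) hhy with h1 | h1 | h1
          · exact absurd h1.symm hgx
          · exact h1.symm
          · exfalso
            rw [hyz] at h1
            exact hhx (h.injective (by rw [← h1, ← hyz]))
        rw [← hyz, e1, e2]
  · -- covered point
    rw [hmemN] at hxN
    push_neg at hxN
    obtain ⟨t, ht, hxt⟩ := hxN
    exact p3_comm_at_of_cycle (hT t ht).isCycle (hg t ht) (hh t ht) hxt

end Cfsg.Agent.Lib.Helper41.SylAlt
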