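import Mathlib
import Cfsg.Agent.Lib.Helper40.T1904Defs

/-!
# S1904 keystone K14 (`noGamma2`): no element outside `B` acts trivially on `B / B⁴`.
-/

set_option autoImplicit false

namespace Cfsg.Agent.Lib.Helper41.T1904

open Cfsg.Agent.Lib.Helper40.T1904

universe u_1

variable {X : Type u_1} [Group X]

/-- conjugation by `x * x` in terms of conjugation by `x`, on an abelian normal subgroup. -/
theorem g2_sq_conj (B : Subgroup X) (hBa : Ab B) {b e f : X} (he : e ∈ B) (hf : f ∈ B)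
    (x : X) (n : ℕ) (h1 : x * b * x⁻¹ = b * e ^ n)
    (h2 : x * e * x⁻¹ = e * f ^ n) :
    (x * x) * b * (x * x)⁻¹ = b * (e ^ (2 * n) * f ^ (n * n)) := by
  have hef : Commute e f := hBa e he f hf
  have e1 : (x * x) * b * (x * x)⁻¹ = x * (x * b * x⁻¹) * x⁻¹ := by group
  have e2 : x * (b * e ^ n) * x⁻¹ = (x * b * x⁻¹) * (x * e * x⁻¹) ^ n := by
    rw [conj_pow]; group
  rw [e1, h1, e2, h1, h2, (hef.pow_right n).mul_pow, ← pow_mul, two_mul, pow_add]
  group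

theorem noGamma2_aux (B : Subgroup X) (hBa : Ab B) (c : ℕ)
    (hc : ∀ b ∈ B, b ^ (2 ^ c) = 1)
    (H : ∀ j : ℕ, j ≤ c → ∀ y ∈ B, ((∃ b ∈ B, y = b ^ (2 ^ j)) ↔ y ^ (2 ^ (c - j)) = 1))
    (hT1 : ∀ x : X, (∀ b ∈ B, x * (b * b) = (b * b) * x) → x ∈ B) :
    ∀ k i : ℕ, 2 ≤ i → c ≤ i + k + 1 →
      ∀ x : X, (∀ b ∈ B, ∃ d ∈ B, x * b * x⁻¹ = b * d ^ (2 ^ i)) → x ∈ B := by
  have hbig : ∀ e ∈ B, ∀ j : ℕ, c ≤ j → e ^ (2 ^ j) = 1 := by
    intro e he j hj
    obtain ⟨m, rfl⟩ : ∃ m, j = c + m := ⟨j - c, by omega⟩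
    rw [pow_add, pow_mul, hc e he, one_pow]
  intro k
  induction k with
  | zero =>
    intro i _ hci x hx
    apply hT1
    intro b hb
    obtain ⟨e, he, hxe⟩ := hx b hb
    have h1 : (e ^ (2 ^ i)) * (e ^ (2 ^ i)) = 1 := by
      rw [← pow_add, ← two_mul, ← pow_succ']
      exact hbig e he _ (by omega)
    have h2 : x * (b * b) * x⁻¹ = b * b := by
      have e1 : x * (b * b) * x⁻¹ = (x * b * x⁻¹) * (x * b * x⁻¹) := by group
      rw [e1, hxe]
      have hcomm : b * e ^ (2 ^ i) = e ^ (2 ^ i) * b := hBa b hb (e ^ (2 ^ i)) (B.pow_mem he _)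
      calc b * e ^ (2 ^ i) * (b * e ^ (2 ^ i))
          = b * (e ^ (2 ^ i) * b) * e ^ (2 ^ i) := by group
        _ = b * (b * e ^ (2 ^ i)) * e ^ (2 ^ i) := by rw [hcomm]
        _ = b * b * (e ^ (2 ^ i) * e ^ (2 ^ i)) := by group
        _ = b * b := by rw [h1, mul_one]
    calc x * (b * b) = x * (b * b) * x⁻¹ * x := by group
      _ = b * b * x := by rw [h2]
  | succ k ih =>
    intro i hi hci x hx
    by_cases hck : c ≤ i + k + 1
    · exact ih i hi hck x hx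
    · -- `i + 2 ≤ c`
      have hic : i + 2 ≤ c := by omega
      obtain ⟨m, hm⟩ : ∃ m, i = m + 1 := ⟨i - 1, by omega⟩
      -- Step A: `x * x` acts trivially modulo `B_{i+1}`, hence lies in `B`.
      have hA : x * x ∈ B := by
        apply ih (i + 1) (by omega) (by omega)
        intro b hb
        obtain ⟨e, he, hxe⟩ := hx b hb
        obtain ⟨f, hf, hxf⟩ := hx e he
        refine ⟨e * f ^ (2 ^ m), B.mul_mem he (B.pow_mem hf _), ?_⟩
        have hef : Commute e f := hBa e he f hf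
        rw [g2_sq_conj B hBa he hf x (2 ^ i) hxe hxf,
          (hef.pow_right _).mul_pow, ← pow_mul, ← pow_succ']
        congr 3
        rw [hm]; ring
      -- Step B: `x` acts trivially modulo `B_{i+1}`.
      apply ih (i + 1) (by omega) (by omega)
      intro b hb
      obtain ⟨e, he, hxe⟩ := hx b hb
      obtain ⟨f, hf, hxf⟩ := hx e he
      have h3 := g2_sq_conj B hBa he hf x (2 ^ i) hxe hxf
      have h4 : (x * x) * b * (x * x)⁻¹ = b := by
        rw [hBa (x * x) hA b hb]; group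
      rw [h4] at h3
      have h5 : e ^ (2 * 2 ^ i) * f ^ (2 ^ i * 2 ^ i) = 1 := by
        have := h3.symm
        rwa [mul_eq_left] at this
      have h6 : f ^ (2 ^ i * 2 ^ i * 2 ^ (c - i - 2)) = 1 := by
        rw [← pow_add, ← pow_add]
        exact hbig f hf _ (by omega)
      have h7 : e ^ (2 ^ (c - 1)) = 1 := by
        have h8 : (e ^ (2 * 2 ^ i) * f ^ (2 ^ i * 2 ^ i)) ^ (2 ^ (c - i - 2)) = 1 := by
          rw [h5, one_pow]
        have hef : Commute e f := hBa e he f hf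
        rw [((hef.pow_right _).pow_left _).mul_pow, ← pow_mul, ← pow_mul, h6, mul_one,
          ← pow_succ', ← pow_add] at h8
        have : i + 1 + (c - i - 2) = c - 1 := by omega
        rwa [this] at h8
      have h9 : (e ^ (2 ^ i)) ^ (2 ^ (c - (i + 1))) = 1 := by
        rw [← pow_mul, ← pow_add]
        have : i + (c - (i + 1)) = c - 1 := by omega
        rw [this]; exact h7
      obtain ⟨b', hb', hbe⟩ := (H (i + 1) (by omega) (e ^ (2 ^ i)) (B.pow_mem he _)).mpr h9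
      exact ⟨b', hb', by rw [hxe, hbe]⟩

/-- K14.  No element outside `B` acts trivially on `B / B⁴`. -/
theorem noGamma2 [Finite X] {A : Subgroup (MulAut X)} (h : Ctx X A)
    (B : Subgroup X) (hBn : B.Normal) (hBa : Ab B)
    (hsc : ∀ x : X, (∀ b ∈ B, x * b = b * x) → x ∈ B) (h8 : ∃ b ∈ B, b ^ 4 ≠ 1)
    (hhom : ∀ c : ℕ, (∀ b ∈ B, b ^ (2 ^ c) = 1) → (∃ b ∈ B, b ^ (2 ^ (c - 1)) ≠ 1) →
      ∀ j : ℕ, j ≤ c → ∀ y ∈ B, ((∃ b ∈ B, y = b ^ (2 ^ j)) ↔ y ^ (2 ^ (c - j)) = 1))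
    (hT1 : ∀ x : X, (∀ b ∈ B, x * (b * b) = (b * b) * x) → x ∈ B) :
    ∀ x : X, (∀ b ∈ B, ∃ d ∈ B, x * b * x⁻¹ = b * d ^ 4) → x ∈ B := by
  classical
  -- the exponent of `B`
  have hex : ∃ c : ℕ, ∀ b ∈ B, b ^ (2 ^ c) = 1 := by
    obtain ⟨n, hn⟩ := IsPGroup.iff_card.mp h.h2
    exact ⟨n, fun b _ => by rw [← hn]; exact pow_card_eq_one'⟩
  let c := Nat.find hex
  have hc : ∀ b ∈ B, b ^ (2 ^ c) = 1 := Nat.find_spec hex
  have hc3 : 3 ≤ c := by
    by_contra hlt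
    obtain ⟨b, hb, hb4⟩ := h8
    apply hb4
    obtain ⟨m, hm⟩ : ∃ m, 2 = c + m := ⟨2 - c, by omega⟩
    have : (4 : ℕ) = 2 ^ (c + m) := by rw [← hm]; norm_num
    rw [this, pow_add, pow_mul, hc b hb, one_pow]
  have hc' : ∃ b ∈ B, b ^ (2 ^ (c - 1)) ≠ 1 := by
    have := Nat.find_min hex (m := c - 1) (by omega)
    simpa using this
  have H := hhom c hc hc'
  intro x hx
  exact noGamma2_aux B hBa c hc H hT1 c 2 le_rfl (by omega) x
    (fun b hb => by simpa using hx b hb)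

end Cfsg.Agent.Lib.Helper41.T1904
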