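import Cfsg.Agent.Lib.Helper41.PChain

set_option autoImplicit false

namespace Cfsg.Agent.Lib.Helper41

open Cfsg

variable {G : Type*} [Group G]

/-- `P ∩ Q` is a tame intersection: `N_P(P ∩ Q)` and `N_Q(P ∩ Q)` have index prime to `p` in
`N_G(P ∩ Q)`. -/
def Tame (p : ℕ) (P Q : Subgroup G) : Prop :=
  ¬ p ∣ (P ⊓ Subgroup.normalizer ((P ⊓ Q : Subgroup G) : Set G)).relIndex
      (Subgroup.normalizer ((P ⊓ Q : Subgroup G) : Set G)) ∧
  ¬ p ∣ (Q ⊓ Subgroup.normalizer ((P ⊓ Q : Subgroup G) : Set G)).relIndex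
      (Subgroup.normalizer ((P ⊓ Q : Subgroup G) : Set G))

/-- the pairs allowed in the refined form of Alperin's theorem: `(S, x)`, or `(S ⊓ Q, x)` with a tame
intersection and a `p`-element `x`. -/
def tamePairs (p : ℕ) [Fact p.Prime] (S : Sylow p G) : Set (Subgroup G × G) :=
  {q | q.1 = (S : Subgroup G) ∨ ∃ Q : Sylow p G, q.1 = (S : Subgroup G) ⊓ (Q : Subgroup G) ∧
    Tame p (S : Subgroup G) (Q : Subgroup G) ∧ ∃ k : ℕ, orderOf q.2 = p ^ k}

theorem tamePairs_inv {p : ℕ} [Fact p.Prime] (S : Sylow p G) (T : Subgroup G) (x : G)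
    (h : (T, x) ∈ tamePairs p S) : (T, x⁻¹) ∈ tamePairs p S := by
  rcases h with h | ⟨Q, h1, h2, k, hk⟩
  · exact Or.inl h
  · exact Or.inr ⟨Q, h1, h2, k, by simpa using hk⟩

theorem tame_mid [Finite G] {p : ℕ} [Fact p.Prime] (S : Sylow p G) (U : Subgroup G)
    (hUS : U ≤ (S : Subgroup G))
    (hidx : ¬ p ∣ ((S : Subgroup G) ⊓ Subgroup.normalizer ((U : Subgroup G) : Set G)).relIndex
        (Subgroup.normalizer ((U : Subgroup G) : Set G)))
    (ih : ∀ T : Subgroup G, T ≤ (S : Subgroup G) → Nat.card U < Nat.card T →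
        ∀ g : G, lc g⁻¹ T ≤ (S : Subgroup G) → PReach (tamePairs p S) (T : Set G) g)
    (m : G) (hm : m ∈ Subgroup.normalizer ((U : Subgroup G) : Set G)) :
    PReach (tamePairs p S) (U : Set G) m := by
  have hp : p.Prime := Fact.out
  by_cases hUeq : U = S
  · subst hUeq
    exact PReach.single (Or.inl rfl) hm le_rfl
  set N := Subgroup.normalizer ((U : Subgroup G) : Set G) with hN
  set R := (S : Subgroup G) ⊓ N with hR
  have hlt : U < R := lt_inf_normalizer_of_ne S.2 hUS hUeq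
  have hRp : IsPGroup p R := S.2.to_inf_left
  -- a `p`-element of `N`
  have stepA : ∀ u ∈ N, (∃ k : ℕ, orderOf u = p ^ k) → PReach (tamePairs p S) (U : Set G) u := by
    intro u hu hk
    set Q : Sylow p G := u • S with hQdef
    have hQ : (Q : Subgroup G) = lc u (S : Subgroup G) := rfl
    have hUu : lc u U = U := mem_normalizer_iff_lc.mp hu
    have hUQ : U ≤ (S : Subgroup G) ⊓ (Q : Subgroup G) := by
      refine le_inf hUS ?_
      rw [hQ, ← hUu]
      exact lc_mono hUS
    by_cases hD : (S : Subgroup G) ⊓ (Q : Subgroup G) = U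
    · refine PReach.single (Or.inr ⟨Q, hD.symm, ⟨?_, ?_⟩, hk⟩) hu le_rfl
      · rw [hD]; exact hidx
      · rw [hD, hQ]
        have e1 : N = lc u N := by rw [hN, ← normalizer_lc, hUu]
        have e2 : lc u (S : Subgroup G) ⊓ N = lc u R := by
          rw [hR, lc_inf, ← e1]
        rw [e2]
        have e3 : (lc u R).relIndex N = (lc u R).relIndex (lc u N) := by rw [← e1]
        rw [e3, relIndex_lc]
        exact hidx
    · have hlt' : U < (S : Subgroup G) ⊓ (Q : Subgroup G) := lt_of_le_of_ne hUQ (Ne.symm hD)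
      have := ih ((S : Subgroup G) ⊓ (Q : Subgroup G)) inf_le_left (card_lt_card_of_lt hlt') u (by
        rw [lc_le_iff, inv_inv, ← hQ]; exact inf_le_right)
      exact this.mono (by exact_mod_cast hUQ)
  -- the subgroup generated by the `p`-elements of `N`
  set K := Subgroup.closure {u : G | u ∈ N ∧ ∃ k : ℕ, orderOf u = p ^ k} with hK
  have hKN : K ≤ N := (Subgroup.closure_le N).mpr (fun u hu => hu.1)
  have stepB : ∀ k ∈ K, PReach (tamePairs p S) (U : Set G) k := by
    intro k hk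
    have : k ∈ N ∧ PReach (tamePairs p S) (U : Set G) k := by
      induction hk using Subgroup.closure_induction with
      | mem u hu => exact ⟨hu.1, stepA u hu.1 hu.2⟩
      | one => exact ⟨N.one_mem, PReach.refl _ _⟩
      | mul a b _ _ iha ihb =>
        exact ⟨N.mul_mem iha.1 ihb.1, PReach.trans_normalizer iha.1 iha.2 ihb.2⟩
      | inv a _ iha =>
        exact ⟨N.inv_mem iha.1, PReach.symm_normalizer (tamePairs_inv S) iha.1 iha.2⟩
    exact this.2
  have hpK : ∀ Q : Subgroup G, IsPGroup p Q → Q ≤ N → Q ≤ K := by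
    intro Q hQ hQN q hq
    apply Subgroup.subset_closure
    refine ⟨hQN hq, ?_⟩
    obtain ⟨k, hk⟩ := hQ ⟨q, hq⟩
    have h1 : q ^ (p ^ k) = 1 := by simpa using congrArg Subtype.val hk
    obtain ⟨j, _, hj⟩ := (Nat.dvd_prime_pow hp).mp (orderOf_dvd_of_pow_eq_one h1)
    exact ⟨j, hj⟩
  have hRK : R ≤ K := hpK R hRp inf_le_right
  have hmN : lc m N = N := by rw [hN, ← normalizer_lc, mem_normalizer_iff_lc.mp hm]
  have hmR : lc m R ≤ K := hpK _ (isPGroup_lc hRp) (by
    rw [← hmN]; exact lc_mono inf_le_right)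
  have hRidxK : ¬ p ∣ R.relIndex K := by
    intro h
    apply hidx
    rw [← Subgroup.relIndex_mul_relIndex R K N hRK hKN]
    exact dvd_mul_of_dvd_left h _
  obtain ⟨y, hyK, hy⟩ := exists_lc_le_of_relIndex hRK hRp hRidxK (isPGroup_lc hRp) hmR
  have hn : y * m ∈ Subgroup.normalizer ((R : Subgroup G) : Set G) :=
    mem_normalizer_of_lc_le (by rw [lc_mul]; exact hy)
  have hnU : PReach (tamePairs p S) (U : Set G) (y * m) := by
    have := ih R inf_le_left (card_lt_card_of_lt hlt) (y * m) (by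
      have : lc (y * m)⁻¹ R = R := mem_normalizer_iff_lc.mp (Subgroup.inv_mem _ hn)
      rw [this]; exact inf_le_left)
    exact this.mono (by exact_mod_cast hlt.le)
  have hyinv : PReach (tamePairs p S) (U : Set G) y⁻¹ := stepB _ (K.inv_mem hyK)
  have hyN : y⁻¹ ∈ N := hKN (K.inv_mem hyK)
  have := PReach.trans_normalizer hyN hyinv hnU
  have e : y⁻¹ * (y * m) = m := by group
  rwa [e] at this

/-- **Alperin's fusion theorem**, refined form with tame intersections and `p`-elements. -/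
theorem tame_reach [Finite G] {p : ℕ} [Fact p.Prime] (S : Sylow p G) :
    ∀ T : Subgroup G, T ≤ (S : Subgroup G) → ∀ g : G, lc g⁻¹ T ≤ (S : Subgroup G) →
      PReach (tamePairs p S) (T : Set G) g :=
  alperin_preach S (tamePairs p S) (tamePairs_inv S) (tame_mid S)

theorem tame_reach_set [Finite G] {p : ℕ} [Fact p.Prime] (S : Sylow p G) {A : Set G} {g : G}
    (hAS : A ⊆ (S : Subgroup G)) (hAg : rconj g A ⊆ (S : Subgroup G)) :
    PReach (tamePairs p S) A g :=
  preach_set (tame_reach S) hAS hAg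

theorem tame_self [Finite G] {p : ℕ} [Fact p.Prime] (S : Sylow p G) :
    Tame p (S : Subgroup G) (S : Subgroup G) := by
  unfold Tame
  rw [inf_idem]
  exact ⟨sylow_fullyNormalized S, sylow_fullyNormalized S⟩

/-- the tame intersections -/
def tameFamily (p : ℕ) [Fact p.Prime] (S : Sylow p G) : Set (Subgroup G) :=
  {T | ∃ Q : Sylow p G, T = (S : Subgroup G) ⊓ (Q : Subgroup G) ∧
    Tame p (S : Subgroup G) (Q : Subgroup G)}

theorem tamePairs_fst [Finite G] {p : ℕ} [Fact p.Prime] (S : Sylow p G) :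
    ∀ q ∈ tamePairs p S, q.1 ∈ tameFamily p S := by
  rintro ⟨T, x⟩ (h | ⟨Q, h1, h2, _⟩)
  · exact ⟨S, by simpa using h, tame_self S⟩
  · exact ⟨Q, h1, h2⟩

end Cfsg.Agent.Lib.Helper41
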